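import Mathlib
import Cfsg.Agent.Lib.FT.BG11
import Cfsg.Agent.Lib.FT.U4
import Cfsg.Agent.Lib.CoreElements

/-! The setting of the prime graph project: a finite simple group `G` with an isolated set `ϖ` of
primes all of whose local subgroups have odd order.  The subgroups contained in a `ϖ`-local
subgroup (`Loc`) play the role of the proper subgroups of a minimal simple group of odd order. -/

set_option autoImplicit false
set_option linter.unusedSectionVars false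

namespace CfsgLib.FT.PG

open Subgroup Cfsg BGN

/-- The distinguished set of primes. -/
class PiCtx (G : Type*) where
  pi : Set ℕ

/-- `ϖ[G]`: the distinguished set of primes. -/
scoped notation "ϖ[" G "]" => PiCtx.pi G

variable {G : Type*} [Group G] [PiCtx G]

/-- The standing hypothesis. -/
structure PGHyp (G : Type*) [Group G] [PiCtx G] : Prop where
  simple : IsSimpleGroup G
  nonab : ¬ IsMulCommutative G
  ex : ∃ p ∈ ϖ[G], p.Prime ∧ p ∣ Nat.card G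
  two : 2 ∉ ϖ[G]
  iso : ∀ x : G, x ≠ 1 → IsPiNum ϖ[G] (orderOf x) → IsPiSubgroup ϖ[G] 𝐂[x]
  odd : ∀ X : Subgroup G, X ≠ ⊥ → IsPiSubgroup ϖ[G] X → Odd (Nat.card 𝐍(X))
  sol : ∀ H : Subgroup G, Odd (Nat.card H) → Group.IsSolvable H

/-- `H` is contained in a `ϖ`-local subgroup. -/
def Loc (H : Subgroup G) : Prop := ∃ X : Subgroup G, X ≠ ⊥ ∧ IsPiSubgroup ϖ[G] X ∧ H ≤ 𝐍(X)

/-- `M` is a maximal `ϖ`-local subgroup. -/
def Mx (M : Subgroup G) : Prop := Loc M ∧ ∀ H : Subgroup G, M < H → ¬ Loc H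

def InUniqueMaximal (X : Subgroup G) : Prop := ∃! M : Subgroup G, Mx M ∧ X ≤ M

def sigma (M : Subgroup G) : Set ℕ :=
  {p | p.Prime ∧ p ∣ Nat.card M ∧ p ∈ ϖ[G] ∧
    ∃ P : Sylow p M, normalizer (((P : Subgroup M).map M.subtype : Subgroup G) : Set G) ≤ M}

def sigmaCore (M : Subgroup G) : Subgroup G := (piCore (sigma M) M).map M.subtype

def kappa (M : Subgroup G) : Set ℕ :=
  {p | p.Prime ∧ p ∣ Nat.card M ∧ p ∉ sigma M ∧
    ∀ P : Sylow p M, IsCyclic P ∧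
      ∃ x : M, x ∈ (P : Subgroup M) ∧ x ≠ 1 ∧ ∃ y ∈ sigmaCore M, y ≠ 1 ∧ (x : G) * y = y * x}

structure IsSigmaDecomposition (M K U : Subgroup G) : Prop where
  cyclic : IsCyclic K
  hall : IsPiHallOf (kappa M) K M
  compl : IsComplIn U (K ⊔ sigmaCore M) M
  normal : K ≤ normalizer (U : Set G)

def sigmaHat (M : Subgroup G) : Set G := {a | a ∈ M ∧ ∃ y ∈ sigmaCore M, y ≠ 1 ∧ a * y = y * a}

def sigmaA (M U : Subgroup G) : Set G := sigmaHat M ∩ (↑(U ⊔ sigmaCore M) : Set G)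

def sigmaA0 (M K : Subgroup G) : Set G :=
  sigmaHat M \ {a | ∃ k ∈ K, k ≠ 1 ∧ ∃ m ∈ M, a = m * k * m⁻¹}

open scoped Classical in
noncomputable def supportR (M : Subgroup G) (x : G) : Subgroup G :=
  if h : ¬ centralizer ({x} : Set G) ≤ M ∧
      ∃! L : Subgroup G, Mx L ∧ centralizer ({x} : Set G) ≤ L then
    fittingHallOf (Classical.choose h.2.exists) ⊓ centralizer ({x} : Set G)
  else ⊥

/-- `A` is a `ϖ`-group, and so are the `A`-invariant subgroups of order prime to `|A|`. -/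
def PiOp (A : Subgroup G) : Prop :=
  IsPiSubgroup ϖ[G] A ∧ ∀ Y : Subgroup G, A ≤ 𝐍(Y) → (Nat.card A).Coprime (Nat.card Y) →
    IsPiSubgroup ϖ[G] Y

def TransitivityHypothesis (A : Subgroup G) : Prop :=
  A ≠ ⊥ ∧ PiOp A ∧ ∀ X : Subgroup G, Loc X → A ≤ X →
    sSup (invSubgroups X A (primesNotDvd (Nat.card A))) = piCoreOf (primesNotDvd (Nat.card A)) X

def tau1 (M : Subgroup G) : Set ℕ :=
  {p | p.Prime ∧ p ∉ sigma M ∧ p ∣ Nat.card M ∧ ¬ p ∣ Nat.card ↥⁅M, M⁆ ∧ PRankLE p 1 M}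

def tau2 (M : Subgroup G) : Set ℕ :=
  {p | p.Prime ∧ p ∉ sigma M ∧ PRankLE p 2 M ∧ ¬ PRankLE p 1 M}

def tau3 (M : Subgroup G) : Set ℕ :=
  {p | p.Prime ∧ p ∉ sigma M ∧ p ∣ Nat.card ↥⁅M, M⁆ ∧ PRankLE p 1 M}

def UniqMax (X M : Subgroup G) : Prop := X ≤ M ∧ ∀ L : Subgroup G, Mx L → X ≤ L → L = M

structure ExceptionalMax (p : ℕ) (M A₀ A : Subgroup G) : Prop where
  not_sigma : p ∉ sigma M
  elem : P2Elem p A M
  le : A₀ ≤ A
  card : Nat.card A₀ = p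
  norm_le : 𝐍(A₀) ≤ M

structure SigmaCompl (M E E₁ E₂ E₃ : Subgroup G) : Prop where
  hall : IsPiHallOf (sigma M)ᶜ E M
  hall₁ : IsPiHallOf (tau1 M) E₁ E
  hall₂ : IsPiHallOf (tau2 M) E₂ E
  hall₃ : IsPiHallOf (tau3 M) E₃ E
  norm₂ : E₁ ≤ 𝐍(E₂)

/-! ### `ϖ`-elements and `ϖ`-subgroups -/

theorem sigma_sub_pi {M : Subgroup G} : sigma M ⊆ ϖ[G] := fun _ h => h.2.2.1

theorem mem_pi_of_sigma {M : Subgroup G} {p : ℕ} (h : p ∈ sigma M) : p ∈ ϖ[G] := h.2.2.1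

theorem not_sigma_of_not_pi {M : Subgroup G} {p : ℕ} (h : p ∉ ϖ[G]) : p ∉ sigma M :=
  fun h' => h h'.2.2.1

theorem pi_of_le {π : Set ℕ} {X Y : Subgroup G} (h : IsPiSubgroup π Y) (hX : X ≤ Y) :
    IsPiSubgroup π X := fun p hp hd => h p hp (hd.trans (card_dvd_of_le hX))

theorem pi_of_sigma {M X : Subgroup G} (h : IsPiSubgroup (sigma M) X) : IsPiSubgroup ϖ[G] X :=
  fun p hp hd => sigma_sub_pi (h p hp hd)

theorem piNum_of_mem {π : Set ℕ} {X : Subgroup G} (h : IsPiSubgroup π X) {x : G} (hx : x ∈ X) :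
    IsPiNum π (orderOf x) := fun p hp hd => h p hp (hd.trans (X.orderOf_dvd_natCard hx))

theorem pi_zpowers {π : Set ℕ} {x : G} (h : IsPiNum π (orderOf x)) : IsPiSubgroup π (zpowers x) :=
  fun p hp hd => h p hp (by rwa [Nat.card_zpowers] at hd)

theorem pi_cent1 (hG : PGHyp G) {x : G} (hx : x ≠ 1) (h : IsPiNum ϖ[G] (orderOf x)) :
    IsPiSubgroup ϖ[G] 𝐂[x] := hG.iso x hx h

theorem pi_cent1_of_mem (hG : PGHyp G) {X : Subgroup G} (hX : IsPiSubgroup ϖ[G] X) {x : G}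
    (hx : x ∈ X) (h1 : x ≠ 1) : IsPiSubgroup ϖ[G] 𝐂[x] := hG.iso x h1 (piNum_of_mem hX hx)

theorem pi_cent (hG : PGHyp G) {X : Subgroup G} (h1 : X ≠ ⊥) (hX : IsPiSubgroup ϖ[G] X) :
    IsPiSubgroup ϖ[G] 𝐂(X) := by
  obtain ⟨x, hx, hx1⟩ := exists_mem_ne_one h1
  exact pi_of_le (pi_cent1_of_mem hG hX hx hx1) (cent_le_cent1 hx)

/-- A subgroup centralizing a nontrivial element of a `ϖ`-subgroup is a `ϖ`-subgroup. -/
theorem pi_of_inf_cent (hG : PGHyp G) {X K : Subgroup G} (hX : IsPiSubgroup ϖ[G] X)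
    (h : X ⊓ 𝐂(K) ≠ ⊥) : IsPiSubgroup ϖ[G] K :=
  pi_of_le (pi_cent hG h (pi_of_le hX inf_le_left)) (le_centralizer_iff.1 inf_le_right)

theorem piNum_of_inf_cent1 (hG : PGHyp G) {X : Subgroup G} (hX : IsPiSubgroup ϖ[G] X) {x : G}
    (h : X ⊓ 𝐂[x] ≠ ⊥) : IsPiNum ϖ[G] (orderOf x) :=
  piNum_of_mem (pi_of_inf_cent hG hX (K := zpowers x) (by rwa [cent_zpowers])) (mem_zpowers x)

theorem piNum_of_comm (hG : PGHyp G) {x y : G} (hx : x ≠ 1) (h : IsPiNum ϖ[G] (orderOf x))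
    (hc : x * y = y * x) : IsPiNum ϖ[G] (orderOf y) :=
  piNum_of_mem (pi_cent1 hG hx h) (mem_centralizer_singleton_iff.2 hc.symm)

/-- A subgroup whose order is divisible by a prime outside `ϖ` has no fixed points on a
`ϖ`-subgroup. -/
theorem inf_cent_eq_bot_of_not_pi (hG : PGHyp G) {X K : Subgroup G} (hX : IsPiSubgroup ϖ[G] X)
    {q : ℕ} (hq : q.Prime) (hqK : q ∣ Nat.card K) (h : q ∉ ϖ[G]) : X ⊓ 𝐂(K) = ⊥ := by
  by_contra hc
  exact h (pi_of_inf_cent hG hX hc q hq hqK)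

theorem inf_cent1_eq_bot_of_not_pi (hG : PGHyp G) {X : Subgroup G} (hX : IsPiSubgroup ϖ[G] X)
    {x : G} (h : ¬ IsPiNum ϖ[G] (orderOf x)) : X ⊓ 𝐂[x] = ⊥ := by
  by_contra hc
  exact h (piNum_of_inf_cent1 hG hX hc)

theorem semiReg_of_pi' (hG : PGHyp G) {X K : Subgroup G} [Finite G] (hX : IsPiSubgroup ϖ[G] X)
    (hK : IsPiSubgroup ϖ[G]ᶜ K) : SemiReg X K := fun x hx h1 =>
  inf_cent1_eq_bot_of_not_pi hG hX fun h => by
    obtain ⟨q, hq, hd⟩ := Nat.exists_prime_and_dvd (n := orderOf x) (by simpa using h1)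
    exact piNum_of_mem hK hx q hq hd (h q hq hd)

theorem mem_pi_of_pgroup [Finite G] {p : ℕ} [Fact p.Prime] {X : Subgroup G} (hX : IsPGroup p X)
    (h1 : X ≠ ⊥) (h : IsPiSubgroup ϖ[G] X) : p ∈ ϖ[G] := mem_of_isPi_of_isPGroup hX h1 h

/-! ### Local subgroups -/

theorem Loc.mono {H K : Subgroup G} (h : Loc H) (hK : K ≤ H) : Loc K :=
  let ⟨X, h1, h2, h3⟩ := h
  ⟨X, h1, h2, hK.trans h3⟩

/-- The replacement of the order-theoretic lemma of the same name. -/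
theorem ne_top_of_le_ne_top {H K : Subgroup G} (h : Loc H) (hK : K ≤ H) : Loc K := h.mono hK

theorem Mx.loc {M H : Subgroup G} (hM : Mx M) (h : H ≤ M) : Loc H := hM.1.mono h

theorem loc_norm {X : Subgroup G} (h1 : X ≠ ⊥) (hX : IsPiSubgroup ϖ[G] X) : Loc 𝐍(X) :=
  ⟨X, h1, hX, le_rfl⟩

theorem loc_cent {X : Subgroup G} (h1 : X ≠ ⊥) (hX : IsPiSubgroup ϖ[G] X) : Loc 𝐂(X) :=
  ⟨X, h1, hX, cent_le_norm X⟩

theorem loc_cent1 {x : G} (h1 : x ≠ 1) (hx : IsPiNum ϖ[G] (orderOf x)) : Loc 𝐂[x] := by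
  rw [← cent_zpowers]
  exact loc_cent (zpowers_ne_bot.2 h1) (pi_zpowers hx)

theorem loc_cent1_of_mem {X : Subgroup G} (hX : IsPiSubgroup ϖ[G] X) {x : G} (hx : x ∈ X)
    (h1 : x ≠ 1) : Loc 𝐂[x] := loc_cent1 h1 (piNum_of_mem hX hx)

theorem loc_bot [Finite G] (hG : PGHyp G) : Loc (⊥ : Subgroup G) := by
  obtain ⟨p, hp, hpp, hd⟩ := hG.ex
  have := Fact.mk hpp
  obtain ⟨X, -, hX⟩ := exists_card_prime_le (H := (⊤ : Subgroup G)) (p := p) (by rwa [card_top])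
  exact ⟨X, ne_bot_of_card_prime hX, isPi_of_card_prime hX hp, bot_le⟩

theorem loc_of_pi [Finite G] (hG : PGHyp G) {X : Subgroup G} (hX : IsPiSubgroup ϖ[G] X) :
    Loc X := by
  by_cases h : X = ⊥
  · exact h ▸ loc_bot hG
  · exact ⟨X, h, hX, le_normalizer⟩

theorem mFT_odd (hG : PGHyp G) {H : Subgroup G} (h : Loc H) : Odd (Nat.card H) :=
  let ⟨X, h1, h2, h3⟩ := h
  (hG.odd X h1 h2).of_dvd_nat (card_dvd_of_le h3)

theorem Loc.odd (hG : PGHyp G) {H : Subgroup G} (h : Loc H) : Odd (Nat.card H) := mFT_odd hG h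

theorem Mx.odd (hG : PGHyp G) {M H : Subgroup G} (hM : Mx M) (h : H ≤ M) : Odd (Nat.card H) :=
  mFT_odd hG (hM.loc h)

theorem odd_of_pi [Finite G] (hG : PGHyp G) {X : Subgroup G} (hX : IsPiSubgroup ϖ[G] X) :
    Odd (Nat.card X) := mFT_odd hG (loc_of_pi hG hX)

theorem mFT_odd_orderOf (hG : PGHyp G) {H : Subgroup G} (h : Loc H) {x : G} (hx : x ∈ H) :
    Odd (orderOf x) := (mFT_odd hG h).of_dvd_nat (H.orderOf_dvd_natCard hx)

theorem mFT_prime_ne_two' (hG : PGHyp G) {p : ℕ} {H : Subgroup G} (hH : Loc H)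
    (h : p ∣ Nat.card H) : p ≠ 2 := by
  rintro rfl
  exact (Nat.not_even_iff_odd.2 (mFT_odd hG hH)) (even_iff_two_dvd.2 h)

theorem mFT_simple (hG : PGHyp G) : IsSimpleGroup G := hG.simple

theorem mFT_nontrivial (hG : PGHyp G) : Nontrivial G := hG.simple.toNontrivial

theorem mFT_sol [Finite G] (hG : PGHyp G) {H : Subgroup G} (h : Loc H) : Group.IsSolvable H :=
  hG.sol H (mFT_odd hG h)

theorem Loc.sol [Finite G] (hG : PGHyp G) {H : Subgroup G} (h : Loc H) : Group.IsSolvable H :=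
  mFT_sol hG h

theorem mFT_not_solvable (hG : PGHyp G) : ¬ Group.IsSolvable G := fun h =>
  have := hG.simple
  hG.nonab ⟨⟨IsSimpleGroup.comm_iff_isSolvable.2 h⟩⟩

theorem mFT_ne_top_of_solvable (hG : PGHyp G) {H : Subgroup G}
    (h : Group.IsSolvable H) : H ≠ ⊤ := by
  rintro rfl
  exact mFT_not_solvable hG (Group.isSolvable_of_surjective (f := (⊤ : Subgroup G).subtype)
    fun x => ⟨⟨x, mem_top x⟩, rfl⟩)

theorem ne_two_of_mem_pi (hG : PGHyp G) {p : ℕ} (hp : p ∈ ϖ[G]) : p ≠ 2 := by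
  rintro rfl
  exact hG.two hp

theorem Loc.ne_top [Finite G] (hG : PGHyp G) {H : Subgroup G} (h : Loc H) : H ≠ ⊤ :=
  mFT_ne_top_of_solvable hG (mFT_sol hG h)

theorem Mx.ne_top [Finite G] (hG : PGHyp G) {M : Subgroup G} (h : Mx M) : M ≠ ⊤ := h.1.ne_top hG

theorem mFT_pgroup_proper [Finite G] (hG : PGHyp G) {p : ℕ} [Fact p.Prime] (hp : p ∈ ϖ[G])
    {P : Subgroup G} (h : IsPGroup p P) : Loc P := loc_of_pi hG (isPi_of_isPGroup h hp)

theorem odd_of_pgroup [Finite G] (hG : PGHyp G) {p : ℕ} [Fact p.Prime] (hp : p ∈ ϖ[G])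
    {P : Subgroup G} (h : IsPGroup p P) : Odd (Nat.card P) :=
  mFT_odd hG (mFT_pgroup_proper hG hp h)

/-- The second hypothesis is now that `H` is a `ϖ`-group. -/
theorem mFT_norm_proper (_hG : PGHyp G) {H : Subgroup G} (h1 : H ≠ ⊥) (h : IsPiSubgroup ϖ[G] H) :
    Loc (normalizer (H : Set G)) := loc_norm h1 h

theorem mFT_cent_proper (_hG : PGHyp G) {H : Subgroup G} (h1 : H ≠ ⊥) (h : IsPiSubgroup ϖ[G] H) :
    Loc (centralizer (H : Set G)) := loc_cent h1 h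

theorem mFT_cent1_proper (_hG : PGHyp G) {x : G} (hx : x ≠ 1) (h : IsPiNum ϖ[G] (orderOf x)) :
    Loc (centralizer ({x} : Set G)) := loc_cent1 hx h

theorem loc_norm_pgroup [Finite G] {p : ℕ} [Fact p.Prime] (hp : p ∈ ϖ[G]) {X : Subgroup G}
    (hX : IsPGroup p X) (h1 : X ≠ ⊥) : Loc 𝐍(X) := loc_norm h1 (isPi_of_isPGroup hX hp)

theorem loc_cent_pgroup [Finite G] {p : ℕ} [Fact p.Prime] (hp : p ∈ ϖ[G]) {X : Subgroup G}
    (hX : IsPGroup p X) (h1 : X ≠ ⊥) : Loc 𝐂(X) := loc_cent h1 (isPi_of_isPGroup hX hp)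

theorem loc_cent1_pgroup [Finite G] {p : ℕ} [Fact p.Prime] (hp : p ∈ ϖ[G]) {X : Subgroup G}
    (hX : IsPGroup p X) {x : G} (hx : x ∈ X) (h1 : x ≠ 1) : Loc 𝐂[x] :=
  loc_cent1_of_mem (isPi_of_isPGroup hX hp) hx h1

theorem mFT_center_eq_bot (hG : PGHyp G) : center G = ⊥ :=
  have := hG.simple
  ((inferInstance : (center G).Normal).eq_bot_or_eq_top).resolve_right fun h =>
    hG.nonab ⟨⟨fun x y => mem_center_iff.1 (h ▸ mem_top y) x⟩⟩

theorem mFT_commutator_eq_top (hG : PGHyp G) : _root_.commutator G = ⊤ :=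
  have := hG.simple
  ((inferInstance : (_root_.commutator G).Normal).eq_bot_or_eq_top).resolve_left fun h =>
    hG.nonab ((commutator_eq_bot_iff G).1 h)

/-- The normalizer of a nontrivial proper subgroup is proper. -/
theorem mFT_norm_ne_top (hG : PGHyp G) {H : Subgroup G} (h1 : H ≠ ⊥) (h : H ≠ ⊤) :
    normalizer (H : Set G) ≠ ⊤ := fun h' =>
  have := hG.simple
  ((normalizer_eq_top_iff.1 h').eq_bot_or_eq_top).elim h1 h

theorem Loc.cj {H : Subgroup G} (h : Loc H) (g : G) : Loc (g •ᶜ H) :=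
  let ⟨X, h1, h2, h3⟩ := h
  ⟨g •ᶜ X, fun e => h1 (cj_eq_bot_iff.1 e), isPi_cj h2 g, le_norm_cj h3⟩

/-- A local subgroup has cyclic Sylow `p`-subgroups for `p ∉ ϖ`. -/
theorem mem_pi_of_p2Elem [Finite G] (hG : PGHyp G) {H : Subgroup G} (hH : Loc H) {p : ℕ}
    [hp : Fact p.Prime] {A : Subgroup G} (hA : P2Elem p A H) : p ∈ ϖ[G] := by
  obtain ⟨X, h1, h2, h3⟩ := hH
  by_contra hc
  obtain ⟨Y, -, hY, h⟩ := hA.exists_cent_ne_bot (hA.1.trans h3)
    (coprime_of_isPGroup_of_isPi hA.isPGroup h2 hc) h1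
  exact h (inf_cent_eq_bot_of_not_pi hG h2 hp.out hY.symm.dvd hc)

theorem mem_pi_of_not_rank1 [Finite G] (hG : PGHyp G) {H : Subgroup G} (hH : Loc H) {p : ℕ}
    [Fact p.Prime] (h : ¬ PRankLE p 1 H) : p ∈ ϖ[G] :=
  let ⟨_, hA⟩ := exists_p2Elem h
  mem_pi_of_p2Elem hG hH hA

theorem rank1_of_not_pi [Finite G] (hG : PGHyp G) {H : Subgroup G} (hH : Loc H) {p : ℕ}
    [Fact p.Prime] (h : p ∉ ϖ[G]) : PRankLE p 1 H := by
  by_contra hc
  exact h (mem_pi_of_not_rank1 hG hH hc)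

theorem mem_pi_of_not_cyclic [Finite G] (hG : PGHyp G) {P : Subgroup G} (hP : Loc P) {p : ℕ}
    [Fact p.Prime] (h : IsPGroup p P) (hc : ¬ IsCyclic P) : p ∈ ϖ[G] :=
  let ⟨_, hA⟩ := exists_p2Elem_of_not_cyclic (mFT_odd hG hP) h hc
  mem_pi_of_p2Elem hG hP hA

theorem cyclic_of_not_pi [Finite G] (hG : PGHyp G) {P : Subgroup G} (hP : Loc P) {p : ℕ}
    [Fact p.Prime] (h : IsPGroup p P) (hp : p ∉ ϖ[G]) : IsCyclic P := by
  by_contra hc
  exact hp (mem_pi_of_not_cyclic hG hP h hc)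

theorem mem_pi_of_tau2 [Finite G] (hG : PGHyp G) {M : Subgroup G} (hM : Loc M) {p : ℕ}
    (h : p ∈ tau2 M) : p ∈ ϖ[G] :=
  haveI := Fact.mk h.1
  mem_pi_of_not_rank1 hG hM h.2.2.2

theorem mem_pi_of_alpha [Finite G] (hG : PGHyp G) {M : Subgroup G} (hM : Loc M) {p : ℕ}
    (h : p ∈ alpha M) : p ∈ ϖ[G] :=
  haveI := Fact.mk h.1
  mem_pi_of_not_rank1 hG hM fun h' => h.2 fun A h1 h2 => (h' A h1 h2).trans
    (Nat.pow_le_pow_right h.1.pos (by norm_num))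

/-- A nilpotent subgroup meeting a `ϖ`-subgroup nontrivially is a `ϖ`-subgroup. -/
theorem pi_of_nil_of_dvd [Finite G] (hG : PGHyp G) {K : Subgroup G} (hK : Group.IsNilpotent K)
    {p : ℕ} (hp : p.Prime) (hpK : p ∣ Nat.card K) (h : p ∈ ϖ[G]) : IsPiSubgroup ϖ[G] K := by
  intro q hq hqK
  by_cases e : q = p
  · exact e ▸ h
  have := Fact.mk hp
  have := Fact.mk hq
  obtain ⟨X, hX, hXp⟩ := exists_card_prime_le hpK
  obtain ⟨Y, hY, hYq⟩ := exists_card_prime_le hqK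
  refine pi_cent hG (ne_bot_of_card_prime hXp) (isPi_of_card_prime hXp h) q hq
    (hYq.symm.dvd.trans (card_dvd_of_le (le_cent_of_nil hK hY hX ?_)))
  rw [hXp, hYq]
  exact (Nat.coprime_primes hq hp).2 e

theorem piOp_of_p2Elem [Finite G] (hG : PGHyp G) {A B : Subgroup G} (hA : IsPiSubgroup ϖ[G] A)
    {p : ℕ} [Fact p.Prime] (hB : P2Elem p B A) : PiOp A := by
  refine ⟨hA, fun Y hY hc q hq hd => ?_⟩
  have := Fact.mk hq
  have hc' := coprime_mono hc hB.1 le_rfl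
  obtain ⟨Q, hQ, hn⟩ := exists_inv_sylow q (hB.1.trans hY) hc'
    (Or.inl (isSolvable_of_isPGroup hB.isPGroup))
  obtain ⟨X, hX, hXp, h⟩ := hB.exists_cent_ne_bot hn (coprime_mono hc' le_rfl hQ.1)
    (hQ.ne_bot hd)
  exact mem_pi_of_pgroup (hQ.2.1.to_le inf_le_left) h (pi_of_le (pi_cent hG
    (ne_bot_of_card_prime hXp) (pi_of_le hA (hX.trans hB.1))) inf_le_right)

theorem piOp_of_not_rank1 [Finite G] (hG : PGHyp G) {A : Subgroup G} (hA : IsPiSubgroup ϖ[G] A)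
    {p : ℕ} [Fact p.Prime] (h : ¬ PRankLE p 1 A) : PiOp A :=
  let ⟨_, hB⟩ := exists_p2Elem h
  piOp_of_p2Elem hG hA hB

theorem PiOp.mem [Finite G] {A Q : Subgroup G} (h : PiOp A) {q : ℕ} [hq : Fact q.Prime]
    (hqA : ¬ q ∣ Nat.card A) (hQ : IsPGroup q Q) (h1 : Q ≠ ⊥) (hn : A ≤ 𝐍(Q)) : q ∈ ϖ[G] := by
  obtain ⟨n, hn'⟩ := IsPGroup.iff_card.1 hQ
  exact mem_pi_of_pgroup hQ h1 (h.2 Q hn
    (hn' ▸ ((Nat.Prime.coprime_iff_not_dvd hq.out).2 hqA).symm.pow_right n))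

/-! ### Maximal local subgroups -/

theorem mmax_exists [Finite G] {H : Subgroup G} (h : Loc H) : ∃ M, Mx M ∧ H ≤ M := by
  obtain ⟨M, hM, hmax⟩ := exists_maximal_ge_of_wellFoundedGT (fun K : Subgroup G => Loc K) H h
  exact ⟨M, ⟨hmax.1, fun K hK hL => hK.not_ge (hmax.2 hL hK.le)⟩, hM⟩

theorem Mx.le_iff_eq {M H : Subgroup G} (hM : Mx M) (hH : Loc H) : M ≤ H ↔ H = M :=
  ⟨fun h => by
    by_contra hc
    exact hM.2 H (lt_of_le_of_ne h (Ne.symm hc)) hH, fun h => h.ge⟩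

theorem Mx.eq_of_le {M H : Subgroup G} (hM : Mx M) (hH : Loc H) (h : M ≤ H) : H = M :=
  (hM.le_iff_eq hH).1 h

theorem Mx.exists_norm {M : Subgroup G} (hM : Mx M) :
    ∃ X ≤ M, X ≠ ⊥ ∧ IsPiSubgroup ϖ[G] X ∧ 𝐍(X) = M := by
  obtain ⟨X, h1, h2, h3⟩ := hM.1
  have e := hM.eq_of_le (loc_norm h1 h2) h3
  exact ⟨X, e ▸ le_normalizer, h1, h2, e⟩

theorem mmax_neq_bot [Finite G] (_hG : PGHyp G) {M : Subgroup G} (hM : Mx M) : M ≠ ⊥ := by
  obtain ⟨X, h0, h1, -, -⟩ := hM.exists_norm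
  exact fun h => h1 (le_bot_iff.1 (h ▸ h0))

theorem mmax_fitting_ne_bot [Finite G] (hG : PGHyp G) {M : Subgroup G}
    (hM : Mx M) : fittingOf M ≠ ⊥ := by
  have := mFT_sol hG hM.1
  have := (nontrivial_iff_ne_bot M).2 (mmax_neq_bot hG hM)
  exact fun h => fitting_ne_bot ((map_eq_bot_iff_of_injective _ M.subtype_injective).1 h)

theorem fittingOf_ne_bot' [Finite G] {H : Subgroup G} (hs : Group.IsSolvable H) (h1 : H ≠ ⊥) :
    fittingOf H ≠ ⊥ := by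
  have := (nontrivial_iff_ne_bot H).2 h1
  exact fun h => fitting_ne_bot ((map_eq_bot_iff_of_injective _ H.subtype_injective).1 h)

theorem fittingOf_le_of_norm [Finite G] {M H : Subgroup G} (hHM : H ≤ M) (hn : M ≤ 𝐍(H)) :
    fittingOf H ≤ fittingOf M :=
  le_fittingOf ((fittingOf_le H).trans hHM) (hn.trans (norm_le_norm_fittingOf H)) (fittingOf_nil H)

/-- `F(M)` is a `ϖ`-group. -/
theorem pi_fitting [Finite G] (hG : PGHyp G) {M : Subgroup G} (hM : Mx M) :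
    IsPiSubgroup ϖ[G] (fittingOf M) := by
  obtain ⟨X, h0, h1, h2, h3⟩ := hM.exists_norm
  obtain ⟨q, hq, hd⟩ := exists_prime_dvd_card (fittingOf_ne_bot' (mFT_sol hG (hM.loc h0)) h1)
  exact pi_of_nil_of_dvd hG (fittingOf_nil M) hq
    (hd.trans (card_dvd_of_le (fittingOf_le_of_norm h0 h3.ge)))
    (h2 q hq (hd.trans (card_dvd_of_le (fittingOf_le X))))

/-- A nilpotent normal subgroup of `M` is a `ϖ`-group. -/
theorem pi_of_norm_nil [Finite G] (hG : PGHyp G) {M H : Subgroup G} (hM : Mx M) (hHM : H ≤ M)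
    (hn : M ≤ 𝐍(H)) (h : Group.IsNilpotent H) : IsPiSubgroup ϖ[G] H :=
  pi_of_le (pi_fitting hG hM) (le_fittingOf hHM hn h)

/-- The normalizer of a nontrivial normal subgroup of a maximal local subgroup `M` is `M`. -/
theorem mmax_normal [Finite G] (hG : PGHyp G) {M H : Subgroup G} (hM : Mx M)
    (hHM : H ≤ M) (hn : M ≤ normalizer (H : Set G)) (h1 : H ≠ ⊥) : normalizer (H : Set G) = M :=
  hM.eq_of_le ((loc_norm (fittingOf_ne_bot' (mFT_sol hG (hM.loc hHM)) h1)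
    (pi_of_le (pi_fitting hG hM) (fittingOf_le_of_norm hHM hn))).mono
      (norm_le_norm_fittingOf H)) hn

theorem norm_mmax [Finite G] (hG : PGHyp G) {M : Subgroup G} (hM : Mx M) :
    normalizer (M : Set G) = M :=
  mmax_normal hG hM le_rfl le_normalizer (mmax_neq_bot hG hM)

theorem mmax_cent_le [Finite G] (hG : PGHyp G) {M H : Subgroup G} (hM : Mx M)
    (hHM : H ≤ M) (hn : M ≤ normalizer (H : Set G)) (h1 : H ≠ ⊥) : centralizer (H : Set G) ≤ M :=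
  (centralizer_le_normalizer _).trans (mmax_normal hG hM hHM hn h1).le

theorem isCoatom_map_conj {M : Subgroup G} (hM : Mx M) (g : G) :
    Mx (M.map (MulAut.conj g).toMonoidHom) :=
  ⟨hM.1.cj g, fun H hH hL => hM.2 (g⁻¹ •ᶜ H)
    (lt_of_le_of_ne (cj_le_iff.1 hH.le) fun e => hH.ne (cj_eq_iff.2 e)) (hL.cj g⁻¹)⟩

theorem Mx.cj {M : Subgroup G} (hM : Mx M) (g : G) : Mx (g •ᶜ M) := isCoatom_map_conj hM g

/-! ### Uniqueness subgroups -/

theorem inUniqueMaximal_iff {X M : Subgroup G} (hM : Mx M) (hXM : X ≤ M) :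
    InUniqueMaximal X ↔ ∀ L, Mx L → X ≤ L → L = M :=
  ⟨fun h _ hL hXL => ExistsUnique.unique h ⟨hL, hXL⟩ ⟨hM, hXM⟩, fun h => ⟨M, ⟨hM, hXM⟩, fun L hL => h L hL.1 hL.2⟩⟩

theorem InUniqueMaximal.eq {X M L : Subgroup G} (h : InUniqueMaximal X) (hM : Mx M)
    (hXM : X ≤ M) (hL : Mx L) (hXL : X ≤ L) : L = M := ExistsUnique.unique h ⟨hL, hXL⟩ ⟨hM, hXM⟩

theorem InUniqueMaximal.ne_top {X : Subgroup G} (h : InUniqueMaximal X) : Loc X :=
  let ⟨_, hM⟩ := ExistsUnique.exists h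
  hM.1.loc hM.2

/-- A local overgroup of a uniqueness subgroup lies in the unique maximal overgroup. -/
theorem InUniqueMaximal.le [Finite G] {X M H : Subgroup G} (h : InUniqueMaximal X)
    (hM : Mx M) (hXM : X ≤ M) (hH : Loc H) (hXH : X ≤ H) : H ≤ M := by
  obtain ⟨L, hL, hHL⟩ := mmax_exists hH
  exact InUniqueMaximal.eq h hM hXM hL (hXH.trans hHL) ▸ hHL

theorem InUniqueMaximal.mono [Finite G] {X Y : Subgroup G} (h : InUniqueMaximal X) (hXY : X ≤ Y)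
    (hY : Loc Y) : InUniqueMaximal Y := by
  obtain ⟨M, hM, hYM⟩ := mmax_exists hY
  exact (inUniqueMaximal_iff hM hYM).2 fun L hL hYL =>
    InUniqueMaximal.eq h hM (hXY.trans hYM) hL (hXY.trans hYL)

theorem InUniqueMaximal.map_conj {X : Subgroup G} (h : InUniqueMaximal X) (g : G) :
    InUniqueMaximal (X.map (MulAut.conj g).toMonoidHom) := by
  obtain ⟨M, hM, hXM⟩ := ExistsUnique.exists h
  refine (inUniqueMaximal_iff (isCoatom_map_conj hM g) (map_mono hXM)).2 fun L hL hXL => ?_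
  rw [← InUniqueMaximal.eq h hM hXM (isCoatom_map_conj hL g⁻¹)
    (by rw [← map_conj_inv_map_conj g X]; exact map_mono hXL), map_conj_map_conj_inv]

theorem InUniqueMaximal.normalizer_le [Finite G] (hG : PGHyp G) {X M : Subgroup G}
    (h : InUniqueMaximal X) (hM : Mx M) (hXM : X ≤ M) : normalizer (X : Set G) ≤ M := by
  intro g hg
  rw [← norm_mmax hG hM, ← map_conj_eq_iff_mem_normalizer]
  exact InUniqueMaximal.eq h hM hXM (isCoatom_map_conj hM g)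
    (by rw [← map_conj_eq_of_mem_normalizer hg]; exact map_mono hXM)

theorem InUniqueMaximal.ne_bot [Finite G] (hG : PGHyp G) {X : Subgroup G}
    (h : InUniqueMaximal X) : X ≠ ⊥ := by
  rintro rfl
  obtain ⟨M, hM, hXM⟩ := ExistsUnique.exists h
  refine hM.ne_top hG (top_le_iff.1 ?_)
  have := InUniqueMaximal.normalizer_le hG h hM hXM
  rwa [normalizer_eq_top_iff.2 inferInstance] at this

theorem UniqMax.le {X M : Subgroup G} (h : UniqMax X M) : X ≤ M := h.1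

theorem UniqMax.eq {X M L : Subgroup G} (h : UniqMax X M) (hL : Mx L) (hXL : X ≤ L) :
    L = M := h.2 L hL hXL

theorem UniqMax.inUniq {X M : Subgroup G} (h : UniqMax X M) (hM : Mx M) :
    InUniqueMaximal X := ⟨M, ⟨hM, h.1⟩, fun L hL => h.2 L hL.1 hL.2⟩

theorem uniqMax_of_inUniq {X M : Subgroup G} (h : InUniqueMaximal X) (hM : Mx M)
    (hXM : X ≤ M) : UniqMax X M :=
  ⟨hXM, fun _ hL hXL => ExistsUnique.unique h ⟨hL, hXL⟩ ⟨hM, hXM⟩⟩

theorem UniqMax.le_of_ne_top [Finite G] {X M H : Subgroup G} (h : UniqMax X M) (hXH : X ≤ H)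
    (hH : Loc H) : H ≤ M := by
  obtain ⟨L, hL, hHL⟩ := mmax_exists hH
  exact h.eq hL (hXH.trans hHL) ▸ hHL

theorem UniqMax.mono [Finite G] {X M H : Subgroup G} (h : UniqMax X M) (hXH : X ≤ H)
    (hH : Loc H) : UniqMax H M :=
  ⟨h.le_of_ne_top hXH hH, fun _ hL hHL => h.eq hL (hXH.trans hHL)⟩

theorem UniqMax.cj {X M : Subgroup G} (h : UniqMax X M) (g : G) : UniqMax (g •ᶜ X) (g •ᶜ M) :=
  ⟨map_mono h.1, fun L hL hXL => by
    rw [← h.eq (hL.cj g⁻¹) (cj_le_iff.1 hXL)]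
    exact (map_conj_map_conj_inv g L).symm⟩

namespace U4

theorem UniqMax.le {X M : Subgroup G} (h : UniqMax X M) : X ≤ M := h.1

theorem UniqMax.eq {X M L : Subgroup G} (h : UniqMax X M) (hL : Mx L) (hX : X ≤ L) :
    L = M := h.2 L hL hX

theorem UniqMax.conj {X M : Subgroup G} (h : UniqMax X M) (g : G) : UniqMax (g •ᶜ X) (g •ᶜ M) :=
  PG.UniqMax.cj h g

theorem UniqMax.mono {X Y M : Subgroup G} (h : UniqMax X M) (hXY : X ≤ Y) (hY : Y ≤ M) :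
    UniqMax Y M := ⟨hY, fun L hL hYL => h.2 L hL (hXY.trans hYL)⟩

theorem UniqMax.le_of_ne_top [Finite G] {X Y M : Subgroup G} (h : UniqMax X M) (hXY : X ≤ Y)
    (hY : Loc Y) : Y ≤ M := PG.UniqMax.le_of_ne_top h hXY hY

theorem UniqMax.inUniq {X M : Subgroup G} (h : UniqMax X M) (hM : Mx M) :
    InUniqueMaximal X := (inUniqueMaximal_iff hM h.1).2 h.2

theorem uniqMax_of_inUniq {X M : Subgroup G} (h : InUniqueMaximal X) (hM : Mx M)
    (hX : X ≤ M) : UniqMax X M := ⟨hX, (inUniqueMaximal_iff hM hX).1 h⟩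

theorem mem_of_conj_eq [Finite G] (hG : PGHyp G) {M : Subgroup G} (hM : Mx M)
    {g : G} (h : g •ᶜ M = M) : g ∈ M :=
  norm_mmax hG hM ▸ mem_normalizer_of_map_conj_eq h

theorem UniqMax.mem_of_conj_le [Finite G] (hG : PGHyp G) {X M : Subgroup G}
    (hM : Mx M) (h : UniqMax X M) {g : G} (hg : X ≤ g •ᶜ M) : g ∈ M :=
  mem_of_conj_eq hG hM (h.2 _ (isCoatom_map_conj hM g) hg)

theorem UniqMax.norm_le [Finite G] (hG : PGHyp G) {X M : Subgroup G}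
    (hM : Mx M) (h : UniqMax X M) : 𝐍(X) ≤ M :=
  InUniqueMaximal.normalizer_le hG (UniqMax.inUniq h hM) hM h.1

theorem UniqMax.norm_le_of_cent [Finite G] (hG : PGHyp G) {X M : Subgroup G}
    (hM : Mx M) (h : UniqMax 𝐂(X) M) : 𝐍(X) ≤ M :=
  (Cop.normalizer_le_normalizer_centralizer X).trans (UniqMax.norm_le hG hM h)

end U4

end CfsgLib.FT.PG
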