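import Mathlib
import Cfsg.Agent.Lib.PG.Defs
import Cfsg.Agent.Lib.FT.BG5
import Cfsg.Agent.Lib.FT.BG6
import Cfsg.Agent.Lib.CoreSubnormal
import Cfsg.Agent.Lib.FT.BG7b

/-! API for invariant `π`-subgroups, `π`-cores of subgroups and `p'`-cores of local subgroups. -/

set_option autoImplicit false
set_option linter.unusedSectionVars false



namespace CfsgLib.FT.PG

open Subgroup Cfsg
open scoped commutatorElement

variable {G : Type*} [Group G] [PiCtx G]

/-! ### Invariant subgroups -/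

theorem TransitivityHypothesis.le_piCoreOf {A X Y : Subgroup G} (hA : TransitivityHypothesis A)
    (hX : Loc X) (hAX : A ≤ X) (hY : Y ≤ X) (hπ : IsPiSubgroup (primesNotDvd (Nat.card A)) Y)
    (hn : A ≤ normalizer (Y : Set G)) : Y ≤ piCoreOf (primesNotDvd (Nat.card A)) X :=
  hA.2.2 X hX hAX ▸ le_sSup ⟨hY, hπ, hn⟩

theorem transitivityHypothesis_of_le [Finite G] {A : Subgroup G} (h1 : A ≠ ⊥) (h2 : PiOp A)
    (h : ∀ X Y : Subgroup G, Loc X → A ≤ X → Y ≤ X → IsPiSubgroup (primesNotDvd (Nat.card A)) Y →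
      A ≤ normalizer (Y : Set G) → Y ≤ piCoreOf (primesNotDvd (Nat.card A)) X) :
    TransitivityHypothesis A :=
  ⟨h1, h2, fun X hX hAX => le_antisymm (sSup_le fun Y hY => h X Y hX hAX hY.1 hY.2.1 hY.2.2)
    (le_sSup ⟨piCoreOf_le' _ X, piCoreOf_isPi _ X,
      hAX.trans (le_normalizer.trans (norm_le_norm_piCoreOf _ X))⟩)⟩

/-- Under the transitivity hypothesis, `O_{π'}(C(A))` contains all `π'`-subgroups of `C(A)`. -/
theorem TransitivityHypothesis.le_piCoreOf_cent [Finite G] (hG : PGHyp G)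
    {A Y : Subgroup G} (hA : TransitivityHypothesis A) (hY : Y ≤ centralizer (A : Set G))
    (hπ : IsPiSubgroup (primesNotDvd (Nat.card A)) Y) :
    Y ≤ piCoreOf (primesNotDvd (Nat.card A)) (centralizer (A : Set G)) :=
  (le_inf (TransitivityHypothesis.le_piCoreOf hA (mFT_norm_proper hG hA.1 hA.2.1.1) le_normalizer
    (hY.trans (centralizer_le_normalizer _)) hπ
    ((le_centralizer_comm hY).trans (centralizer_le_normalizer _))) hY).trans
    (piCoreOf_inf_le _ (centralizer_le_normalizer _))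

/-! ### `p'`-cores -/

variable [Finite G] {p : ℕ} [hp : Fact p.Prime]

end CfsgLib.FT.PG
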