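import Mathlib
import Cfsg.Agent.Lib.PG.BG7
import Cfsg.Agent.Lib.FT.BG8a

/-! Ambient lemmas on `O_q(H)`, `O_{q'}(H)` and `F(H)` used in BG sections 8 and 9. -/

set_option autoImplicit false
set_option linter.unusedSectionVars false



namespace CfsgLib.FT.PG

open Subgroup Cfsg
open scoped commutatorElement

variable {G : Type*} [Group G] [PiCtx G] [Finite G] {p : ℕ} [hp : Fact p.Prime]

theorem norm_centerPuig_eq (hG : PGHyp G) {M R : Subgroup G} (hM : Mx M)
    (hO : pPrimeCore p M = ⊥) (hR : IsSylowIn p R M) (h1 : R ≠ ⊥) :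
    normalizer (centerPuigOf R : Set G) = M :=
  mmax_normal hG hM ((centerPuigOf_le R).trans hR.le)
    (Puig_center_normal_of (mFT_sol hG hM.1) (mFT_odd hG hM.1) hO hR)
    (centerPuigOf_ne_bot hR.isPGroup h1)

theorem norm_Sylow_le_of_p'core_eq_bot (hG : PGHyp G) {M R : Subgroup G}
    (hM : Mx M) (hO : pPrimeCore p M = ⊥) (hR : IsSylowIn p R M) (h1 : R ≠ ⊥) :
    normalizer (R : Set G) ≤ M :=
  (normalizer_le_normalizer_centerPuigOf R).trans (norm_centerPuig_eq hG hM hO hR h1).le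

omit hp in
/-- If `A` is subnormal in `F(M)` and `И*(A; q)` has only one element, then it is trivial. -/
theorem inv_eq_bot_of_trans (hG : PGHyp G) {M A : Subgroup G} (hM : Mx M)
    (hA : TransitivityHypothesis A) (hAF : A ≤ fittingOf M)
    (hπ : ∀ r : ℕ, r.Prime → r ∣ Nat.card (fittingOf M) → r ∣ Nat.card A) {q : ℕ} (hq : q.Prime)
    (hqA : ¬ q ∣ Nat.card A)
    (htr : ∀ Q₁ ∈ maxInvSubgroups ⊤ A {q}, ∀ Q₂ ∈ maxInvSubgroups ⊤ A {q},
      ∃ k ∈ piCoreOf (primesNotDvd (Nat.card A)) (centralizer (A : Set G)),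
        Q₂ = Q₁.map (MulAut.conj k).toMonoidHom)
    (hK : piCoreOf (primesNotDvd (Nat.card A)) (centralizer (A : Set G)) = ⊥)
    {Y : Subgroup G} (hY : IsPiSubgroup {q} Y) (hn : A ≤ normalizer (Y : Set G)) : Y = ⊥ := by
  have := Fact.mk hq
  have h1 := (normed_trans_superset hG A hA q hq hqA (fittingOf M)
    (ne_top_of_le_ne_top hM.1 (fittingOf_le' M)) hπ hAF
    (SubnormalIn.of_isNilpotent (fittingOf_isNilpotent' M) hAF).2 htr).2.2.1
  obtain ⟨Q, hQ, -⟩ := exists_maxInv_top_ge (A := fittingOf M) (isPiSubgroup_bot {q})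
    le_normalizer_of_normal
  refine maxInv_eq_of_eq_bot (h1 hQ) ⟨le_top, hY, hn⟩ ?_
  by_contra h0
  have hQq := isPGroup_iff_isPiSubgroup.2 hQ.1.2.1
  have h2 : M ≤ normalizer (Q : Set G) := fun m hm => by
    obtain ⟨k, hk, h⟩ := htr Q (h1 hQ) _ (h1 (maxInv_map_conj hQ
      (normalizer_le_normalizer_fittingOf' M (le_normalizer hm))))
    rw [hK, mem_bot] at hk
    rw [hk, map_conj_one] at h
    exact mem_normalizer_of_map_conj_eq h
  have h3 := (hM.le_iff_eq (loc_norm_pgroup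
    (hA.2.1.mem hqA hQq h0 (hAF.trans hQ.1.2.2)) hQq h0)).1 h2
  exact hqA (hπ q hq ((dvd_card_of_isPGroup_ne_bot hQq h0).trans (card_dvd_of_le
    ((le_map_pCore (h3 ▸ le_normalizer) h2 hQq).trans (pcoreIn_le_fittingOf M)))))

end CfsgLib.FT.PG
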