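import Mathlib
import Cfsg.Agent.Lib.FT.BG10T3
import Cfsg.Agent.Lib.PG.BG9
import Cfsg.Agent.Lib.FusionControl
import Cfsg.Agent.Lib.FT.BG10a

/-! Bender–Glauberman, section 10, results 10.1–10.5. -/

set_option autoImplicit false
set_option linter.unusedSectionVars false



namespace CfsgLib.FT.PG

open Subgroup Cfsg BGN
open scoped commutatorElement

variable {G : Type*} [Group G] [PiCtx G] [Finite G]

/-! ### Conjugation invariance and basic properties -/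

theorem mem_sigma_iff {M : Subgroup G} {p : ℕ} [hp : Fact p.Prime] :
    p ∈ sigma M ↔ p ∣ Nat.card M ∧ p ∈ ϖ[G] ∧ ∃ P, IsSylowIn p P M ∧ 𝐍(P) ≤ M := by
  constructor
  · rintro ⟨_, h1, h0, P, h2⟩
    exact ⟨h1, h0, _, IsSylowIn.of_sylow_subgroup P, h2⟩
  · rintro ⟨h1, h0, P, hP, h2⟩
    obtain ⟨S, rfl⟩ := hP.exists_sylow_map
    exact ⟨hp.out, h1, h0, S, h2⟩

theorem mem_sigma_conj {M : Subgroup G} {p : ℕ} (h : p ∈ sigma M) (g : G) :
    p ∈ sigma (g •ᶜ M) := by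
  have := Fact.mk h.1
  obtain ⟨h1, h0, P, hP, h2⟩ := mem_sigma_iff.1 h
  exact mem_sigma_iff.2 ⟨by rwa [card_map_conj], h0, _, hP.map_conj g,
    by rw [normalizer_map_conj]; exact map_mono h2⟩

theorem sigma_conj (g : G) (M : Subgroup G) : sigma (g •ᶜ M) = sigma M :=
  Set.ext fun _ => ⟨fun h => by simpa only [map_conj_inv_map_conj] using mem_sigma_conj h g⁻¹,
    fun h => mem_sigma_conj h g⟩

theorem tau1_conj (g : G) (M : Subgroup G) : tau1 (g •ᶜ M) = tau1 M := by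
  simp only [tau1, sigma_conj, ← cj_commutator, card_map_conj, pRankLE_map_conj_iff]

theorem tau2_conj (g : G) (M : Subgroup G) : tau2 (g •ᶜ M) = tau2 M := by
  simp only [tau2, sigma_conj, pRankLE_map_conj_iff]

theorem tau3_conj (g : G) (M : Subgroup G) : tau3 (g •ᶜ M) = tau3 M := by
  simp only [tau3, sigma_conj, ← cj_commutator, card_map_conj, pRankLE_map_conj_iff]

theorem sigmaCore_conj (g : G) (M : Subgroup G) : sigmaCore (g •ᶜ M) = g •ᶜ sigmaCore M := by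
  change piCoreOf _ _ = g •ᶜ piCoreOf _ _
  rw [sigma_conj, piCoreOf_cj]

omit [Finite G] in
theorem Msigma_le (M : Subgroup G) : sigmaCore M ≤ M := piCoreOf_le _ _

theorem Msigma_isPi (M : Subgroup G) : IsPiSubgroup (sigma M) (sigmaCore M) := piCoreOf_isPi _ _

omit [Finite G] in
theorem le_norm_Msigma (M : Subgroup G) : M ≤ 𝐍(sigmaCore M) := le_norm_piCoreOf _ _

/-- A Sylow subgroup `P` of `G` that is not narrow gives an ideal prime. -/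
theorem not_narrow_ideal (hG : PGHyp G) {p : ℕ} [hp : Fact p.Prime] (hϖ : p ∈ ϖ[G]) {P : Subgroup G}
    (hP : IsSylowIn p P ⊤) (hn : ¬ IsNarrow p P) : IsIdealPrime p G := by
  have hr := not_rank2_of_not_narrow hn
  have hp2 : p ≠ 2 := ne_two_of_mem_pi hG hϖ
  refine ⟨hp.out, fun h => hr (pRankLE_subgroup h _), fun S A hAS hA hA2 => ?_⟩
  obtain ⟨g, -, hg⟩ := hP.exists_conj_eq (IsSylowIn.sylow_top S)
  rw [isNarrow_iff_exists_p2maxElem hp2 hP.isPGroup hr] at hn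
  push Not at hn
  obtain ⟨B, hB, hBe, hAB, hne⟩ := hn (g •ᶜ A) (hg ▸ map_mono hAS) (elemAb_map hA _)
    (by rw [card_map_conj, hA2])
  refine ⟨g⁻¹ •ᶜ B, ?_, elemAb_map hBe _, lt_of_le_of_ne (cj_le_iff.1 hAB) fun e => hne ?_⟩
  · rw [← le_cj_iff, hg]; exact hB
  · rw [e, map_conj_map_conj_inv]

/-- For an ideal prime no Sylow subgroup is narrow. -/
theorem not_narrow_of_ideal (hG : PGHyp G) {p : ℕ} [Fact p.Prime] (hϖ : p ∈ ϖ[G]) {P : Subgroup G}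
    (hP : IsSylowIn p P ⊤) (hp : IsIdealPrime p G) : ¬ IsNarrow p P := by
  have hr : ¬ PRankLE p 2 P := by
    rw [← pRankLE_iff_of_isSylowIn hP, pRankLE_top]; exact hp.2.1
  have hp2 : p ≠ 2 := ne_two_of_mem_pi hG hϖ
  rw [isNarrow_iff_exists_p2maxElem hp2 hP.isPGroup hr]
  rintro ⟨E, hE, hEe, hE2, hmax⟩
  obtain ⟨S, rfl⟩ := IsSylowIn.top_iff.1 hP
  obtain ⟨B, hB, hBe, hlt⟩ := hp.2.2 S E hE hEe hE2
  exact hlt.ne' (hmax B hB hBe hlt.le)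

section MaxCoreProps

variable (hG : PGHyp G) {M : Subgroup G} (hM : Mx M)
include hG hM

theorem alpha_sub_sigma : alpha M ⊆ sigma M := fun p hp => by
  have := Fact.mk hp.1
  obtain ⟨P, hP⟩ := IsSylowIn.exists_in (p := p) M
  have hr : ¬ PRankLE p 2 P := by rw [← pRankLE_iff_of_isSylowIn hP]; exact hp.2
  exact mem_sigma_iff.2 ⟨dvd_card_of_not_pRankLE hp.2, mem_pi_of_alpha hG hM.1 hp, P, hP,
    InUniqueMaximal.normalizer_le hG
    (rank3_Uniqueness hG P (hM.loc hP.le) (not_rankLE_of_not_pRankLE hr))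
    hM hP.le⟩

theorem beta_sub_sigma : beta M ⊆ sigma M := (beta_sub_alpha M).trans (alpha_sub_sigma hG hM)

theorem Malpha_sub_Msigma : alphaCore M ≤ sigmaCore M :=
  piCoreOf_mono_set (fun _ _ h => alpha_sub_sigma hG hM h) M

theorem Mbeta_sub_Msigma : betaCore M ≤ sigmaCore M :=
  Mbeta_sub_Malpha.trans (Malpha_sub_Msigma hG hM)

omit hG hM in
/-- First part of the remark above BG 10.1. -/
theorem norm_sigma_Sylow {p : ℕ} [Fact p.Prime] (hp : p ∈ sigma M) {P : Subgroup G}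
    (hP : IsSylowIn p P M) : 𝐍(P) ≤ M := by
  obtain ⟨-, -, Q, hQ, h⟩ := mem_sigma_iff.1 hp
  obtain ⟨x, hx, rfl⟩ := hP.exists_conj_eq hQ
  rw [normalizer_map_conj, ← cj_eq_of_mem hx]
  exact map_mono h

omit hG hM in
/-- Second part of the remark above BG 10.1. -/
theorem sigma_Sylow_G {p : ℕ} [Fact p.Prime] (hp : p ∈ sigma M) {P : Subgroup G}
    (hP : IsSylowIn p P M) : IsSylowIn p P ⊤ :=
  sylow_of_norm' hP le_top (inf_le_right.trans (norm_sigma_Sylow hp hP))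

/-- `σ(M) ∩ α(G) = α(M)`. -/
theorem mem_alpha_iff {p : ℕ} : p ∈ alpha M ↔ p ∈ sigma M ∧ ¬ PRankLE p 2 G := by
  refine ⟨fun h => ⟨alpha_sub_sigma hG hM h, fun h' => h.2 (pRankLE_subgroup h' _)⟩,
    fun ⟨h1, h2⟩ => ⟨h1.1, ?_⟩⟩
  have := Fact.mk h1.1
  obtain ⟨P, hP⟩ := IsSylowIn.exists_in (p := p) M
  rwa [pRankLE_iff_of_isSylowIn hP, ← pRankLE_iff_of_isSylowIn (sigma_Sylow_G h1 hP), pRankLE_top]

/-- `σ(M) ∩ β(G) = β(M)`. -/
theorem mem_beta_iff {p : ℕ} : p ∈ beta M ↔ p ∈ sigma M ∧ IsIdealPrime p G :=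
  ⟨fun h => ⟨beta_sub_sigma hG hM h, h.2⟩,
    fun h => ⟨(mem_alpha_iff hG hM).2 ⟨h.1, h.2.2.1⟩, h.2⟩⟩

/-- `p ∈ β(M)` iff a (any) Sylow `p`-subgroup of `M` is not narrow. -/
theorem mem_beta_iff_not_narrow {p : ℕ} [hp : Fact p.Prime] {P : Subgroup G}
    (hP : IsSylowIn p P M) : p ∈ beta M ↔ ¬ IsNarrow p P := by
  refine ⟨fun h => not_narrow_of_ideal hG (mem_pi_of_alpha hG hM.1 h.1)
    (sigma_Sylow_G (beta_sub_sigma hG hM h) hP) h.2,
    fun h => ?_⟩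
  have ha : p ∈ alpha M := ⟨hp.out, fun h' => not_rank2_of_not_narrow h (pRankLE_mono h' hP.le)⟩
  exact ⟨ha, not_narrow_ideal hG (mem_pi_of_alpha hG hM.1 ha)
    (sigma_Sylow_G (alpha_sub_sigma hG hM ha) hP) h⟩

end MaxCoreProps

theorem sigma_of_norm_sylow {M P : Subgroup G} {p : ℕ} [Fact p.Prime] (hϖ : p ∈ ϖ[G]) (hP : IsSylowIn p P M)
    (h1 : P ≠ ⊥) (h : 𝐍(P) ≤ M) : p ∈ sigma M :=
  mem_sigma_iff.2 ⟨(dvd_card_of_isPGroup hP.isPGroup h1).trans (card_dvd_of_le hP.le), hϖ, P, hP,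
    h⟩

theorem sigma_mmax_exists (hG : PGHyp G) {p : ℕ} (hp : p.Prime) (hϖ : p ∈ ϖ[G])
    (hpG : p ∣ Nat.card G) : ∃ M : Subgroup G, Mx M ∧ p ∈ sigma M := by
  have := Fact.mk hp
  obtain ⟨P, hP⟩ := IsSylowIn.exists_in (p := p) (⊤ : Subgroup G)
  have h1 : P ≠ ⊥ := hP.ne_bot (by rwa [card_top])
  obtain ⟨M, hM, h⟩ := mmax_exists (loc_norm_pgroup hϖ hP.isPGroup h1)
  exact ⟨M, hM, sigma_of_norm_sylow hϖ (hP.mono (le_normalizer.trans h) le_top) h1 h⟩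

/-- BG 10.1(d). -/
theorem sigma_Sylow_trans {M X : Subgroup G} {p : ℕ} [Fact p.Prime] (hp : p ∈ sigma M)
    (hX : IsSylowIn p X M) {g : G} (hg : g •ᶜ X ≤ M) : g ∈ M := by
  obtain ⟨m, hm, h⟩ := hX.exists_conj_eq
    (hX.of_card_le (hX.isPGroup.map _) hg (card_map_conj g X).ge)
  rw [cj_cj] at h
  exact (M.mul_mem_cancel_left hm).1 (norm_sigma_Sylow hp hX (mem_normalizer_of_map_conj_eq h))

theorem sigma_trans_aux (hG : PGHyp G) {M : Subgroup G} (hM : Mx M)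
    {p : ℕ} [Fact p.Prime] (hp : p ∈ sigma M) (X : Subgroup G) :
    IsPGroup p X → ∀ g₁ g₂ : G, X ≤ g₁ •ᶜ M → X ≤ g₂ •ᶜ M →
      ∃ c ∈ 𝐂(X), g₂ •ᶜ M = c •ᶜ (g₁ •ᶜ M) := by
  induction X using WellFoundedGT.induction with
  | ind X ih =>
  intro hX g₁ g₂ h₁ h₂
  by_cases hX1 : X = ⊥
  · exact ⟨g₂ * g₁⁻¹, by rw [hX1, cent_bot]; trivial, by rw [cj_cj]; simp⟩
  obtain ⟨P₁, hXP₁, hP₁⟩ := IsSylowIn.exists_ge hX h₁
  obtain ⟨P₂, hXP₂, hP₂⟩ := IsSylowIn.exists_ge hX h₂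
  by_cases hs : X = P₁
  · subst hs
    have := sigma_Sylow_trans (mem_sigma_conj hp g₁) hP₁ (g := g₁ * g₂⁻¹)
      (by rw [← cj_cj]; exact map_mono (le_cj_iff.1 h₂))
    refine ⟨1, one_mem _, ?_⟩
    rw [map_conj_one, ← cj_eq_of_mem (inv_mem this), cj_cj]; simp
  have hs₂ : X ≠ P₂ := by
    rintro rfl
    exact hs ((sigma_Sylow_G (mem_sigma_conj hp g₂) hP₂).eq_of_le hP₁.isPGroup hXP₁ le_top).symm
  have hl₁ := lt_inf_normalizer_of_isPGroup hP₁.isPGroup (lt_of_le_of_ne hXP₁ hs)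
  have hl₂ := lt_inf_normalizer_of_isPGroup hP₂.isPGroup (lt_of_le_of_ne hXP₂ hs₂)
  have hL := loc_norm_pgroup (mem_pi_of_sigma hp) hX hX1
  obtain ⟨P, hXP, hP⟩ := IsSylowIn.exists_ge (hP₁.isPGroup.to_inf_left (K := 𝐍(X))) inf_le_right
  obtain ⟨t, ht, hXt⟩ := hP.exists_conj_le (hP₂.isPGroup.to_inf_left (K := 𝐍(X))) inf_le_right
  obtain ⟨S, hS⟩ := IsSylowIn.exists_in (p := p) M
  obtain ⟨g, -, hg⟩ := (sigma_Sylow_G hp hS).exists_conj_le hP.isPGroup le_top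
  have hP0 : P ≤ g⁻¹ •ᶜ M := cj_le_iff.1 (hg.trans hS.le)
  obtain ⟨c₁, hc₁, e₁⟩ := ih _ hl₁ hP₁.isPGroup.to_inf_left g₁ g⁻¹ (inf_le_left.trans hP₁.le)
    (hXP.trans hP0)
  obtain ⟨c₂, hc₂, e₂⟩ := ih _ hl₂ hP₂.isPGroup.to_inf_left (t⁻¹ * g⁻¹) g₂
    (by rw [← cj_cj]; exact cj_le_iff.1 (hXt.trans hP0)) (inf_le_left.trans hP₂.le)
  suffices h : ∃ c ∈ 𝐂(X), (t⁻¹ * g⁻¹) •ᶜ M = c •ᶜ (g⁻¹ •ᶜ M) by
    obtain ⟨c, hc, e⟩ := h
    refine ⟨c₂ * (c * c₁), mul_mem (centralizer_antitone hl₂.le hc₂)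
      (mul_mem hc (centralizer_antitone hl₁.le hc₁)), ?_⟩
    rw [e₂, e, e₁, ← cj_cj c₂, ← cj_cj c]
  by_cases hr : PRankLE p 2 P
  · have h1 := plength1_Frattini_of (rank2_plength1 (mFT_sol hG hL) (mFT_odd hG hL)
      ((pRankLE_iff_of_isSylowIn hP).2 hr)) hP
    rw [← piCoreOf_compl_eq] at h1
    obtain ⟨v, hv, u, hu, e⟩ := mem_sup_norm (inf_le_left.trans (le_norm_piCoreOf _ _))
      (h1.ge (inv_mem ht))
    have hv' : v ∈ 𝐂(X) := le_cent_of_norm_of_inf (piCoreOf_le _ _)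
      (le_normalizer.trans (le_norm_piCoreOf _ _))
      (inf_eq_bot_of_cop (coprime_of_isPGroup_of_isPi hX (piCoreOf_isPi _ _) (by simp)).symm) hv
    obtain ⟨c, hc, e'⟩ := ih P (hl₁.trans_le hXP) hP.isPGroup g⁻¹ (u * g⁻¹) hP0
      (by rw [← cj_cj, ← map_conj_eq_of_mem_normalizer hu.2]; exact map_mono hP0)
    refine ⟨v * c, mul_mem hv' (centralizer_antitone (hl₁.le.trans hXP) hc), ?_⟩
    rw [← e, mul_assoc, ← cj_cj v, e', cj_cj v]
  · have hU := rank3_Uniqueness hG P (hL.mono hP.le)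
      (not_rankLE_of_not_pRankLE hr)
    have := InUniqueMaximal.le hU (isCoatom_map_conj hM g⁻¹) hP0 hL hP.le
    exact ⟨1, one_mem _, by rw [map_conj_one, ← cj_cj, cj_eq_of_mem (this (inv_mem ht))]⟩

/-- BG 10.1(a,b,c). -/
theorem sigma_group_trans (hG : PGHyp G) {M : Subgroup G} (hM : Mx M)
    {p : ℕ} [Fact p.Prime] (hp : p ∈ sigma M) {X : Subgroup G} (hX : IsPGroup p X) :
    (∀ g : G, X ≤ M → g •ᶜ X ≤ M → ∃ m ∈ M, ∃ c ∈ 𝐂(X), g = m * c) ∧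
      (∀ g₁ g₂ : G, X ≤ g₁ •ᶜ M → X ≤ g₂ •ᶜ M → ∃ c ∈ 𝐂(X), g₂ •ᶜ M = c •ᶜ (g₁ •ᶜ M)) ∧
      (X ≤ M → 𝐍(X) = (M ⊓ 𝐍(X)) ⊔ 𝐂(X)) := by
  have ha : ∀ g : G, X ≤ M → g •ᶜ X ≤ M → ∃ m ∈ M, ∃ c ∈ 𝐂(X), g = m * c := by
    intro g h1 h2
    obtain ⟨c, hc, e⟩ := sigma_trans_aux hG hM hp X hX 1 g⁻¹ (by rwa [map_conj_one])
      (cj_le_iff.1 h2)
    rw [map_conj_one, cj_eq_iff, inv_inv, cj_cj] at e
    exact ⟨g * c, (norm_mmax hG hM).le (mem_normalizer_of_map_conj_eq e.symm), c⁻¹, inv_mem hc,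
      by simp⟩
  refine ⟨ha, sigma_trans_aux hG hM hp X hX, fun h => le_antisymm (fun g hg => ?_)
    (sup_le inf_le_right (cent_le_norm X))⟩
  obtain ⟨m, hm, c, hc, rfl⟩ := ha g h (cj_le_of_norm le_rfl hg |>.trans h)
  exact mul_mem_sup ⟨hm, (𝐍(X).mul_mem_cancel_right (cent_le_norm X hc)).1 hg⟩ hc

/-- BG 10.1(e). -/
theorem sigma_cent_trans (hG : PGHyp G) {M : Subgroup G} (hM : Mx M)
    {p : ℕ} [Fact p.Prime] (hp : p ∈ sigma M) {X : Subgroup G} (hX : IsPGroup p X) (hXM : X ≤ M)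
    (hC : 𝐂(X) ≤ M) {g : G} (hg : g •ᶜ X ≤ M) : g ∈ M := by
  obtain ⟨m, hm, c, hc, rfl⟩ := (sigma_group_trans hG hM hp hX).1 g hXM hg
  exact mul_mem hm (hC hc)

section OneMaximal

variable (hG : PGHyp G) {M : Subgroup G} (hM : Mx M)
include hG hM

theorem sigma_Sylow_der1 {p : ℕ} [Fact p.Prime] (hp : p ∈ sigma M) {P : Subgroup G}
    (hP : IsSylowIn p P M) : P ≤ ⁅M, M⁆ := by
  obtain ⟨S, rfl⟩ := IsSylowIn.top_iff.1 (sigma_Sylow_G hp hP)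
  have := Fusion.commutator_inf_sylow_le S (L := ⁅M, M⁆) fun x hx g hg => by
    obtain ⟨m, hm, c, hc, rfl⟩ := (sigma_group_trans hG hM hp
      (hP.isPGroup.to_le (zpowers_le.2 hx))).1 g (zpowers_le.2 (hP.le hx))
      (by rw [cj_zpowers]; exact zpowers_le.2 (hP.le hg))
    have h1 : c * x * c⁻¹ = x := by rw [← hc x (mem_zpowers x)]; simp
    have h2 : m * c * x * (m * c)⁻¹ * x⁻¹ = ⁅m, x⁆ := by
      rw [commutatorElement_def]
      conv_rhs => rw [← h1]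
      rw [h1]; conv_rhs => enter [1, 1, 2]; rw [← h1]
      group
    rw [h2]
    exact commutator_mem_commutator hm (hP.le hx)
  rwa [mFT_commutator_eq_top hG, top_inf_eq] at this

theorem sigma_sub_der1 {H : Subgroup G} (hH : H ≤ M) (h : IsPiSubgroup (sigma M) H) :
    H ≤ ⁅M, M⁆ :=
  le_of_forall_sylow fun q hq hd => by
    obtain ⟨S, hS⟩ := IsSylowIn.exists_in (p := q) H
    obtain ⟨P, hSP, hP⟩ := IsSylowIn.exists_ge hS.isPGroup (hS.le.trans hH)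
    exact ⟨S, hS, hSP.trans (sigma_Sylow_der1 hG hM (h q hq.out hd) hP)⟩

theorem Malpha_aux : NilMod ⁅M, M⁆ (alphaCore M) ∧
    ∀ U ≤ ⁅M, M⁆, IsPiSubgroup (alpha M) U → U ≤ alphaCore M :=
  rank2_quo_piCore (mFT_sol hG hM.1) (mFT_odd hG hM.1) fun _ hq h =>
    by_contra fun h' => h ⟨hq, h'⟩

/-- BG 10.2(a1). -/
theorem Malpha_Hall : IsPiHallOf (alpha M) (alphaCore M) M := by
  obtain ⟨H, hH⟩ := Hall.exists_isPiHallOf (mFT_sol hG hM.1) (alpha M)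
  exact hall_of_le_of_isPi hH (Malpha_isPi M) ((Malpha_aux hG hM).2 H (sigma_sub_der1 hG hM hH.1
    (isPiSubgroup_mono (hall_isPi hH) (alpha_sub_sigma hG hM))) (hall_isPi hH)) (Malpha_le M)

/-- BG 10.2(d2): `M' / M_α` is nilpotent. -/
theorem Malpha_quo_nil : NilMod ⁅M, M⁆ (alphaCore M) := (Malpha_aux hG hM).1

/-- BG 10.2(b1). -/
theorem Msigma_Hall : IsPiHallOf (sigma M) (sigmaCore M) M := by
  obtain ⟨H, hH⟩ := Hall.exists_isPiHallOf (mFT_sol hG hM.1) (sigma M)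
  have h1 := (Malpha_quo_nil hG hM).le_norm_sup_hall ((der_le M).trans (le_norm_Malpha M))
    (Hall.isPiHallOf_of_le hH (sigma_sub_der1 hG hM hH.1 (hall_isPi hH)) (der_le M))
    (le_norm_der M) (le_norm_Malpha M)
  rw [sup_eq_right.2 ((Malpha_sub_Msigma hG hM).trans (piCoreOf_le_hall hH))] at h1
  rwa [hall_eq_piCoreOf hH h1] at hH

theorem pi_Msigma {p : ℕ} (hp : p.Prime) : p ∣ Nat.card (sigmaCore M) ↔ p ∈ sigma M := by
  rw [hall_dvd_card_iff (Msigma_Hall hG hM) hp]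
  exact ⟨fun h => h.2, fun h => ⟨h.2.1, h⟩⟩

omit hG hM in
theorem sigma_hall_G {π : Set ℕ} (h : π ⊆ sigma M) {H : Subgroup G} (hH : IsPiHallOf π H M) :
    IsPiHall π H :=
  Hall.isPiHall_of_isPiHallOf hH fun p hp hπ hd => by
    have := Fact.mk hp
    obtain ⟨P, hP⟩ := IsSylowIn.exists_in (p := p) M
    refine (sigma_Sylow_G (h hπ) hP).not_dvd ?_
    rw [relIndex_top_right]
    exact hd.trans (index_dvd_of_le hP.le)

/-- BG 10.2(b2). -/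
theorem Msigma_Hall_G : IsPiHall (sigma M) (sigmaCore M) :=
  sigma_hall_G le_rfl (Msigma_Hall hG hM)

/-- BG 10.2(a2). -/
theorem Malpha_Hall_G : IsPiHall (alpha M) (alphaCore M) :=
  sigma_hall_G (alpha_sub_sigma hG hM) (Malpha_Hall hG hM)

/-- BG 10.2(c). -/
theorem Msigma_der1 : sigmaCore M ≤ ⁅M, M⁆ := sigma_sub_der1 hG hM (Msigma_le M) (Msigma_isPi M)

/-- BG 10.2(d1). -/
theorem Malpha_quo_rank2 : RankLE 2 (↥M ⧸ piCore (alpha M) ↥M) := fun q hq => by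
  have := Fact.mk hq
  by_cases h : q ∈ alpha M
  · refine pRankLE_of_not_dvd fun hd => (Malpha_Hall hG hM).2.2 q hq h ?_
    exact (relIndex_piCoreOf (alpha M) M).symm ▸ hd
  · refine (pRankLE_quotient_iff_of_coprime _ ?_).2 (by_contra fun h' => h ⟨hq, h'⟩)
    exact ((Nat.Prime.coprime_iff_not_dvd hq).2 fun hd =>
      h (piCore_isPiSubgroup _ q hq hd)).symm

omit hG hM in
theorem le_Msigma_of_hall {H : Subgroup G} (hS : IsPiHallOf (sigma M) (sigmaCore M) M)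
    (hH : H ≤ M) (h : IsPiSubgroup (sigma M) H) : H ≤ sigmaCore M :=
  le_hall_of_norm hS h hH (hH.trans (le_norm_Msigma M))

theorem le_Msigma {H : Subgroup G} (hH : H ≤ M) (h : IsPiSubgroup (sigma M) H) :
    H ≤ sigmaCore M := le_Msigma_of_hall (Msigma_Hall hG hM) hH h

theorem le_Malpha {H : Subgroup G} (hH : H ≤ M) (h : IsPiSubgroup (alpha M) H) :
    H ≤ alphaCore M := le_hall_of_norm (Malpha_Hall hG hM) h hH (hH.trans (le_norm_Malpha M))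

theorem rank2_of_Malpha_eq_bot (h : alphaCore M = ⊥) : RankLE 2 M := fun q hq =>
  by_contra fun h' => by
    have := Fact.mk hq
    exact ne_bot_of_dvd_card ((hall_dvd_card_iff (Malpha_Hall hG hM) hq).2
      ⟨dvd_card_of_not_pRankLE h', hq, h'⟩) h

/-- BG 10.2(e). -/
theorem Msigma_neq1 : sigmaCore M ≠ ⊥ := fun h => by
  have hr := rank2_of_Malpha_eq_bot hG hM (le_bot_iff.1 (h ▸ Malpha_sub_Msigma hG hM))
  obtain ⟨q, hq, hd, hmax⟩ := exists_max_prime_dvd (Nat.card_pos (α := M)).ne'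
    fun e => mmax_neq_bot hG hM ((eq_bot_iff_card M).2 e)
  have := Fact.mk hq
  obtain ⟨Q, hQ⟩ := IsSylowIn.exists_in (p := q) M
  have h1 := hQ.ne_bot hd
  have hn := rank2_max_sylow_norm (mFT_sol hG hM.1) (mFT_odd hG hM.1) hr hmax hQ
  exact ne_bot_of_dvd_card ((pi_Msigma hG hM hq).2 (sigma_of_norm_sylow (mem_pi_of_pgroup
    hQ.isPGroup h1 (pi_of_norm_nil hG hM hQ.le hn hQ.isPGroup.isNilpotent)) hQ h1
    (mmax_normal hG hM hQ.le hn h1).le)) h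

theorem norm_Msigma : 𝐍(sigmaCore M) = M :=
  mmax_normal hG hM (Msigma_le M) (le_norm_Msigma M) (Msigma_neq1 hG hM)

theorem cent_Msigma_le : 𝐂(sigmaCore M) ≤ M := (cent_le_norm _).trans (norm_Msigma hG hM).le

/-- BG 10.3. -/
theorem cent_alpha'_uniq {X : Subgroup G} (hXM : X ≤ M) (hX : IsPiSubgroup (alpha M)ᶜ X)
    (hr : ¬ RankLE 1 ↥(alphaCore M ⊓ 𝐂(X))) : InUniqueMaximal (M ⊓ 𝐂(X)) := by
  have hne : Loc (M ⊓ 𝐂(X)) := ne_top_of_le_ne_top hM.1 inf_le_left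
  obtain ⟨p, hp, B, hB, hBe, hB2⟩ := not_rankLE_iff.1 hr
  have := Fact.mk hp
  have hB' : P2Elem p B B := ⟨le_rfl, hBe, hB2⟩
  have hpa : p ∈ alpha M := Malpha_isPi M p hp (hB'.mono (hB.trans inf_le_left)).dvd_card
  by_cases hU : InUniqueMaximal B
  · exact InUniqueMaximal.mono hU (hB.trans (inf_le_inf_right _ (Malpha_le M))) hne
  have hC : PRankLE p 2 𝐂(B) := by_contra fun h =>
    hU (cent_rank3_Uniqueness hG B (hM.loc (hB.trans (inf_le_left.trans (Malpha_le M))))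
      hB'.not_rank' (not_rankLE_of_not_pRankLE h))
  obtain ⟨P, hP, hXP, hBP⟩ := exists_inv_sylow_ge (hXM.trans (le_norm_Malpha M))
    (coprime_of_isPi (Malpha_isPi M) hX).symm (Or.inl (mFT_sol hG (ne_top_of_le_ne_top hM.1 hXM)))
    hB'.isPGroup (hB.trans inf_le_left)
    ((le_centralizer_comm (hB.trans inf_le_right)).trans (cent_le_norm B))
  have h1 := coprime_odd_faithful_cent_abelem (ne_two_of_mem_pi hG
    (mem_pi_of_alpha hG hM.1 hpa)) hP.isPGroup hBP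
    hBe hXP ((Nat.Prime.coprime_iff_not_dvd hp).2 fun h => hX p hp h hpa).symm fun x hx hxp =>
      (hB.trans inf_le_right) (H1.mem_of_card_le hBe hB'.le_cent
        (fun F hF hFe => hB2 ▸ pRankLE_iff.1 hC F hF hFe) hx.2 hxp hx.2)
  have hP' := sylow_of_hall hP (Malpha_Hall hG hM) hpa
  refine rank3_Uniqueness hG _ hne (not_rankLE_of_not_pRankLE (p := p) fun h => hpa.2 ?_)
  exact (pRankLE_iff_of_isSylowIn hP').2 (pRankLE_mono h (le_inf hP'.le (le_centralizer_comm h1)))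

/-- BG 10.4(a). -/
theorem der1_quo_sigma' {p : ℕ} (hp : p ∣ (⁅M, M⁆ : Subgroup G).relIndex M) : p ∉ sigma M :=
  fun h => (Msigma_Hall hG hM).2.2 p h.1 h
    (hp.trans (relIndex_dvd_of_le_left _ (Msigma_der1 hG hM)))

variable {p : ℕ} [hp' : Fact p.Prime] (hp : p ∉ sigma M)
include hp

/-- BG 10.4(b). -/
theorem cent1_sigma'_Zgroup (hϖ : p ∈ ϖ[G]) {P : Subgroup G} (hP : IsSylowIn p P M) (hP1 : P ≠ ⊥) :
    ∃ x ∈ P ⊓ 𝐂(P), orderOf x = p ∧ ¬ UniqMax 𝐂[x] M ∧ IsZGroup ↥(alphaCore M ⊓ 𝐂[x]) := by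
  obtain ⟨u, hu, huM⟩ := SetLike.not_le_iff_exists.1 fun h =>
    hp (sigma_of_norm_sylow hϖ hP hP1 h)
  have key : ∃ x ∈ P ⊓ 𝐂(P), orderOf x = p ∧ ¬ UniqMax 𝐂[x] M := by
    by_contra! h
    obtain ⟨Z, hZ, hZp⟩ := exists_center_prime hP.isPGroup hP1
    obtain ⟨y, hy, hy1⟩ := exists_mem_ne_one (ne_bot_of_card_prime hZp)
    have ho := orderOf_eq_prime (pow_eq_one_of_card_prime hZp hy) hy1
    have h1 := (h y (hZ hy) ho).cj u
    rw [cj_cent1] at h1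
    have h2 := h (u * y * u⁻¹) (conj_mem_of_mem_normalizer
      (Cop.le_normalizer_inf_centralizer le_rfl le_rfl hu) (hZ hy))
      (by rw [← MulAut.conj_apply, MulEquiv.orderOf_eq, ho])
    exact huM ((norm_mmax hG hM).le (mem_normalizer_of_map_conj_eq (h1.eq hM h2.le).symm))
  obtain ⟨x, hx, ho, hU⟩ := key
  refine ⟨x, hx, ho, hU, isZGroup_of_rank1 (hM.odd hG
    (inf_le_left.trans (Malpha_le M))) (by_contra fun hr => hU ?_)⟩
  rw [← H1.centralizer_zpowers_eq] at hr ⊢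
  have h1 := cent_alpha'_uniq hG hM (zpowers_le.2 (hP.le hx.1)) (isPi_of_card_prime
    (by rw [Nat.card_zpowers, ho]) fun h => hp (alpha_sub_sigma hG hM h)) hr
  refine (uniqMax_of_inUniq h1 hM inf_le_left).mono inf_le_right (mFT_cent_proper hG ?_
    (isPi_of_card_prime (by rw [Nat.card_zpowers, ho]) hϖ))
  exact ne_bot_of_card_prime (p := p) (by rw [Nat.card_zpowers, ho])

/-- `r_p(M) ≤ 2` for `p ∉ σ(M)`. -/
theorem sigma'_rank_le2 : PRankLE p 2 M :=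
  by_contra fun h => hp (alpha_sub_sigma hG hM ⟨hp'.out, h⟩)

/-- BG 10.4(c), part 1. -/
theorem sigma'_rank2_max {A : Subgroup G} (hA : P2Elem p A M) : PMaxElem p A := fun B hB hAB =>
  by_contra fun hne => by
    have hlt := lt_of_le_of_ne hAB (Ne.symm hne)
    have h1 := InUniqueMaximal.le (nonmaxElem2_Uniqueness hG p
      (mem_pi_of_p2Elem hG hM.1 hA) A B hA.2.2 hB hlt) hM hA.1
      (mFT_pgroup_proper hG (mem_pi_of_p2Elem hG hM.1 hA) (elemAb_isPGroup hB)) hAB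
    exact not_pRankLE_of_le h1 hB (hA.2.2 ▸ card_lt_card_of_lt hlt) (sigma'_rank_le2 hG hM hp)

/-- BG 10.4(c), part 2. -/
theorem sigma'_rank2_beta' (hr : ¬ PRankLE p 1 M) : ¬ IsIdealPrime p G := fun h => by
  obtain ⟨A, hA⟩ := exists_p2Elem hr
  obtain ⟨S, hS⟩ := hA.isPGroup.exists_le_sylow
  obtain ⟨B, -, hB, hlt⟩ := h.2.2 S A hS hA.2.1 hA.2.2
  exact hlt.ne' (sigma'_rank2_max hG hM hp hA B hB hlt.le)

/-- BG 10.5, part 1: `r_p(M) = 2` (see `sigma'_rank_le2` for the other inequality). -/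
theorem sigma'_norm_mmax_rank2 (hϖ : p ∈ ϖ[G]) {X : Subgroup G} (hX : IsPGroup p X) (hN : 𝐍(X) ≤ M) :
    ¬ PRankLE p 1 M := fun hr => by
  obtain ⟨P, hXP, hP⟩ := IsSylowIn.exists_ge hX (le_normalizer.trans hN)
  have h1 : P ≠ ⊥ := ne_bot_of_le_ne_bot (ne_bot_of_norm_le (hM.ne_top hG) hN) hXP
  exact hp (sigma_of_norm_sylow hϖ hP h1 ((norm_le_norm_of_cyclic
    (cyclic_of_rank1 (hM.odd hG hP.le) hP.isPGroup (pRankLE_mono hr hP.le)) hXP).trans hN))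

/-- BG 10.5, part 2. -/
theorem sigma'1Elem_sub_p2Elem (hϖ : p ∈ ϖ[G]) {X : Subgroup G} (hX : Nat.card X = p) (hN : 𝐍(X) ≤ M) :
    ∃ A, P2Elem p A M ∧ X ≤ A := by
  obtain ⟨P, hXP, hP⟩ := IsSylowIn.exists_ge (isPGroup_of_card_prime hX) (le_normalizer.trans hN)
  obtain ⟨Z, hZ, hZp⟩ := exists_center_prime hP.isPGroup
    (ne_bot_of_le_ne_bot (ne_bot_of_card_prime hX) hXP)
  by_cases h : X = Z
  · obtain ⟨A, hA⟩ := exists_p2Elem (mt (pRankLE_iff_of_isSylowIn hP).2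
      (sigma'_norm_mmax_rank2 hG hM hp hϖ (isPGroup_of_card_prime hX) hN))
    refine ⟨A, hA.mono hP.le, fun x hx => (sigma'_rank2_max hG hM hp (hA.mono hP.le)).mem hA.2.1
      (centralizer_antitone hA.1 (hZ (h ▸ hx)).2) (pow_eq_one_of_card_prime hX hx)⟩
  · exact ⟨_, p2Elem_sup hX hZp h ((hZ.trans inf_le_right).trans (centralizer_antitone hXP))
      (hXP.trans hP.le) ((hZ.trans inf_le_left).trans hP.le), le_sup_left⟩

end OneMaximal

end CfsgLib.FT.PG
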