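import Mathlib
import Cfsg.Agent.Lib.PG.BG10a
import Cfsg.Agent.Lib.FT.BG3
import Cfsg.Agent.Lib.FT.BG10b

/-! Bender–Glauberman, section 10, results 10.6–10.9. -/

set_option autoImplicit false
set_option linter.unusedSectionVars false



namespace CfsgLib.FT.PG

open Subgroup Cfsg BGN
open scoped commutatorElement

variable {G : Type*} [Group G] [PiCtx G] [Finite G]

/-- BG 10.6. -/
theorem mFT_proper_plength1 (hG : PGHyp G) (p : ℕ) [hp : Fact p.Prime]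
    {H : Subgroup G} (hH : Loc H) : PLengthLE p 1 H := by
  obtain ⟨M, hM, hHM⟩ := mmax_exists hH
  refine H9.pLengthLE_of_injective ?_ _ (inclusion_injective hHM)
  have hs := mFT_sol hG hM.1
  by_cases hr : PRankLE p 2 M
  · exact rank2_plength1 hs (mFT_odd hG hM.1) hr
  have ha := Malpha_Hall hG hM
  have hsa := mFT_sol hG (ne_top_of_le_ne_top hM.1 (Malpha_le M))
  obtain ⟨K, hK⟩ := Hall.exists_isPiHallOf hs (alpha M)ᶜ
  have hcop := (coprime_of_isPi (Malpha_isPi M) (hall_isPi hK)).symm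
  have hKa := hK.1.trans (le_norm_Malpha M)
  have h1 := (coprime_der1_sdprod hsa hKa hcop (by
    rw [hall_sup_compl ha hK]; exact (Malpha_sub_Msigma hG hM).trans (Msigma_der1 hG hM))).1
  obtain ⟨q, hq, hqd⟩ := exists_prime_dvd_der1_index hs (mmax_neq_bot hG hM)
  have := Fact.mk hq
  have hqs := der1_quo_sigma' hG hM hqd
  obtain ⟨Q, hQ⟩ := IsSylowIn.exists_in (p := q) K
  have hQ' := sylow_of_hall hQ hK fun h => hqs (alpha_sub_sigma hG hM h)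
  have hQ1 := hQ'.ne_bot (dvd_card_of_dvd_relIndex hqd)
  obtain ⟨x, hx, ho, hZ⟩ : ∃ x ∈ Q, orderOf x = q ∧ IsZGroup ↥(alphaCore M ⊓ 𝐂[x]) := by
    by_cases hϖ : q ∈ ϖ[G]
    · obtain ⟨x, hx, ho, -, hZ⟩ := cent1_sigma'_Zgroup hG hM hqs hϖ hQ' hQ1
      exact ⟨x, hx.1, ho, hZ⟩
    · obtain ⟨Z, hZ, hZp⟩ := exists_center_prime hQ'.isPGroup hQ1
      obtain ⟨y, hy, hy1⟩ := exists_mem_ne_one (ne_bot_of_card_prime hZp)
      have ho := orderOf_eq_prime (pow_eq_one_of_card_prime hZp hy) hy1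
      refine ⟨y, (hZ hy).1, ho, ?_⟩
      rw [inf_cent1_eq_bot_of_not_pi hG (pi_of_sigma (isPiSubgroup_mono (Malpha_isPi M)
        (alpha_sub_sigma hG hM))) fun h => hϖ (h q hq ho.symm.dvd)]
      infer_instance
  have h2 := odd_sdprod_Zgroup_cent_prime_plength1 hsa (hM.odd hG (Malpha_le M)) (hM.odd hG hK.1)
    hKa hcop (zpowers_le.2 (hQ.le hx)) (by rwa [Nat.card_zpowers, ho])
    (by rwa [H1.centralizer_zpowers_eq]) p
  rw [h1] at h2
  refine H9.pLengthLE_of_normal_coprime (piCore (alpha M) M) (H9.pLengthLE_of_injective h2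
    (((piCore (alpha M) M).equivMapOfInjective _ M.subtype_injective).toMonoidHom)
    (MulEquiv.injective _)) ?_
  rw [← relIndex_piCoreOf]
  exact ((Nat.Prime.coprime_iff_not_dvd hp.out).2 (ha.2.2 p hp.out ⟨hp.out, hr⟩)).symm

section OneSylow

variable (hG : PGHyp G) {p : ℕ} [Fact p.Prime] (hϖ : p ∈ ϖ[G]) {P : Subgroup G}
  (hP : IsSylowIn p P ⊤)
include hG hϖ hP

theorem exists_mmax_norm_sylow (h1 : P ≠ ⊥) :
    ∃ M, Mx M ∧ 𝐍(P) ≤ M ∧ IsSylowIn p P M ∧ p ∈ sigma M := by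
  obtain ⟨M, hM, h⟩ := mmax_exists (loc_norm_pgroup hϖ hP.isPGroup h1)
  have := hP.mono (le_normalizer.trans h) le_top
  exact ⟨M, hM, h, this, sigma_of_norm_sylow hϖ this h1 h⟩

/-- BG 10.7(a), second part. -/
theorem mFT_Sylow_der1 : P ≤ ⁅𝐍(P), 𝐍(P)⁆ := by
  by_cases h1 : P = ⊥
  · exact h1.le.trans bot_le
  obtain ⟨M, hM, h, hPM, hp⟩ := exists_mmax_norm_sylow hG hϖ hP h1
  exact (plength1_Sylow_sub_der1 (mFT_proper_plength1 hG p hM.1) hPM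
    (sigma_Sylow_der1 hG hM hp hPM)).trans (commutator_mono inf_le_right inf_le_right)

theorem mFT_Sylow_hall_commg {V : Subgroup G} (hV : IsPiHallOf {p}ᶜ V 𝐍(P)) :
    ⁅P, V⁆ = P ∧ P ⊓ 𝐂(V) ≤ ⁅P, P⁆ :=
  coprime_der1_sdprod (Cop.solvable_of_isPGroup hP.isPGroup) hV.1
    (coprime_of_isPGroup_of_isPi hP.isPGroup (hall_isPi hV) (by simp)).symm
    (by rw [hall_sup_compl (sylow_iff_hall.1 (hP.mono le_normalizer le_top)) hV]
        exact mFT_Sylow_der1 hG hϖ hP)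

/-- BG 10.7(a), first part. -/
theorem mFT_Sylow_sdprod_commg {V : Subgroup G} (hV : IsComplIn P V 𝐍(P)) : ⁅P, V⁆ = P :=
  (mFT_Sylow_hall_commg hG hϖ hP (hall_compl_of_compl
    (sylow_iff_hall.1 (hP.mono le_normalizer le_top)) hV.2.1 (IsComplIn.sup_eq' hV) hV.2.2.1)).1

/-- BG 10.7(b). -/
theorem mFT_rank2_Sylow_cprod (hr : PRankLE p 2 P) (hna : ¬ IsMulCommutative P) :
    ∃ S C : Subgroup G, S ⊔ C = P ∧ C ≤ 𝐂(S) ∧ ¬ IsMulCommutative S ∧ Nat.card S = p ^ 3 ∧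
      (∀ x ∈ S, x ^ p = 1) ∧ IsCyclic C ∧ omegaOne p C = S ⊓ 𝐂(S) := by
  have h1 : P ≠ ⊥ := by rintro rfl; exact hna inferInstance
  have hL := loc_norm_pgroup hϖ hP.isPGroup h1
  obtain ⟨V, hV⟩ := Hall.exists_isPiHallOf (mFT_sol hG hL) {p}ᶜ
  obtain ⟨S, C, h2, h3, h4, h5, h6, h7, h8⟩ := (rank2_coprime_comm_cprod
    (ne_two_of_mem_pi hG hϖ) hP.isPGroup h1 hr hV.1
    (coprime_iff_isPiSubgroup.2 (hall_isPi hV)) (mFT_odd hG (hL.mono hV.1))
    (mFT_Sylow_hall_commg hG hϖ hP hV).1).2.resolve_left hna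
  refine ⟨S, C, h2, fun c hc s hs => h3 s hs c hc, h4, h5, fun x hx => ?_, h7,
    h8.trans (extraspecial_commutator_eq (isExtraspecial_of_card_eq_cube h5 h4))⟩
  have := Monoid.pow_exponent_eq_one (⟨x, hx⟩ : S)
  rw [h6] at this
  exact congrArg Subtype.val this

/-- BG 10.7(c). -/
theorem mFT_sub_Sylow_trans {Q : Subgroup G} {x : G} (hQ : Q ≤ P) (hx : x •ᶜ Q ≤ P) :
    ∃ y ∈ 𝐍(P), x •ᶜ Q = y •ᶜ Q := by
  by_cases h1 : P = ⊥
  · rw [h1, le_bot_iff] at hQ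
    exact ⟨1, one_mem _, by rw [hQ, Subgroup.map_bot, Subgroup.map_bot]⟩
  obtain ⟨M, hM, h, hPM, hp⟩ := exists_mmax_norm_sylow hG hϖ hP h1
  obtain ⟨m, hm, c, hc, rfl⟩ := (sigma_group_trans hG hM hp (hP.isPGroup.to_le hQ)).1 x
    (hQ.trans hPM.le) (hx.trans hPM.le)
  rw [← cj_cj, cj_eq_of_mem_cent hc] at hx ⊢
  obtain ⟨g, hg, c', hc', rfl⟩ := plength1_Sylow_trans (mFT_proper_plength1 hG p hM.1) hPM
    (Y := Q) hQ hm fun y hy => hx (conj_mem_map_conj hy)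
  exact ⟨g, hg.2, by rw [← cj_cj, cj_eq_of_mem_cent hc'.2]⟩

/-- BG 10.7(d). -/
theorem mFT_subnorm_Sylow {Q : Subgroup G} (hQ : Q ≤ P) : IsSylowIn p (P ⊓ 𝐍(Q)) 𝐍(Q) := by
  obtain ⟨R, hQR, hR⟩ := IsSylowIn.exists_ge (hP.isPGroup.to_le hQ) le_normalizer
  obtain ⟨x, -, hx⟩ := hP.exists_conj_le hR.isPGroup le_top
  obtain ⟨y, hy, e⟩ := mFT_sub_Sylow_trans hG hϖ hP hQ ((map_mono hQR).trans hx)
  rw [cj_eq_iff, cj_cj, eq_comm, cj_eq_iff] at e
  refine hR.of_card_le hP.isPGroup.to_inf_left inf_le_right ?_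
  rw [← card_map_conj (x⁻¹ * y)⁻¹ R]
  refine card_le_of_le (le_inf ?_ (cj_le_of_norm hR.le (le_normalizer
    (mem_normalizer_of_map_conj_eq e.symm))))
  rw [mul_inv_rev, inv_inv, ← cj_cj]
  exact cj_le_of_norm hx (inv_mem hy)

/-- BG 10.7(e). -/
theorem mFT_Sylow_normalJ {Q R : Subgroup G} (hR : IsPGroup p R) (hQ : Q ≤ P ⊓ R)
    (hN : 𝐍(P) ≤ 𝐍(Q)) : 𝐍(R) ≤ 𝐍(Q) := fun g hg => by
  have key : ∀ x : G, x •ᶜ R ≤ P → x ∈ 𝐍(Q) := fun x hx => by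
    obtain ⟨y, hy, e⟩ := mFT_sub_Sylow_trans hG hϖ hP (hQ.trans inf_le_left)
      ((map_mono (hQ.trans inf_le_right)).trans hx)
    exact mem_normalizer_of_map_conj_eq (e.trans (map_conj_eq_of_mem_normalizer (hN hy)))
  obtain ⟨x, -, hx⟩ := hP.exists_conj_le hR le_top
  exact (𝐍(Q).mul_mem_cancel_left (key x hx)).1
    (key _ (by rwa [← cj_cj, map_conj_eq_of_mem_normalizer hg]))

end OneSylow

section MaxBeta

variable (hG : PGHyp G) {M : Subgroup G} (hM : Mx M)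
include hG hM

/-- BG 10.8(c). -/
theorem beta_max_pdiv {p : ℕ} [hp' : Fact p.Prime] (hp : p ∉ beta M) :
    IsPiHallOf {p}ᶜ (piCoreOf {p}ᶜ ⁅M, M⁆) ⁅M, M⁆ ∧
      IsPiHallOf {p}ᶜ (piCoreOf {p}ᶜ (sigmaCore M)) (sigmaCore M) ∧
      ∀ q : ℕ, q.Prime → q ∣ (piCoreOf {p}ᶜ M).relIndex M → q ≤ p := by
  suffices h : IsPiHallOf {p}ᶜ (piCoreOf {p}ᶜ ⁅M, M⁆) ⁅M, M⁆ ∧
      ∀ q : ℕ, q.Prime → q ∣ (piCoreOf {p}ᶜ M).relIndex M → q ≤ p from
    ⟨h.1, hall_piCoreOf_of_le h.1 (Msigma_der1 hG hM), h.2⟩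
  by_cases hd : p ∣ Nat.card M
  · have := mFT_sol hG hM.1
    obtain ⟨S⟩ : Nonempty (Sylow p M) := inferInstance
    have hn : IsNarrow p ((S : Subgroup M).map M.subtype) := by_contra fun h =>
      hp ((mem_beta_iff_not_narrow hG hM (IsSylowIn.of_sylow_subgroup S)).2 h)
    have h := narrow_der1_complement_max_pdiv (mFT_odd hG hM.1) hd S (isNarrow_of_map hn)
      fun _ => mFT_proper_plength1 hG p hM.1
    refine ⟨hall_of_hnpc (map_subtype_der M ▸ (PCompl.hnpc_map_subtype_iff _).2 h.2.2.1),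
      fun q hq hqd => h.1 q hq ?_⟩
    rwa [relIndex_piCoreOf, ← pPrimeCore_eq_piCore] at hqd
  · have h1 := isPi_compl_of_not_dvd hd
    have h2 := isPiSubgroup_of_le h1 (der_le M)
    rw [piCoreOf_eq_self h1, piCoreOf_eq_self h2, relIndex_self]
    exact ⟨hall_self h2, fun q hq h => absurd (Nat.dvd_one.1 h) hq.one_lt.ne'⟩
where
  isNarrow_of_map {p : ℕ} {M : Subgroup G} {S : Subgroup M} (h : IsNarrow p (S.map M.subtype)) :
      IsNarrow p S := by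
    have e := (S.equivMapOfInjective _ M.subtype_injective).symm
    rcases h with h | ⟨R₀, R₁, h1, h2, h3, h4, h5⟩
    · exact Or.inl ((pRankLE_congr e).1 h)
    · refine Or.inr ⟨R₀.map e.toMonoidHom, R₁.map e.toMonoidHom,
        by rw [← h1]; exact card_map_of_injective e.injective,
        (R₁.equivMapOfInjective _ e.injective).isCyclic.1 h2,
        by rw [← map_inf _ _ _ e.injective, h3, Subgroup.map_bot], ?_, ?_⟩
      · rintro _ ⟨a, ha, rfl⟩ _ ⟨b, hb, rfl⟩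
        rw [← map_mul, h4 a ha b hb, map_mul]
      · rw [← Subgroup.map_sup, h5]
        ext x
        obtain ⟨y, rfl⟩ := e.surjective x
        simp only [mem_map, MulEquiv.coe_toMonoidHom, EmbeddingLike.apply_eq_iff_eq,
          exists_eq_right, mem_centralizer_iff, SetLike.mem_coe, forall_exists_index, and_imp,
          forall_apply_eq_imp_iff₂, ← map_mul]

theorem Mbeta_aux : NilMod ⁅M, M⁆ (betaCore M) ∧
    ∀ U ≤ ⁅M, M⁆, IsPiSubgroup (beta M) U → U ≤ betaCore M := by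
  have h1 : ⁅M, M⁆ ⊓ ⨅ p : {p : ℕ // p.Prime ∧ p ∉ beta M}, piCoreOf {p.1}ᶜ ⁅M, M⁆ ≤ betaCore M :=
    le_piCoreOf (inf_le_left.trans (der_le M)) (le_normalizer_inf (le_norm_der M)
      (le_norm_iInf fun _ => (le_norm_der M).trans (norm_le_norm_piCoreOf _ _)))
      fun q hq hd => by_contra fun h => piCoreOf_isPi {q}ᶜ _ q hq
        (hd.trans (card_dvd_of_le (inf_le_right.trans (iInf_le_of_le ⟨q, hq, h⟩ le_rfl)))) rfl
  refine ⟨(nilMod_iInf fun p => ?_).inf.mono le_rfl h1,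
    fun U hU hπ => (le_inf hU (le_iInf fun p => ?_)).trans h1⟩
  · have := Fact.mk p.2.1
    exact nilMod_of_hall_compl (beta_max_pdiv hG hM p.2.2).1 (le_norm_piCoreOf _ _)
  · have := Fact.mk p.2.1
    exact le_hall_of_norm (beta_max_pdiv hG hM p.2.2).1
      (isPiSubgroup_mono hπ fun q hq e => p.2.2 (Set.mem_singleton_iff.1 e ▸ hq)) hU
      (hU.trans (le_norm_piCoreOf _ _))

/-- BG 10.8(a), part 1. -/
theorem Mbeta_Hall : IsPiHallOf (beta M) (betaCore M) M := by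
  obtain ⟨H, hH⟩ := Hall.exists_isPiHallOf (mFT_sol hG hM.1) (beta M)
  exact hall_of_le_of_isPi hH (Mbeta_isPi M) ((Mbeta_aux hG hM).2 H (sigma_sub_der1 hG hM hH.1
    (isPiSubgroup_mono (hall_isPi hH) (beta_sub_sigma hG hM))) (hall_isPi hH)) (Mbeta_le M)

/-- BG 10.8(a), part 2. -/
theorem Mbeta_Hall_G : IsPiHall (beta M) (betaCore M) :=
  sigma_hall_G (beta_sub_sigma hG hM) (Mbeta_Hall hG hM)

theorem Mbeta_der1 : betaCore M ≤ ⁅M, M⁆ := (Mbeta_sub_Msigma hG hM).trans (Msigma_der1 hG hM)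

theorem le_Mbeta {H : Subgroup G} (hH : H ≤ M) (h : IsPiSubgroup (beta M) H) :
    H ≤ betaCore M := le_hall_of_norm (Mbeta_Hall hG hM) h hH (hH.trans (le_norm_Mbeta M))

/-- BG 10.8(b), equivalent form: `M' / M_β` is nilpotent. -/
theorem Mbeta_quo_nil : NilMod ⁅M, M⁆ (betaCore M) := (Mbeta_aux hG hM).1

/-- BG 10.8(b), for arbitrary `β(M)'`-subgroups of `M'`. -/
theorem beta'_der1_nil {H : Subgroup G} (hH : IsPiSubgroup (beta M)ᶜ H) (hHM : H ≤ ⁅M, M⁆) :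
    Group.IsNilpotent H :=
  (Mbeta_quo_nil hG hM).nil_of_inf hHM
    (by rw [inf_comm]; exact inf_eq_bot_of_isPi (Mbeta_isPi M) hH)

/-- The Frattini argument for a Sylow subgroup of `M'`. -/
theorem Mbeta_sup_norm_sylow {q : ℕ} [Fact q.Prime] {X : Subgroup G} (hX : IsSylowIn q X ⁅M, M⁆) :
    betaCore M ⊔ (M ⊓ 𝐍(X)) = M :=
  (Mbeta_quo_nil hG hM).frattini (Mbeta_der1 hG hM) (der_le M) hX (le_norm_der M) (le_norm_Mbeta M)

theorem beta'_cent_Sylow_der1 {p q : ℕ} [hp' : Fact p.Prime] [hq' : Fact q.Prime]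
    (hp : p ∉ beta M) (hq : q ∉ beta M) {X : Subgroup G} (hX : IsPGroup q X)
    (h : (p ≠ q ∧ X ≤ ⁅M, M⁆) ∨ (p < q ∧ X ≤ M)) : ∃ P, IsSylowIn p P ⁅M, M⁆ ∧ X ≤ 𝐂(P) := by
  have hXM : X ≤ M := h.elim (fun h => h.2.trans (der_le M)) fun h => h.2
  have hY : X ⊔ ⁅M, M⁆ ≤ M := sup_le hXM (der_le M)
  obtain ⟨W, hW, hXW⟩ := Hall.exists_hallOf_ge (π := {p, q})
    (mFT_sol hG (ne_top_of_le_ne_top hM.1 hY)) (isPi_of_isPGroup hX (by simp)) le_sup_left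
  have hWn := (hW.1.trans hY).trans (le_norm_der M)
  have hW' := hall_inf hW le_sup_right (Or.inl hWn)
  have hnil := beta'_der1_nil hG hM (isPiSubgroup_mono (hall_isPi hW') (by
    rintro r (rfl | rfl) <;> assumption)) inf_le_right
  obtain ⟨P, hP⟩ := IsSylowIn.exists_in (p := p) (W ⊓ ⁅M, M⁆)
  refine ⟨P, sylow_of_hall hP hW' (by simp), ?_⟩
  rcases h with h | h
  · exact le_cent_of_nil hnil (le_inf hXW h.2) hP.le
      (coprime_of_isPGroup_ne hX hP.isPGroup h.1.symm)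
  · have h1 : X ≤ piCoreOf {p}ᶜ M := le_of_isPi_of_relIndex (π := {q}) hXM (le_norm_piCoreOf _ _)
      (isPi_of_isPGroup hX rfl) fun r hr hd e =>
        h.1.not_ge (Set.mem_singleton_iff.1 e ▸ (beta_max_pdiv hG hM hp).2.2 r hr hd)
    have h2 : X ≤ 𝐍(P) := (hXW.trans (le_normalizer_inf le_normalizer hWn)).trans
      (norm_le_norm_sylow_of_nil hnil hP)
    rw [← comm_eq_bot_iff, ← le_bot_iff, ← inf_eq_bot_of_cop
      (coprime_of_isPGroup_of_isPi hP.isPGroup (piCoreOf_isPi {p}ᶜ M) (by simp))]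
    exact le_inf (comm_le_right h2) ((commutator_mono h1 le_rfl).trans
      (Cop.commutator_le_left_of_le_normalizer
        (((hP.le.trans inf_le_right).trans (der_le M)).trans (le_norm_piCoreOf _ _))))

/-- BG 10.9(a). -/
theorem beta'_cent_Sylow {p q : ℕ} [Fact p.Prime] [Fact q.Prime] (hp : p ∉ beta M)
    (hq : q ∉ beta M) {X : Subgroup G} (hX : IsPGroup q X)
    (h : (p ≠ q ∧ X ≤ ⁅M, M⁆) ∨ (p < q ∧ X ≤ M)) :
    (∃ P, IsSylowIn p P (sigmaCore M) ∧ X ≤ 𝐂(P)) ∧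
      (p ∈ alpha M → InUniqueMaximal (M ⊓ 𝐂(X))) ∧
      (IsSylowIn q X ⁅M, M⁆ →
        ∃ P, IsSylowIn p P ⁅M, M⁆ ∧ P ≤ ⁅M ⊓ 𝐍(X), M ⊓ 𝐍(X)⁆) := by
  obtain ⟨P, hP, hXP⟩ := beta'_cent_Sylow_der1 hG hM hp hq hX h
  have hPM := hP.le.trans (der_le M)
  have hP' : IsSylowIn p (P ⊓ sigmaCore M) (sigmaCore M) :=
    sylow_inf hP (Msigma_der1 hG hM) (Or.inl (hPM.trans (le_norm_Msigma M)))
  refine ⟨⟨_, hP', hXP.trans (centralizer_antitone inf_le_left)⟩, fun ha => ?_,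
    fun hXs => ⟨P, hP, ?_⟩⟩
  · refine rank3_Uniqueness hG _ (ne_top_of_le_ne_top hM.1 inf_le_left)
      (not_rankLE_of_not_pRankLE (p := p) fun hr => ha.2 ?_)
    exact (pRankLE_iff_of_isSylowIn (sylow_of_hall hP' (Msigma_Hall hG hM)
      (alpha_sub_sigma hG hM ha))).2
      (pRankLE_mono hr (inf_le_left.trans (le_inf hPM (le_centralizer_comm hXP))))
  · have := pprod_focal_coprime (inf_le_left.trans (le_norm_Mbeta M))
      (le_inf hPM ((le_centralizer_comm hXP).trans (cent_le_norm X)))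
      (coprime_of_isPGroup_of_isPi hP.isPGroup (Mbeta_isPi M) hp)
    rw [Mbeta_sup_norm_sylow hG hM hXs, inf_eq_left.2 hP.le] at this
    exact this.le.trans inf_le_right

/-- BG 10.9(b). -/
theorem nonuniq_norm_Sylow_pprod {H : Subgroup G} (hH : Mx H) (hHM : H ≠ M) {p : ℕ}
    [Fact p.Prime] (hϖ : p ∈ ϖ[G]) {S : Subgroup G} (hS : IsSylowIn p S ⊤) (hN : 𝐍(S) ≤ H ⊓ M) :
    betaCore M ⊔ (H ⊓ M) = M ∧ alpha M = beta M := by
  have hNM := hN.trans inf_le_right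
  have hSM := hS.mono (le_normalizer.trans hNM) le_top
  have hS' := sigma_Sylow_der1 hG hM (sigma_of_norm_sylow hϖ hSM
    (ne_bot_of_norm_le (hM.ne_top hG) hNM) hNM) hSM
  have hpa : p ∉ alpha M := fun ha => hHM (InUniqueMaximal.eq (rank3_Uniqueness hG S
    (hM.loc hSM.le) (not_rankLE_of_not_pRankLE (p := p) fun hr =>
      ha.2 ((pRankLE_iff_of_isSylowIn hSM).2 hr))) hM hSM.le hH
      (le_normalizer.trans (hN.trans inf_le_left)))
  refine ⟨le_antisymm (sup_le (Mbeta_le M) inf_le_right) ((Mbeta_sup_norm_sylow hG hM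
    (hSM.mono hS' (der_le M))).ge.trans (sup_le_sup_left (inf_le_right.trans hN) _)),
    Set.Subset.antisymm (fun q hq => by_contra fun hqb => ?_) (beta_sub_alpha M)⟩
  have := Fact.mk hq.1
  exact hHM (InUniqueMaximal.eq ((beta'_cent_Sylow hG hM hqb (fun h => hpa h.1) hS.isPGroup
    (Or.inl ⟨fun e => hpa (e ▸ hq), hS'⟩)).2.1 hq) hM inf_le_left hH
    (inf_le_right.trans ((cent_le_norm S).trans (hN.trans inf_le_left))))

end MaxBeta

end CfsgLib.FT.PG
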