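import Mathlib
import Cfsg.Agent.Lib.PG.BG10b
import Cfsg.Agent.Lib.FT.BG10c

/-! Bender–Glauberman, section 10, results 10.10–10.14. -/

set_option autoImplicit false
set_option linter.unusedSectionVars false



namespace CfsgLib.FT.PG

open Subgroup Cfsg BGN
open scoped commutatorElement

variable {G : Type*} [Group G] [PiCtx G] [Finite G]

/-- BG 10.10. -/
theorem max_normed_2Elem_signaliser (hG : PGHyp G) {p q : ℕ} [hp : Fact p.Prime]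
    [hq : Fact q.Prime] (hϖ : p ∈ ϖ[G]) (hpq : p ≠ q) {A Q : Subgroup G} (hA : P2Elem p A ⊤) (hAm : PMaxElem p A)
    (hQ : Q ∈ maxInvSubgroups ⊤ A {q}) (hqC : q ∣ Nat.card 𝐂(A)) :
    ∃ P, IsSylowIn p P ⊤ ∧ A ≤ P ∧
      piCoreOf {p}ᶜ 𝐂(P) ⊔ (𝐍(P) ⊓ 𝐍(Q)) = 𝐍(P) ∧ P ≤ ⁅𝐍(Q), 𝐍(Q)⁆ ∧
      (IsNarrow q Q → P ≤ 𝐂(Q)) := by
  have hT := normed_constrained_of_plength1_or_SCN hG p hϖ (by simpa using hA.dvd_card) A
    hA.isPGroup hA.comm (hA.of_le le_rfl).not_rank (Or.inl ⟨fun x hx => ⟨hAm.mem hA.2.1 hx, hA.2.1.2 x⟩,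
      fun H hH => mFT_proper_plength1 hG p hH⟩)
  have hqA : ¬ q ∣ Nat.card A := fun h => hpq ((Nat.prime_dvd_prime_iff_eq hq.out hp.out).1
    (hq.out.dvd_of_dvd_pow (hA.2.2 ▸ h))).symm
  have htr := normed_constrained_rank2_trans hG A hT
    (by rw [inf_eq_left.2 hA.le_cent]; exact (hA.of_le le_rfl).not_rank') q hq.out hqA hqC
  have key := fun (P : Subgroup G) (hP : IsPGroup p P) (hAP : A ≤ P) =>
    normed_trans_superset hG A hT q hq.out hqA P (mFT_pgroup_proper hG hϖ hP)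
      (fun r hr hd => by
        rw [isPGroup_iff_isPiSubgroup.1 hP r hr hd, hA.2.2]; exact dvd_pow_self p two_ne_zero)
      hAP (have := isNilpotent_of_isPGroup hP; isSubnormal_of_isNilpotent _) htr
  obtain ⟨P₁, hAP₁, hP₁⟩ := IsSylowIn.exists_ge hA.isPGroup le_top
  obtain ⟨Q₁, hQ₁, -⟩ := exists_maxInv_ge' (A := P₁) (isPiSubgroup_bot {q}) (le_top.trans norm_bot.ge)
  obtain ⟨k, hk, rfl⟩ := htr Q₁ ((key P₁ hP₁.isPGroup hAP₁).2.2.1 hQ₁) Q hQ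
  have hP := hP₁.map_conj k
  rw [cj_top] at hP
  have hAP := le_cj_of_cent hAP₁ (piCoreOf_le _ _ hk)
  obtain ⟨h1, h2⟩ := (key _ hP.isPGroup hAP).2.2.2 _ (maxInv_cj hQ₁ k)
  rw [inf_eq_left.2 (mFT_Sylow_der1 hG hϖ hP)] at h1
  rw [piCoreOf_primesNotDvd hA.2.2] at h2
  refine ⟨_, hP, hAP, h2.symm, h1, fun hn x hx => ?_⟩
  by_cases hQ1 : k •ᶜ Q₁ = ⊥
  · rw [hQ1, cent_bot]; trivial
  have hQq : IsPGroup q (k •ᶜ Q₁) := isPGroup_iff_isPiSubgroup.2 hQ.1.2.1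
  have hqϖ : q ∈ ϖ[G] := pi_cent hG hA.ne_bot (isPi_of_isPGroup hA.isPGroup hϖ) q hq.out hqC
  refine der1_cent_narrow (ne_two_of_mem_pi hG hqϖ) hQq hn le_rfl
    (mFT_sol hG (loc_norm_pgroup hqϖ hQq hQ1)) (mFT_odd hG (loc_norm_pgroup hqϖ hQq hQ1)) (h1 hx) ?_
  obtain ⟨n, hn⟩ := orderOf_eq_pow_of_mem_isPGroup hP.isPGroup hx
  exact hn ▸ ((Nat.coprime_primes hp.out hq.out).2 hpq).pow_left n

theorem rank2_of_sigma' (hG : PGHyp G) {M : Subgroup G} (hM : Mx M)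
    {K : Subgroup G} (hKM : K ≤ M) (hK : IsPiSubgroup (alpha M)ᶜ K) : RankLE 2 K := fun q hq =>
  by_contra fun h => by
    have := Fact.mk hq
    exact hK q hq (dvd_card_of_not_pRankLE h) ⟨hq, fun h' => h (pRankLE_mono h' hKM)⟩

theorem isPi_alpha'_of_sigma' (hG : PGHyp G) {M : Subgroup G} (hM : Mx M)
    {K : Subgroup G} (hK : IsPiSubgroup (sigma M)ᶜ K) : IsPiSubgroup (alpha M)ᶜ K :=
  isPiSubgroup_mono hK (Set.compl_subset_compl.2 (alpha_sub_sigma hG hM))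

theorem isPi_beta'_of_sigma' (hG : PGHyp G) {M : Subgroup G} (hM : Mx M)
    {K : Subgroup G} (hK : IsPiSubgroup (sigma M)ᶜ K) : IsPiSubgroup (beta M)ᶜ K :=
  isPiSubgroup_mono hK (Set.compl_subset_compl.2 (beta_sub_sigma hG hM))

section SigmaPrime

variable (hG : PGHyp G) {M : Subgroup G} (hM : Mx M) {K : Subgroup G}
  (hKM : K ≤ M) (hK : IsPiSubgroup (sigma M)ᶜ K)
include hG hM hKM hK

/-- BG 10.11(a). -/
theorem sigma'_not_uniq (hKϖ : IsPiSubgroup ϖ[G] K) : ¬ InUniqueMaximal K := fun hU => by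
  obtain ⟨E, hE, hKE⟩ := Hall.exists_hallOf_ge (mFT_sol hG hM.1) hK hKM
  obtain ⟨q, hq', Q, hQ, h1, hn⟩ := exists_max_sylow_norm
    (mFT_sol hG (ne_top_of_le_ne_top hM.1 hE.1)) (hM.odd hG hE.1)
    (rank2_of_sigma' hG hM hE.1 (isPi_alpha'_of_sigma' hG hM (hall_isPi hE)))
    (ne_bot_of_le_ne_bot (InUniqueMaximal.ne_bot hG hU) hKE)
  have hq := mem_of_isPi_of_isPGroup hQ.isPGroup h1 (isPiSubgroup_of_le (hall_isPi hE) hQ.le)
  have hqϖ : q ∈ ϖ[G] := by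
    obtain ⟨p, hp, hX1⟩ := exists_pCore_ne_bot' (mFT_sol hG (hM.loc hKM)) (hU.ne_bot hG)
    have hX := piCoreOf_isPGroup (p := p) K
    have hpϖ := mem_pi_of_pgroup hX hX1 (pi_of_le hKϖ (piCoreOf_le _ _))
    have hps := mem_of_isPi_of_isPGroup hX hX1 (isPiSubgroup_of_le hK (piCoreOf_le _ _))
    obtain ⟨A, hA⟩ := exists_p2Elem (mt (pRankLE_iff_of_hall hE hps).2
      (sigma'_norm_mmax_rank2 hG hM hps hpϖ hX (hU.le hM hKM (loc_norm_pgroup hpϖ hX hX1)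
        (le_norm_piCoreOf _ _))))
    by_cases e : q = p
    · exact e ▸ hpϖ
    exact (piOp_of_p2Elem hG (isPi_of_isPGroup hA.isPGroup hpϖ) (hA.of_le le_rfl)).mem
      (fun h => e ((Nat.prime_dvd_prime_iff_eq hq'.out hp.out).1
        (hq'.out.dvd_of_dvd_pow (hA.2.2 ▸ h)))) hQ.isPGroup h1 (hA.1.trans hn)
  exact hq (sigma_of_norm_sylow hqϖ (sylow_of_hall hQ hE hq) h1 (InUniqueMaximal.le hU hM hKM
    (loc_norm_pgroup hqϖ hQ.isPGroup h1) (hKE.trans hn)))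

/-- BG 10.11(b). -/
theorem sub'cent_sigma_rank1 : RankLE 1 ↥(K ⊓ 𝐂(sigmaCore M)) := fun p hp => by_contra fun hr => by
  have := Fact.mk hp
  obtain ⟨A, hA⟩ := exists_p2Elem hr
  have hAK := hA.1.trans inf_le_left
  have hAM := hA.of_le (hAK.trans hKM)
  have hps : p ∉ sigma M := hK p hp (hA.of_le hAK).dvd_card
  have hpϖ := mem_pi_of_p2Elem hG hM.1 hAM
  have hC : RankLE 2 𝐂(A) := by_contra fun h => sigma'_not_uniq hG hM hAM.1
    (isPiSubgroup_of_le hK hAK) (isPi_of_isPGroup hA.isPGroup hpϖ)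
    (cent_rank3_Uniqueness hG A (hM.loc hAM.1) (hA.of_le le_rfl).not_rank' h)
  have hsC := le_centralizer_comm (hA.1.trans inf_le_right)
  have hr2 : RankLE 2 M := fun q hq => by_contra fun h => by
    have := Fact.mk hq
    exact h ((pRankLE_iff_of_hall (Msigma_Hall hG hM) (alpha_sub_sigma hG hM ⟨hq, h⟩)).2
      (pRankLE_mono (hC q hq) hsC))
  obtain ⟨q, hq, Q, hQ, h1, hn⟩ := exists_max_sylow_norm (mFT_sol hG hM.1) (mFT_odd hG hM.1) hr2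
    (mmax_neq_bot hG hM)
  have hNQ := mmax_normal hG hM hQ.le hn h1
  have hqs := sigma_of_norm_sylow (mem_pi_of_pgroup hQ.isPGroup h1
    (pi_of_norm_nil hG hM hQ.le hn (isNilpotent_of_isPGroup hQ.isPGroup))) hQ h1 hNQ.le
  obtain ⟨P, hP, hAP, -, h2, -⟩ := max_normed_2Elem_signaliser hG hpϖ (fun e : p = q => hps (e ▸ hqs))
    (hA.of_le le_top) (sigma'_rank2_max hG hM hps hAM)
    (sylow_mem_maxInv (sigma_Sylow_G hqs hQ) (hAM.1.trans hn))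
    (((pi_Msigma hG hM hq.out).2 hqs).trans (card_dvd_of_le hsC))
  rw [hNQ] at h2
  have hP1 := ne_bot_of_le_ne_bot hA.ne_bot hAP
  have hPM := h2.trans (der_le M)
  refine hps (sigma_of_norm_sylow hpϖ (hP.mono hPM le_top) hP1 (mmax_normal hG hM hPM
    ((le_norm_der M).trans (norm_le_norm_sylow_of_nil (isNilpotent_of_le (fittingOf_nil M)
      (rank2_der1_le_fittingOf (mFT_sol hG hM.1) (mFT_odd hG hM.1) (rankLE_mono hr2 (fittingOf_le M))))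
      (hP.mono h2 le_top))) hP1).le)

/-- BG 10.11(c). -/
theorem sub'cent_sigma_cyclic : IsCyclic ↥(K ⊓ 𝐂(sigmaCore M) ⊓ ⁅M, M⁆) ∧
    M ≤ 𝐍(K ⊓ 𝐂(sigmaCore M) ⊓ ⁅M, M⁆) := by
  have hC : Group.IsNilpotent ↥(⁅M, M⁆ ⊓ 𝐂(sigmaCore M)) :=
    (Malpha_quo_nil hG hM).nil_of_cent inf_le_left ((inf_le_right.trans
      (Malpha_sub_Msigma hG hM)).trans (le_centralizer_comm inf_le_right))
  have hY := piCoreOf_le (sigma M)ᶜ (⁅M, M⁆ ⊓ 𝐂(sigmaCore M))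
  have hr := sub'cent_sigma_rank1 hG hM ((hY.trans inf_le_left).trans (der_le M))
    (piCoreOf_isPi _ _)
  rw [inf_eq_left.2 (hY.trans inf_le_right)] at hr
  have hc := cyclic_of_nil_of_rank1 (hM.odd hG ((hY.trans inf_le_left).trans (der_le M)))
    (isNilpotent_of_le hC hY) hr
  have hle : K ⊓ 𝐂(sigmaCore M) ⊓ ⁅M, M⁆ ≤ _ := le_piCoreOf_of_nil hC
    (le_inf inf_le_right (inf_le_left.trans inf_le_right)) (isPi_inf_left (isPi_inf_left hK))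
  exact ⟨isCyclic_of_le hle, ((Cop.le_normalizer_inf_centralizer (le_norm_der M)
    (le_norm_Msigma M)).trans (norm_le_norm_piCoreOf _ _)).trans (norm_le_norm_of_cyclic hc hle)⟩

/-- BG 10.11(d). -/
theorem commG_sigma'_1Elem_cyclic {p : ℕ} [hp' : Fact p.Prime] (hp : p ∉ sigma M) {P : Subgroup G}
    (hP : Nat.card P = p) (hPM : P ≤ M) (hPK : P ≤ 𝐍(K)) (hreg : sigmaCore M ⊓ 𝐂(P) = ⊥)
    (hKp : ¬ p ∣ Nat.card K) (hKab : IsMulCommutative K) :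
    ⁅K, P⁆ ≤ 𝐂(sigmaCore M) ∧ IsCyclic ↥⁅K, P⁆ ∧ M ≤ 𝐍(⁅K, P⁆) := by
  have h0 : ⁅K, P⁆ ≤ K := Cop.commutator_le_left_of_le_normalizer hPK
  have hP0 : P ≤ 𝐍(⁅K, P⁆) := Cop.le_normalizer_commutator hPK le_normalizer
  have hPs := hPM.trans (le_norm_Msigma M)
  have hcop := coprime_of_isPi (Msigma_isPi M) (isPiSubgroup_of_le hK h0)
  have hnil := prime_Frobenius_sol_kernel_nil (le_normalizer_sup hPs hP0) (hP ▸ hp'.out) (by
    rw [cent_sup_of_inf hPs hP0 ((h0.trans hKM).trans (le_norm_Msigma M)) (inf_eq_bot_of_cop hcop),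
      hreg, Cop.commutator_inf_centralizer_eq_bot hPK
        (hP ▸ (Nat.Prime.coprime_iff_not_dvd hp'.out).2 hKp) hKab, bot_sup_eq])
  have h1 := le_cent_of_nil hnil le_sup_right le_sup_left hcop.symm
  have h2 := sub'cent_sigma_cyclic hG hM hKM hK
  have hle : ⁅K, P⁆ ≤ K ⊓ 𝐂(sigmaCore M) ⊓ ⁅M, M⁆ := le_inf (le_inf h0 h1) (commutator_mono hKM hPM)
  have := h2.1
  exact ⟨h1, isCyclic_of_le hle, h2.2.trans (norm_le_norm_of_cyclic h2.1 hle)⟩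

end SigmaPrime

/-- If `p ∈ σ(M) ∩ σ(H)`, a Sylow `p`-subgroup of `M` has its normalizer in a conjugate of `H`. -/
theorem exists_common_sylow {M H : Subgroup G} {p : ℕ} [Fact p.Prime] (hH : p ∈ sigma H)
    {S : Subgroup G} (hS : IsSylowIn p S ⊤) : ∃ g : G, 𝐍(S) ≤ g •ᶜ H := by
  obtain ⟨T, hT⟩ := IsSylowIn.exists_in (p := p) H
  obtain ⟨g, -, rfl⟩ := hS.exists_conj_eq (sigma_Sylow_G hH hT)
  exact ⟨g, norm_sigma_Sylow (mem_sigma_conj hH g) (hT.map_conj g)⟩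

/-- BG 10.12. -/
theorem sigma_disjoint (hG : PGHyp G) {M H : Subgroup G} (hM : Mx M)
    (hH : Mx H) (hHM : NotConj H M) :
    alphaCore M ⊓ sigmaCore H = ⊥ ∧ Disjoint (alpha M) (sigma H) ∧
      (Group.IsNilpotent (sigmaCore M) →
        sigmaCore M ⊓ sigmaCore H = ⊥ ∧ Disjoint (sigma M) (sigma H)) := by
  have key : ∀ p ∈ sigma M, p ∈ sigma H → p ∉ alpha M ∧ ¬ Group.IsNilpotent (sigmaCore M) := by
    intro p hp hpH
    have := Fact.mk hp.1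
    obtain ⟨S, hS⟩ := IsSylowIn.exists_in (p := p) (sigmaCore M)
    have hS' := sylow_of_hall hS (Msigma_Hall hG hM) hp
    obtain ⟨g, hg⟩ := exists_common_sylow (M := M) hpH (sigma_Sylow_G hp hS')
    have hne := (hHM.cj_left g).ne
    have hgH := isCoatom_map_conj hH g
    refine ⟨fun ha => hne (InUniqueMaximal.eq (rank3_Uniqueness hG S
      (mFT_pgroup_proper hG (mem_pi_of_sigma hp) hS.isPGroup) (not_rankLE_of_not_pRankLE (p := p) fun hr =>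
        ha.2 ((pRankLE_iff_of_isSylowIn hS').2 hr))) hM hS'.le hgH (le_normalizer.trans hg)),
      fun hn => hne ?_⟩
    exact ((hM.le_iff_eq hgH.1).1
      (((le_norm_Msigma M).trans (norm_le_norm_sylow_of_nil hn hS)).trans hg))
  have h1 : Disjoint (alpha M) (sigma H) := Set.disjoint_left.2 fun p hp hpH =>
    (key p (alpha_sub_sigma hG hM hp) hpH).1 hp
  refine ⟨disjoint_of_isPiSubgroup h1 (Malpha_isPi M) (Msigma_isPi H), h1, fun hn => ?_⟩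
  have h2 : Disjoint (sigma M) (sigma H) := Set.disjoint_left.2 fun p hp hpH => (key p hp hpH).2 hn
  exact ⟨disjoint_of_isPiSubgroup h2 (Msigma_isPi M) (Msigma_isPi H), h2⟩

theorem basic_p2maxElem_aux (hG : PGHyp G) {p : ℕ} [Fact p.Prime] (hϖ : p ∈ ϖ[G])
    {A S : Subgroup G} (hA : P2Elem p A S) (hAm : PMaxElem p A) (hS : IsSylowIn p S ⊤)
    (hna : ¬ IsMulCommutative S) : ∃ Z Y : Subgroup G, Z ≤ A ∧ Nat.card Z = p ∧ Z ≤ 𝐂(S) ∧
      IsCyclic Y ∧ Z ≤ Y ∧ A ⊔ Y = S ⊓ 𝐂(A) := by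
  by_cases hr : PRankLE p 2 S
  · obtain ⟨S₁, C, h1, h2, h3, h4, h5, h6, h7⟩ := mFT_rank2_Sylow_cprod hG hϖ hS hr hna
    have hC : C ≤ 𝐂(S) := by
      rw [← h1, cent_sup]; exact le_inf h2 (le_cent_of_cyclic h6 le_rfl le_rfl)
    have hCA := hC.trans (centralizer_antitone hA.1)
    have hZ : omegaOne p C ≤ C := omegaOne_le_iff.2 fun _ h _ => h
    refine ⟨omegaOne p C, C, hAm.omega_le hA.2.1 hCA, ?_, hZ.trans hC, h6, hZ, le_antisymm
      (sup_le (le_inf hA.1 hA.le_cent) (le_inf (h1 ▸ le_sup_right) hCA)) fun x hx => ?_⟩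
    · have := isExtraspecial_of_card_eq_cube h4 h3
      rw [h7, ← extraspecial_commutator_eq this, extraspecial_card_commutator this]
    · obtain ⟨s, hs, c, hc, rfl⟩ := mem_sup_norm (h2.trans (cent_le_norm _)) (h1.ge hx.1)
      exact mul_mem_sup (hAm.mem hA.2.1 ((𝐂(A).mul_mem_cancel_right (hCA hc)).1 hx.2) (h5 s hs)) hc
  · obtain ⟨Z, hZ, hZp⟩ := exists_center_prime hS.isPGroup (ne_bot_of_le_ne_bot hA.ne_bot hA.1)
    have hZS := hZ.trans inf_le_right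
    have hZA : Z ≤ A := fun x hx => hAm.mem hA.2.1 (centralizer_antitone hA.1 (hZS hx))
      (pow_eq_one_of_card_prime hZp hx)
    obtain ⟨A₀, hA₀, hA₀p, hne⟩ := hA.exists_ne' hZp
    have hC : S ⊓ 𝐂(A₀) = S ⊓ 𝐂(A) := by
      rw [← hA.sup_eq hA₀ hZA hA₀p hZp hne, cent_sup, inf_comm 𝐂(A₀), ← inf_assoc,
        inf_eq_left.2 (le_centralizer_comm hZS)]
    have hA₀S := hA₀.trans hA.1
    have hC' : 𝐂(A₀.subgroupOf S).map S.subtype = S ⊓ 𝐂(A) := by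
      rw [map_subtype_centralizer, map_subgroupOf_eq_of_le hA₀S, hC]
    obtain ⟨h1, -, -, h2⟩ := narrow_cent_dprod (ne_two_of_mem_pi hG hϖ) hS.isPGroup hr
      (S := A₀.subgroupOf S) (by rw [card_subgroupOf_of_le hA₀S, hA₀p])
      (by rw [← pRankLE_map_subtype_iff, hC']; exact pRankLE_mono (hAm.rank2_cent hA) inf_le_right)
    have h3 := congrArg (Subgroup.map S.subtype) h2
    rw [Subgroup.map_sup, hC', map_subgroupOf_eq_of_le hA₀S] at h3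
    refine ⟨Z, _, hZA, hZp, hZS, isCyclic_map_subtype_iff.2 h1,
      le_map_of_sgOf_le (hZ.trans inf_le_left) (le_inf ?_ ?_), le_antisymm
      (sup_le (le_inf hA.1 hA.le_cent) (h3 ▸ le_sup_right)) (h3 ▸ sup_le_sup_right hA₀ _)⟩ <;>
    exact fun x hx y _ => Subtype.ext (hZS hx y y.2)

/-- BG 10.13, with `Z₀ = Ω₁(Z(P))`. -/
theorem basic_p2maxElem_structure (hG : PGHyp G) {p : ℕ} [Fact p.Prime] (hϖ : p ∈ ϖ[G])
    {A P : Subgroup G} (hA : P2Elem p A P) (hAm : PMaxElem p A) (hP : IsPGroup p P)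
    (hna : ¬ IsMulCommutative P) :
    (omegaOne p (P ⊓ 𝐂(P)) ≤ A ∧ Nat.card (omegaOne p (P ⊓ 𝐂(P))) = p) ∧
      (∃ Y : Subgroup G, IsCyclic Y ∧ omegaOne p (P ⊓ 𝐂(P)) ≤ Y ∧
        ∀ A₀ ≤ A, Nat.card A₀ = p → A₀ ≠ omegaOne p (P ⊓ 𝐂(P)) →
          A₀ ⊓ Y = ⊥ ∧ A₀ ⊔ Y = P ⊓ 𝐂(A)) ∧
      ∀ A₀ ≤ A, ∀ A₁ ≤ A, Nat.card A₀ = p → Nat.card A₁ = p → A₀ ≠ omegaOne p (P ⊓ 𝐂(P)) →
        A₁ ≠ omegaOne p (P ⊓ 𝐂(P)) → ∃ x ∈ P ⊓ 𝐍(A), A₁ = x •ᶜ A₀ := by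
  obtain ⟨S, hPS, hS⟩ := IsSylowIn.exists_ge hP le_top
  obtain ⟨Z, Y, hZA, hZp, hZS, hY, hZY, hC⟩ := basic_p2maxElem_aux hG hϖ (hA.mono hPS) hAm hS
    fun h => hna (comm_of_le h hPS)
  have hYA : Y ≤ 𝐂(A) := le_sup_right.trans (hC.le.trans inf_le_right)
  have hPA : ¬ P ≤ 𝐂(A) := fun h =>
    hna (comm_of_le (comm_sup_of_comm hA.comm (comm_of_cyclic hY) hYA) (hC ▸ le_inf hPS h))
  have hZP := hZS.trans (centralizer_antitone hPS)
  have hZ : omegaOne p (P ⊓ 𝐂(P)) = Z := by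
    have h1 : Z ≤ omegaOne p (P ⊓ 𝐂(P)) :=
      le_omegaOne (le_inf (hZA.trans hA.1) hZP) fun _ => pow_eq_one_of_card_prime hZp
    rcases hA.cases (hAm.omega_le hA.2.1 (inf_le_right.trans (centralizer_antitone hA.1)))
      with h | h | h
    · exact absurd h (ne_bot_of_le_ne_bot (ne_bot_of_card_prime hZp) h1)
    · exact (eq_of_card_prime h h1 (ne_bot_of_card_prime hZp)).symm
    · exact absurd (le_centralizer_comm (h.ge.trans (omegaOne_le_iff.2 fun _ h _ => h.2))) hPA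
  rw [hZ]
  refine ⟨⟨hZA, hZp⟩, ⟨Y ⊓ P, isCyclic_of_le inf_le_left, le_inf hZY (hZA.trans hA.1),
    fun A₀ hA₀ hA₀p hne => ⟨le_bot_iff.1 ((inf_le_inf_left _ inf_le_left).trans
      ((le_or_inf_eq_bot hA₀p Y).resolve_left fun h =>
        hne (eq_of_cyclic_of_card_eq hY h hZY (hA₀p.trans hZp.symm))).le), ?_⟩⟩,
    fun A₀ hA₀ A₁ hA₁ hA₀p hA₁p hne₀ hne₁ => ?_⟩
  · rw [← sup_inf_of_le ((hYA.trans (centralizer_antitone hA₀)).trans (cent_le_norm _))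
      (hA₀.trans hA.1), ← sup_eq_right.2 hZY, ← sup_assoc, hA.sup_eq hA₀ hZA hA₀p hZp hne, hC,
      inf_right_comm, inf_eq_right.2 hPS]
  · have hN : ¬ P ⊓ 𝐍(A) ≤ 𝐂(A) := fun h => by
      refine (lt_inf_normalizer_of_isPGroup hP (inf_lt_left.2 hPA)).not_ge
        (le_inf inf_le_left ((inf_le_inf_left _ ?_).trans h))
      have : omegaOne p (P ⊓ 𝐂(A)) = A := le_antisymm (hAm.omega_le hA.2.1 inf_le_right)
        (le_omegaOne (le_inf hA.1 hA.le_cent) hA.2.1.2)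
      have h' := normalizer_le_normalizer_omegaOne (p := p) (P ⊓ 𝐂(A))
      rwa [this] at h'
    have hlt := commutator_lt_of_isPGroup hP.to_inf_left (le_inf hA.1 le_normalizer) inf_le_right
      hA.ne_bot
    have hZN : P ⊓ 𝐍(A) ≤ 𝐂(Z) := inf_le_left.trans (le_centralizer_comm hZP)
    have hcomm : ⁅A, P ⊓ 𝐍(A)⁆ = Z := by
      rcases hA.cases hlt.le with h | h | h
      · exact absurd (le_centralizer_comm (comm_eq_bot_iff.1 h)) hN
      · by_contra hne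
        refine hN ?_
        conv_rhs => rw [← hA.sup_eq hlt.le hZA h hZp hne, cent_sup]
        exact le_inf (le_centralizer_of_card_eq_prime hP.to_inf_left
          (Cop.le_normalizer_commutator inf_le_right le_normalizer) h) hZN
      · exact absurd h hlt.ne
    obtain ⟨x, hx, hxA⟩ := SetLike.not_le_iff_exists.1 hN
    obtain ⟨a, ha, ha1⟩ := exists_mem_ne_one (ne_bot_of_card_prime hA₀p)
    have hw : ⁅x, a⁆ ∈ Z := by
      rw [← hcomm, Subgroup.commutator_comm]; exact commutator_mem_commutator hx (hA₀ ha)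
    have hw1 : ⁅x, a⁆ ≠ 1 := fun h => hxA (by
      rw [← hA.sup_eq hA₀ hZA hA₀p hZp hne₀, cent_sup, ← cent1_eq_of_card_prime hA₀p ha ha1]
      exact ⟨mem_centralizer_singleton_iff.2 (commutatorElement_eq_one_iff_mul_comm.1 h), hZN hx⟩)
    obtain ⟨z, hz, b, hb, e⟩ := mem_sup_norm ((le_cent_of_comm hA.comm hA₁ hZA).trans
      (cent_le_norm _)) ((hA.sup_eq hZA hA₁ hZp hA₁p hne₁.symm).ge (hA₀ ha))
    obtain ⟨m, hm⟩ := mem_zpowers_iff.1 ((zpowers_eq_prime hZp hw hw1).ge (inv_mem hz))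
    have e2 : x ^ m * a * (x ^ m)⁻¹ = b := by
      have := CommCalc.comm_zpow_left (x := x) (y := a) (hZN hx _ hw).symm m
      rw [hm, commutatorElement_def, mul_inv_eq_iff_eq_mul] at this
      rw [this, ← e, inv_mul_cancel_left]
    refine ⟨x ^ m, zpow_mem hx m, ?_⟩
    rw [← zpowers_eq_prime hA₀p ha ha1, cj_zpowers, e2, zpowers_eq_prime hA₁p hb]
    rintro rfl
    exact ha1 (by simpa using e2)

/-- BG 10.14(a). -/
theorem beta_not_narrow (hG : PGHyp G) {p : ℕ} [Fact p.Prime] (hϖ : p ∈ ϖ[G])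
    (hp : IsIdealPrime p G) {A : Subgroup G} (hA : P2Elem p A ⊤) :
    ¬ PMaxElem p A ∧ ∀ P, IsSylowIn p P ⊤ → A ≤ P →
      ∃ B, B ≤ P ∧ IsElementaryAbelian p B ∧ A < B := by
  refine ⟨fun h => ?_, fun P hP hAP => ?_⟩
  · obtain ⟨S, hS⟩ := hA.isPGroup.exists_le_sylow
    obtain ⟨B, -, hB, hlt⟩ := hp.2.2 S A hS hA.2.1 hA.2.2
    exact hlt.ne' (h B hB hlt.le)
  · obtain ⟨S, rfl⟩ := IsSylowIn.top_iff.1 hP
    exact hp.2.2 S A hAP hA.2.1 hA.2.2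

/-- BG 10.14(b). -/
theorem beta_noncyclic_uniq (hG : PGHyp G) {p : ℕ} [Fact p.Prime] (hϖ : p ∈ ϖ[G])
    (hp : IsIdealPrime p G) {R : Subgroup G} (hR : IsPGroup p R) (hr : ¬ PRankLE p 1 R) :
    InUniqueMaximal R := by
  obtain ⟨A, hA⟩ := exists_p2Elem hr
  obtain ⟨S, hS⟩ := hA.isPGroup.exists_le_sylow
  obtain ⟨B, -, hB, hlt⟩ := hp.2.2 S A hS hA.2.1 hA.2.2
  exact InUniqueMaximal.mono (nonmaxElem2_Uniqueness hG p hϖ A B hA.2.2 hB hlt) hA.1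
    (mFT_pgroup_proper hG hϖ hR)

/-- BG 10.14(c). -/
theorem beta_subnorm_uniq (hG : PGHyp G) {p : ℕ} [hp' : Fact p.Prime] (hϖ : p ∈ ϖ[G])
    (hp : IsIdealPrime p G) {P X : Subgroup G} (hP : IsSylowIn p P ⊤) (hX : X ≤ P) :
    InUniqueMaximal (P ⊓ 𝐍(X)) := by
  refine beta_noncyclic_uniq hG hϖ hp hP.isPGroup.to_inf_left fun hr => ?_
  have hc := cyclic_of_rank1 (odd_of_pgroup hG hϖ hP.isPGroup.to_inf_left)
    hP.isPGroup.to_inf_left hr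
  rcases (inf_le_left : P ⊓ 𝐍(X) ≤ P).eq_or_lt with h | h
  · rw [h, ← pRankLE_iff_of_isSylowIn hP, pRankLE_top] at hr
    exact hp.2.1 (pRankLE_of_le_rank hp'.out.pos hr (by norm_num))
  · exact (lt_inf_normalizer_of_isPGroup hP.isPGroup h).not_ge
      (inf_le_inf_left _ (norm_le_norm_of_cyclic hc (le_inf hX le_normalizer)))

/-- BG 10.14(d). -/
theorem beta_norm_sub_mmax (hG : PGHyp G) {M Y : Subgroup G} (hM : Mx M)
    (hYM : Y ≤ M) (hY : IsPiSubgroup (beta M) Y) (hY1 : Y ≠ ⊥) : 𝐍(Y) ≤ M := by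
  obtain ⟨q, _, h1⟩ := exists_pCore_ne_bot' (mFT_sol hG (ne_top_of_le_ne_top hM.1 hYM)) hY1
  have hX := piCoreOf_isPGroup (p := q) Y
  have hq := mem_of_isPi_of_isPGroup hX h1 (isPiSubgroup_of_le hY (piCoreOf_le _ _))
  have hϖ := mem_pi_of_sigma (beta_sub_sigma hG hM hq)
  obtain ⟨P, hXP, hP⟩ := IsSylowIn.exists_ge hX ((piCoreOf_le _ _).trans hYM)
  exact (norm_le_norm_piCoreOf _ _).trans (InUniqueMaximal.le (beta_subnorm_uniq hG hϖ hq.2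
    (sigma_Sylow_G (beta_sub_sigma hG hM hq) hP) hXP) hM (inf_le_left.trans hP.le)
    (loc_norm_pgroup hϖ hX h1) inf_le_right)

end CfsgLib.FT.PG
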