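import Mathlib
import Cfsg.Agent.Lib.PG.BG11
import Cfsg.Agent.Lib.FT.BG12a

/-! Bender–Glauberman, section 12, results 12.1–12.6. -/

set_option autoImplicit false
set_option linter.unusedSectionVars false



namespace CfsgLib.FT.PG

open Subgroup Cfsg BGN
open scoped commutatorElement

variable {G : Type*} [Group G] [PiCtx G] [Finite G]

/-! ### Introduction -/

omit [Finite G] in
theorem tau1_sub_sigma' {M : Subgroup G} : tau1 M ⊆ (sigma M)ᶜ := fun _ h => h.2.1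

omit [Finite G] in
theorem tau2_sub_sigma' {M : Subgroup G} : tau2 M ⊆ (sigma M)ᶜ := fun _ h => h.2.1

omit [Finite G] in
theorem tau3_sub_sigma' {M : Subgroup G} : tau3 M ⊆ (sigma M)ᶜ := fun _ h => h.2.1

omit [Finite G] in
theorem tau2'1 {M : Subgroup G} {p : ℕ} (h : p ∈ tau1 M) : p ∉ tau2 M :=
  fun h' => h'.2.2.2 h.2.2.2.2

omit [Finite G] in
theorem tau3'1 {M : Subgroup G} {p : ℕ} (h : p ∈ tau1 M) : p ∉ tau3 M :=
  fun h' => h.2.2.2.1 h'.2.2.1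

omit [Finite G] in
theorem tau3'2 {M : Subgroup G} {p : ℕ} (h : p ∈ tau2 M) : p ∉ tau3 M :=
  fun h' => h.2.2.2 h'.2.2.2

omit [Finite G] in
theorem der1_isPi_tau1' {M H : Subgroup G} (h : H ≤ ⁅M, M⁆) : IsPiSubgroup (tau1 M)ᶜ H :=
  fun _ _ hd hq => hq.2.2.2.1 (hd.trans (card_dvd_of_le h))

theorem exists_mmax_ne_of_not_uniq {X M : Subgroup G} (hX : Loc X) (h : ¬ UniqMax X M) :
    ∃ H, Mx H ∧ X ≤ H ∧ H ≠ M := by
  by_contra! h'
  obtain ⟨L, hL, hXL⟩ := mmax_exists hX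
  exact h ⟨h' L hL hXL ▸ hXL, h'⟩

theorem uniqMax_of_forall {X M : Subgroup G} (hX : Loc X)
    (h : ∀ H, Mx H → X ≤ H → H = M) : UniqMax X M :=
  by_contra fun h' => let ⟨H, h1, h2, h3⟩ := exists_mmax_ne_of_not_uniq hX h'; h3 (h H h1 h2)

theorem mFT_sol_le (hG : PGHyp G) {M H : Subgroup G} (hM : Mx M) (h : H ≤ M) :
    Group.IsSolvable H := mFT_sol hG (ne_top_of_le_ne_top hM.1 h)

theorem mFT_norm_pgroup (_hG : PGHyp G) {p : ℕ} [Fact p.Prime] (hϖ : p ∈ ϖ[G]) {X : Subgroup G}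
    (hX : IsPGroup p X) (h1 : X ≠ ⊥) : Loc 𝐍(X) := loc_norm_pgroup hϖ hX h1

theorem mFT_norm_prime (hG : PGHyp G) {p : ℕ} [Fact p.Prime] (hϖ : p ∈ ϖ[G]) {X : Subgroup G}
    (hX : Nat.card X = p) : Loc 𝐍(X) :=
  mFT_norm_pgroup hG hϖ (isPGroup_of_card_prime hX) (ne_bot_of_card_prime hX)

theorem notConj_of_sigma {M H : Subgroup G} {p : ℕ} (hH : p ∈ sigma H) (hM : p ∉ sigma M) :
    NotConj H M := fun g e => hM (by rwa [e, sigma_conj] at hH)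

theorem tau12_norm_hall (hG : PGHyp G) {M H E₂ : Subgroup G} (hM : Mx M)
    (hH : H ≤ M) (h : IsPiSubgroup (tau1 M ∪ tau2 M) H) (h₂ : IsPiHallOf (tau2 M) E₂ H) :
    H ≤ 𝐍(E₂) :=
  le_norm_of_der_le (le_hall_of_norm' h₂ (fun q hq hd =>
    (h q hq (hd.trans (card_dvd_of_le (der_le H)))).resolve_left
      (der1_isPi_tau1' (commutator_mono hH hH) q hq hd)) (der_le H)
      (h₂.1.trans (le_norm_der H))) h₂.1

section Introduction

variable (hG : PGHyp G) {M : Subgroup G} (hM : Mx M)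
include hG hM

theorem ex_sigma_compl {F : Subgroup G} (hFM : F ≤ M) (hF : IsPiSubgroup (sigma M)ᶜ F) :
    ∃ E, IsPiHallOf (sigma M)ᶜ E M ∧ F ≤ E := Hall.exists_hallOf_ge (mFT_sol hG hM.1) hF hFM

/-- The complements to `M_σ` in `M` are the Hall `σ(M)'`-subgroups of `M`. -/
theorem isComplIn_sigma_iff {E : Subgroup G} :
    IsComplIn E (sigmaCore M) M ↔ IsPiHallOf (sigma M)ᶜ E M := by
  refine ⟨fun h => hall_compl_of_compl (Msigma_Hall hG hM) (h.1.trans (le_norm_Msigma M))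
    (sup_comm E _ ▸ IsComplIn.sup_eq' h) (inf_comm E _ ▸ h.2.2.1), fun h => ⟨h.1, Msigma_le M,
      inf_comm E _ ▸ inf_eq_bot_of_isPi (Msigma_isPi M) (hall_isPi h), fun m hm => ?_⟩⟩
  rw [← hall_sup_compl (Msigma_Hall hG hM) h, sup_comm] at hm
  obtain ⟨a, ha, b, hb, e⟩ := (mem_sup_iff_of_le_normalizer (h.1.trans (le_norm_Msigma M))).1 hm
  exact ⟨a, ha, b, hb, e.symm⟩

theorem partition_pi_mmax {p : ℕ} (hp : p.Prime) :
    p ∣ Nat.card M ↔ p ∈ tau1 M ∨ p ∈ tau2 M ∨ p ∈ tau3 M ∨ p ∈ sigma M := by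
  have := Fact.mk hp
  refine ⟨fun h => ?_, ?_⟩
  · by_cases hs : p ∈ sigma M
    · exact Or.inr (Or.inr (Or.inr hs))
    by_cases hr : PRankLE p 1 M
    · by_cases hd : p ∣ Nat.card ↥⁅M, M⁆
      · exact Or.inr (Or.inr (Or.inl ⟨hp, hs, hd, hr⟩))
      · exact Or.inl ⟨hp, hs, h, hd, hr⟩
    · exact Or.inr (Or.inl ⟨hp, hs, sigma'_rank_le2 hG hM hs, hr⟩)
  · rintro (h | h | h | h)
    exacts [h.2.2.1, dvd_card_of_not_pRankLE h.2.2.2, h.2.2.1.trans (card_dvd_of_le (der_le M)),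
      h.2.1]

/-- BG 12.1(g). -/
theorem tau2_not_beta {p : ℕ} [Fact p.Prime] (hp : p ∈ tau2 M) :
    ¬ IsIdealPrime p G ∧ ∀ A, P2Elem p A M → PMaxElem p A :=
  ⟨sigma'_rank2_beta' hG hM hp.2.1 hp.2.2.2, fun _ => sigma'_rank2_max hG hM hp.2.1⟩

theorem mem_tau2_of_p2Elem {p : ℕ} [hp : Fact p.Prime] (hs : p ∉ sigma M) {A : Subgroup G}
    (hA : P2Elem p A M) : p ∈ tau2 M := ⟨hp.out, hs, sigma'_rank_le2 hG hM hs, hA.not_rank⟩

variable {E : Subgroup G} (hE : IsPiHallOf (sigma M)ᶜ E M)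
include hE

theorem ex_tau2_compl {E₁ E₃ : Subgroup G} (h₁ : IsPiHallOf (tau1 M) E₁ E)
    (h₃ : IsPiHallOf (tau3 M) E₃ E) : ∃ E₂, SigmaCompl M E E₁ E₂ E₃ := by
  obtain ⟨H, hH, h⟩ := Hall.exists_hallOf_ge (π := tau1 M ∪ tau2 M) (mFT_sol_le hG hM hE.1)
    (isPiSubgroup_mono (hall_isPi h₁) Set.subset_union_left) h₁.1
  obtain ⟨E₂, h₂⟩ := Hall.exists_isPiHallOf (mFT_sol_le hG hM (hH.1.trans hE.1)) (tau2 M)
  exact ⟨E₂, hE, h₁, hall_trans h₂ hH Set.subset_union_right, h₃,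
    h.trans (tau12_norm_hall hG hM (hH.1.trans hE.1) (hall_isPi hH) h₂)⟩

theorem ex_tau1_compl {E₂ E₃ : Subgroup G} (h₂ : IsPiHallOf (tau2 M) E₂ E)
    (h₃ : IsPiHallOf (tau3 M) E₃ E) : ∃ E₁, SigmaCompl M E E₁ E₂ E₃ := by
  obtain ⟨H, hH, h⟩ := Hall.exists_hallOf_ge (π := tau1 M ∪ tau2 M) (mFT_sol_le hG hM hE.1)
    (isPiSubgroup_mono (hall_isPi h₂) Set.subset_union_right) h₂.1
  obtain ⟨E₁, h₁⟩ := Hall.exists_isPiHallOf (mFT_sol_le hG hM (hH.1.trans hE.1)) (tau1 M)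
  exact ⟨E₁, hE, hall_trans h₁ hH Set.subset_union_left, h₂, h₃, h₁.1.trans
    (tau12_norm_hall hG hM (hH.1.trans hE.1) (hall_isPi hH) (Hall.isPiHallOf_of_le h₂ h hH.1))⟩

theorem ex_sigmaCompl : ∃ E₁ E₂ E₃, SigmaCompl M E E₁ E₂ E₃ := by
  obtain ⟨E₁, h₁⟩ := Hall.exists_isPiHallOf (mFT_sol_le hG hM hE.1) (tau1 M)
  obtain ⟨E₃, h₃⟩ := Hall.exists_isPiHallOf (mFT_sol_le hG hM hE.1) (tau3 M)
  obtain ⟨E₂, h⟩ := ex_tau2_compl hG hM hE h₁ h₃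
  exact ⟨E₁, E₂, E₃, h⟩

omit hG hM in
theorem coprime_sigma_compl' : (Nat.card (sigmaCore M)).Coprime (Nat.card E) :=
  coprime_of_isPi (Msigma_isPi M) (hall_isPi hE)

theorem coprime_sigma_compl : (Nat.card (sigmaCore M)).Coprime (Nat.card E) :=
  coprime_sigma_compl' hE

omit hG hM [Finite G] in
theorem sigma_compl_norm : E ≤ 𝐍(sigmaCore M) := hE.1.trans (le_norm_Msigma M)

/-- `M = M_σ ⋊ E`. -/
theorem sdprod_sigma : sigmaCore M ⊔ E = M ∧ sigmaCore M ⊓ E = ⊥ :=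
  ⟨hall_sup_compl (Msigma_Hall hG hM) hE, inf_eq_bot_of_cop (coprime_sigma_compl' hE)⟩

theorem der1_sigma_compl : ⁅M, M⁆ ⊓ E = ⁅E, E⁆ := by
  have := pprod_focal_coprime (sigma_compl_norm hE) le_rfl (coprime_sigma_compl' hE).symm
  rwa [(sdprod_sigma hG hM hE).1, inf_comm, inf_eq_right.2 (der_le E)] at this

/-- `M' = M_σ E'`. -/
theorem der1_eq_sigma_sup : ⁅M, M⁆ = sigmaCore M ⊔ ⁅E, E⁆ := by
  refine le_antisymm ?_ (sup_le (Msigma_der1 hG hM) (commutator_mono hE.1 hE.1))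
  conv_lhs => rw [← (sdprod_sigma hG hM hE).1]
  exact der_sup_le (sigma_compl_norm hE)

theorem partition_pi_sigma_compl {p : ℕ} (hp : p.Prime) :
    p ∣ Nat.card E ↔ p ∈ tau1 M ∨ p ∈ tau2 M ∨ p ∈ tau3 M := by
  rw [hall_dvd_card_iff hE hp, partition_pi_mmax hG hM hp]
  have h1 := @tau1_sub_sigma' _ _ _ M p
  have h2 := @tau2_sub_sigma' _ _ _ M p
  have h3 := @tau3_sub_sigma' _ _ _ M p
  simp only [Set.mem_compl_iff] at *
  tauto

theorem dvd_der1_iff {p : ℕ} (hp : p.Prime) (hs : p ∉ sigma M) :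
    p ∣ Nat.card ↥⁅M, M⁆ ↔ p ∣ Nat.card ↥⁅E, E⁆ := by
  have := Fact.mk hp
  refine ⟨fun h => ?_, fun h => h.trans (card_dvd_of_le (commutator_mono hE.1 hE.1))⟩
  rw [der1_eq_sigma_sup hG hM hE] at h
  exact dvd_card_of_dvd_sup ((der_le E).trans (sigma_compl_norm hE)) h
    fun h' => hs (Msigma_isPi M p hp h')

theorem tau1E {p : ℕ} (hp : p.Prime) :
    p ∈ tau1 M ↔ p ∣ Nat.card E ∧ PRankLE p 1 E ∧ ¬ p ∣ Nat.card ↥⁅E, E⁆ := by
  have := Fact.mk hp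
  refine ⟨fun h => ⟨(hall_dvd_card_iff hE hp).2 ⟨h.2.2.1, h.2.1⟩, pRankLE_mono h.2.2.2.2 hE.1,
    mt (dvd_der1_iff hG hM hE hp h.2.1).2 h.2.2.2.1⟩, fun h => ?_⟩
  have hs := hall_isPi hE p hp h.1
  exact ⟨hp, hs, h.1.trans (card_dvd_of_le hE.1), mt (dvd_der1_iff hG hM hE hp hs).1 h.2.2,
    (pRankLE_iff_of_hall hE hs).2 h.2.1⟩

theorem tau2E {p : ℕ} (hp : p.Prime) : p ∈ tau2 M ↔ ¬ PRankLE p 1 E := by
  have := Fact.mk hp
  refine ⟨fun h => mt (pRankLE_iff_of_hall hE h.2.1).2 h.2.2.2, fun h => ?_⟩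
  have hs := hall_isPi hE p hp (dvd_card_of_not_pRankLE h)
  exact ⟨hp, hs, sigma'_rank_le2 hG hM hs, mt (pRankLE_mono · hE.1) h⟩

theorem tau3E {p : ℕ} (hp : p.Prime) :
    p ∈ tau3 M ↔ PRankLE p 1 E ∧ p ∣ Nat.card ↥⁅E, E⁆ := by
  have := Fact.mk hp
  refine ⟨fun h => ⟨pRankLE_mono h.2.2.2 hE.1, (dvd_der1_iff hG hM hE hp h.2.1).1 h.2.2.1⟩,
    fun h => ?_⟩
  have hs := hall_isPi hE p hp (h.2.trans (card_dvd_of_le (der_le E)))
  exact ⟨hp, hs, (dvd_der1_iff hG hM hE hp hs).2 h.2, (pRankLE_iff_of_hall hE hs).2 h.1⟩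

theorem ex_tau2Elem {p : ℕ} [hp' : Fact p.Prime] (hp : p ∈ tau2 M) : ∃ A, P2Elem p A E :=
  exists_p2Elem ((tau2E hG hM hE hp'.out).1 hp)

theorem sigma'2Elem_tau2 {p : ℕ} [hp' : Fact p.Prime] {A : Subgroup G} (hA : P2Elem p A E) :
    p ∈ tau2 M := (tau2E hG hM hE hp'.out).2 hA.not_rank

theorem rank_sigma_compl : RankLE 2 E :=
  rank2_of_sigma' hG hM hE.1 (isPi_alpha'_of_sigma' hG hM (hall_isPi hE))

/-- BG 12.1(a). -/
theorem der1_sigma_compl_nil : Group.IsNilpotent ↥⁅E, E⁆ :=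
  beta'_der1_nil hG hM (isPi_beta'_of_sigma' hG hM (isPiSubgroup_of_le (hall_isPi hE) (der_le E)))
    (commutator_mono hE.1 hE.1)

omit hE in
theorem tau1_cyclic' {E₁ : Subgroup G} (h₁ : E₁ ≤ M) (h : IsPiSubgroup (tau1 M) E₁) :
    IsCyclic E₁ :=
  cyclic_of_nil_of_rank1 (hM.odd hG h₁) (nil_of_comm (isMulCommutative_of_le_centralizer
    (comm_eq_bot_iff.1 (eq_bot_of_isPi (isPiSubgroup_of_le h (der_le _))
      (der1_isPi_tau1' (commutator_mono h₁ h₁)))))) fun q hq =>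
    have := Fact.mk hq
    by_contra fun h' => h' (pRankLE_mono (h q hq (dvd_card_of_not_pRankLE h')).2.2.2.2 h₁)

/-- BG 12.1(d), for `τ₁`. -/
theorem tau1_cyclic {E₁ : Subgroup G} (h₁ : E₁ ≤ E) (h : IsPiSubgroup (tau1 M) E₁) :
    IsCyclic E₁ := tau1_cyclic' hG hM (h₁.trans hE.1) h

/-- BG 12.1(b,d,f), for `τ₃`. -/
theorem tau3_context {E₃ : Subgroup G} (h₃ : IsPiHallOf (tau3 M) E₃ E) :
    IsCyclic E₃ ∧ E₃ ≤ ⁅E, E⁆ ∧ E ≤ 𝐍(E₃) ∧ E₃ ⊓ 𝐂(E) = ⊥ := by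
  have h1 : E₃ ≤ ⁅E, E⁆ := le_of_forall_sylow fun q hq hd => by
    obtain ⟨S, hS⟩ := IsSylowIn.exists_in (p := q) E₃
    have hq3 := hall_isPi h₃ q hq.out hd
    have hS' := sylow_of_hall hS h₃ hq3
    obtain ⟨h1, h2⟩ := (tau3E hG hM hE hq.out).1 hq3
    exact ⟨S, hS, (cyclic_Sylow_tiVsub_der1 hS' (cyclic_of_rank1 (hM.odd hG (hS'.le.trans hE.1)) hS.isPGroup
      (pRankLE_mono h1 hS'.le))).resolve_left
      ((sylow_inf hS' (der_le E) (Or.inl (hS'.le.trans (le_norm_der E)))).ne_bot h2)⟩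
  have hn := der1_sigma_compl_nil hG hM hE
  have h2 : E ≤ 𝐍(E₃) := (le_norm_der E).trans
    (norm_le_norm_hall_of_nil hn (Hall.isPiHallOf_of_le h₃ h1 (der_le E)))
  have h3 : IsCyclic E₃ := cyclic_of_nil_of_rank1 (hM.odd hG (h₃.1.trans hE.1))
    (isNilpotent_of_le hn h1)
    fun q hq =>
      have := Fact.mk hq
      by_contra fun h' => h' (pRankLE_mono (hall_isPi h₃ q hq (dvd_card_of_not_pRankLE h')).2.2.2
        (h₃.1.trans hE.1))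
  obtain ⟨V, hV⟩ := Hall.exists_isPiHallOf (mFT_sol_le hG hM hE.1) (tau3 M)ᶜ
  have h4 := (coprime_der1_sdprod (mFT_sol_le hG hM (h₃.1.trans hE.1)) (hV.1.trans h2)
    (coprime_of_isPi (hall_isPi h₃) (hall_isPi hV)).symm (by rwa [hall_sup_compl h₃ hV])).2
  rw [comm_eq_bot_iff.2 (le_cent_of_cyclic h3 le_rfl le_rfl)] at h4
  exact ⟨h3, h1, h2, le_bot_iff.1 ((inf_le_inf_left _ (centralizer_antitone hV.1)).trans h4)⟩

theorem tau32_norm {E₂ E₃ : Subgroup G} (h₂ : IsPiHallOf (tau2 M) E₂ E)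
    (h₃ : IsPiHallOf (tau3 M) E₃ E) :
    IsPiHallOf (tau1 M)ᶜ (E₃ ⊔ E₂) E ∧ ⁅E, E⁆ ≤ E₃ ⊔ E₂ ∧ E ≤ 𝐍(E₃ ⊔ E₂) := by
  have h1 : IsPiHallOf (tau1 M)ᶜ (E₃ ⊔ E₂) E :=
    hall_congr (hall_sup h₃ h₂ (h₂.1.trans (tau3_context hG hM hE h₃).2.2.1)) fun q hq hd =>
      ⟨fun h h' => h.elim (tau3'1 h') (tau2'1 h'), fun h =>
        (((partition_pi_sigma_compl hG hM hE hq).1 hd).resolve_left h).symm⟩
  have h2 := le_hall_of_norm' h1 (der1_isPi_tau1' (commutator_mono hE.1 hE.1)) (der_le E)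
    (h1.1.trans (le_norm_der E))
  exact ⟨h1, h2, le_norm_of_der_le h2 h1.1⟩

end Introduction

/-- BG 12.1(b–f).  In (e), `E = E₃ ⋊ (E₂ ⋊ E₁) = (E₃ ⋊ E₂) ⋊ E₁` (the orders are coprime). -/
theorem sigma_compl_context (hG : PGHyp G) {M E E₁ E₂ E₃ : Subgroup G}
    (hM : Mx M) (h : SigmaCompl M E E₁ E₂ E₃) :
    (E₃ ≤ ⁅E, E⁆ ∧ E ≤ 𝐍(E₃)) ∧ (E₂ = ⊥ → E₁ ≠ ⊥) ∧ (IsCyclic E₁ ∧ IsCyclic E₃) ∧
      (E₃ ⊔ E₂ ⊔ E₁ = E ∧ E ≤ 𝐍(E₃ ⊔ E₂)) ∧ E₃ ⊓ 𝐂(E) = ⊥ := by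
  obtain ⟨h1, h2, h3, h4⟩ := tau3_context hG hM h.hall h.hall₃
  obtain ⟨h5, -, h6⟩ := tau32_norm hG hM h.hall h.hall₂ h.hall₃
  have h7 : E₃ ⊔ E₂ ⊔ E₁ = E := by rw [sup_comm]; exact hall_sup_compl h.hall₁ h5
  refine ⟨⟨h2, h3⟩, fun e₂ e₁ => ?_, ⟨tau1_cyclic hG hM h.hall h.hall₁.1 (hall_isPi h.hall₁), h1⟩,
    ⟨h7, h6⟩, h4⟩
  rw [e₂, e₁, sup_bot_eq, sup_bot_eq] at h7
  have h8 := (sdprod_sigma hG hM h.hall).1
  rw [eq_bot_of_le_der (mFT_sol_le hG hM h.hall.1) (h7.ge.trans h2), sup_bot_eq] at h8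
  exact mmax_neq_bot hG hM (eq_bot_of_le_der (mFT_sol hG hM.1) (h8.ge.trans (Msigma_der1 hG hM)))

/-- BG 12.2(a). -/
theorem prime_class_mmax_norm (hG : PGHyp G) {M : Subgroup G} (hM : Mx M)
    {p : ℕ} [hp : Fact p.Prime] (hϖ : p ∈ ϖ[G]) {X : Subgroup G} (hX : IsPGroup p X) (hN : 𝐍(X) ≤ M) :
    p ∈ sigma M ∨ p ∈ tau2 M :=
  or_iff_not_imp_left.2 fun h =>
    ⟨hp.out, h, sigma'_rank_le2 hG hM h, sigma'_norm_mmax_rank2 hG hM h hϖ hX hN⟩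

/-- BG 12.2(b). -/
theorem mmax_norm_notJ (hG : PGHyp G) {M H : Subgroup G} (hM : Mx M)
    (hH : Mx H) {p : ℕ} [Fact p.Prime] (hϖ : p ∈ ϖ[G]) {X : Subgroup G} (hX : IsPGroup p X) (hXM : X ≤ M)
    (hN : 𝐍(X) ≤ H) (h : (p ∈ sigma M ∧ M ≠ H) ∨ p ∈ tau1 M ∨ p ∈ tau3 M) : NotConj H M := by
  rintro g rfl
  rcases h with ⟨h1, h2⟩ | h
  · obtain ⟨c, hc, e⟩ := (sigma_group_trans hG hM h1 hX).2.1 g 1 (le_normalizer.trans hN)
      (by rwa [map_conj_one])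
    rw [map_conj_one, cj_eq_of_mem (hN (cent_le_norm X hc))] at e
    exact h2 e
  · have := prime_class_mmax_norm hG hH hϖ hX hN
    rw [sigma_conj, tau2_conj] at this
    rcases h with h | h <;> rcases this with h' | h'
    exacts [h.2.1 h', tau2'1 h h', h.2.1 h', tau3'2 h' h]

theorem nonuniq_p2Elem_cent_aux (hG : PGHyp G) {M H : Subgroup G}
    (hM : Mx M) (hH : Mx H) (hHM : H ≠ M) {p : ℕ} [hp : Fact p.Prime]
    {A A₀ : Subgroup G} (hA : P2Elem p A M) (hA₀ : A₀ ≤ A) (hA₀p : Nat.card A₀ = p)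
    (hN : 𝐍(A₀) ≤ H) {K : Subgroup G} (hK : K ≤ sigmaCore M ⊓ H) (hAK : A ≤ 𝐍(K))
    (hKp : ¬ p ∣ Nat.card K) : A ≤ 𝐂(K) := by
  have hAH : A ≤ H := ((le_cent_of_comm hA.comm le_rfl hA₀).trans (cent_le_norm _)).trans hN
  have h1 : ⁅K, A⁆ ≤ K := Cop.commutator_le_left_of_le_normalizer hAK
  have hKH := hK.trans inf_le_right
  have hc := coprime_of_isPGroup_of_isPi hA.isPGroup (isPi_compl_of_not_dvd hKp) (by simp)
  refine le_centralizer_comm (comm_eq_bot_iff.1 ?_)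
  by_cases hs : p ∈ sigma H
  · have hn : NotConj H M := by
      by_cases h : p ∈ sigma M
      · exact mmax_norm_notJ hG hM hH (mem_pi_of_sigma h) (isPGroup_of_card_prime hA₀p) (hA₀.trans hA.1) hN
          (Or.inl ⟨h, hHM.symm⟩)
      · exact notConj_of_sigma hs h
    refine Cop.commutator_eq_bot_of_commutator_commutator_eq_bot hAK hc (le_bot_iff.1 ?_)
    rw [← (sigma_disjoint hG hH hM hn.symm).1]
    exact le_inf ((Malpha_quo_nil hG hH).comm_le ((der_le H).trans (le_norm_Malpha H))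
      (commutator_mono hKH hAH) (sigma_sub_der1 hG hH hAH (isPi_of_isPGroup hA.isPGroup hs))
      (coprime_mono hc le_rfl h1).symm)
      (((commutator_mono h1 le_rfl).trans h1).trans (hK.trans inf_le_left))
  · have hexc : ExceptionalMax p H A₀ A := ⟨hs, hA.of_le hAH, hA₀, hA₀p, hN⟩
    have h2 : ⁅K, A⁆ ≤ sigmaCore H ⊔ A := (commutator_mono le_rfl le_sup_right).trans
      (comm_le_right (hKH.trans (exceptional_mul_sigma_normal hG hH hexc)))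
    have h3 := le_hall_of_norm (hall_left_of_sup (π := {p}ᶜ) (hAH.trans (le_norm_Msigma H)) rfl
      (isPi_compl_of_not_dvd fun h => hs (Msigma_isPi H p hp.out h))
      (isPi_of_isPGroup hA.isPGroup (by simp)))
      (isPiSubgroup_of_le (isPi_compl_of_not_dvd hKp) h1) h2
      ((h1.trans hKH).trans (le_norm_Msigma H))
    by_contra h
    exact hHM (exceptional_sigma_uniq hG hH hexc hM hA.1
      (ne_bot_of_le_ne_bot h (le_inf (h1.trans (hK.trans inf_le_left)) h3))).symm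

/-- BG 12.3. -/
theorem nonuniq_p2Elem_cent_sigma (hG : PGHyp G) {M H : Subgroup G}
    (hM : Mx M) (hH : Mx H) (hHM : H ≠ M) {p : ℕ} [hp : Fact p.Prime]
    {A A₀ : Subgroup G}
    (hA : P2Elem p A M) (hA₀ : A₀ ≤ A) (hA₀p : Nat.card A₀ = p) (hN : 𝐍(A₀) ≤ H) :
    (p ∉ sigma M → A ≤ 𝐂(sigmaCore M ⊓ H)) ∧ (p ∉ alpha M → A ≤ 𝐂(alphaCore M ⊓ H)) := by
  have hAH : A ≤ H := ((le_cent_of_comm hA.comm le_rfl hA₀).trans (cent_le_norm _)).trans hN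
  exact ⟨fun h => nonuniq_p2Elem_cent_aux hG hM hH hHM hA hA₀ hA₀p hN le_rfl
    (le_normalizer_inf (hA.1.trans (le_norm_Msigma M)) (hAH.trans le_normalizer))
    fun h' => h (isPi_inf_left (Msigma_isPi M) p hp.out h'),
    fun h => nonuniq_p2Elem_cent_aux hG hM hH hHM hA hA₀ hA₀p hN
    (inf_le_inf_right _ (Malpha_sub_Msigma hG hM))
    (le_normalizer_inf (hA.1.trans (le_norm_Malpha M)) (hAH.trans le_normalizer))
    fun h' => h (isPi_inf_left (Malpha_isPi M) p hp.out h')⟩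

section OneMax

variable (hG : PGHyp G) {M : Subgroup G} (hM : Mx M)
include hG hM

theorem Malpha_eq_bot_of_rank2 (h : RankLE 2 (alphaCore M)) : alphaCore M = ⊥ := by
  by_contra h1
  obtain ⟨q, hq, hd⟩ := exists_prime_dvd_card h1
  have := Fact.mk hq
  have ha := Malpha_isPi M q hq hd
  exact ha.2 ((pRankLE_iff_of_hall (Malpha_Hall hG hM) ha).2 (h q hq))

theorem der1_nil_of_Malpha_eq_bot (h : alphaCore M = ⊥) : Group.IsNilpotent ↥⁅M, M⁆ :=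
  nilMod_bot_iff.1 (h ▸ Malpha_quo_nil hG hM)

/-- BG 12.4. -/
theorem p2Elem_mmax {p : ℕ} [hp : Fact p.Prime] {A : Subgroup G} (hA : P2Elem p A M) :
    𝐂(A) ≤ M ∧ ((∀ A₀ ≤ A, Nat.card A₀ = p → ¬ UniqMax 𝐍(A₀) M) →
      p ∈ sigma M ∧ alphaCore M = ⊥ ∧ Group.IsNilpotent (sigmaCore M)) := by
  have hϖ := mem_pi_of_p2Elem hG hM.1 hA
  by_cases h : ∀ A₀ ≤ A, Nat.card A₀ = p → ¬ UniqMax 𝐍(A₀) M
  swap
  · refine ⟨?_, fun h' => absurd h' h⟩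
    push Not at h
    obtain ⟨A₀, h1, -, h2⟩ := h
    exact ((centralizer_antitone h1).trans (cent_le_norm _)).trans h2.le
  have hC : RankLE 2 𝐂(A) := by_contra fun hr => by
    obtain ⟨X, hX, hXp⟩ := exists_card_prime_le (hA.of_le le_rfl).dvd_card
    exact h X hX hXp ((uniqMax_of_inUniq (cent_rank3_Uniqueness hG A (hM.loc hA.1)
      (hA.of_le le_rfl).not_rank' hr)
      hM hA.1).mono ((le_cent_of_comm hA.comm le_rfl hX).trans (cent_le_norm _))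
      (mFT_norm_prime hG hϖ hXp))
  have key := fun X hX hXp => exists_mmax_ne_of_not_uniq (mFT_norm_prime hG hϖ hXp) (h X hX hXp)
  have hs : p ∈ sigma M := by_contra fun hs => by
    refine (hA.of_le (le_inf le_rfl (le_centralizer_comm ?_))).not_rank'
      (sub'cent_sigma_rank1 hG hM hA.1 (isPi_of_isPGroup hA.isPGroup hs))
    refine hA.le_of_cent_le (hA.1.trans (le_norm_Msigma M))
      (coprime_of_isPGroup_of_isPi hA.isPGroup (Msigma_isPi M) hs) fun X hX hXp => ?_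
    obtain ⟨H, hH, hN, hne⟩ := key X hX hXp
    exact (inf_le_inf_left _ ((cent_le_norm X).trans hN)).trans
      (le_centralizer_comm ((nonuniq_p2Elem_cent_sigma hG hM hH hne hA hX hXp hN).1 hs))
  obtain ⟨P, hAP, hP⟩ := IsSylowIn.exists_ge hA.isPGroup
    (le_Msigma hG hM hA.1 (isPi_of_isPGroup hA.isPGroup hs))
  have hP' := sylow_of_hall hP (Msigma_Hall hG hM) hs
  have hZ : omegaOne p (P ⊓ 𝐂(P)) ≤ A := omegaOne_le_iff.2 fun x hx hxp =>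
    H1.mem_of_card_le hA.2.1 hA.le_cent (fun F hF hFe => hA.2.2 ▸ pRankLE_iff.1 (hC p hp.out) F hF hFe)
      (centralizer_antitone hAP hx.2) hxp (centralizer_antitone hAP hx.2)
  obtain ⟨X, hX, hXp⟩ := exists_center_prime hP.isPGroup (ne_bot_of_le_ne_bot hA.ne_bot hAP)
  have hXZ : X ≤ omegaOne p (P ⊓ 𝐂(P)) := le_omegaOne hX fun _ => pow_eq_one_of_card_prime hXp
  have ha : p ∉ alpha M := fun ha => by
    obtain ⟨H, hH, hN, hne⟩ := key X (hXZ.trans hZ) hXp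
    exact hne (InUniqueMaximal.eq (rank3_Uniqueness hG P (mFT_pgroup_proper hG hϖ hP.isPGroup)
      (not_rankLE_of_not_pRankLE (p := p) fun hr => ha.2 ((pRankLE_iff_of_isSylowIn hP').2 hr)))
      hM hP'.le hH (((le_centralizer_comm (hX.trans inf_le_right)).trans (cent_le_norm X)).trans hN))
  have h1 : alphaCore M = ⊥ := Malpha_eq_bot_of_rank2 hG hM (rankLE_mono hC
    (hA.le_of_cent_le (hA.1.trans (le_norm_Malpha M))
      (coprime_of_isPGroup_of_isPi hA.isPGroup (Malpha_isPi M) ha) fun X hX hXp => by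
      obtain ⟨H, hH, hN, hne⟩ := key X hX hXp
      exact (inf_le_inf_left _ ((cent_le_norm X).trans hN)).trans
        (le_centralizer_comm ((nonuniq_p2Elem_cent_sigma hG hM hH hne hA hX hXp hN).2 ha))))
  have h2 := isNilpotent_of_le (der1_nil_of_Malpha_eq_bot hG hM h1) (Msigma_der1 hG hM)
  refine ⟨(centralizer_antitone hZ).trans (mmax_cent_le hG hM (hZ.trans hA.1) ?_
    (ne_bot_of_le_ne_bot (ne_bot_of_card_prime hXp) hXZ)), fun _ => ⟨hs, h1, h2⟩⟩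
  exact (((le_norm_Msigma M).trans (norm_le_norm_sylow_of_nil h2 hP)).trans
    (Cop.le_normalizer_inf_centralizer le_rfl le_rfl)).trans (normalizer_le_normalizer_omegaOne _)

theorem tau2_exceptional {p : ℕ} [Fact p.Prime] (hp : p ∉ sigma M) {A : Subgroup G}
    (hA : P2Elem p A M) : ∃ A₀, ExceptionalMax p M A₀ A := by
  by_contra h
  exact hp ((p2Elem_mmax hG hM hA).2 fun A₀ h1 h2 h3 => h ⟨A₀, hp, hA, h1, h2, h3.le⟩).1

/-- BG 12.5(a). -/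
theorem tau2_Msigma_nil {p : ℕ} (hp : p ∈ tau2 M) : Group.IsNilpotent (sigmaCore M) := by
  have := Fact.mk hp.1
  obtain ⟨A, hA⟩ := exists_p2Elem hp.2.2.2
  obtain ⟨A₀, h⟩ := tau2_exceptional hG hM hp.2.1 hA
  exact exceptional_sigma_nil hG hM h

/-- BG 12.5(b–f). -/
theorem tau2_context {p : ℕ} [Fact p.Prime] (hp : p ∈ tau2 M) {A : Subgroup G}
    (hA : P2Elem p A M) :
    (∀ P, IsSylowIn p P M → IsMulCommutative P) ∧
      (∀ P, IsSylowIn p P M → A ≤ P → omegaOne p P = A ∧ ¬ 𝐍(P) ≤ M) ∧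
      M ≤ 𝐍(sigmaCore M ⊔ A) ∧ sigmaCore M ⊓ 𝐂(A) = ⊥ ∧
      (∀ H, Mx H → H ≠ M → A ≤ H → sigmaCore M ⊓ H = ⊥) ∧
      ∃ A₁ ≤ A, Nat.card A₁ = p ∧ sigmaCore M ⊓ 𝐂(A₁) = ⊥ := by
  obtain ⟨A₀, h⟩ := tau2_exceptional hG hM hp.2.1 hA
  obtain ⟨P, hAP, hP⟩ := IsSylowIn.exists_ge hA.isPGroup hA.1
  obtain ⟨-, h1, A₁, h2, -, -, h3, -, -, h4, -⟩ := exceptional_structure hG hM h hP hAP
  refine ⟨fun P => exceptional_Sylow_abelian hG hM h, fun P hP hAP =>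
    ⟨(exceptional_structure hG hM h hP hAP).1, sigma'_Sylow_contra hG hM (mem_pi_of_tau2 hG hM.1 hp) hp.2.1 hP⟩,
    exceptional_mul_sigma_normal hG hM h, h1, fun H hH hne hAH => ?_, A₁, h2, h3, h4⟩
  refine le_bot_iff.1 (h1 ▸ le_inf inf_le_left (le_centralizer_comm ?_))
  by_cases h' : ∀ A₀ ≤ A, Nat.card A₀ = p → ¬ UniqMax 𝐍(A₀) H
  · obtain ⟨hs, -, hn⟩ := (p2Elem_mmax hG hH (hA.of_le hAH)).2 h'
    rw [← comm_eq_bot_iff, ← le_bot_iff,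
      ← ((sigma_disjoint hG hH hM (notConj_of_sigma hs hp.2.1).symm).2.2 hn).1]
    refine le_inf ((commutator_mono (le_Msigma hG hH hAH (isPi_of_isPGroup hA.isPGroup hs))
      inf_le_right).trans (Cop.commutator_le_left_of_le_normalizer (le_norm_Msigma H)))
      ((commutator_mono hA.1 inf_le_left).trans (comm_le_right (le_norm_Msigma M)))
  · push Not at h'
    obtain ⟨X, hX, hXp, hU⟩ := h'
    exact (nonuniq_p2Elem_cent_sigma hG hM hH hne hA hX hXp hU.le).1 hp.2.1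

theorem tau2_pgroup_abelian {p : ℕ} [Fact p.Prime] (hp : p ∈ tau2 M) {P : Subgroup G}
    (hP : IsPGroup p P) (hPM : P ≤ M) : IsMulCommutative P :=
  let ⟨_, hA⟩ := exists_p2Elem hp.2.2.2
  let ⟨_, h1, h2⟩ := IsSylowIn.exists_ge hP hPM
  comm_of_le ((tau2_context hG hM hp hA).1 _ h2) h1

/-- BG 12.6(f). -/
theorem tau2_sigma_disjoint {p : ℕ} (hp : p ∈ tau2 M) {H : Subgroup G} (hH : Mx H)
    (hHM : NotConj H M) : sigmaCore M ⊓ sigmaCore H = ⊥ ∧ Disjoint (sigma M) (sigma H) :=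
  (sigma_disjoint hG hM hH hHM).2.2 (tau2_Msigma_nil hG hM hp)

theorem tau2_reg_of_norm {p : ℕ} [Fact p.Prime] (hp : p ∈ tau2 M) {A : Subgroup G}
    (hA : P2Elem p A M) {q : ℕ} (hq : q ∈ tau1 M ∨ q ∈ tau3 M) {X : Subgroup G} (hX : X ≤ M)
    (hXq : Nat.card X = q) (hAX : A ≤ 𝐍(X)) : sigmaCore M ⊓ 𝐂(X) = ⊥ := by
  have := Fact.mk (hq.elim (·.1) (·.1))
  by_cases hϖ : q ∈ ϖ[G]
  swap
  · exact inf_cent_eq_bot_of_not_pi hG (pi_of_sigma (Msigma_isPi M)) this.out hXq.symm.dvd hϖ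
  obtain ⟨H, hH, hN⟩ := mmax_exists (mFT_norm_prime hG hϖ hXq)
  exact le_bot_iff.1 ((tau2_context hG hM hp hA).2.2.2.2.1 H hH
    (mmax_norm_notJ hG hM hH hϖ (isPGroup_of_card_prime hXq) hX hN (Or.inr hq)).ne (hAX.trans hN) ▸
    inf_le_inf_left _ ((cent_le_norm X).trans hN))

section Tau2

variable {E : Subgroup G} (hE : IsPiHallOf (sigma M)ᶜ E M) {p : ℕ} [Fact p.Prime]
  (hp : p ∈ tau2 M) {A : Subgroup G} (hA : P2Elem p A E)
include hE hp hA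

/-- BG 12.6(a,b,c); (f) is `tau2_sigma_disjoint`. -/
theorem tau2_compl_context :
    (E ≤ 𝐍(A) ∧ ∀ X ≤ E, Nat.card X = p → X ≤ A) ∧
      (𝐂(A) ≤ E ∧ M ⊓ 𝐍(A) = E ∧ ¬ 𝐍(A) ≤ M) ∧
      ∀ X ≤ E, Nat.card X = p → sigmaCore M ⊓ 𝐂(X) ≠ ⊥ → UniqMax 𝐂(X) M := by
  have hAM := hA.mono hE.1
  obtain ⟨-, h1, h2, h3, h4, -⟩ := tau2_context hG hM hp hAM
  obtain ⟨h5, h6⟩ := sdprod_sigma hG hM hE
  have hEA : E ≤ 𝐍(A) := by
    have := le_normalizer_inf (hE.1.trans h2) (le_normalizer (H := E))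
    rwa [sup_inf_of_le' (hAM.1.trans (le_norm_Msigma M)) hA.1, h6, bot_sup_eq] at this
  have hXA : ∀ X ≤ E, Nat.card X = p → X ≤ A := fun X hX hXp => by
    obtain ⟨P, hXP, hP⟩ := IsSylowIn.exists_ge (isPGroup_sup' (hX.trans hEA) hA.isPGroup
      (isPGroup_of_card_prime hXp)) (sup_le hAM.1 (hX.trans hE.1))
    exact (h1 P hP (le_sup_left.trans hXP)).1 ▸
      le_omegaOne (le_sup_right.trans hXP) fun _ => pow_eq_one_of_card_prime hXp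
  have hN : M ⊓ 𝐍(A) = E := by
    conv_lhs => rw [← h5]
    rw [sup_inf_of_le' (sigma_compl_norm hE) hEA]
    refine sup_eq_right.2 (le_trans (h3 ▸ le_inf inf_le_left ?_) bot_le)
    refine le_centralizer_comm (comm_eq_bot_iff.1 (le_bot_iff.1 (h6 ▸ le_inf ?_ ?_)))
    · exact (commutator_mono hAM.1 inf_le_left).trans (comm_le_right (le_norm_Msigma M))
    · exact (Cop.commutator_le_left_of_le_normalizer inf_le_right).trans hA.1
  obtain ⟨P, hAP, hP⟩ := IsSylowIn.exists_ge hA.isPGroup hAM.1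
  refine ⟨⟨hEA, hXA⟩, ⟨hN ▸ le_inf (p2Elem_mmax hG hM hAM).1 (cent_le_norm A), hN,
    fun h => (h1 P hP hAP).2 (le_trans ?_ h)⟩, fun X hX hXp hC =>
    uniqMax_of_forall (mFT_cent_proper hG (ne_bot_of_card_prime hXp)
      (isPi_of_card_prime hXp (mem_pi_of_tau2 hG hM.1 hp))) fun H hH hCH =>
      by_contra fun hne => hC (le_bot_iff.1 (h4 H hH hne
        ((le_cent_of_comm hA.comm le_rfl (hXA X hX hXp)).trans hCH) ▸ inf_le_inf_left _ hCH))⟩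
  have := normalizer_le_normalizer_omegaOne (p := p) P
  rwa [(h1 P hP hAP).1] at this

/-- BG 12.6(d,e). -/
theorem tau2_regular :
    (∀ E₃, IsPiHallOf (tau3 M) E₃ E → SemiReg (sigmaCore M) E₃) ∧
      (∀ x ∈ E ⊓ 𝐂(A), x ≠ 1 → (∀ q : ℕ, q.Prime → q ∣ orderOf x → q ∈ tau1 M) →
        sigmaCore M ⊓ 𝐂[x] = ⊥) ∧
      ∀ q ∈ tau1 M, ∀ X ≤ E, Nat.card X = q → X ≤ 𝐂(A) → sigmaCore M ⊓ 𝐂(X) = ⊥ := by
  have h : ∀ q ∈ tau1 M, ∀ X ≤ E, Nat.card X = q → X ≤ 𝐂(A) → sigmaCore M ⊓ 𝐂(X) = ⊥ :=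
    fun q hq X hX hXq hC => tau2_reg_of_norm hG hM hp (hA.mono hE.1) (Or.inl hq) (hX.trans hE.1)
      hXq ((le_centralizer_comm hC).trans (cent_le_norm X))
  refine ⟨fun E₃ h₃ x hx hx1 => ?_, fun x hx hx1 hπ => ?_, h⟩
  · obtain ⟨q, hq, hd, X, hX, hXq⟩ := exists_prime_le_zpowers hx1
    obtain ⟨h1, -, h2, -⟩ := tau3_context hG hM hE h₃
    have hX3 := hX.trans (zpowers_le.2 hx)
    exact le_bot_iff.1 (tau2_reg_of_norm hG hM hp (hA.mono hE.1)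
      (Or.inr (hall_isPi h₃ q hq (hXq ▸ card_dvd_of_le hX3))) ((hX3.trans h₃.1).trans hE.1) hXq
      ((hA.1.trans h2).trans (norm_le_norm_of_cyclic h1 hX3)) ▸ inf_le_inf_left _ (cent1_le_cent hX))
  · obtain ⟨q, hq, hd, X, hX, hXq⟩ := exists_prime_le_zpowers hx1
    have hX3 := hX.trans (zpowers_le.2 hx)
    exact le_bot_iff.1 (h q (hπ q hq hd) X (hX3.trans inf_le_left) hXq (hX3.trans inf_le_right) ▸
      inf_le_inf_left _ (cent1_le_cent hX))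

end Tau2

end OneMax

end CfsgLib.FT.PG
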