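import Mathlib
import Cfsg.Agent.Lib.PG.BG12b
import Cfsg.Agent.Lib.FT.BG12c

/-! Bender–Glauberman, section 12, Theorem 12.12. -/

set_option autoImplicit false
set_option linter.unusedSectionVars false



namespace CfsgLib.FT.PG

open Subgroup Cfsg BGN
open scoped commutatorElement

variable {G : Type*} [Group G] [PiCtx G] [Finite G]

theorem exists_cyclic_factor (hG : PGHyp G) {p : ℕ} [hp : Fact p.Prime] (hϖ : p ∈ ϖ[G])
    {S A Z₁ Z₂ : Subgroup G} (hS : IsPGroup p S) (hab : IsMulCommutative S) (hA : P2Elem p A S)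
    (hA' : omegaOne p S ≤ A) (h : Z₁ ⊔ Z₂ = S) (h' : Z₁ ⊓ Z₂ = ⊥) (h₁ : Z₁ ≠ ⊥) (h₂ : Z₂ ≠ ⊥) :
    ∃ Z, (Z = Z₁ ∨ Z = Z₂) ∧ IsCyclic Z ∧ ∀ s ∈ S, ∃ z ∈ Z, orderOf s ∣ orderOf z := by
  have key : ∀ Z₁ ≤ S, ∀ Z₂ ≤ S, Z₁ ⊓ Z₂ = ⊥ → Z₂ ≠ ⊥ → IsCyclic Z₁ := fun Z₁ h₁ Z₂ h₂ h' hne =>
    by_contra fun hc => by
      obtain ⟨B, hB⟩ := exists_p2Elem_of_not_cyclic (odd_of_pgroup hG hϖ (hS.to_le h₁)) (hS.to_le h₁) hc
      obtain ⟨Y, hY, hYp⟩ := exists_card_prime_le (dvd_card_of_isPGroup (hS.to_le h₂) hne)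
      have hBA := Subgroup.eq_of_le_of_card_ge ((le_omegaOne (hB.1.trans h₁) hB.2.1.2).trans hA')
        (by rw [hA.2.2, hB.2.2])
      exact ne_bot_of_card_prime hYp (le_bot_iff.1 (h' ▸ le_inf ((((le_omegaOne (hY.trans h₂)
        fun _ => pow_eq_one_of_card_prime hYp).trans hA').trans hBA.ge).trans hB.1) hY))
  have hS₁ : Z₁ ≤ S := h ▸ le_sup_left
  have hS₂ : Z₂ ≤ S := h ▸ le_sup_right
  have hc₁ := key Z₁ hS₁ Z₂ hS₂ h' h₂
  have hc₂ := key Z₂ hS₂ Z₁ hS₁ (inf_comm Z₁ Z₂ ▸ h') h₁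
  have key2 : ∀ Z : Subgroup G, IsCyclic Z → Nat.card Z₁ ∣ Nat.card Z → Nat.card Z₂ ∣ Nat.card Z →
      ∀ s ∈ S, ∃ z ∈ Z, orderOf s ∣ orderOf z := fun Z hc e₁ e₂ s hs => by
    obtain ⟨z, hz⟩ := IsCyclic.exists_ofOrder_eq_natCard (α := Z)
    refine ⟨z, z.2, ?_⟩
    obtain ⟨a, ha, b, hb, rfl⟩ := mem_sup_norm ((le_cent_of_comm hab hS₂ hS₁).trans (cent_le_norm _))
      (h.ge hs)
    rw [Subgroup.orderOf_coe, hz, orderOf_dvd_iff_pow_eq_one,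
      Commute.mul_pow (le_cent_of_comm hab hS₂ hS₁ hb a ha),
      orderOf_dvd_iff_pow_eq_one.1 ((Z₁.orderOf_dvd_natCard ha).trans e₁),
      orderOf_dvd_iff_pow_eq_one.1 ((Z₂.orderOf_dvd_natCard hb).trans e₂), one_mul]
  obtain ⟨a, ha⟩ := IsPGroup.iff_card.1 (hS.to_le hS₁)
  obtain ⟨b, hb⟩ := IsPGroup.iff_card.1 (hS.to_le hS₂)
  rcases le_total a b with hle | hle
  · exact ⟨Z₂, Or.inr rfl, hc₂, key2 Z₂ hc₂ (ha ▸ hb ▸ pow_dvd_pow p hle) dvd_rfl⟩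
  · exact ⟨Z₁, Or.inl rfl, hc₁, key2 Z₁ hc₁ dvd_rfl (ha ▸ hb ▸ pow_dvd_pow p hle)⟩

section OneMax

variable (hG : PGHyp G) {M : Subgroup G} (hM : Mx M)
include hG hM

theorem typeF_compl_reg {U : Subgroup G}
    (hreg : ∀ e ∈ U, e ≠ 1 → (∀ q : ℕ, q.Prime → q ∣ orderOf e → q ∈ tau1 M ∪ tau3 M) →
      sigmaCore M ⊓ 𝐂[e] = ⊥) {q : ℕ} (hq : q ∈ tau1 M ∪ tau3 M) {X : Subgroup G} (hX : X ≤ U)
    (hXq : Nat.card X = q) : sigmaCore M ⊓ 𝐂(X) = ⊥ := by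
  have hq' : q.Prime := hq.elim (·.1) (·.1)
  have := Fact.mk hq'
  obtain ⟨e, he, he1⟩ := exists_mem_ne_one (ne_bot_of_card_prime hXq)
  rw [← cent1_eq_of_card_prime hXq he he1]
  refine hreg e (hX he) he1 fun r hr hd => ?_
  rwa [(Nat.prime_dvd_prime_iff_eq hr hq').1 (hd.trans (hXq ▸ X.orderOf_dvd_natCard he))]

variable {E : Subgroup G} (hE : IsPiHallOf (sigma M)ᶜ E M) {p : ℕ} [hp' : Fact p.Prime]
  (hp : p ∈ tau2 M) {A : Subgroup G} (hA : P2Elem p A E)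
  {S : Subgroup G} (hS : IsSylowIn p S ⊤) (hAS : A ≤ S) (hab : IsMulCommutative S)
include hE hp hA hS hAS hab

theorem typeF_compl_nonreg {U : Subgroup G} (hUE : U ≤ E)
    (hUh : IsPiHallOf {q | q ∣ Nat.card U} U M)
    (hreg : ∀ e ∈ U, e ≠ 1 → (∀ q : ℕ, q.Prime → q ∣ orderOf e → q ∈ tau1 M ∪ tau3 M) →
      sigmaCore M ⊓ 𝐂[e] = ⊥) (hU : ¬ U ≤ 𝐂(S)) :
    ∃ X ≤ 𝐍(S), (Nat.card X).Coprime (Nat.card S) ∧ S ⊓ 𝐂(X) ≠ ⊥ ∧ ⁅S, X⁆ ≠ ⊥ := by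
  obtain ⟨-, -, -, hCS, hN⟩ := abelian_tau2_aux hG hM hE hp hA hS hAS hab
  obtain ⟨⟨hEA, -⟩, -⟩ := tau2_compl_context hG hM hE hp hA
  have hSE := (le_centralizer_of_isMulCommutative hab).trans hCS
  have hES : E ≤ 𝐍(S) := hN ▸ hEA
  obtain ⟨q, hq, Q₁, hQ₁, hnc⟩ : ∃ (q : ℕ) (_ : Fact q.Prime) (Q : Subgroup G),
      IsSylowIn q Q U ∧ ¬ Q ≤ 𝐂(S) := by
    by_contra! h
    exact hU (le_of_forall_sylow fun q hq _ =>
      let ⟨Q, hQ⟩ := IsSylowIn.exists_in (p := q) U; ⟨Q, hQ, h q hq Q hQ⟩)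
  have hQ₁1 : Q₁ ≠ ⊥ := by rintro rfl; exact hnc bot_le
  have hQ₁E := (sylow_of_hall hQ₁ hUh ((dvd_card_of_isPGroup hQ₁.isPGroup hQ₁1).trans
    (card_dvd_of_le hQ₁.le))).mono (hQ₁.le.trans hUE) hE.1
  have hqp : q ≠ p := by
    rintro rfl
    exact hnc (le_cent_of_comm hab (le_sylow_of_norm hS hQ₁.isPGroup le_top (hQ₁E.le.trans hES))
      le_rfl)
  have hd : q ∣ (𝐂(A)).relIndex E := by_contra fun h => hnc (by
    refine coprime_odd_faithful_Ohm1 (ne_two_of_mem_pi hG (mem_pi_of_tau2 hG hM.1 hp)) hS.isPGroup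
      (hQ₁E.le.trans hES) (coprime_iff_isPiSubgroup.2 (isPi_of_isPGroup hQ₁.isPGroup hqp)) ?_
    rw [((tau2_context hG hM hp (hA.mono hE.1)).2.1 S (hS.mono (hSE.trans hE.1) le_top) hAS).1]
    exact le_of_isPi_of_relIndex (π := {q}) hQ₁E.le
      (hEA.trans (Cop.normalizer_le_normalizer_centralizer A)) (isPi_of_isPGroup hQ₁.isPGroup rfl)
      fun r _ hr e => h (Set.mem_singleton_iff.1 e ▸ hr))
  have hq1 := (tau1_cent_tau2Elem_factor hG hM hE hp hA).2.2 q hq.out hd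
  have hQc := cyclic_of_rank1 (hM.odd hG (hQ₁E.le.trans hE.1)) hQ₁.isPGroup
    (pRankLE_mono hq1.2.2.2.2 (hQ₁E.le.trans hE.1))
  obtain ⟨X₀, hX₀, hX₀q⟩ := exists_card_prime_le (dvd_card_of_isPGroup hQ₁.isPGroup hQ₁1)
  obtain ⟨E₁, E₂, E₃, hc⟩ := ex_sigmaCompl hG hM hE
  have hX₀C := (abelian_tau2 hG hM hE hp hA hS hAS hab hc.hall₂ hc.hall₃).2.2.2 q hq1 X₀
    (hX₀.trans hQ₁E.le) hX₀q (typeF_compl_reg hG hM hreg (Or.inl hq1) (hX₀.trans hQ₁.le) hX₀q)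
  obtain ⟨H, hH, hNH⟩ := mmax_exists (mFT_norm_pgroup hG (mem_pi_of_tau2 hG hM.1 hp) hA.isPGroup
    hA.ne_bot)
  obtain ⟨hq2, ⟨P, hP, -, hHP⟩, T, hT, -, hTab⟩ := (primes_norm_tau2Elem hG hM hE hp hA hH hNH).2.2 q
    hd (hX₀q ▸ card_dvd_of_le (le_inf (hX₀.trans hQ₁E.le) (hX₀C.trans (centralizer_antitone hA.1))))
  obtain rfl : P = S := hS.eq_of_le hP.isPGroup
    (le_sylow_of_norm hP hS.isPGroup le_top (((hSE.trans hEA).trans hNH).trans hHP)) le_top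
  obtain ⟨Q, hQ₁Q, hQ⟩ := IsSylowIn.exists_ge hQ₁.isPGroup (hQ₁E.le.trans hES)
  obtain ⟨B, hB⟩ := exists_p2Elem (mt (pRankLE_iff_of_isSylowIn hQ).2
    fun h => hq2.2.2.2 (pRankLE_mono h hHP))
  have hQab : IsMulCommutative Q := by_contra fun h => not_comm_sylow hQ.isPGroup h hT hTab
  have hcop := coprime_of_isPGroup_ne hQ.isPGroup hS.isPGroup hqp
  by_contra! hcon
  obtain ⟨B', hB', ⟨a, ha, hBa⟩, hne⟩ : ∃ B' ≤ Q, (∃ a ∈ Q, B' ⊔ zpowers a = Q) ∧ P ⊓ 𝐂(B') ≠ ⊥ := by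
    by_contra! h
    exact ne_bot_of_le_ne_bot hA.ne_bot hAS (le_bot_iff.1 (Cop.le_of_cocyclic_centralizer_le hQab
      hQ.le hcop fun B' h1 h2 => (h B' h1 h2).le))
  have hQ₀ : Q ⊓ 𝐂(P) ≤ Q₁ := ((sylow_inf hQ₁E hCS (Or.inl ((hQ₁E.le.trans hES).trans
    (Cop.normalizer_le_normalizer_centralizer P)))).eq_of_le hQ.isPGroup.to_inf_left
    (inf_le_inf_right _ hQ₁Q) inf_le_right).le.trans inf_le_left
  have hgen : (Q ⊓ 𝐂(P)) ⊔ zpowers a = Q := le_antisymm (sup_le inf_le_left (zpowers_le.2 ha))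
    (hBa.ge.trans (sup_le_sup_right (le_inf hB' (le_centralizer_comm (comm_eq_bot_iff.1
      (hcon B' (hB'.trans hQ.le) (coprime_mono hcop hB' le_rfl) hne)))) _))
  have hn : ∀ Y ≤ Q, Y ≤ 𝐍(Q ⊓ 𝐂(P)) := fun Y hY =>
    (le_cent_of_comm hQab hY inf_le_left).trans (cent_le_norm _)
  have hded : ∀ Y ≤ Q, Q ⊓ 𝐂(P) ≤ Y → Y = (Q ⊓ 𝐂(P)) ⊔ (zpowers a ⊓ Y) := fun Y h1 h2 => by
    rw [← sup_inf_of_le (hn _ (zpowers_le.2 ha)) h2, hgen, inf_eq_right.2 h1]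
  have e₁ := hded Q₁ hQ₁Q hQ₀
  have e₂ := hded ((Q ⊓ 𝐂(P)) ⊔ B) (sup_le inf_le_left hB.1) le_sup_left
  rcases le_total_of_cyclic_pgroup (T₁ := zpowers a ⊓ Q₁) (T₂ := zpowers a ⊓ ((Q ⊓ 𝐂(P)) ⊔ B))
    inferInstance (hQ.isPGroup.to_le (zpowers_le.2 ha)) inf_le_left inf_le_left with h | h
  · have h1 : Q₁ ≤ (Q ⊓ 𝐂(P)) ⊔ B := e₁.le.trans (sup_le le_sup_left (h.trans inf_le_right))
    rw [← inf_eq_right, sup_inf_of_le (hn _ hB.1) hQ₀] at h1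
    exact hnc (h1.ge.trans (sup_le inf_le_right fun x hx => centralizer_antitone hSE (hX₀C
      (mem_of_cyclic_of_pow hQc hX₀ hx.2 (hX₀q ▸ hB.2.1.2 x hx.1)))))
  · exact hB.not_isCyclic (isCyclic_of_le (le_sup_right.trans (e₂.le.trans
      (sup_le hQ₀ (h.trans inf_le_right)))))

theorem typeF_compl_cyclic {U : Subgroup G} (hUE : U ≤ E)
    (hUh : IsPiHallOf {q | q ∣ Nat.card U} U M)
    (hreg : ∀ e ∈ U, e ≠ 1 → (∀ q : ℕ, q.Prime → q ∣ orderOf e → q ∈ tau1 M ∪ tau3 M) →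
      sigmaCore M ⊓ 𝐂[e] = ⊥) :
    ∃ Z ≤ S, U ≤ 𝐍(Z) ∧ (∀ X ≤ Z, Nat.card X = p → sigmaCore M ⊓ 𝐂(X) = ⊥) ∧
      ∀ s ∈ S, ∃ z ∈ Z, orderOf s ∣ orderOf z := by
  obtain ⟨-, -, -, hCS, hN⟩ := abelian_tau2_aux hG hM hE hp hA hS hAS hab
  obtain ⟨⟨hEA, -⟩, -, hU⟩ := tau2_compl_context hG hM hE hp hA
  have hSE := (le_centralizer_of_isMulCommutative hab).trans hCS
  obtain ⟨-, h1, -, -, -, A₁, hA₁, hA₁p, hA₁r⟩ := tau2_context hG hM hp (hA.mono hE.1)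
  obtain ⟨h2, h3⟩ := h1 S (hS.mono (hSE.trans hE.1) le_top) hAS
  have key : ∀ X ≤ S, Nat.card X = p → 𝐍(S) ≤ 𝐍(X) → sigmaCore M ⊓ 𝐂(X) = ⊥ :=
    fun X hX hXp hn => by_contra fun h => h3 (hn.trans ((hU X (hX.trans hSE) hXp h).le_of_ne_top
      (cent_le_norm X) (mFT_norm_prime hG (mem_pi_of_tau2 hG hM.1 hp) hXp)))
  by_cases hC : U ≤ 𝐂(S)
  · obtain ⟨z, hz, h4, h5⟩ := exists_max_order_elem hS.isPGroup hab (hA.of_le hAS) h2.le hA₁ hA₁p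
    exact ⟨zpowers z, zpowers_le.2 hz, (hC.trans (centralizer_antitone (zpowers_le.2 hz))).trans
      (cent_le_norm _), fun X hX hXp => (h5 X hX hXp).elim (fun e => e ▸ hA₁r)
        (key X (hX.trans (zpowers_le.2 hz)) hXp), fun s hs => ⟨z, mem_zpowers z, h4 s hs⟩⟩
  · obtain ⟨X, hX, hc, h4, h5⟩ := typeF_compl_nonreg hG hM hE hp hA hS hAS hab hUE hUh hreg hC
    obtain ⟨h6, h7⟩ := abelian_tau2_norm_Sylow hG hM hE hp hA hS hAS hab hX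
    obtain ⟨Z, h8, h9, h10⟩ := exists_cyclic_factor hG (mem_pi_of_tau2 hG hM.1 hp) hS.isPGroup hab (hA.of_le hAS) h2.le
      (Cop.commutator_sup_centralizer hX hc (Or.inr (Cop.solvable_of_isPGroup hS.isPGroup)))
      (le_bot_iff.1 ((inf_le_inf_left _ inf_le_right).trans
        (Cop.commutator_inf_centralizer_eq_bot hX hc hab).le)) h5 h4
    have h11 : Z ≤ S ∧ 𝐍(S) ≤ 𝐍(Z) := by
      rcases h8 with rfl | rfl
      exacts [⟨Cop.commutator_le_left_of_le_normalizer hX, h7⟩, ⟨inf_le_left, h6⟩]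
    exact ⟨Z, h11.1, ((hUE.trans hEA).trans hN.le).trans h11.2, fun Y hY hYp =>
      key Y (hY.trans h11.1) hYp (h11.2.trans (norm_le_norm_of_cyclic h9 hY)), h10⟩

end OneMax

/-- BG 12.12, generalized (as in the Coq proof) from `E` to a Hall `σ(M)'`-subgroup `U` of `M` with
`M_σ U ⊴ M`. -/
theorem FTtypeF_complement (hG : PGHyp G) {M : Subgroup G} (hM : Mx M)
    {U : Subgroup G} (hUM : U ≤ M)
    (hUh : (Nat.card U).Coprime (U.relIndex M)) (hU : IsPiSubgroup (sigma M)ᶜ U)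
    (hn : M ≤ 𝐍(sigmaCore M ⊔ U))
    (hreg : ∀ e ∈ U, e ≠ 1 → (∀ q : ℕ, q.Prime → q ∣ orderOf e → q ∈ tau1 M ∪ tau3 M) →
      sigmaCore M ⊓ 𝐂[e] = ⊥) :
    (∃ A ≤ U, U ≤ 𝐍(A) ∧ IsMulCommutative A ∧ ∀ x ∈ sigmaCore M, x ≠ 1 → U ⊓ 𝐂[x] ≤ A) ∧
      ∃ V ≤ U, Monoid.exponent V = Monoid.exponent U ∧ SemiReg (sigmaCore M) V := by
  obtain ⟨E, hE, hUE⟩ := ex_sigma_compl hG hM hUM hU
  have hUh' := hall_of_coprime hUM hUh
  have hEU : E ≤ 𝐍(U) := by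
    have := le_normalizer_inf (hE.1.trans hn) (le_normalizer (H := E))
    rwa [sup_inf_of_le' (hUM.trans (le_norm_Msigma M)) hUE, (sdprod_sigma hG hM hE).2,
      bot_sup_eq] at this
  have hle : ∀ (p : ℕ) [Fact p.Prime], p ∣ Nat.card U → ∀ P ≤ E, IsPGroup p P → P ≤ U :=
    fun p _ hd P hP h => le_hall_of_norm hUh' (isPi_of_isPGroup h hd) (hP.trans hE.1) (hP.trans hEU)
  by_cases hna : ∃ (p : ℕ) (_ : Fact p.Prime), p ∈ tau2 M ∧ p ∣ Nat.card U ∧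
      ∃ S, IsSylowIn p S (⊤ : Subgroup G) ∧ ¬ IsMulCommutative S
  · obtain ⟨p, hp', hp, hd, S, hS, hna⟩ := hna
    obtain ⟨A, hA⟩ := ex_tau2Elem hG hM hE hp
    obtain ⟨-, ⟨h1, -⟩, -, E₀, h2, h3, h4⟩ := nonabelian_tau2 hG hM hE hp hA hS.isPGroup hna
    have hAU := hle p hd A hA.1 hA.isPGroup
    have hA₀U := (inf_le_left : A ⊓ 𝐂(sigmaCore M) ≤ A).trans hAU
    have key : ∀ e ∈ E₀ ⊓ U, e ≠ 1 → sigmaCore M ⊓ 𝐂[e] = ⊥ := fun e he he1 => by_contra fun h => by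
      obtain ⟨x, hx, hx1⟩ := exists_mem_ne_one h
      exact h (hreg e he.2 he1 fun q hq hd => Or.inl (h4 x hx.1 hx1 q hq (hd.trans
        ((E₀ ⊓ 𝐂[x]).orderOf_dvd_natCard ⟨he.1, mem_centralizer_singleton_iff.2
          (mem_centralizer_singleton_iff.1 hx.2).symm⟩))))
    have hsup : (A ⊓ 𝐂(sigmaCore M)) ⊔ (E₀ ⊓ U) = U := by
      rw [← sup_inf_of_le (h2.2.1.trans h3) hA₀U, IsComplIn.sup_eq' h2, inf_eq_right.2 hUE]
    refine ⟨⟨_, hA₀U, hUE.trans h3, comm_of_le hA.comm inf_le_left, fun x hx hx1 u hu => ?_⟩,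
      E₀ ⊓ U, inf_le_right, exponent_eq_of_primePow inf_le_right fun u hu r k hr e => ?_, key⟩
    · obtain ⟨a, ha, e, he, rfl⟩ := h2.2.2.2 u (hUE hu.1)
      by_cases he1 : e = 1
      · rwa [he1, mul_one]
      refine absurd (key e ⟨he, (U.mul_mem_cancel_left (hA₀U ha)).1 hu.1⟩ he1)
        (ne_bot_of_mem (x := x) ⟨hx, mem_centralizer_singleton_iff.2 ?_⟩ hx1)
      exact (mem_centralizer_singleton_iff.1
        ((𝐂[x].mul_mem_cancel_left (cent_le_cent1 hx ha.2)).1 hu.2)).symm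
    · have := Fact.mk hr
      by_cases hrp : r = p
      swap
      · obtain ⟨R, hR⟩ := IsSylowIn.exists_in (p := r) (E₀ ⊓ U)
        obtain ⟨v, hv, h⟩ := exists_orderOf_eq_of_sylow (sylow_of_sup
          ((inf_le_left.trans h2.2.1).trans h3) hsup
          (by rw [h1]; exact fun h => hrp ((Nat.prime_dvd_prime_iff_eq hr hp'.out).1 h)) hR) hu e
        exact ⟨v, hR.le hv, h⟩
      subst hrp
      obtain ⟨a, ha, v, hv, rfl⟩ := mem_sup_norm ((inf_le_left.trans h2.2.1).trans h3) (hsup.ge hu)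
      have hap := pow_eq_one_of_card_prime h1 ha
      by_cases hv1 : v = 1
      · obtain ⟨y, hy, hy0⟩ := SetLike.not_le_iff_exists.1 (hA.not_le_prime h1)
        obtain ⟨b, hb, w, hw, rfl⟩ := mem_sup_norm ((inf_le_left.trans h2.2.1).trans h3)
          (hsup.ge (hAU hy))
        refine ⟨w, hw, ?_⟩
        rw [hv1, mul_one, orderOf_eq_prime (hA.2.1.2 w ((A.mul_mem_cancel_left hb.1).1 hy))
          (by rintro rfl; exact hy0 (by rwa [mul_one]))]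
        exact orderOf_dvd_of_pow_eq_one hap
      have hP := isPGroup_sup' ((zpowers_le.2 (hUE hu)).trans h3) (isPGroup_of_card_prime h1)
        (isPGroup_zpowers_iff.2 ⟨k, e⟩)
      have hPab := tau2_pgroup_abelian hG hM hp hP (sup_le (hA₀U.trans hUM) (zpowers_le.2 (hUM hu)))
      have haP := mem_sup_left (T := zpowers (a * v)) ha
      have hvP := (Subgroup.mul_mem_cancel_left _ haP).1 (mem_sup_right (mem_zpowers (a * v)))
      obtain ⟨j, hj⟩ := orderOf_eq_pow_of_mem_isPGroup hP hvP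
      refine ⟨v, hv, orderOf_dvd_of_pow_eq_one ?_⟩
      rw [Commute.mul_pow (le_centralizer_of_isMulCommutative hPab hvP a haP), pow_orderOf_eq_one,
        mul_one, hj]
      rcases j with _ | j
      · exact absurd (orderOf_eq_one_iff.1 (by simpa using hj)) hv1
      · rw [pow_succ', pow_mul, hap, one_pow]
  push Not at hna
  obtain ⟨U₂, hU₂⟩ := Hall.exists_isPiHallOf (mFT_sol_le hG hM hUM) (tau2 M)
  have hn₂ : U ≤ 𝐍(U₂) := by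
    by_cases h : U₂ = ⊥
    · rw [h, norm_bot]; exact le_top
    obtain ⟨p, hp', hd⟩ := exists_prime_dvd_card h
    have := Fact.mk hp'
    have hp := hall_isPi hU₂ p hp' hd
    obtain ⟨S, hS⟩ := IsSylowIn.exists_in (p := p) (⊤ : Subgroup G)
    obtain ⟨E₂, h₂⟩ := Hall.exists_isPiHallOf (mFT_sol_le hG hM hE.1) (tau2 M)
    have h1 : E ≤ 𝐍(E₂) := by
      rw [(abelian_tau2_E2 hG hM hE hp hS (hna p this hp (hd.trans (card_dvd_of_le hU₂.1)) S hS)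
        h₂).1]
      exact (le_norm_fittingOf E).trans (norm_le_norm_piCoreOf _ _)
    have h2 := le_normalizer_inf (hUE.trans h1) (le_normalizer (H := U))
    rwa [hall_unique (hall_inf h₂ hUE (Or.inr (hUE.trans h1))) h2 hU₂]
  have hab₂ := tau2_compl_abelian hG hM (hU₂.1.trans hUM) (hall_isPi hU₂)
  have hpart : ∀ q : ℕ, q.Prime → ∀ X ≤ U, Nat.card X = q → q ∉ tau2 M →
      sigmaCore M ⊓ 𝐂(X) = ⊥ := fun q hq X hX hXq h => typeF_compl_reg hG hM hreg (by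
    rcases (partition_pi_sigma_compl hG hM hE hq).1 (hXq ▸ card_dvd_of_le (hX.trans hUE))
      with h' | h' | h'
    exacts [Or.inl h', absurd h' h, Or.inr h']) hX hXq
  refine ⟨⟨U₂, hU₂.1, hn₂, hab₂, fun x hx hx1 => le_hall_of_norm hU₂ (fun q hq hd =>
    by_contra fun h => ?_) inf_le_left (inf_le_left.trans hn₂)⟩, ?_⟩
  · have := Fact.mk hq
    obtain ⟨X, hX, hXq⟩ := exists_card_prime_le hd
    exact ne_bot_of_mem (x := x) (mem_inf.2 ⟨hx, le_cent1_iff.1 (hX.trans inf_le_right)⟩) hx1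
      (hpart q hq X (hX.trans inf_le_left) hXq h)
  have hZ : ∀ r : ℕ, ∃ Z ≤ U₂, IsPiSubgroup {r} Z ∧ U ≤ 𝐍(Z) ∧ (r.Prime →
      (∀ X ≤ Z, Nat.card X = r → sigmaCore M ⊓ 𝐂(X) = ⊥) ∧
      ∀ u ∈ U₂, ∀ k, orderOf u = r ^ k → ∃ z ∈ Z, orderOf u ∣ orderOf z) := fun r => by
    by_cases h : r.Prime ∧ r ∣ Nat.card U₂
    · have := Fact.mk h.1
      have hr := hall_isPi hU₂ r h.1 h.2
      have hd := h.2.trans (card_dvd_of_le hU₂.1)
      obtain ⟨A, hA⟩ := ex_tau2Elem hG hM hE hr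
      obtain ⟨S, hAS, hS⟩ := IsSylowIn.exists_ge hA.isPGroup le_top
      have hab := hna r this hr hd S hS
      obtain ⟨Z, h1, h2, h3, h4⟩ := typeF_compl_cyclic hG hM hE hr hA hS hAS hab hUE hUh' hreg
      have hSU := hle r hd S ((le_centralizer_of_isMulCommutative hab).trans
        (abelian_tau2_sub_Fitting hG hM hE hr hA hS hAS hab).2.2.2) hS.isPGroup
      have hS₂ := le_hall_of_norm hU₂ (isPi_of_isPGroup hS.isPGroup hr) hSU (hSU.trans hn₂)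
      exact ⟨Z, h1.trans hS₂, isPi_of_isPGroup (hS.isPGroup.to_le h1) rfl, h2, fun _ => ⟨h3,
        fun u hu k e => h4 u (le_sylow_of_norm hS (isPGroup_zpowers_iff.2 ⟨k, e⟩) le_top
          ((le_cent_of_comm hab₂ (zpowers_le.2 hu) hS₂).trans (cent_le_norm S)) (mem_zpowers u))⟩⟩
    · refine ⟨⊥, bot_le, isPiSubgroup_bot _, le_top.trans norm_bot.ge, fun hr =>
        ⟨fun X hX hXr => ?_, fun u hu k e => ⟨1, one_mem _, ?_⟩⟩⟩
      · have := Fact.mk hr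
        exact absurd (le_bot_iff.1 hX) (ne_bot_of_card_prime hXr)
      · rcases k with _ | k
        · simp [e]
        · exact absurd ⟨hr, (e ▸ dvd_pow_self r k.succ_ne_zero : r ∣ orderOf u).trans
            (U₂.orderOf_dvd_natCard hu)⟩ h
  choose Z hZ₂ hZπ hZn hZ using hZ
  obtain ⟨U', hU'⟩ := Hall.exists_isPiHallOf (mFT_sol_le hG hM hUM) (tau2 M)ᶜ
  have hW : ⨆ r, Z r ≤ U₂ := iSup_le hZ₂
  have hWn : U ≤ 𝐍((⨆ r, Z r : Subgroup G)) :=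
    (le_iInf hZn).trans (iInf_normalizer_le_normalizer_iSup Z)
  have hV : (⨆ r, Z r) ⊔ U' ≤ U := sup_le (hW.trans hU₂.1) hU'.1
  refine ⟨_, hV, exponent_eq_of_primePow hV fun u hu r k hr e => ?_, fun v hv hv1 => ?_⟩
  · have := Fact.mk hr
    by_cases h : r ∈ tau2 M
    · obtain ⟨z, hz, h1⟩ := (hZ r hr).2 u (le_hall_of_norm hU₂ (isPi_of_isPGroup
        (isPGroup_zpowers_iff.2 ⟨k, e⟩) h) (zpowers_le.2 hu) ((zpowers_le.2 hu).trans hn₂)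
        (mem_zpowers u)) k e
      exact ⟨z, mem_sup_left (mem_iSup_of_mem r hz), h1⟩
    · obtain ⟨R, hR⟩ := IsSylowIn.exists_in (p := r) U'
      obtain ⟨v, hv, h1⟩ := exists_orderOf_eq_of_sylow (sylow_of_hall hR hU' h) hu e
      exact ⟨v, mem_sup_right (hR.le hv), h1⟩
  · obtain ⟨r, hr, -, X, hX, hXr⟩ := exists_prime_le_zpowers hv1
    have := Fact.mk hr
    have hXV := hX.trans (zpowers_le.2 hv)
    refine le_bot_iff.1 ((inf_le_inf_left _ (cent1_le_cent hX)).trans (le_of_eq ?_))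
    by_cases h : r ∈ tau2 M
    swap
    · exact hpart r hr X (hXV.trans hV) hXr h
    have hXW : X ≤ ⨆ r, Z r := le_hall_of_norm (hall_left_of_sup (hU'.1.trans hWn) rfl
      (isPiSubgroup_of_le (hall_isPi hU₂) hW) (hall_isPi hU')) (isPi_of_card_prime hXr h) hXV
      ((hXV.trans hV).trans hWn)
    refine (hZ r hr).1 X (le_hall_of_norm (hall_left_of_sup (((piCoreOf_le {r}ᶜ U₂).trans
      hU₂.1).trans (hZn r)) rfl (hZπ r) (piCoreOf_isPi _ _)) (isPi_of_card_prime hXr rfl)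
      (hXW.trans (iSup_le fun s => ?_)) ((hXV.trans hV).trans (hZn r))) hXr
    by_cases e : s = r
    · exact e ▸ le_sup_left
    · exact (le_piCoreOf (hZ₂ s) (hU₂.1.trans (hZn s)) (isPiSubgroup_mono (hZπ s)
        (Set.singleton_subset_iff.2 e))).trans le_sup_right

end CfsgLib.FT.PG
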