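import Mathlib
import Cfsg.Agent.Lib.PG.BG12c
import Cfsg.Agent.Lib.CoprimeAut
import Cfsg.Agent.Lib.FT.BG12d

/-! Bender–Glauberman, section 12, results 12.13–12.19. -/

set_option autoImplicit false
set_option linter.unusedSectionVars false



namespace CfsgLib.FT.PG

open Subgroup Cfsg BGN
open scoped commutatorElement

variable {G : Type*} [Group G] [PiCtx G] [Finite G]

/-- BG 12.13. -/
theorem nonabelian_Uniqueness (hG : PGHyp G) {p : ℕ} [hp : Fact p.Prime] (hϖ : p ∈ ϖ[G])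
    {P : Subgroup G} (hP : IsPGroup p P) (hna : ¬ IsMulCommutative P) : InUniqueMaximal P := by
  induction P using WellFoundedGT.induction with | ind P ih =>
  obtain ⟨M, hM, hPM⟩ := mmax_exists (mFT_pgroup_proper hG hϖ hP)
  by_contra hnu
  have hσ : ∀ L, Mx L → P ≤ L → p ∈ sigma L := fun L hL h => by_contra fun h' =>
    hna (sigma'_nil_abelian hG hL h (isPi_of_isPGroup hP h') (isNilpotent_of_isPGroup hP))
  have hN : ∀ L, Mx L → P ≤ L → 𝐍(P) ≤ L := fun L hL h =>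
    norm_noncyclic_sigma hG hL (hσ L hL h) hP h fun hc => hna (comm_of_cyclic hc)
  have hS : IsSylowIn p P ⊤ := by
    refine sylow_of_norm (.of_maximal (le_inf le_top le_normalizer) hP fun T hT h1 h2 => ?_)
    by_contra h3
    have := ih T (lt_of_le_not_ge h1 h3) hT fun h => hna (comm_of_le h h1)
    exact hnu ((inUniqueMaximal_iff hM hPM).2 fun L hL h => InUniqueMaximal.eq this hM
      (h2.trans (inf_le_right.trans (hN M hM hPM))) hL (h2.trans (inf_le_right.trans (hN L hL h))))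
  have hr : PRankLE p 2 P := by_contra fun h =>
    hnu (rank3_Uniqueness hG P (mFT_pgroup_proper hG hϖ hP) (not_rankLE_of_not_pRankLE h))
  have hrG : PRankLE p 2 G := pRankLE_top.1 ((pRankLE_iff_of_isSylowIn hS).2 hr)
  obtain ⟨S, C, hSC, -, hSna, hS3, hSe, -, -⟩ := mFT_rank2_Sylow_cprod hG hϖ hS hr hna
  have hSP : S ≤ P := hSC ▸ le_sup_left
  have hex := isExtraspecial_of_card_eq_cube hS3 hSna
  have hZd := extraspecial_commutator_eq hex
  have hZp := hZd ▸ extraspecial_card_commutator hex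
  obtain ⟨A, hA⟩ := exists_p2Elem_of_not_cyclic (odd_of_pgroup hG hϖ (hP.to_le hSP)) (hP.to_le hSP)
    fun h => hSna (comm_of_cyclic h)
  have key : ∀ M H, Mx M → Mx H → H ≠ M → P ≤ M → P ≤ H →
      ∃ A₀ ≤ A, Nat.card A₀ = p ∧ A₀ ≠ S ⊓ 𝐂(S) ∧ UniqMax 𝐍(A₀) M := by
    intro M H hM hH hHM hPM hPH
    have hpa : p ∉ alpha M := fun h => h.2 (pRankLE_subgroup hrG M)
    have hcop := coprime_of_isPGroup_of_isPi hP (Malpha_isPi M) hpa
    have hK : alphaCore M ⊓ 𝐂(S ⊓ 𝐂(S)) ≤ H := by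
      refine le_of_cent_le_mod_center inf_le_right hZd.le hSna (le_normalizer_inf
        (hSP.trans (hPM.trans (le_norm_Malpha M)))
        ((le_centralizer_comm inf_le_right).trans le_normalizer)) inf_le_right
        (coprime_mono hcop hSP inf_le_left) fun a ha haZ => ?_
      have ha1 : a ≠ 1 := fun h => haZ (h ▸ one_mem _)
      have := p2Elem_sup (H := H) hZp (card_zpowers_of_pow_eq_one (hSe a ha) ha1)
        (fun h => haZ (h ▸ mem_zpowers a))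
        (zpowers_le.2 (le_centralizer_comm inf_le_right ha))
        (inf_le_left.trans (hSP.trans hPH)) (zpowers_le.2 (hPH (hSP ha)))
      refine le_trans ?_ (p2Elem_mmax hG hH this).1
      rw [cent_sup, cent_zpowers]
      exact inf_le_inf_right _ inf_le_right
    obtain ⟨h1, h2⟩ := nonuniq_norm_Sylow_pprod hG hM hH hHM hϖ hS
      (le_inf (hN H hH hPH) (hN M hM hPM))
    replace h1 : alphaCore M ⊔ (H ⊓ M) = M := by
      change piCoreOf (alpha M) M ⊔ _ = _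
      rw [h2, h1]
    have h3 : M ⊓ 𝐍(S ⊓ 𝐂(S)) ≤ H := by
      have := pprod_norm_coprime_prod (inf_le_right.trans (le_norm_Malpha M))
        (inf_le_left.trans (hSP.trans (le_inf hPH hPM)) : S ⊓ 𝐂(S) ≤ H ⊓ M)
        (coprime_mono hcop (inf_le_left.trans hSP) le_rfl)
        (Or.inr (mFT_sol_le hG hM (Malpha_le M)))
      rw [h1] at this
      exact this.le.trans (sup_le hK (inf_le_left.trans inf_le_left))
    by_contra h4
    push Not at h4
    have := ((p2Elem_mmax hG hM (hA.mono (hSP.trans hPM))).2 fun A₀ h5 h6 h7 => h4 A₀ h5 h6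
      (fun h8 => hHM (h7.eq hH (h8 ▸ (le_inf (h8 ▸ h7.le) le_rfl).trans h3))) h7).2.1
    rw [this, bot_sup_eq, inf_eq_right] at h1
    exact hHM ((hM.le_iff_eq hH.1).1 h1)
  obtain ⟨H, hH, hPH, hHM⟩ := exists_mmax_ne_of_not_uniq (mFT_pgroup_proper hG hϖ hP)
    fun h : UniqMax P M => hnu (h.inUniq hM)
  obtain ⟨A₀, h1, h2, h3, h4⟩ := key M H hM hH hHM hPM hPH
  obtain ⟨A₁, h1', h2', h3', h4'⟩ := key H M hH hM hHM.symm hPH hPM
  have hAm : PMaxElem p A := fun B hB h => (eq_of_le_of_card_ge h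
    (hA.2.2 ▸ pRankLE_iff'.1 hrG B hB)).symm
  have e : omegaOne p (S ⊓ 𝐂(S)) = S ⊓ 𝐂(S) := omegaOne_eq_self fun x hx => hSe x hx.1
  obtain ⟨x, hx, rfl⟩ := (basic_p2maxElem_structure hG hϖ hA hAm (hP.to_le hSP) hSna).2.2 A₀ h1 A₁ h1'
    h2 h2' (e.symm ▸ h3) (e.symm ▸ h3')
  have := h4.cj x
  rw [← normalizer_map_conj, cj_eq_of_mem (hPM (hSP hx.1))] at this
  exact hHM (this.eq hH h4'.le)

section OneMax'

variable (hG : PGHyp G) {M : Subgroup G} (hM : Mx M)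
include hG hM

/-- BG 12.14. -/
theorem cent_der_sigma_uniq {p : ℕ} [hp' : Fact p.Prime] {X P : Subgroup G} (hXM : X ≤ M)
    (hX : Nat.card X = p) (hP : IsSylowIn p P M)
    (h : p ∈ beta M ∨ X ≤ ⁅sigmaCore M, sigmaCore M⁆) : UniqMax 𝐂(X) M ∧ UniqMax P M := by
  have hXp := isPGroup_of_card_prime hX
  have hX1 := ne_bot_of_card_prime hX
  have hp2 : p ≠ 2 := mFT_prime_ne_two' hG (hM.loc hXM) (hX ▸ dvd_rfl : p ∣ Nat.card X)
  have hp : p ∈ sigma M := h.elim (fun h => beta_sub_sigma hG hM h) fun h =>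
    mem_of_isPi_of_isPGroup hXp hX1 (isPiSubgroup_of_le (Msigma_isPi M) (h.trans (der_le _)))
  have hϖ := mem_pi_of_sigma hp
  obtain ⟨R, hXR, hR⟩ := IsSylowIn.exists_ge hXp hXM
  suffices InUniqueMaximal (R ⊓ 𝐂(X)) by
    have h1 := uniqMax_of_inUniq this hM (inf_le_left.trans hR.le)
    obtain ⟨x, hx, rfl⟩ := hP.exists_conj_eq hR
    have h2 := (h1.mono inf_le_left (mFT_pgroup_proper hG hϖ hR.isPGroup)).cj x
    rw [cj_eq_of_mem hx] at h2
    exact ⟨h1.mono inf_le_right (loc_cent_pgroup hϖ hXp hX1), h2⟩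
  by_cases hr : PRankLE p 2 ↥(R ⊓ 𝐂(X))
  swap
  · exact rank3_Uniqueness hG _ (mFT_pgroup_proper hG hϖ (hR.isPGroup.to_le inf_le_left))
      (not_rankLE_of_not_pRankLE hr)
  have hpb : p ∉ beta M := by
    rw [mem_beta_iff_not_narrow hG hM hR, not_not]
    by_cases h2 : PRankLE p 2 R
    · exact Or.inl h2
    · exact (isNarrow_iff_exists_cent_rank2 hp2 hR.isPGroup h2).2 ⟨X, hXR, hX, hr⟩
  have hXd : X ≤ ⁅R, R⁆ := (le_inf hXR (h.resolve_left hpb)).trans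
    (sylow_inf_der_le (beta_max_pdiv hG hM hpb).2.1
      (hR.mono (le_Msigma hG hM hR.le (isPi_of_isPGroup hR.isPGroup hp)) (Msigma_le M)))
  have hna : ¬ IsMulCommutative R := fun h => hX1 (le_bot_iff.1
    (hXd.trans (comm_eq_bot_iff.2 (le_centralizer_of_isMulCommutative h)).le))
  have h2 : PRankLE p 2 R := by_contra fun h2 => by
    have := (narrow_cent_dprod hp2 hR.isPGroup h2 (S := X.subgroupOf R)
      (by rw [card_subgroupOf_of_le hXR, hX]) (by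
        rwa [← pRankLE_map_subtype_iff, map_subtype_centralizer, map_subgroupOf_eq_of_le hXR])).2.1
    rw [← der_subgroupOf, inf_eq_left.2 (subgroupOf_mono R hXd), subgroupOf_eq_bot, disjoint_iff,
      inf_eq_left.2 hXR] at this
    exact hX1 this
  obtain ⟨S, C, rfl, hCS, hSna, hS3, -, hC, hZ⟩ :=
    mFT_rank2_Sylow_cprod hG hϖ (sigma_Sylow_G hp hR) h2 hna
  have h3 : ⁅S ⊔ C, S ⊔ C⁆ ≤ 𝐂(S ⊔ C) := by
    refine (commutator_sup_sup_le (hCS.trans (cent_le_norm _))).trans ?_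
    rw [comm_eq_bot_iff.2 (le_centralizer_comm hCS),
      comm_eq_bot_iff.2 (le_cent_of_cyclic hC le_rfl le_rfl), sup_bot_eq, sup_bot_eq,
      extraspecial_commutator_eq (isExtraspecial_of_card_eq_cube hS3 hSna), cent_sup]
    exact le_inf inf_le_right (le_cent_of_cyclic hC (hZ ▸ omegaOne_le_iff.2 fun _ h _ => h) le_rfl)
  rw [inf_eq_left.2 (le_centralizer_comm (hXd.trans h3))]
  exact nonabelian_Uniqueness hG hϖ hR.isPGroup hna

/-- BG 12.15. -/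
theorem sigma_subgroup_embedding {q : ℕ} [hq' : Fact q.Prime] (hq : q ∈ sigma M)
    {X H S : Subgroup G} (hXM : X ≤ M) (hX : IsPGroup q X) (hX1 : X ≠ ⊥) (hH : Mx H)
    (hN : 𝐍(X) ≤ H) (hHM : H ≠ M) (hS : IsSylowIn q S (M ⊓ H)) (hXS : X ≤ S) :
    NotConj H M ∧ 𝐍(S) ≤ M ∧ IsSylowIn q S H ∧
      (q ∈ sigma H → betaCore H ⊔ (M ⊓ H) = H ∧ tau1 H ⊆ tau1 M ∪ alpha M ∧
        betaCore M = alphaCore M ∧ alphaCore M ≠ ⊥) ∧
      (q ∉ sigma H → q ∈ tau2 H ∧ (∀ r, r ∣ Nat.card M → r ∈ sigma H → r ∈ beta H) ∧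
        IsPiHallOf (sigma H)ᶜ (M ⊓ H) H) := by
  have hϖ := mem_pi_of_sigma hq
  have ha := mmax_norm_notJ hG hM hH hϖ hX hXM hN (Or.inl ⟨hq, hHM.symm⟩)
  have hSM := hS.le.trans inf_le_left
  have hb : 𝐍(S) ≤ M := by
    by_cases hc : IsCyclic S
    · exact norm_sigma_Sylow hq (sylow_of_norm' hS hSM
        (inf_le_inf_left _ ((norm_le_norm_of_cyclic hc hXS).trans hN)))
    · exact norm_noncyclic_sigma hG hM hq hS.isPGroup hSM hc
  have hc : IsSylowIn q S H := sylow_of_norm' hS (hS.le.trans inf_le_right)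
    (le_inf (inf_le_right.trans hb) inf_le_left)
  refine ⟨ha, hb, hc, fun hqH => ?_, fun hqH => ?_⟩
  · have hSG := sigma_Sylow_G hqH hc
    have hN' := norm_sigma_Sylow hqH hc
    obtain ⟨h1, h2⟩ := nonuniq_norm_Sylow_pprod hG hM hH hHM hϖ hSG (le_inf hN' hb)
    obtain ⟨h3, -⟩ := nonuniq_norm_Sylow_pprod hG hH hM hHM.symm hϖ hSG (le_inf hb hN')
    refine ⟨h3, fun p hp => or_iff_not_imp_right.2 fun hpa => ?_,
      (congrArg (piCoreOf · M) h2).symm, fun h => Set.disjoint_left.1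
        ((sigma_disjoint hG hM hH ha).2.2 (isNilpotent_of_le
          (der1_nil_of_Malpha_eq_bot hG hM h) (Msigma_der1 hG hM))).2 hq hqH⟩
    have := Fact.mk hp.1
    obtain ⟨R, hR⟩ := IsSylowIn.exists_in (p := p) (H ⊓ M)
    have hpb : ¬ p ∣ Nat.card (betaCore M) := fun h => hpa (h2 ▸ Mbeta_isPi M p hp.1 h)
    have hRM := sylow_of_sup (inf_le_right.trans (le_norm_Mbeta M)) h1 hpb hR
    have hRH := sylow_of_sup (inf_le_right.trans (le_norm_Mbeta H)) h3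
      (fun h => hp.2.1 (beta_sub_sigma hG hH (Mbeta_isPi H p hp.1 h))) (inf_comm H M ▸ hR)
    have hR1 := hRH.ne_bot hp.2.2.1
    have h4 : R ⊓ ⁅M, M⁆ = ⊥ := by
      have := pprod_focal_coprime (inf_le_right.trans (le_norm_Mbeta M)) hR.le
        (coprime_of_isPGroup_of_isPi hR.isPGroup (isPi_compl_of_not_dvd hpb) fun h => h rfl)
      rw [h1] at this
      rw [this]
      exact inf_eq_bot_of_cop (coprime_of_isPGroup_of_isPi hR.isPGroup
        (der1_isPi_tau1' (M := H) (commutator_mono inf_le_left inf_le_left)) fun h => h hp)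
    refine ⟨hp.1, fun h => hR1 ?_, (dvd_card_of_isPGroup hR.isPGroup hR1).trans
      (card_dvd_of_le hRM.le), IsSylowIn.bot_iff.1 (h4 ▸ sylow_inf hRM (der_le M)
        (Or.inl (hRM.le.trans (le_norm_der M)))), (pRankLE_iff_of_isSylowIn hRM).2
        ((pRankLE_iff_of_isSylowIn hRH).1 hp.2.2.2.2)⟩
    rw [← h4, inf_eq_left.2 (sigma_Sylow_der1 hG hM h hRM)]
  · have hq2 := (prime_class_mmax_norm hG hH hϖ hX hN).resolve_left hqH
    obtain ⟨A, hA⟩ := exists_p2Elem fun h => hq2.2.2.2 ((pRankLE_iff_of_isSylowIn hc).2 h)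
    obtain ⟨-, -, -, h1, h2, -⟩ := tau2_context hG hH hq2 (hA.mono hc.le)
    obtain ⟨E, hE, hME⟩ := ex_sigma_compl hG hH (F := M ⊓ H) inf_le_right fun r hr hd hrs => by
      have := Fact.mk hr
      obtain ⟨Y, hY, hYr⟩ := exists_card_prime_le hd
      exact ne_bot_of_card_prime hYr (le_bot_iff.1 ((le_inf (le_Msigma hG hH
        (hY.trans inf_le_right) (isPi_of_card_prime hYr hrs)) (hY.trans inf_le_left)).trans
        (h2 M hM hHM.symm (hA.1.trans hSM)).le))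
    obtain ⟨⟨h3, -⟩, ⟨h4, -⟩, -⟩ := tau2_compl_context hG hH hE hq2 (hA.mono (hS.le.trans hME))
    refine ⟨hq2, fun r hrM hr => by_contra fun hrb => ?_, (le_antisymm hME (le_inf (h3.trans
      (norm_noncyclic_sigma hG hM hq hA.isPGroup (hA.1.trans hSM) hA.not_isCyclic)) hE.1)) ▸ hE⟩
    have := Fact.mk hr.1
    have hqb : ∀ L : Subgroup G, q ∉ beta L := fun L h => (tau2_not_beta hG hH hq2).1 h.2
    rcases lt_trichotomy r q with h | rfl | h
    · obtain ⟨P, hP, hAP⟩ := (beta'_cent_Sylow hG hH hrb (hqb H) hA.isPGroup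
        (Or.inr ⟨h, hA.1.trans hc.le⟩)).1
      exact hP.ne_bot ((pi_Msigma hG hH hr.1).2 hr)
        (le_bot_iff.1 ((le_inf hP.le (le_centralizer_comm hAP)).trans h1.le))
    · exact hqH hr
    · obtain ⟨Y, hY, hYr⟩ := exists_card_prime_le hrM
      obtain ⟨Q, hQ, hYQ⟩ := (beta'_cent_Sylow hG hM (hqb M) (fun h' => Set.disjoint_left.1
        (tau2_sigma_disjoint hG hH hq2 hM ha.symm).2 hr (beta_sub_sigma hG hM h'))
        (isPGroup_of_card_prime hYr) (Or.inr ⟨h, hY⟩)).1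
      obtain ⟨g, -, hg⟩ := (sigma_Sylow_G hq
        (sylow_of_hall hQ (Msigma_Hall hG hM) hq)).exists_conj_le hA.isPGroup le_top
      have h5 : g⁻¹ •ᶜ Y ≤ E := (le_cj_iff.1 (by
        rw [← centralizer_map_conj]; exact hYQ.trans (centralizer_antitone hg))).trans h4
      exact hall_isPi hE r hr.1 ((card_map_conj g⁻¹ Y ▸ hYr ▸ dvd_rfl : r ∣ _).trans
        (card_dvd_of_le h5)) hr

theorem sigma_Jsub_aux {Y : Subgroup G} (hY : IsPiSubgroup (sigma M) Y) (hY1 : Y ≠ ⊥) :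
    ∃ (g : G) (L K : Subgroup G), Mx L ∧ 𝐍(Y) ≤ L ∧ L ≤ 𝐍(K) ∧ K ⊔ (g •ᶜ M ⊓ L) = L ∧
      IsPiSubgroup (sigma M)ᶜ K ∧
      ∀ p : ℕ, p.Prime → p ∣ Nat.card M → ¬ IsIdealPrime p G → ¬ p ∣ Nat.card K := by
  have hYt : Loc Y := loc_of_pi hG (pi_of_sigma hY)
  obtain ⟨q, _, hX1⟩ := exists_pCore_ne_bot' (mFT_sol hG hYt) hY1
  have hX := piCoreOf_isPGroup (p := q) Y
  have hq := mem_of_isPi_of_isPGroup hX hX1 (isPiSubgroup_of_le hY (piCoreOf_le _ _))
  obtain ⟨S, hS⟩ := IsSylowIn.exists_in (p := q) M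
  obtain ⟨g, -, hg⟩ := (sigma_Sylow_G hq hS).exists_conj_le hX le_top
  have hXM := cj_le_iff.1 (hg.trans hS.le)
  have hM' := isCoatom_map_conj hM g⁻¹
  have hNY := norm_le_norm_piCoreOf {q} Y
  by_cases h : UniqMax 𝐍(piCoreOf {q} Y) (g⁻¹ •ᶜ M)
  · exact ⟨g⁻¹, _, ⊥, hM', hNY.trans h.le, norm_bot.ge.trans' le_top, by simp,
      isPiSubgroup_bot _, fun p hp _ _ h => hp.one_lt.ne' (by simpa using h)⟩
  obtain ⟨L, hL, hN, hLM⟩ := exists_mmax_ne_of_not_uniq (mFT_norm_pgroup hG (mem_pi_of_sigma hq) hX hX1) h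
  obtain ⟨T, hXT, hT⟩ := IsSylowIn.exists_ge hX (le_inf hXM (le_normalizer.trans hN))
  obtain ⟨h1, -, -, h2, h3⟩ := sigma_subgroup_embedding hG hM' (mem_sigma_conj hq _) hXM hX hX1 hL
    hN hLM hT hXT
  by_cases hqL : q ∈ sigma L
  · refine ⟨g⁻¹, L, _, hL, hNY.trans hN, le_norm_Mbeta L, (h2 hqL).1, fun r hr hd hs => ?_,
      fun p hp _ h hd => h (Mbeta_isPi L p hp hd).2⟩
    exact Set.disjoint_left.1 (sigma_disjoint hG hL hM' h1.symm).2.1
      (Mbeta_isPi L r hr hd).1 (mem_sigma_conj hs _)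
  · obtain ⟨h4, h5, h6⟩ := h3 hqL
    refine ⟨g⁻¹, L, _, hL, hNY.trans hN, le_norm_Msigma L, (sdprod_sigma hG hL h6).1,
      fun r hr hd hs => ?_, fun p hp hpM h hd =>
        h (h5 p (by rwa [card_map_conj]) (Msigma_isPi L p hp hd)).2⟩
    exact Set.disjoint_left.1 (tau2_sigma_disjoint hG hL h4 hM' h1.symm).2
      (Msigma_isPi L r hr hd) (mem_sigma_conj hs _)

/-- BG 12.16, first assertion. -/
theorem sigma_Jsub {Y : Subgroup G} (hY : IsPiSubgroup (sigma M) Y) :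
    ∃ g : G, g •ᶜ Y ≤ sigmaCore M := by
  by_cases hY1 : Y = ⊥
  · exact ⟨1, by simp [hY1]⟩
  obtain ⟨g, L, K, hL, h1, h2, h3, h4, -⟩ := sigma_Jsub_aux hG hM hY hY1
  obtain ⟨x, -, hx⟩ := exists_cj_le_of_coprime (mFT_sol hG hL.1) (inf_le_right.trans h2) h3
    (le_normalizer.trans h1) fun r hr h h' => h4 r hr h' (hY r hr h)
  exact ⟨g⁻¹ * x, le_Msigma hG hM (cj_cj g⁻¹ x Y ▸ le_cj_iff.1 (hx.trans inf_le_left))
    (isPi_cj hY _)⟩

/-- BG 12.16(a,b); `p ∈ π(E)` is written `p ∣ |M|`, `p ∉ σ(M)`. -/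
theorem sigma_Jsub_rank {Y : Subgroup G} (hY : IsPiSubgroup (sigma M) Y) (hY1 : Y ≠ ⊥) {p : ℕ}
    [hp' : Fact p.Prime] (hpM : p ∣ Nat.card M) (hp : p ∉ sigma M) (hpβ : ¬ IsIdealPrime p G)
    {H : Subgroup G} (hH : Mx H) (hYH : Y ≤ H) (hHM : NotConj H M) :
    PRankLE p 1 ↥(H ⊓ 𝐍(Y)) ∧ (p ∈ tau1 M → ¬ p ∣ Nat.card ↥⁅H ⊓ 𝐍(Y), H ⊓ 𝐍(Y)⁆) := by
  obtain ⟨g, L, K, hL, h1, h2, h3, h4, h5⟩ := sigma_Jsub_aux hG hM hY hY1
  have hpK := h5 p hp'.out hpM hpβ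
  refine ⟨by_contra fun h => ?_, fun h hd => ?_⟩
  · obtain ⟨A, hA⟩ := exists_p2Elem h
    have hAY := hA.1.trans inf_le_right
    obtain ⟨x, -, hx⟩ := exists_cj_le_of_coprime (W := Y ⊔ A) (mFT_sol hG hL.1)
      (inf_le_right.trans h2) h3 (sup_le (le_normalizer.trans h1) (hAY.trans h1)) fun r hr h h' =>
        (isPi_sup' (π := sigma M ∪ {p}) hAY (isPiSubgroup_mono hY Set.subset_union_left)
          (isPi_of_isPGroup hA.isPGroup (Or.inr rfl)) r hr h).elim (h4 r hr h')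
          fun e => hpK (e ▸ h')
    have h6 := cj_le_iff.1 (hx.trans inf_le_left)
    rw [cj_cj] at h6
    have hM' := isCoatom_map_conj hM (x⁻¹ * g)
    have hA' := hA.of_le (le_sup_right.trans h6)
    exact hY1 (le_bot_iff.1 ((le_inf (le_Msigma hG hM' (le_sup_left.trans h6)
      (sigma_conj _ M ▸ hY)) hYH).trans ((tau2_context hG hM' (mem_tau2_of_p2Elem hG hM'
        (sigma_conj _ M ▸ hp) hA') hA').2.2.2.2.1 H hH (hHM _) (hA.1.trans inf_le_left)).le))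
  · have h6 : H ⊓ 𝐍(Y) ≤ K ⊔ (g •ᶜ M ⊓ L) := h3.symm ▸ inf_le_right.trans h1
    have h7 := inf_le_right.trans h2 (a := g •ᶜ M ⊓ L)
    exact (tau1_conj g M ▸ h : p ∈ tau1 (g •ᶜ M)).2.2.2.1 ((dvd_card_of_dvd_sup ((der_le _).trans h7)
      (hd.trans (card_dvd_of_le ((commutator_mono h6 h6).trans (der_sup_le h7)))) hpK).trans
      (card_dvd_of_le (commutator_mono inf_le_left inf_le_left)))

/-- BG 12.17. -/
theorem sigma_compl_embedding {E : Subgroup G} (hE : IsPiHallOf (sigma M)ᶜ E M) :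
    sigmaCore M ⊓ 𝐂(E) ≤ ⁅sigmaCore M, sigmaCore M⁆ ∧ ⁅sigmaCore M, E⁆ = sigmaCore M ∧
      ∀ g : G, g ∉ M → IsCyclic ↥(sigmaCore M ⊓ g •ᶜ M) ∧
        IsPiSubgroup (beta M)ᶜ (sigmaCore M ⊓ g •ᶜ M) ∧
        sigmaCore M ⊓ g •ᶜ M ⊓ ⁅sigmaCore M, sigmaCore M⁆ = ⊥ := by
  obtain ⟨h1, h2⟩ := coprime_der1_sdprod (mFT_sol_le hG hM (Msigma_le M)) (sigma_compl_norm hE)
    (coprime_sigma_compl' hE).symm (by rw [(sdprod_sigma hG hM hE).1]; exact Msigma_der1 hG hM)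
  refine ⟨h2, h1, fun g hg => ?_⟩
  have key : ∀ (p : ℕ) [Fact p.Prime], ∀ X ≤ sigmaCore M ⊓ g •ᶜ M, IsPGroup p X → X ≠ ⊥ →
      ¬ 𝐂(X) ≤ M := fun p _ X hX hp h1 h => hg (inv_mem_iff.1 (sigma_cent_trans hG hM
        (mem_of_isPi_of_isPGroup hp h1 (isPiSubgroup_of_le (Msigma_isPi M) (hX.trans inf_le_left)))
        hp (hX.trans (inf_le_left.trans (Msigma_le M))) h (le_cj_iff.1 (hX.trans inf_le_right))))
  have key2 : ∀ (p : ℕ) [Fact p.Prime], ∀ X ≤ sigmaCore M ⊓ g •ᶜ M, Nat.card X = p →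
      ¬ (p ∈ beta M ∨ X ≤ ⁅sigmaCore M, sigmaCore M⁆) := fun p _ X hX hp h => by
    obtain ⟨P, hP⟩ := IsSylowIn.exists_in (p := p) M
    exact key p X hX (isPGroup_of_card_prime hp) (ne_bot_of_card_prime hp) (cent_der_sigma_uniq hG hM
      (hX.trans (inf_le_left.trans (Msigma_le M))) hp hP h).1.le
  have h3 : sigmaCore M ⊓ g •ᶜ M ⊓ ⁅sigmaCore M, sigmaCore M⁆ = ⊥ := by_contra fun h => by
    obtain ⟨p, hp, hd⟩ := exists_prime_dvd_card h
    have := Fact.mk hp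
    obtain ⟨X, hX, hXp⟩ := exists_card_prime_le hd
    exact key2 p X (hX.trans inf_le_left) hXp (Or.inr (hX.trans inf_le_right))
  refine ⟨cyclic_of_nil_of_rank1 (hM.odd hG (inf_le_left.trans (Msigma_le M))) (nil_of_comm (isMulCommutative_of_le_centralizer
    (comm_eq_bot_iff.1 (le_bot_iff.1 ((le_inf (der_le _)
      (commutator_mono inf_le_left inf_le_left)).trans h3.le))))) fun p hp => by_contra fun h => ?_,
    fun p hp hd h => ?_, h3⟩
  · have := Fact.mk hp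
    obtain ⟨A, hA⟩ := exists_p2Elem h
    exact key p A hA.1 hA.isPGroup hA.ne_bot
      (p2Elem_mmax hG hM (hA.mono (inf_le_left.trans (Msigma_le M)))).1
  · have := Fact.mk hp
    obtain ⟨X, hX, hXp⟩ := exists_card_prime_le hd
    exact key2 p X hX hXp (Or.inl h)

/-- BG 12.18. -/
theorem cent_Malpha_reg_tau1 {p q : ℕ} [hq' : Fact q.Prime] (hϖ : q ∈ ϖ[G]) (hp : p ∈ tau1 M) (hqp : q ≠ p)
    {P Q : Subgroup G} (hPM : P ≤ M) (hP : Nat.card P = p) (hQ1 : Q ≠ ⊥) (hPQ : P ≤ 𝐍(Q))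
    (hreg : Q ⊓ 𝐂(P) = ⊥) (hnu : ¬ UniqMax 𝐍(Q) M) :
    (alphaCore M ≠ ⊥ → q ∉ alpha M → IsPGroup q Q → Q ≤ M →
        alphaCore M ⊓ 𝐂(P) ≠ ⊥ ∧ alphaCore M ⊓ 𝐂(Q ⊔ P) = ⊥) ∧
      (IsSylowIn q Q M → alpha M = beta M ∧ alphaCore M ≠ ⊥ ∧ q ∉ alpha M ∧
        alphaCore M ⊓ 𝐂(P) ≠ ⊥ ∧ alphaCore M ⊓ 𝐂(Q ⊔ P) = ⊥) := by
  have := Fact.mk hp.1
  have hPp := isPGroup_of_card_prime hP
  have hnu' : IsPGroup q Q → ¬ InUniqueMaximal (M ⊓ 𝐂(Q)) := fun hQ h =>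
    hnu ((uniqMax_of_inUniq h hM inf_le_left).mono (inf_le_right.trans (cent_le_norm Q))
      (mFT_norm_pgroup hG hϖ hQ hQ1))
  have ha : alphaCore M ≠ ⊥ → q ∉ alpha M → IsPGroup q Q → Q ≤ M →
      alphaCore M ⊓ 𝐂(P) ≠ ⊥ ∧ alphaCore M ⊓ 𝐂(Q ⊔ P) = ⊥ := by
    intro h1 hq hQ hQM
    have hQa : IsPiSubgroup (alpha M)ᶜ Q := isPi_of_isPGroup hQ hq
    have hPa : IsPiSubgroup (alpha M)ᶜ P :=
      isPi_of_isPGroup hPp fun h => hp.2.1 (alpha_sub_sigma hG hM h)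
    have hrQ : RankLE 1 ↥(alphaCore M ⊓ 𝐂(Q)) := by_contra fun h =>
      hnu' hQ (cent_alpha'_uniq hG hM hQM hQa h)
    have hrP : RankLE 1 ↥(alphaCore M ⊓ 𝐂(P)) := by_contra fun h =>
      have hpϖ : p ∈ ϖ[G] := pi_of_inf_cent hG (pi_of_le (pi_of_sigma (Msigma_isPi M))
        (Malpha_sub_Msigma hG hM)) (fun e => h (e ▸ fun r hr =>
          have := Fact.mk hr
          by_contra fun h' => hr.one_lt.ne' (by simpa using dvd_card_of_not_pRankLE h')))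
        p hp.1 hP.symm.dvd
      (prime_class_mmax_norm hG hM hpϖ hPp ((uniqMax_of_inUniq (cent_alpha'_uniq hG hM hPM hPa h) hM
        inf_le_left).le_of_ne_top (inf_le_right.trans (cent_le_norm P))
          (mFT_norm_prime hG hpϖ hP))).elim hp.2.1 (tau2'1 hp)
    have hfrob : ∀ x ∈ P, x ≠ 1 → Q ⊓ 𝐂[x] = ⊥ := fun x hx h =>
      cent1_eq_of_card_prime hP hx h ▸ hreg
    have hs := mFT_sol_le hG hM (Malpha_le M)
    have hcQ := (coprime_of_isPi (Malpha_isPi M) hQa).symm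
    have hcP := (coprime_of_isPi (Malpha_isPi M) hPa).symm
    refine ⟨fun h => h1 (Malpha_eq_bot_of_rank2 hG hM (rankLE_of_le_rank (rankLE_mono hrQ
      (le_inf le_rfl (le_centralizer_comm (Frobenius_Wielandt_cent hPQ hfrob
        (hQM.trans (le_norm_Malpha M)) (hPM.trans (le_norm_Malpha M)) hs hcQ hcP
        (ne_bot_of_card_prime hP) h)))) one_le_two)), by_contra fun h => ?_⟩
    obtain ⟨r, hr, hd⟩ := exists_prime_dvd_card h
    have := Fact.mk hr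
    obtain ⟨X, hX, hXr⟩ := exists_card_prime_le hd
    have hra := Malpha_isPi M r hr (hd.trans (card_dvd_of_le inf_le_left))
    obtain ⟨R, hR, hn, hXR⟩ := exists_inv_sylow_ge ((sup_le hQM hPM).trans (le_norm_Malpha M))
      (coprime_of_isPi (Malpha_isPi M) (isPi_sup' hPQ hQa hPa)).symm (Or.inr hs)
      (isPGroup_of_card_prime hXr) (hX.trans inf_le_left)
      ((le_centralizer_comm (hX.trans inf_le_right)).trans (cent_le_norm X))
    obtain ⟨T, hTR, -, hn', -, -, hTe, hT⟩ := critical_odd (ne_two_of_mem_pi hG (mem_pi_of_alpha hG hM.1 hra)) hR.isPGroup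
      fun h => ne_bot_of_card_prime hXr (le_bot_iff.1 (h ▸ hXR))
    have hTM := hTR.trans hR.le
    have e : T ⊓ 𝐂(Q ⊔ P) = T ⊓ 𝐂(P) := le_antisymm
      (inf_le_inf_left _ (centralizer_antitone le_sup_right)) fun x hx => ⟨hx.1, (hX
        (mem_of_cyclic_of_pow (cyclic_of_rank1 (hM.odd hG (inf_le_left.trans (hR.le.trans (Malpha_le M))))
          (hR.isPGroup.to_le inf_le_left)
          (rankLE_mono hrP (inf_le_inf_right _ hR.le) r hr))
          (le_inf hXR (hX.trans (inf_le_right.trans (centralizer_antitone le_sup_right))))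
          ⟨hTR hx.1, hx.2⟩ (hXr ▸ hTe x hx.1))).2⟩
    have h2 := Frobenius_Wielandt_fixpoint hPQ hfrob (le_sup_left.trans (hn.trans hn'))
      (le_sup_right.trans (hn.trans hn')) (isSolvable_of_le hs hTM) (coprime_mono hcQ le_rfl hTM)
      (coprime_mono hcP le_rfl hTM)
    rw [e, Nat.mul_right_inj (pow_ne_zero _ Nat.card_pos.ne')] at h2
    have h3 : Q ≤ 𝐂(T) := le_centralizer_comm
      ((eq_of_le_of_card_ge inf_le_left h2.le).ge.trans inf_le_right)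
    have h4 : Q ≤ 𝐂(R) := fun a ha => hT a (hn (mem_sup_left ha))
      ((hcQ.coprime_dvd_left (Subgroup.orderOf_dvd_natCard Q ha)).coprime_dvd_right
        (hd.trans (card_dvd_of_le inf_le_left))) (h3 ha)
    exact hra.2 ((pRankLE_iff_of_isSylowIn (sylow_of_hall hR (Malpha_Hall hG hM) hra)).2
      (pRankLE_of_le_rank hr.pos (rankLE_mono hrQ (le_inf hR.le (le_centralizer_comm h4)) r hr)
        one_le_two))
  refine ⟨ha, fun hQ => ?_⟩
  have hq : q ∉ alpha M := fun h => hnu ((uniqMax_of_inUniq (rank3_Uniqueness hG Q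
    (mFT_pgroup_proper hG hϖ hQ.isPGroup) (not_rankLE_of_not_pRankLE fun h' =>
      h.2 ((pRankLE_iff_of_isSylowIn hQ).2 h'))) hM hQ.le).mono le_normalizer
      (mFT_norm_pgroup hG hϖ hQ.isPGroup hQ1))
  have hQd : Q ≤ ⁅M, M⁆ := by
    have := Cop.commutator_sup_centralizer hPQ
      (coprime_of_isPGroup_ne hPp hQ.isPGroup hqp.symm) (Or.inr (mFT_sol_le hG hM hQ.le))
    rw [hreg, sup_bot_eq] at this
    exact this.ge.trans (commutator_mono hQ.le hPM)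
  have h1 : alphaCore M ≠ ⊥ := fun h => by
    have := mmax_normal hG hM hQ.le ((le_norm_der M).trans (norm_le_norm_sylow_of_nil
      (der1_nil_of_Malpha_eq_bot hG hM h) (hQ.mono hQd (der_le M)))) hQ1
    exact hnu ⟨this.le, fun L hL h => (hM.le_iff_eq hL.1).1 (this ▸ h)⟩
  refine ⟨(beta_sub_alpha M).antisymm' fun r hr => by_contra fun hrb => ?_, h1, hq,
    ha h1 hq hQ.isPGroup hQ.le⟩
  have := Fact.mk hr.1
  exact hnu' hQ.isPGroup ((beta'_cent_Sylow hG hM hrb (fun h => hq h.1) hQ.isPGroup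
    (Or.inl ⟨fun h => hq (h ▸ hr), hQd⟩)).2.1 hr)

/-- BG 12.19. -/
theorem der_compl_cent_beta' {E : Subgroup G} (hE : IsPiHallOf (sigma M)ᶜ E M) :
    ∃ H, IsPiHallOf (beta M)ᶜ H (sigmaCore M) ∧ ⁅E, E⁆ ≤ 𝐂(H) := by
  have hE' := isPiSubgroup_of_le (hall_isPi hE) (der_le E)
  obtain ⟨W, hW, hEW⟩ := Hall.exists_hallOf_ge (mFT_sol_le hG hM (der_le M))
    (isPi_beta'_of_sigma' hG hM hE') (commutator_mono hE.1 hE.1)
  exact ⟨W ⊓ sigmaCore M, hall_inf hW (Msigma_der1 hG hM)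
    (Or.inl (hW.1.trans ((der_le M).trans (le_norm_Msigma M)))),
    le_cent_of_nil (beta'_der1_nil hG hM (hall_isPi hW) hW.1) hEW inf_le_left
      (coprime_of_isPi (isPi_inf_right (Msigma_isPi M)) hE').symm⟩

end OneMax'

end CfsgLib.FT.PG
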