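import Mathlib
import Cfsg.Agent.Lib.PG.BG12d
import Cfsg.Agent.Lib.FT.U4
import Cfsg.Agent.Lib.FT.BG13

/-! Bender–Glauberman, section 13: prime action. -/

set_option autoImplicit false
set_option linter.unusedSectionVars false

namespace CfsgLib.FT.PG.U4
export CfsgLib.FT.U4 (mem_cent1 mem_cent1' mem_cent1_comm mem_cent cent_le_cent1 cent_zpowers)
export CfsgLib.FT.U4 (cent1_le_cent cent1_le_cent1 self_mem_cent1 zpowers_le_cent1 cent_le_norm cent1_conj)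
export CfsgLib.FT.U4 (conj_eq_of_mem_cent1 mem_cent1_of_conj_eq inf_cent_ne_bot_iff exists_ne_one ne_bot_of_mem eq_one_of_mem_inf)
export CfsgLib.FT.U4 (eq_bot_of_forall conj_le_conj_iff conj_inj conj_le_iff le_conj_iff conj_sup)
export CfsgLib.FT.U4 (conj_comm conj_eq_bot_iff conj_mem_conj_iff conj_ne_one_iff conj_eq_of_mem conj_eq_of_mem_cent)
export CfsgLib.FT.U4 (relIndex_conj isCyclic_conj isPiSubgroup_conj hallOf_conj le_norm_conj orderOf_conj)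
export CfsgLib.FT.U4 (zpowers_conj isMulCommutative_conj isComplIn_conj exists_card_prime exists_prime_dvd_card exists_prime_sub)
export CfsgLib.FT.U4 (exists_card_prime_zpowers exists_prime_dvd_orderOf exists_prime_sub_zpowers ne_bot_of_card_prime eq_of_le_of_card_prime zpowers_eq_of_card_prime)
export CfsgLib.FT.U4 (cent1_eq_of_card_prime inf_eq_bot_or_le_of_card_prime isPGroup_of_card_eq isPiSubgroup_of_card_eq isPiSubgroup_of_isPGroup SemiPrime.cent_eq)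
export CfsgLib.FT.U4 (SemiReg.cent_eq semiReg_of_prime SemiReg.mono SemiReg.symm isPiNum_orderOf_of_mem isPiNum_orderOf_of_mem_zpowers)
export CfsgLib.FT.U4 (eq_one_of_isPiNum isPiNum_mul_of_commute pi_part_unique prime_dvd_orderOf_mul hallOf_pi hallOf_relIndex)
export CfsgLib.FT.U4 (hallOf_coprime hallOf_dvd hallOf_of_coprime hallOf_congr le_of_normal_hallOf mem_of_normal_hallOf)
export CfsgLib.FT.U4 (le_hallOf_of_le_normalizer hallOf_inf_of_normal_hall hallOf_inf_of_normal sylow_of_sylow_hall hallOf_self hallOf_eq_bot_iff)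
export CfsgLib.FT.U4 (hallOf_of_card_eq card_mul_card_of_hall isComplIn_of_hall IsComplIn.sup_eq IsComplIn.symm isComplIn_of_sup)
export CfsgLib.FT.U4 (IsComplIn.card_mul IsComplIn.relIndex_left IsComplIn.relIndex_right IsComplIn.hall_left IsComplIn.hall_right IsComplIn.hall_compl)
export CfsgLib.FT.U4 (IsComplIn.restrict IsComplIn.restrict' conj_eq_of_conj_mem IsComplIn.cent1 IsComplIn.norm norm_le_norm_of_le_cyclic)
export CfsgLib.FT.U4 (eq_of_le_cyclic isCyclic_of_le' comm_of_isCyclic le_cent_of_isCyclic exists_zpowers_eq isCyclic_sup)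
export CfsgLib.FT.U4 (isCyclic_of_nil_of_sylow isNilpotent_of_comm)
end CfsgLib.FT.PG.U4


namespace CfsgLib.FT.PG

open Subgroup Cfsg BGN
open scoped commutatorElement

variable {G : Type*} [Group G] [PiCtx G] [Finite G]

section OneComplement

variable (hG : PGHyp G) {M : Subgroup G} (hM : Mx M) {E : Subgroup G}
  (hE : IsPiHallOf (sigma M)ᶜ E M)
include hG hM hE

/-- BG 13.1. -/
theorem Msigma_setI_mmax_central {p : ℕ} [Fact p.Prime] {H : Subgroup G} (hH : Mx H)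
    (hpE : p ∣ Nat.card E) (hpH : p ∣ Nat.card H) (hp : p ∉ tau1 H)
    (hc : ⁅sigmaCore M ⊓ H, M ⊓ H⁆ ≠ ⊥) (hHM : NotConj H M) :
    (∀ P ≤ M ⊓ H, IsPGroup p P → P ≤ 𝐂(sigmaCore M ⊓ H)) ∧ p ∉ tau2 H ∧
      (p ∈ tau1 M → IsIdealPrime p G) := by
  have hps : p ∉ sigma M := hall_isPi hE p Fact.out hpE
  have hdis := (sigma_disjoint hG hH hM hHM.symm).2.1
  obtain ⟨q, hq, hqR⟩ := exists_prime_dvd_card hc
  have := Fact.mk hq
  have hn : M ⊓ H ≤ 𝐍(sigmaCore M ⊓ H) :=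
    le_normalizer_inf (inf_le_left.trans (le_norm_Msigma M)) (inf_le_right.trans le_normalizer)
  have hqs : q ∈ sigma M := Msigma_isPi M q hq (hqR.trans (card_dvd_of_le
    ((Cop.commutator_le_left_of_le_normalizer hn).trans inf_le_left)))
  obtain ⟨Y, hY⟩ := IsSylowIn.exists_in (p := q) ⁅H, H⁆
  have hY1 := hY.ne_bot (hqR.trans (card_dvd_of_le (commutator_mono inf_le_right inf_le_right)))
  have hdef := Mbeta_sup_norm_sylow hG hH hY
  have hnb : H ⊓ 𝐍(Y) ≤ 𝐍(betaCore H) := inf_le_left.trans (le_norm_Mbeta H)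
  have key : ¬ IsIdealPrime p G → ¬ p ∣ Nat.card (betaCore H) ∧ PRankLE p 1 ↥(H ⊓ 𝐍(Y)) ∧
      (p ∈ tau1 M → ¬ p ∣ Nat.card ↥⁅H ⊓ 𝐍(Y), H ⊓ 𝐍(Y)⁆) := fun h =>
    ⟨fun h' => h (Mbeta_isPi H p Fact.out h').2, sigma_Jsub_rank hG hM
      (isPi_of_isPGroup hY.isPGroup hqs) hY1 (hpE.trans (card_dvd_of_le hE.1)) hps h hH
      (hY.le.trans (der_le H)) hHM⟩
  have h2 : p ∉ tau2 H := fun h => by
    obtain ⟨h1, h2, -⟩ := key (tau2_not_beta hG hH h).1
    exact h.2.2.2 ((pRankLE_iff_of_sup hnb hdef h1).2 h2)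
  have h3 : ∀ S, IsSylowIn p S H → S ≤ ⁅H, H⁆ := by
    intro S hS
    rcases (partition_pi_mmax hG hH Fact.out).1 hpH with h | h | h | h
    · exact absurd h hp
    · exact absurd h h2
    · refine (cyclic_Sylow_tiVsub_der1 hS (cyclic_of_rank1 (Mx.odd hG hH hS.le) hS.isPGroup
        (pRankLE_mono h.2.2.2 hS.le))).resolve_left ?_
      exact (sylow_inf hS (der_le H) (Or.inl (hS.le.trans (le_norm_der H)))).ne_bot h.2.2.1
    · exact sigma_Sylow_der1 hG hH h hS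
  refine ⟨fun P hP hPp => ?_, h2, fun h => by_contra fun h' => ?_⟩
  · obtain ⟨S, hPS, hS⟩ := IsSylowIn.exists_ge hPp (hP.trans inf_le_right)
    have h4 := NilMod.le_norm_sup_sylow (Malpha_quo_nil hG hH) ((der_le H).trans (le_norm_Malpha H))
      (hS.mono (h3 S hS) (der_le H)) (le_norm_der H) (le_norm_Malpha H)
    refine comm_eq_bot_iff.1 (eq_bot_iff.2 ((le_inf ((comm_le_right (hP.trans hn)).trans
      inf_le_left) ((commutator_mono (hPS.trans le_sup_right) inf_le_right).trans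
        (Cop.commutator_le_left_of_le_normalizer h4))).trans (inf_eq_bot_of_isPi (Msigma_isPi M)
          (isPi_sup' (hS.le.trans (le_norm_Malpha H)) (isPiSubgroup_mono (Malpha_isPi H)
            hdis.subset_compl_right) (isPi_of_isPGroup hS.isPGroup hps))).le))
  · obtain ⟨h1, -, h4⟩ := key h'
    obtain ⟨S, hS⟩ := IsSylowIn.exists_in (p := p) H
    refine h4 h (dvd_card_of_dvd_sup ((der_le _).trans hnb) (((dvd_card_of_isPGroup hS.isPGroup
      (hS.ne_bot hpH)).trans (card_dvd_of_le (h3 S hS))).trans (card_dvd_of_le ?_)) h1)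
    have := der_sup_le hnb
    rwa [hdef] at this

/-- BG 13.2. -/
theorem cent_norm_tau13_mmax {p : ℕ} [Fact p.Prime] (hϖ : p ∈ ϖ[G]) (hp : p ∈ tau1 M ∨ p ∈ tau3 M)
    {P H : Subgroup G} (hPM : P ≤ M) (hP : IsPGroup p P) (hH : Mx H) (hN : 𝐍(P) ≤ H) :
    (∀ P₁ ≤ M ⊓ H, IsPGroup p P₁ → P₁ ≤ 𝐂(sigmaCore M ⊓ H)) ∧
      (∀ X ≤ E ⊓ H, IsPiSubgroup (tau1 H)ᶜ X → X ≤ 𝐂(sigmaCore M ⊓ H)) ∧
      (⁅sigmaCore M ⊓ H, M ⊓ H⁆ ≠ ⊥ → p ∈ sigma H ∧ (p ∈ tau1 M → p ∈ beta H)) := by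
  have hP1 := ne_bot_of_norm_le (hH.ne_top hG) hN
  have h1 := prime_class_mmax_norm hG hH hϖ hP hN
  have hHM := mmax_norm_notJ hG hM hH hϖ hP hPM hN (Or.inr hp)
  by_cases hc : ⁅sigmaCore M ⊓ H, M ⊓ H⁆ = ⊥
  · have h2 := Cop.commutator_eq_bot_iff_le_centralizer'.1 hc
    exact ⟨fun P₁ h _ => h.trans h2, fun X h _ => (h.trans (inf_le_inf_right H hE.1)).trans h2,
      fun h => absurd hc h⟩
  obtain ⟨h2, h3, h4⟩ := Msigma_setI_mmax_central hG hM hE hH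
    ((partition_pi_sigma_compl hG hM hE Fact.out).2 (hp.imp_right Or.inr))
    ((dvd_card_of_isPGroup hP hP1).trans (card_dvd_of_le (le_normalizer.trans hN)))
    (fun h => h1.elim h.2.1 (tau2'1 h)) hc hHM
  refine ⟨h2, fun X hX hXπ => le_of_forall_sylow fun q hq hd => ?_, fun _ =>
    ⟨h1.resolve_right h3, fun h => (mem_beta_iff hG hH).2 ⟨h1.resolve_right h3, h4 h⟩⟩⟩
  obtain ⟨S, hS⟩ := IsSylowIn.exists_in (p := q) X
  exact ⟨S, hS, (Msigma_setI_mmax_central hG hM hE hH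
    (hd.trans (card_dvd_of_le (hX.trans inf_le_left)))
    (hd.trans (card_dvd_of_le (hX.trans inf_le_right))) (hXπ q hq.out hd) hc hHM).1 S
    (hS.le.trans (hX.trans (inf_le_inf_right H hE.1))) hS.isPGroup⟩

/-- BG 13.3(a). -/
theorem cyclic_primact_Msigma {p : ℕ} [Fact p.Prime] {P : Subgroup G} (hP : IsSylowIn p P E)
    (hc : IsCyclic P) : SemiPrime (sigmaCore M) P := by
  intro x hx hx1
  refine le_antisymm (le_inf inf_le_left ?_) (inf_le_inf_left _ (cent_le_cent1 hx))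
  have hX := zpowers_le.2 hx
  have hXp := hP.isPGroup.to_le hX
  have hX1 : zpowers x ≠ ⊥ := zpowers_ne_bot.2 hx1
  have h13 : p ∈ tau1 M ∨ p ∈ tau3 M := by
    rcases (partition_pi_sigma_compl hG hM hE Fact.out).1 ((dvd_card_of_isPGroup hXp hX1).trans
      (card_dvd_of_le (hX.trans hP.le))) with h | h | h
    · exact Or.inl h
    · exact absurd ((pRankLE_iff_of_isSylowIn hP).2 (pRankLE_one_of_isCyclic hc))
        ((tau2E hG hM hE Fact.out).1 h)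
    · exact Or.inr h
  by_cases hϖ : p ∈ ϖ[G]
  swap
  · rw [← cent_zpowers, inf_cent_eq_bot_of_not_pi hG (pi_of_sigma (Msigma_isPi M)) Fact.out
      (dvd_card_of_isPGroup hXp hX1) hϖ]
    exact bot_le
  obtain ⟨H, hH, hN⟩ := mmax_exists (loc_norm_pgroup hϖ hXp hX1)
  refine (inf_le_inf_left _ ?_).trans (le_centralizer_comm ((cent_norm_tau13_mmax hG hM hE hϖ h13
    (hX.trans (hP.le.trans hE.1)) hXp hH hN).1 P (le_inf (hP.le.trans hE.1)
      ((le_normalizer.trans (norm_le_norm_of_cyclic hc hX)).trans hN)) hP.isPGroup))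
  exact (cent1_le_cent le_rfl).trans ((cent_le_norm _).trans hN)

/-- BG 13.3(b). -/
theorem tau3_primact_Msigma {E₃ : Subgroup G} (h₃ : IsPiHallOf (tau3 M) E₃ E) :
    SemiPrime (sigmaCore M) E₃ := by
  intro x hx hx1
  refine le_antisymm (le_inf inf_le_left ?_) (inf_le_inf_left _ (cent_le_cent1 hx))
  obtain ⟨h1, h2, h3, -⟩ := tau3_context hG hM hE h₃
  obtain ⟨p, hp, -, X, hX, hXp⟩ := exists_prime_le_zpowers hx1
  have := Fact.mk hp
  have hX3 := hX.trans (zpowers_le.2 hx)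
  by_cases hϖ : p ∈ ϖ[G]
  swap
  · exact ((inf_le_inf_left _ (cent1_le_cent hX)).trans (inf_cent_eq_bot_of_not_pi hG
      (pi_of_sigma (Msigma_isPi M)) hp hXp.symm.dvd hϖ).le).trans bot_le
  obtain ⟨H, hH, hN⟩ := mmax_exists (loc_norm_pgroup hϖ (isPGroup_of_card_prime hXp)
    (ne_bot_of_card_prime hXp))
  have hEH : E ≤ H := (h3.trans (norm_le_norm_of_cyclic h1 hX3)).trans hN
  refine (inf_le_inf_left _ ((cent1_le_cent hX).trans ((cent_le_norm _).trans hN))).trans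
    (le_centralizer_comm ((cent_norm_tau13_mmax hG hM hE hϖ
      (Or.inr (hall_isPi h₃ p hp (hXp ▸ card_dvd_of_le hX3))) (hX3.trans (h₃.1.trans hE.1))
      (isPGroup_of_card_prime hXp) hH hN).2.1 E₃ (le_inf h₃.1 (h₃.1.trans hEH))
      fun r _ hd h => h.2.2.2.1 (hd.trans (card_dvd_of_le (h2.trans (commutator_mono hEH hEH))))))

omit hE in
theorem comm_of_le_mmaxI {H S : Subgroup G} (hH : Mx H) (hHM : H ≠ M) {q : ℕ} [Fact q.Prime]
    (hS : IsPGroup q S) (h1 : S ≤ M) (h2 : S ≤ H) : IsMulCommutative S :=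
  by_contra fun h => hHM (InUniqueMaximal.eq (nonabelian_Uniqueness hG
    (mem_pi_of_not_cyclic hG (hM.loc h1) hS fun hc => h (U4.comm_of_isCyclic hc)) hS h) hM h1 hH h2)

theorem cent_tau1Elem_aux {p : ℕ} (hp : p ∈ tau1 M) {P R : Subgroup G} (hPE : P ≤ E)
    (hP : Nat.card P = p) (hR : R ≤ E ⊓ 𝐂(P)) (hRr : (Nat.card R).Prime) {q : ℕ} [hq : Fact q.Prime]
    {S : Subgroup G} (hS : IsPGroup q S) (hSC : S ≤ sigmaCore M ⊓ 𝐂(P)) (hRS : R ≤ 𝐍(S))
    (hnc : ¬ S ≤ 𝐂(R)) :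
    Nat.card R ∈ tau1 M ∧ q ∉ alpha M ∧ alphaCore M ⊓ 𝐂(R) ≠ ⊥ ∧
      alphaCore M ⊓ 𝐂(⁅S, R⁆ ⊔ R) = ⊥ := by
  have := Fact.mk hp.1
  have := Fact.mk hRr
  have hPp := isPGroup_of_card_prime hP
  have hϖ : p ∈ ϖ[G] := pi_of_inf_cent hG (pi_of_sigma (Msigma_isPi M))
    (fun h => hnc ((hSC.trans h.le).trans bot_le)) p hp.1 hP.symm.dvd
  obtain ⟨L, hL, hN⟩ := mmax_exists (loc_norm_pgroup hϖ hPp (ne_bot_of_card_prime hP))
  have hCL := (cent_le_norm P).trans hN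
  have hRE := hR.trans inf_le_left
  have hRL := hR.trans (inf_le_right.trans hCL)
  have hSL := hSC.trans (inf_le_inf_left _ hCL)
  have hSM := hSC.trans (inf_le_left.trans (Msigma_le M))
  have hQ1 : ⁅S, R⁆ ≠ ⊥ := fun h => hnc (comm_eq_bot_iff.1 h)
  have hLM := mmax_norm_notJ hG hM hL hϖ hPp (hPE.trans hE.1) hN (Or.inr (Or.inl hp))
  obtain ⟨-, h1, h2⟩ := cent_norm_tau13_mmax hG hM hE hϖ (Or.inl hp) (hPE.trans hE.1) hPp hL hN
  obtain ⟨h3, h4⟩ := h2 fun h => hQ1 (eq_bot_iff.2 (h ▸ commutator_mono hSL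
    (le_inf (hRE.trans hE.1) hRL)))
  have h5 : Nat.card R ∈ tau1 L := by_contra fun h => hnc (hSL.trans (le_centralizer_comm
    (h1 R (le_inf hRE hRL) (isPi_of_card_prime rfl h))))
  have hqs : q ∈ sigma M := mem_of_isPi_of_isPGroup hS (fun h => hnc (h ▸ bot_le))
    (isPiSubgroup_of_le (Msigma_isPi M) (hSC.trans inf_le_left))
  have hrs : Nat.card R ∉ sigma M := hall_isPi hE _ hRr (card_dvd_of_le hRE)
  have hqr : q ≠ Nat.card R := fun h => hrs (h ▸ hqs)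
  have hQS : ⁅S, R⁆ ≤ S := Cop.commutator_le_left_of_le_normalizer hRS
  have hRQ : R ≤ 𝐍(⁅S, R⁆) := Cop.le_normalizer_commutator hRS le_normalizer
  have hreg : ⁅S, R⁆ ⊓ 𝐂(R) = ⊥ := Cop.commutator_inf_centralizer_eq_bot hRS
    (coprime_of_isPGroup_ne (isPGroup_of_card_prime rfl) hS hqr.symm)
    (comm_of_le_mmaxI hG hM hL hLM.ne hS hSM (hSL.trans inf_le_right))
  have hQq := hS.to_le hQS
  have hPa : P ≤ alphaCore L := le_Malpha hG hL (le_normalizer.trans hN)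
    (isPi_of_card_prime hP (beta_sub_alpha L (h4 hp)))
  have huniq : UniqMax 𝐍(⁅S, R⁆) L := by
    by_contra h
    have h6 := ((cent_Malpha_reg_tau1 hG hL (mem_pi_of_sigma hqs) h5 hqr hRL rfl hQ1 hRQ hreg h).1
      (fun h => ne_bot_of_card_prime hP (eq_bot_iff.2 (h ▸ hPa)))
      (fun h => Set.disjoint_left.1 (sigma_disjoint hG hL hM hLM.symm).2.1 h hqs) hQq
      (hQS.trans (hSL.trans inf_le_right))).2
    refine ne_bot_of_card_prime hP (eq_bot_iff.2 (le_trans (le_inf hPa ?_) h6.le))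
    exact le_centralizer_comm (sup_le (hQS.trans (hSC.trans inf_le_right)) (hR.trans inf_le_right))
  obtain ⟨T, hQT, hT⟩ := IsSylowIn.exists_ge hQq
    (hQS.trans (le_inf hSM (hSL.trans inf_le_right)))
  obtain ⟨-, -, -, h6, h7⟩ := sigma_subgroup_embedding hG hM hqs (hQS.trans hSM) hQq hQ1 hL huniq.le
    hLM.ne hT hQT
  have hqL : q ∈ sigma L := by_contra fun h => hall_isPi (h7 h).2.2 p hp.1 (hP ▸ card_dvd_of_le
    (le_inf (hPE.trans hE.1) (le_normalizer.trans hN))) h3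
  obtain ⟨-, h8, -, h9⟩ := h6 hqL
  have h10 : Nat.card R ∈ tau1 M := (h8 h5).resolve_right fun h => hrs (alpha_sub_sigma hG hM h)
  have h11 : q ∉ alpha M := fun h =>
    Set.disjoint_left.1 (sigma_disjoint hG hM hL hLM).2.1 h hqL
  exact ⟨h10, h11, (cent_Malpha_reg_tau1 hG hM (mem_pi_of_sigma hqs) h10 hqr (hRE.trans hE.1) rfl hQ1 hRQ hreg
    fun h => hLM.ne (h.eq hL huniq.le)).1 h9 h11 hQq (hQS.trans hSM)⟩

/-- BG 13.4. -/
theorem cent_tau1Elem_Msigma {p : ℕ} (hp : p ∈ tau1 M) {P R : Subgroup G} (hPE : P ≤ E)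
    (hP : Nat.card P = p) (hR : R ≤ E ⊓ 𝐂(P)) (hRr : (Nat.card R).Prime) :
    sigmaCore M ⊓ 𝐂(P) ≤ sigmaCore M ⊓ 𝐂(R) := by
  have key : ∀ {p : ℕ}, p ∈ tau1 M → ∀ {P R : Subgroup G}, P ≤ E → Nat.card P = p →
      R ≤ E ⊓ 𝐂(P) → (Nat.card R).Prime → alphaCore M ⊓ 𝐂(P) ≤ 𝐂(R) := by
    intro p hp P R hPE hP hR hRr
    by_contra h
    obtain ⟨q, hq, S, h1, h2, h3⟩ := exists_inv_sylow_not_cent (Cop.le_normalizer_inf_centralizer
      ((hR.trans (inf_le_left.trans hE.1)).trans (le_norm_Malpha M))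
      (hR.trans (inf_le_right.trans (cent_le_norm P))))
      (coprime_mono (coprime_sigma_compl hG hM hE).symm (hR.trans inf_le_left)
        (inf_le_left.trans (Malpha_sub_Msigma hG hM)))
      (Or.inr (isSolvable_of_le (mFT_sol hG hM.1) (inf_le_left.trans (Malpha_le M)))) h
    exact (cent_tau1Elem_aux hG hM hE hp hPE hP hR hRr h1.isPGroup
      (h1.le.trans (inf_le_inf_right _ (Malpha_sub_Msigma hG hM))) h2 h3).2.1
      (mem_of_isPi_of_isPGroup h1.isPGroup (fun h => h3 (h ▸ bot_le))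
        (isPiSubgroup_of_le (Malpha_isPi M) (h1.le.trans inf_le_left)))
  refine le_inf inf_le_left (by_contra fun h => ?_)
  obtain ⟨q, hq, S, h1, h2, h3⟩ := exists_inv_sylow_not_cent (Cop.le_normalizer_inf_centralizer
    ((hR.trans (inf_le_left.trans hE.1)).trans (le_norm_Msigma M))
    (hR.trans (inf_le_right.trans (cent_le_norm P))))
    (coprime_mono (coprime_sigma_compl hG hM hE).symm (hR.trans inf_le_left) inf_le_left)
    (Or.inr (isSolvable_of_le (mFT_sol hG hM.1) (inf_le_left.trans (Msigma_le M)))) h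
  obtain ⟨h4, -, h5, h6⟩ := cent_tau1Elem_aux hG hM hE hp hPE hP hR hRr h1.isPGroup h1.le h2 h3
  have h7 := key hp hPE hP hR hRr
  have h8 := key h4 (hR.trans inf_le_left) rfl
    (le_inf hPE (le_centralizer_comm (hR.trans inf_le_right))) (hP ▸ hp.1)
  refine h5 (eq_bot_iff.2 (le_trans (le_inf inf_le_left ?_) h6.le))
  rw [cent_sup]
  refine le_inf ((le_inf inf_le_left h8).trans (le_centralizer_comm ?_)) inf_le_right
  exact (commutator_mono le_rfl (le_centralizer_comm h7)).trans (comm_le_right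
    ((Cop.le_normalizer_inf_centralizer ((h1.le.trans (inf_le_left.trans (Msigma_le M))).trans
      (le_norm_Malpha M)) (h1.le.trans (inf_le_right.trans (cent_le_norm P)))).trans
      (Cop.normalizer_le_normalizer_centralizer _)))

/-- BG 13.5. -/
theorem tau1_primact_Msigma {E₁ : Subgroup G} (h₁ : IsPiHallOf (tau1 M) E₁ E) :
    SemiPrime (sigmaCore M) E₁ := by
  have hc := tau1_cyclic hG hM hE h₁.1 (hall_isPi h₁)
  intro x hx hx1
  refine le_antisymm (le_inf inf_le_left ?_) (inf_le_inf_left _ (cent_le_cent1 hx))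
  obtain ⟨p, hp, -, X, hX, hXp⟩ := exists_prime_le_zpowers hx1
  have hX1 := hX.trans (zpowers_le.2 hx)
  refine (inf_le_inf_left _ (cent1_le_cent hX)).trans
    (le_centralizer_comm (le_of_forall_sylow fun q hq hd => ?_))
  obtain ⟨S, hS⟩ := IsSylowIn.exists_in (p := q) E₁
  obtain ⟨R, hR, hRq⟩ := exists_card_prime_le (dvd_card_of_isPGroup hS.isPGroup (hS.ne_bot hd))
  obtain ⟨y, hy, hy1⟩ := exists_mem_ne_one (ne_bot_of_card_prime hRq)
  refine ⟨S, hS, le_centralizer_comm ((cent_tau1Elem_Msigma hG hM hE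
    (hall_isPi h₁ p hp (hXp ▸ card_dvd_of_le hX1)) (hX1.trans h₁.1) hXp
    (le_inf (hR.trans (hS.le.trans h₁.1)) (le_cent_of_cyclic hc (hR.trans hS.le) hX1))
    (hRq ▸ hq.out)).trans ?_)⟩
  rw [← cent1_eq_of_card_prime hRq hy hy1, cyclic_primact_Msigma hG hM hE
    (sylow_of_hall hS h₁ (hall_isPi h₁ q hq.out hd)) (isCyclic_of_le hS.le) y (hR hy) hy1]
  exact inf_le_right

/-- BG 13.6 (any nontrivial `τ₁(M)`-subgroup `P` of `E` lies in some `E₁`). -/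
theorem cent_cent_Msigma_tau1_uniq {P : Subgroup G} (hPE : P ≤ E) (hP : IsPiSubgroup (tau1 M) P)
    (hP1 : P ≠ ⊥) {q : ℕ} [Fact q.Prime] {X : Subgroup G} (hX : X ≤ sigmaCore M ⊓ 𝐂(P))
    (hXq : Nat.card X = q) :
    UniqMax 𝐂(X) M ∧ ∀ S, IsSylowIn q S (sigmaCore M) → UniqMax S M := by
  have hsE := isSolvable_of_le (mFT_sol hG hM.1) hE.1
  obtain ⟨E₁, h₁, hP₁⟩ := Hall.exists_hallOf_ge hsE hP hPE
  have hXE₁ : X ≤ 𝐂(E₁) := by
    obtain ⟨x, hx, hx1⟩ := exists_mem_ne_one hP1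
    exact (hX.trans ((inf_le_inf_left _ (cent_le_cent1 hx)).trans
      (tau1_primact_Msigma hG hM hE h₁ x (hP₁ hx) hx1).le)).trans inf_le_right
  have hXs := hX.trans inf_le_left
  have hqs : q ∈ sigma M := Msigma_isPi M q Fact.out (hXq ▸ card_dvd_of_le hXs)
  have hcop := (coprime_sigma_compl hG hM hE).symm
  have hnE := hE.1.trans (le_norm_Msigma M)
  have key : q ∈ beta M ∨ X ≤ ⁅sigmaCore M, sigmaCore M⁆ := by
    refine or_iff_not_imp_left.2 fun hb => ?_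
    obtain ⟨H, hH, hEH⟩ := der_compl_cent_beta' hG hM hE
    obtain ⟨S, hS, hSn⟩ := exists_inv_sylow q (Cop.le_normalizer_inf_centralizer (h₁.1.trans hnE)
      (h₁.1.trans (le_norm_der E))) (coprime_mono hcop h₁.1 inf_le_left)
      (Or.inl (isSolvable_of_le hsE h₁.1))
    have hS' : IsSylowIn q S (sigmaCore M) := sylow_trans hS inf_le_left fun h =>
      hH.2.2 q Fact.out hb (h.trans (relIndex_dvd_of_le_left _
        (le_inf hH.1 (le_centralizer_comm hEH))))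
    obtain ⟨T, hT, hTn, hXT⟩ := exists_inv_sylow_ge (h₁.1.trans hnE) (coprime_mono hcop h₁.1 le_rfl)
      (Or.inl (isSolvable_of_le hsE h₁.1)) (isPGroup_of_card_prime hXq) hXs
      ((le_centralizer_comm hXE₁).trans (cent_le_norm X))
    obtain ⟨c, hc, hcT⟩ := Cop.conj_invariant_sylowOf (h₁.1.trans hnE)
      (coprime_mono hcop h₁.1 le_rfl) (Or.inl (isSolvable_of_le hsE h₁.1))
      (sylow_iff_hall.1 hT) (sylow_iff_hall.1 hS') hTn hSn
    have h1 : c •ᶜ X ≤ sigmaCore M ⊓ 𝐂(⁅E, E⁆) := ((map_mono hXT).trans hcT.ge).trans hS.le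
    have h2 : c •ᶜ X ≤ 𝐂(E₁) := cj_le_of_norm hXE₁ (le_normalizer hc.2)
    have h3 : c •ᶜ X ≠ ⊥ := fun h => ne_bot_of_card_prime hXq (cj_eq_bot_iff.1 h)
    suffices h : c •ᶜ X ≤ ⁅sigmaCore M, sigmaCore M⁆ from
      (cj_le_iff.1 h).trans (map_conj_eq_of_mem_normalizer (inv_mem (le_norm_der _ hc.1))).le
    refine le_trans (le_inf (h1.trans inf_le_left) ?_) (sigma_compl_embedding hG hM hE).1
    obtain ⟨E₃, h₃⟩ := Hall.exists_isPiHallOf hsE (tau3 M)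
    obtain ⟨E₂, hc⟩ := ex_tau2_compl hG hM hE h₁ h₃
    obtain ⟨⟨h4, -⟩, -, -, ⟨h5, -⟩, -⟩ := sigma_compl_context hG hM hc
    by_cases h6 : E₂ = ⊥
    · rw [← h5, h6, sup_bot_eq, cent_sup]
      exact le_inf ((h1.trans inf_le_right).trans (centralizer_antitone h4)) h2
    obtain ⟨p, hp, hd⟩ := exists_prime_dvd_card h6
    have := Fact.mk hp
    have ht2 := hall_isPi hc.hall₂ p hp hd
    obtain ⟨A, hA⟩ := ex_tau2Elem hG hM hE ht2
    have hnA := (tau2_compl_context hG hM hE ht2 hA).1.1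
    refine absurd (eq_bot_iff.2 (le_trans (le_inf (h1.trans inf_le_left) ?_)
      (tau2_context hG hM ht2 (hA.mono hE.1)).2.2.2.1.le)) h3
    rw [← Cop.commutator_sup_centralizer (h₁.1.trans hnA) (coprime_of_isPGroup_of_isPi hA.isPGroup
      (hall_isPi h₁) fun h => tau2'1 h ht2).symm (Or.inl (isSolvable_of_le hsE h₁.1)), cent_sup]
    refine le_inf ((h1.trans inf_le_right).trans (centralizer_antitone
      (commutator_mono hA.1 h₁.1))) (le_centralizer_comm fun y hy => ?_)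
    by_cases hy1 : y = 1
    · exact hy1 ▸ one_mem _
    obtain ⟨r, hr, hd⟩ := exists_prime_dvd_card hP1
    have := Fact.mk hr
    obtain ⟨R, hR, hRr⟩ := exists_card_prime_le hd
    have h7 := cent_tau1Elem_Msigma hG hM hE (hP r hr hd) (hR.trans hPE) hRr (R := zpowers y)
      (zpowers_le.2 (mem_inf.2 ⟨hA.1 hy.1, centralizer_antitone (hR.trans hP₁) hy.2⟩))
      (by rw [card_zpowers_of_pow_eq_one (hA.2.1.2 y hy.1) hy1]; exact hp)
    exact le_centralizer_comm ((le_inf (h1.trans inf_le_left) (h2.trans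
      (centralizer_antitone (hR.trans hP₁)))).trans (h7.trans inf_le_right)) (mem_zpowers y)
  obtain ⟨S₀, hS₀⟩ := IsSylowIn.exists_in (p := q) M
  exact ⟨(cent_der_sigma_uniq hG hM (hXs.trans (Msigma_le M)) hXq hS₀ key).1, fun S hS =>
    (cent_der_sigma_uniq hG hM (hXs.trans (Msigma_le M)) hXq
      (sylow_of_hall hS (Msigma_Hall hG hM) hqs) key).2⟩

/-- BG 13.12. -/
theorem tau12_regular {p q : ℕ} [Fact q.Prime] (hp : p ∈ tau1 M) {P A : Subgroup G} (hPE : P ≤ E)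
    (hP : Nat.card P = p) (hq : q ∈ tau2 M) (hA : P2Elem q A E) (h : A ⊓ 𝐂(P) ≠ ⊥) :
    sigmaCore M ⊓ 𝐂(P) = ⊥ := by
  by_contra hreg
  have := Fact.mk hp.1
  obtain ⟨⟨hnA, -⟩, ⟨-, -, hNA⟩, huniq⟩ := tau2_compl_context hG hM hE hq hA
  have hPA : ¬ P ≤ 𝐂(A) := fun h' => hreg ((tau2_regular hG hM hE hq hA).2.2 p hp P hPE hP h')
  have hY : Nat.card ↥(A ⊓ 𝐂(P)) = q := by
    rcases hA.cases (inf_le_left : A ⊓ 𝐂(P) ≤ A) with h' | h' | h'
    · exact absurd h' h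
    · exact h'
    · exact absurd (le_centralizer_comm (inf_eq_left.1 h')) hPA
  have h1 := huniq _ (inf_le_left.trans hA.1) hY fun h' => hreg (eq_bot_iff.2 (h' ▸
    cent_tau1Elem_Msigma hG hM hE hp hPE hP (inf_le_inf_right _ hA.1) (hY ▸ Fact.out)))
  obtain ⟨H, hH, hN⟩ := mmax_exists (loc_norm_pgroup (mem_pi_of_tau2 hG hM.1 hq) hA.isPGroup hA.ne_bot)
  have hHM : H ≠ M := fun h' => hNA (h' ▸ hN)
  obtain ⟨h2, h3, -⟩ := primes_norm_tau2Elem hG hM hE hq hA hH hN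
  have h4 := h3 p hp.1 (by_contra fun h' => hPA (Cop.le_of_coprime_relIndex hPE
    (hnA.trans (Cop.normalizer_le_normalizer_centralizer A))
    (hP ▸ hp.1.coprime_iff_not_dvd.2 h')))
  obtain ⟨F, hF, hPF⟩ := ex_sigma_compl hG hH ((hPE.trans hnA).trans hN)
    (isPi_of_card_prime hP (h4.elim (fun h => h.2.1) fun h => h.2.1))
  have h5 : A ⊓ 𝐂(P) ≤ sigmaCore H ⊓ 𝐂(P) := inf_le_inf_right _
    (le_Msigma hG hH (le_normalizer.trans hN) (isPi_of_isPGroup hA.isPGroup (h2 q hq).1))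
  rcases h4 with h4 | h4
  · exact hHM (h1.eq hH (cent_cent_Msigma_tau1_uniq hG hH hF hPF (isPi_of_card_prime hP h4)
      (ne_bot_of_card_prime hP) h5 hY).1.le)
  · obtain ⟨B, hB⟩ := ex_tau2Elem hG hH hF h4
    have h6 := (tau2_compl_context hG hH hF h4 hB).2.2 P hPF hP
      fun h' => h (eq_bot_iff.2 (h' ▸ h5))
    exact hreg (eq_bot_iff.2 ((inf_le_inf_left _ h6.le).trans ((tau2_context hG hM hq
      (hA.mono hE.1)).2.2.2.2.1 H hH hHM (le_normalizer.trans hN)).le))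

end OneComplement

theorem SigmaCompl.eq_bot_of_nonreg (hG : PGHyp G) {M E E₁ E₂ E₃ : Subgroup G}
    (hM : Mx M) (h : SigmaCompl M E E₁ E₂ E₃) (hnr : ¬ SemiReg (sigmaCore M) E₃) :
    E₂ = ⊥ := by
  by_contra h1
  obtain ⟨p, hp, hd⟩ := exists_prime_dvd_card h1
  have := Fact.mk hp
  have h2 := hall_isPi h.hall₂ p hp hd
  obtain ⟨A, hA⟩ := ex_tau2Elem hG hM h.hall h2
  exact hnr ((tau2_regular hG hM h.hall h2 hA).1 E₃ h.hall₃)

theorem SigmaCompl.prime_sub_tau13 (hG : PGHyp G) {M E E₁ E₂ E₃ : Subgroup G}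
    (hM : Mx M) (h : SigmaCompl M E E₁ E₂ E₃) {X : Subgroup G} (hX : X ≤ E₃ ⊔ E₁)
    (hp : (Nat.card X).Prime) : X ≤ E₃ ∨ ∃ g ∈ E₃ ⊔ E₁, g •ᶜ X ≤ E₁ := by
  have := Fact.mk hp
  have hn := (sigma_compl_context hG hM h).1.2
  have hle : E₃ ⊔ E₁ ≤ E := sup_le h.hall₃.1 h.hall₁.1
  by_cases hd : Nat.card X ∣ Nat.card E₃
  · exact Or.inl (le_hall_of_norm h.hall₃ (isPi_of_card_prime rfl (hall_isPi h.hall₃ _ hp hd))
      (hX.trans hle) ((hX.trans hle).trans hn))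
  · exact Or.inr (Hall.exists_conj_le_hallOf (isSolvable_of_le (mFT_sol hG hM.1)
      (hle.trans h.hall.1)) (isPi_of_card_prime rfl (hall_isPi h.hall₁ _ hp
        (dvd_card_of_dvd_sup (h.hall₁.1.trans hn) (card_dvd_of_le hX) hd))) hX
      (Hall.isPiHallOf_of_le h.hall₁ le_sup_right hle))

/-- BG 13.7. -/
theorem tau13_primact_Msigma (hG : PGHyp G) {M E E₁ E₂ E₃ : Subgroup G}
    (hM : Mx M) (h : SigmaCompl M E E₁ E₂ E₃) (hnr : ¬ SemiReg E₃ E₁) :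
    SemiPrime (sigmaCore M) (E₃ ⊔ E₁) := by
  have hE := h.hall
  obtain ⟨⟨-, hn3⟩, -, ⟨-, hc3⟩, ⟨hdef, -⟩, hreg⟩ := sigma_compl_context hG hM h
  obtain ⟨P, hP1, hP, hne⟩ : ∃ P ≤ E₁, (Nat.card P).Prime ∧ E₃ ⊓ 𝐂(P) ≠ ⊥ := by
    by_contra h'
    exact hnr (U4.semiReg_of_prime fun X hX hp => by_contra fun h'' => h' ⟨X, hX, hp, h''⟩)
  obtain ⟨R, hR, hRr⟩ := U4.exists_prime_sub hne
  have hR3 := hR.trans inf_le_left
  have hR1 := U4.ne_bot_of_card_prime hRr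
  have hs1 := tau1_primact_Msigma hG hM hE h.hall₁
  have hs3 := tau3_primact_Msigma hG hM hE h.hall₃
  have e3 := U4.SemiPrime.cent_eq hs3 hR3 hR1
  have hle : sigmaCore M ⊓ 𝐂(E₁) ≤ sigmaCore M ⊓ 𝐂(E₃) := by
    rw [← U4.SemiPrime.cent_eq hs1 hP1 (U4.ne_bot_of_card_prime hP), ← e3]
    exact cent_tau1Elem_Msigma hG hM hE (hall_isPi h.hall₁ _ hP (card_dvd_of_le hP1))
      (hP1.trans h.hall₁.1) rfl (le_inf (hR3.trans h.hall₃.1) (hR.trans inf_le_right)) hRr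
  by_cases heq : sigmaCore M ⊓ 𝐂(E₃) ≤ 𝐂(E₁)
  · have e : ∀ X : Subgroup G, X ≠ ⊥ → (X ≤ E₃ ∨ X ≤ E₁) →
        sigmaCore M ⊓ 𝐂(X) ≤ sigmaCore M ⊓ 𝐂(E₃ ⊔ E₁) := by
      rintro X h1 (h2 | h2)
      · rw [U4.SemiPrime.cent_eq hs3 h2 h1, cent_sup]
        exact le_inf inf_le_left (le_inf inf_le_right heq)
      · rw [U4.SemiPrime.cent_eq hs1 h2 h1, cent_sup]
        exact le_inf inf_le_left (le_inf (hle.trans inf_le_right) inf_le_right)
    refine semiPrime_of_prime fun X hX hp => ?_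
    have hX1 := U4.ne_bot_of_card_prime hp
    rcases h.prime_sub_tau13 hG hM hX hp with h1 | ⟨g, hg, h1⟩
    · exact (e X hX1 (Or.inl h1)).trans inf_le_right
    · have h2 := (e _ (fun h => hX1 (cj_eq_bot_iff.1 h)) (Or.inr h1)).trans inf_le_right
      rw [← map_conj_eq_of_mem_normalizer (le_norm_Msigma M (hE.1 (sup_le h.hall₃.1 h.hall₁.1 hg))),
        ← cj_inf_cent, cj_le_iff] at h2
      exact h2.trans (map_conj_eq_of_mem_normalizer (Cop.normalizer_le_normalizer_centralizer _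
        (le_normalizer (inv_mem hg)))).le
  exfalso
  have := Fact.mk hRr
  have h2 : E₂ = ⊥ := h.eq_bot_of_nonreg hG hM fun h' =>
    heq ((e3 ▸ U4.SemiReg.cent_eq h' hR3 hR1 : sigmaCore M ⊓ 𝐂(E₃) = ⊥) ▸ bot_le)
  rw [h2, sup_bot_eq] at hdef
  have hϖ : Nat.card R ∈ ϖ[G] := pi_of_inf_cent hG (pi_of_sigma (Msigma_isPi M))
    (fun h' => heq (h'.le.trans bot_le)) _ hRr (card_dvd_of_le hR3)
  obtain ⟨H, hH, hN⟩ := mmax_exists (loc_norm_pgroup hϖ (isPGroup_of_card_prime (X := R) rfl) hR1)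
  have hEH : E ≤ H := (hn3.trans (norm_le_norm_of_cyclic hc3 hR3)).trans hN
  have hCH : sigmaCore M ⊓ 𝐂(E₃) ≤ sigmaCore M ⊓ H :=
    inf_le_inf_left _ ((centralizer_antitone hR3).trans ((cent_le_norm R).trans hN))
  obtain ⟨-, h3, h4⟩ := cent_norm_tau13_mmax hG hM hE hϖ
    (Or.inr (hall_isPi h.hall₃ _ hRr (card_dvd_of_le hR3))) (hR3.trans (h.hall₃.1.trans hE.1))
    (isPGroup_of_card_prime rfl) hH hN
  have h5 : IsPiSubgroup (tau1 H) E₁ := fun s hs hd => by_contra fun h' => by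
    have := Fact.mk hs
    obtain ⟨X, hX, hXs⟩ := exists_card_prime_le hd
    refine heq (le_trans (?_ : _ ≤ sigmaCore M ⊓ 𝐂(E₁)) inf_le_right)
    rw [← U4.SemiPrime.cent_eq hs1 hX (ne_bot_of_card_prime hXs)]
    exact le_inf inf_le_left (hCH.trans (le_centralizer_comm (h3 X
      (le_inf (hX.trans h.hall₁.1) (hX.trans (h.hall₁.1.trans hEH))) (isPi_of_card_prime hXs h'))))
  have h6 := (h4 fun h' => heq (hCH.trans ((comm_eq_bot_iff.1 h').trans (centralizer_antitone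
    (le_inf (h.hall₁.1.trans hE.1) (h.hall₁.1.trans hEH)))))).1
  obtain ⟨F, hF, hF1⟩ := ex_sigma_compl hG hH (h.hall₁.1.trans hEH)
    (isPiSubgroup_mono h5 tau1_sub_sigma')
  obtain ⟨F₁, hF₁, hEF₁⟩ := Hall.exists_hallOf_ge (isSolvable_of_le (mFT_sol hG hH.1) hF.1) h5 hF1
  have h7 := U4.SemiPrime.cent_eq (tau1_primact_Msigma hG hH hF hF₁) (hP1.trans hEF₁)
    (U4.ne_bot_of_card_prime hP)
  refine hR1 (eq_bot_iff.2 (le_trans (le_inf hR3 ?_) hreg.le))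
  rw [← hdef, cent_sup]
  exact le_inf (le_cent_of_cyclic hc3 hR3 le_rfl) (((le_inf (le_Msigma hG hH
    (le_normalizer.trans hN) (isPi_of_card_prime rfl h6)) (hR.trans inf_le_right)).trans
      h7.le).trans (inf_le_right.trans (centralizer_antitone hEF₁)))

theorem asym_facts (hG : PGHyp G) {M H : Subgroup G} (hM : Mx M)
    (hH : Mx H) (hHM : H ≠ M) {p : ℕ} (hpM : p ∈ tau1 M) {P : Subgroup G} (hP : P ≤ M)
    (hPp : Nat.card P = p) {q : ℕ} [Fact q.Prime] (hϖ : q ∈ ϖ[G]) {Q : Subgroup G}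
    (hQ : IsSylowIn q Q (M ⊓ H)) (hPQ : P ≤ 𝐍(Q)) (hQP : Q ⊓ 𝐂(P) = ⊥) (hNQ : 𝐍(Q) ≤ H) :
    IsSylowIn q Q M ∧ ⁅Q, P⁆ = Q ∧ alpha M = beta M ∧ q ∉ alpha M ∧ alphaCore M ⊓ 𝐂(P) ≠ ⊥ ∧
      alphaCore M ⊓ 𝐂(Q ⊔ P) = ⊥ := by
  have := Fact.mk hpM.1
  have hQ1 := ne_bot_of_norm_le (hH.ne_top hG) hNQ
  have hPp' := isPGroup_of_card_prime hPp
  have hqp : q ≠ p := by
    rintro rfl
    exact inf_centralizer_ne_bot_of_isNilpotent (isPGroup_sup' hPQ hQ.isPGroup hPp').isNilpotent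
      le_sup_left (sup_le le_normalizer hPQ) hQ1 (eq_bot_iff.2 ((inf_le_inf_left _
        (centralizer_antitone le_sup_right)).trans hQP.le))
  have hS := sylow_of_norm' hQ (hQ.le.trans inf_le_left) (inf_le_inf_left _ hNQ)
  obtain ⟨h1, -, h2, h3, h4⟩ := (cent_Malpha_reg_tau1 hG hM hϖ hpM hqp hP hPp hQ1 hPQ hQP
    fun h => hHM (h.eq hH hNQ)).2 hS
  refine ⟨hS, ?_, h1, h2, h3, h4⟩
  have := Cop.commutator_sup_centralizer hPQ (coprime_of_isPGroup_ne hPp' hQ.isPGroup hqp.symm)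
    (Or.inl (isSolvable_of_le (mFT_sol hG hM.1) hP))
  rwa [hQP, sup_bot_eq] at this

theorem asym_aux (hG : PGHyp G) {M H : Subgroup G} (hM : Mx M)
    (hH : Mx H) (hHM : NotConj H M) {p : ℕ} (hpM : p ∈ tau1 M) {P : Subgroup G}
    (hP : P ≤ M ⊓ H) (hPp : Nat.card P = p) {q : ℕ} [Fact q.Prime] (hϖ : q ∈ ϖ[G]) {Q : Subgroup G}
    (hQ : IsSylowIn q Q (M ⊓ H)) (hPQ : P ≤ 𝐍(Q)) (hQP : Q ⊓ 𝐂(P) = ⊥) (hNQ : 𝐍(Q) ≤ H)
    (h1 : alpha H = beta H) (h2 : alphaCore H ⊓ 𝐂(P) ≠ ⊥) {K : Subgroup G}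
    (hK : IsPiHallOf (alpha M ∪ alpha H) K 𝐂(P)) {s : ℕ} (hs : s ∈ alpha M)
    (hsK : piCoreOf {s} K ≠ ⊥) : False := by
  have := Fact.mk hpM.1
  have := Fact.mk hs.1
  have hPM := hP.trans inf_le_left
  have hsC := mFT_sol hG (loc_cent (ne_bot_of_card_prime hPp) (pi_of_inf_cent hG
    (pi_of_le (pi_of_sigma (Msigma_isPi H)) (Malpha_sub_Msigma hG hH)) h2))
  obtain ⟨hS, hQd, h3, h4, h5, h6⟩ := asym_facts hG hM hH hHM.ne hpM hPM hPp hϖ hQ hPQ hQP hNQ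
  have hQM : Q ≤ ⁅M, M⁆ := hQd.ge.trans (commutator_mono hS.le hPM)
  have hQH : Q ≤ ⁅H, H⁆ :=
    hQd.ge.trans (commutator_mono (hQ.le.trans inf_le_right) (hP.trans inf_le_right))
  have hdef := Mbeta_sup_norm_sylow hG hM (hS.mono hQM (der_le M))
  rw [show betaCore M = alphaCore M by rw [betaCore, ← h3]; rfl] at hdef
  -- a Hall subgroup of `C(P)` lies in `M`
  obtain ⟨x, hx⟩ := sigma_Jsub hG hM (isPi_of_isPGroup (piCoreOf_isPGroup (p := s) K)
    (alpha_sub_sigma hG hM hs))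
  have hxK : x •ᶜ K ≤ M := (le_norm_cj (le_norm_piCoreOf {s} K)).trans (beta_norm_sub_mmax hG hM
    (hx.trans (Msigma_le M)) (isPi_cj (isPi_of_isPGroup (piCoreOf_isPGroup K) (h3 ▸ hs)) x)
    fun h => hsK (cj_eq_bot_iff.1 h))
  obtain ⟨Y, hY, hYt⟩ := U4.exists_prime_sub h5
  have := Fact.mk hYt
  have ht := Malpha_isPi M _ hYt (card_dvd_of_le (hY.trans inf_le_left))
  have hYM := hY.trans (inf_le_left.trans (Malpha_le M))
  obtain ⟨c, hc, hcY⟩ := Hall.exists_conj_le_hallOf hsC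
    (isPi_of_card_prime (X := Y) rfl (Or.inl ht)) (hY.trans inf_le_right) hK
  have hxc : x * c ∈ M := sigma_cent_trans hG hM (alpha_sub_sigma hG hM ht)
    (isPGroup_of_card_prime rfl) hYM ((cent_le_norm Y).trans (beta_norm_sub_mmax hG hM hYM
      (isPi_of_card_prime rfl (h3 ▸ ht)) (ne_bot_of_card_prime rfl)))
    (by rw [← cj_cj]; exact (map_mono hcY).trans hxK)
  have hKM : c⁻¹ •ᶜ K ≤ M ⊓ 𝐂(P) := by
    refine le_inf ?_ (cj_le_of_norm hK.1 (le_normalizer (inv_mem hc)))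
    have := cj_le_of_norm hxK (le_normalizer (inv_mem hxc))
    rwa [cj_cj, show (x * c)⁻¹ * x = c⁻¹ by group] at this
  obtain ⟨r, hr, hd⟩ := exists_prime_dvd_card h2
  have := Fact.mk hr
  have hra := Malpha_isPi H r hr (hd.trans (card_dvd_of_le inf_le_left))
  have hrs : r ∉ sigma M := Set.disjoint_left.1 (sigma_disjoint hG hH hM hHM.symm).2.1 hra
  have hd1 : r ∣ Nat.card ↥(M ⊓ 𝐂(P)) := by
    refine Dvd.dvd.trans ?_ (card_dvd_of_le hKM)
    rw [card_map_conj]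
    exact (hall_dvd_card_iff hK hr).2 ⟨hd.trans (card_dvd_of_le inf_le_right), Or.inr hra⟩
  have hps : p ∉ sigma M := hpM.2.1
  have hnU : M ⊓ 𝐍(Q) ≤ 𝐍(alphaCore M) := inf_le_left.trans (le_norm_Malpha M)
  rw [← hdef, cent_sup_of_cop (hPM.trans (le_norm_Malpha M)) ((le_inf hPM hPQ).trans le_normalizer)
    hnU (coprime_mono (coprime_of_isPGroup_of_isPi (isPGroup_of_card_prime hPp) (Malpha_isPi M)
      fun h => hps (alpha_sub_sigma hG hM h)) le_rfl inf_le_left)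
    (Or.inl (isSolvable_of_le (mFT_sol hG hM.1) hPM))] at hd1
  obtain ⟨R, hR, hRr⟩ := exists_card_prime_le (dvd_card_of_dvd_sup
    (Cop.le_normalizer_inf_centralizer (inf_le_left.trans hnU)
      (inf_le_right.trans (cent_le_norm P))) hd1 fun h => hrs (alpha_sub_sigma hG hM
        (Malpha_isPi M r hr (h.trans (card_dvd_of_le inf_le_left)))))
  have hRM := hR.trans (inf_le_left.trans inf_le_left)
  have hNR := beta_norm_sub_mmax hG hH (hR.trans (inf_le_left.trans (inf_le_right.trans hNQ)))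
    (isPi_of_card_prime hRr (h1 ▸ hra)) (ne_bot_of_card_prime hRr)
  obtain ⟨E, hE, hPRE⟩ := ex_sigma_compl hG hM (sup_le hPM hRM) (isPi_sup'
    (hR.trans (inf_le_right.trans (cent_le_norm P))) (isPi_of_card_prime hPp hps)
    (isPi_of_card_prime hRr hrs))
  have h7 := (cent_tau1Elem_Msigma hG hM hE hpM (le_sup_left.trans hPRE) hPp
    (le_inf (le_sup_right.trans hPRE) (hR.trans inf_le_right)) (hRr ▸ hr)).trans
    (inf_le_right.trans ((cent_le_norm R).trans hNR))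
  obtain ⟨S, hQS, hS'⟩ := IsSylowIn.exists_ge hQ.isPGroup hQH
  have h8 := NilMod.le_norm_sup_sylow (Malpha_quo_nil hG hH) ((der_le H).trans (le_norm_Malpha H))
    hS' (le_norm_der H) (le_norm_Malpha H)
  refine h5 (eq_bot_iff.2 (le_trans (le_inf inf_le_left ?_) h6.le))
  rw [cent_sup]
  refine le_inf (comm_eq_bot_iff.1 (eq_bot_iff.2 ((le_inf ((commutator_mono inf_le_left le_rfl).trans
    (Cop.commutator_le_left_of_le_normalizer (hS.le.trans (le_norm_Malpha M))))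
    ((commutator_mono ((inf_le_inf_right _ (Malpha_sub_Msigma hG hM)).trans h7)
      (hQS.trans le_sup_right)).trans (comm_le_right h8))).trans (inf_eq_bot_of_isPi (Malpha_isPi M)
        (isPi_sup' (hS'.le.trans ((der_le H).trans (le_norm_Malpha H)))
          (fun t ht hd h => Set.disjoint_left.1 (sigma_disjoint hG hM hH hHM).2.1 h
            (alpha_sub_sigma hG hH (Malpha_isPi H t ht hd)))
          (isPi_of_isPGroup hS'.isPGroup h4))).le))) inf_le_right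

/-- BG 13.8. -/
theorem tau1_mmaxI_asymmetry (hG : PGHyp G) {M H : Subgroup G} (hM : Mx M)
    (hH : Mx H) (hHM : NotConj H M) {p : ℕ} (hpM : p ∈ tau1 M) (hpH : p ∈ tau1 H)
    {P : Subgroup G} (hP : P ≤ M ⊓ H) (hPp : Nat.card P = p) {q r : ℕ} [Fact q.Prime]
    [Fact r.Prime] (hqϖ : q ∈ ϖ[G]) (hrϖ : r ∈ ϖ[G]) {Q R : Subgroup G} (hQ : IsSylowIn q Q (M ⊓ H)) (hR : IsSylowIn r R (M ⊓ H))
    (hPQ : P ≤ 𝐍(Q)) (hPR : P ≤ 𝐍(R)) (hQP : Q ⊓ 𝐂(P) = ⊥) (hRP : R ⊓ 𝐂(P) = ⊥)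
    (hNQ : 𝐍(Q) ≤ H) (hNR : 𝐍(R) ≤ M) : False := by
  have := Fact.mk hpM.1
  have hR' : IsSylowIn r R (H ⊓ M) := inf_comm M H ▸ hR
  obtain ⟨-, -, h1, -, h2, -⟩ := asym_facts hG hM hH hHM.ne hpM (hP.trans inf_le_left) hPp hqϖ hQ
    hPQ hQP hNQ
  obtain ⟨-, -, h3, -, h4, -⟩ := asym_facts hG hH hM hHM.symm.ne hpH (hP.trans inf_le_right) hPp
    hrϖ hR' hPR hRP hNR
  have hsC := mFT_sol hG (loc_cent (ne_bot_of_card_prime hPp) (pi_of_inf_cent hG
    (pi_of_le (pi_of_sigma (Msigma_isPi H)) (Malpha_sub_Msigma hG hH)) h4))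
  obtain ⟨K, hK, hle⟩ := Hall.exists_hallOf_ge hsC (π := alpha M ∪ alpha H)
    (isPiSubgroup_mono (isPi_inf_left (Malpha_isPi M)) Set.subset_union_left) inf_le_right
  obtain ⟨s, hs, hsK⟩ := exists_pCore_ne_bot' (isSolvable_of_le hsC hK.1)
    fun h => h2 (eq_bot_iff.2 (h ▸ hle))
  rcases hall_isPi hK s hs.out ((dvd_card_of_isPGroup (piCoreOf_isPGroup K) hsK).trans
    (card_dvd_of_le (piCoreOf_le _ K))) with h | h
  · exact asym_aux hG hM hH hHM hpM hP hPp hqϖ hQ hPQ hQP hNQ h3 h4 hK h hsK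
  · exact asym_aux hG hH hM hHM.symm hpH (inf_comm M H ▸ hP) hPp hrϖ hR' hPR hRP hNR h1 h2
      (Set.union_comm _ _ ▸ hK) h hsK

theorem tau1_of_not_cent (hG : PGHyp G) {M H E : Subgroup G} (hM : Mx M)
    (hH : Mx H) (hHM : NotConj H M) (hE : IsPiHallOf (sigma M)ᶜ E M) {p : ℕ} [Fact p.Prime]
    {P : Subgroup G} (hP : P ≤ E ⊓ H) (hPp : Nat.card P = p) (h : ¬ P ≤ 𝐂(sigmaCore M ⊓ H)) :
    p ∈ tau1 H := by
  by_contra hp
  have hP' := hP.trans (inf_le_inf_right H hE.1)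
  exact h ((Msigma_setI_mmax_central hG hM hE hH (hPp ▸ card_dvd_of_le (hP.trans inf_le_left))
    (hPp ▸ card_dvd_of_le (hP.trans inf_le_right)) hp
    (fun h' => h (hP'.trans (Cop.commutator_eq_bot_iff_le_centralizer'.1 h'))) hHM).1 P hP'
    (isPGroup_of_card_prime hPp))

theorem cent_tau1_sylow_eq_bot (hG : PGHyp G) {M H E : Subgroup G} (hM : Mx M)
    (hH : Mx H) (hHM : H ≠ M) (hE : IsPiHallOf (sigma M)ᶜ E M) {p q : ℕ} [Fact q.Prime]
    (hp : p ∈ tau1 M) {P S : Subgroup G} (hP : P ≤ E) (hPp : Nat.card P = p)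
    (hS : IsSylowIn q S (sigmaCore M)) (hSH : S ≤ H) : S ⊓ 𝐂(P) = ⊥ := by
  by_contra h
  have := Fact.mk hp.1
  obtain ⟨X, hX, hXq⟩ := exists_card_prime_le (dvd_card_of_isPGroup hS.isPGroup.to_inf_left h)
  exact hHM (((cent_cent_Msigma_tau1_uniq hG hM hE hP (isPi_of_card_prime hPp hp)
    (ne_bot_of_card_prime hPp) (hX.trans (inf_le_inf_right _ hS.le)) hXq).2 S hS).eq hH hSH)

/-- BG 13.9. -/
theorem sigma_partition (hG : PGHyp G) {M H : Subgroup G} (hM : Mx M)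
    (hH : Mx H) (hHM : NotConj H M) : Disjoint (sigma M) (sigma H) := by
  by_contra hd
  obtain ⟨q, hqM, hqH⟩ := Set.not_disjoint_iff.1 hd
  have := Fact.mk hqM.1
  have hsM := mFT_sol hG hM.1
  obtain ⟨E, hE⟩ := Hall.exists_isPiHallOf hsM (sigma M)ᶜ
  obtain ⟨E₁, E₂, E₃, h⟩ := ex_sigmaCompl hG hM hE
  obtain ⟨S, hS, hES⟩ := exists_inv_sylow q (hE.1.trans (le_norm_Msigma M))
    (coprime_sigma_compl hG hM hE).symm (Or.inl (isSolvable_of_le hsM hE.1))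
  have hSM := sylow_of_hall hS (Msigma_Hall hG hM) hqM
  obtain ⟨g, hg⟩ := exists_common_sylow (M := M) hqH (sigma_Sylow_G hqM hSM)
  have hL := isCoatom_map_conj hH g
  have hLM := hHM.cj_left g
  have h2 : E₂ = ⊥ := by
    by_contra h1
    obtain ⟨p, hp, hd'⟩ := exists_prime_dvd_card h1
    exact hd (tau2_sigma_disjoint hG hM (hall_isPi h.hall₂ p hp hd') hH hHM).2
  obtain ⟨P, hP, hPp⟩ := U4.exists_prime_sub ((sigma_compl_context hG hM h).2.1 h2)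
  have := Fact.mk hPp
  have hp := hall_isPi h.hall₁ _ hPp (card_dvd_of_le hP)
  have hPE := hP.trans h.hall₁.1
  have hSL := le_normalizer.trans hg
  have hreg := cent_tau1_sylow_eq_bot hG hM hL hLM.ne hE hp hPE rfl hS hSL
  have hPL := (hPE.trans hES).trans hg
  have hS' := hSM.mono (le_inf hSM.le hSL) inf_le_left
  exact tau1_mmaxI_asymmetry hG hM hL hLM hp (tau1_of_not_cent hG hM hL hLM hE (le_inf hPE hPL) rfl
    fun h' => hSM.ne_bot hqM.2.1 (eq_bot_iff.2 ((le_inf le_rfl ((le_inf hS.le hSL).trans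
      (le_centralizer_comm h'))).trans hreg.le))) (le_inf (hPE.trans hE.1) hPL) rfl
    (mem_pi_of_sigma hqM) (mem_pi_of_sigma hqM) hS' hS'
    (hPE.trans hES) (hPE.trans hES) hreg hreg hg (norm_sigma_Sylow hqM hSM)

/-- BG 13.10. -/
theorem tau13_regular (hG : PGHyp G) {M E E₁ E₂ E₃ : Subgroup G}
    (hM : Mx M) (h : SigmaCompl M E E₁ E₂ E₃) {P : Subgroup G} (hPE : P ≤ E)
    (hP : (Nat.card P).Prime) (hc : ¬ P ≤ 𝐂(E₃)) :
    SemiReg E₃ E₁ ∧ SemiReg (sigmaCore M) E₃ ∧ sigmaCore M ⊓ 𝐂(P) ≠ ⊥ := by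
  have hE := h.hall
  have := Fact.mk hP
  have hsM := mFT_sol hG hM.1
  obtain ⟨⟨hd3, hn3⟩, -, ⟨hc1, hc3⟩, -, -⟩ := sigma_compl_context hG hM h
  have hp : Nat.card P ∈ tau1 M := by
    rcases (partition_pi_sigma_compl hG hM hE hP).1 (card_dvd_of_le hPE) with h1 | h1 | h1
    · exact h1
    · obtain ⟨A, hA⟩ := ex_tau2Elem hG hM hE h1
      exact absurd (((tau2_compl_context hG hM hE h1 hA).1.2 P hPE rfl).trans (le_centralizer_comm
        ((tau1_cent_tau2Elem_factor hG hM hE h1 hA).1 E₃ h.hall₃.1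
          fun q hq hd h' => tau3'1 h' (hall_isPi h.hall₃ q hq hd)))) hc
    · exact absurd (le_cent_of_cyclic hc3 (le_hall_of_norm h.hall₃ (isPi_of_card_prime rfl h1) hPE
        (hPE.trans hn3)) le_rfl) hc
  obtain ⟨q, hq, hdq, Q, hQ, hQP⟩ : ∃ (q : ℕ) (_ : Fact q.Prime), q ∣ Nat.card E₃ ∧
      ∃ Q, IsSylowIn q Q E₃ ∧ ¬ Q ≤ 𝐂(P) := by
    by_contra h'
    refine hc (le_centralizer_comm (le_of_forall_sylow fun q hq hd => ?_))
    obtain ⟨Q, hQ⟩ := IsSylowIn.exists_in (p := q) E₃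
    exact ⟨Q, hQ, by_contra fun h'' => h' ⟨q, hq, hd, Q, hQ, h''⟩⟩
  have hq3 := hall_isPi h.hall₃ q hq.out hdq
  have hEQ : E ≤ 𝐍(Q) := hn3.trans (norm_le_norm_of_cyclic hc3 hQ.le)
  have hreg : Q ⊓ 𝐂(P) = ⊥ := by_contra fun h' => hQP (le_cent_of_cyclic_of_fixed hQ.isPGroup
    (isCyclic_of_le hQ.le) (hPE.trans hEQ) ((Nat.coprime_primes hP hq.out).2
      fun e => tau3'1 hp (e ▸ hq3)) h')
  have hQM := sylow_of_hall (sylow_of_hall hQ h.hall₃ hq3) hE hq3.2.1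
  by_cases hϖ : q ∈ ϖ[G]
  swap
  · have hσ := pi_of_sigma (Msigma_isPi M)
    have hcop := (coprime_sigma_compl hG hM hE).symm
    have h1 : sigmaCore M ⊓ 𝐂(P) ≠ ⊥ := fun h' => Msigma_neq1 hG hM (by
      have h2 := Frobenius_Wielandt_cent (hPE.trans hEQ)
        (fun x hx hx1 => cent1_eq_of_card_prime rfl hx hx1 ▸ hreg)
        (hQM.le.trans (le_norm_Msigma M)) ((hPE.trans hE.1).trans (le_norm_Msigma M))
        (isSolvable_of_le hsM (Msigma_le M)) (coprime_mono hcop (hQ.le.trans h.hall₃.1) le_rfl)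
        (coprime_mono hcop hPE le_rfl) (ne_bot_of_card_prime rfl) h'
      rw [← inf_cent_eq_bot_of_not_pi hG hσ hq.out
        (dvd_card_of_isPGroup hQ.isPGroup (hQ.ne_bot hdq)) hϖ]
      exact (inf_eq_left.2 (le_centralizer_comm h2)).symm)
    have h3 : IsPiSubgroup ϖ[G]ᶜ E₃ := fun r hr hd hr' =>
      hϖ (pi_of_nil_of_dvd hG (U4.isNilpotent_of_comm (U4.comm_of_isCyclic hc3)) hr hd hr' q hq.out
        hdq)
    have h4 : IsPiSubgroup ϖ[G] E₁ := pi_of_nil_of_dvd hG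
      (U4.isNilpotent_of_comm (U4.comm_of_isCyclic hc1)) hP
      ((hall_dvd_card_iff h.hall₁ hP).2 ⟨card_dvd_of_le hPE, hp⟩)
      (pi_of_inf_cent hG hσ h1 _ hP dvd_rfl)
    exact ⟨fun x hx hx1 => inf_eq_bot_of_isPi (π := ϖ[G]ᶜ) h3
      (by rw [compl_compl]; exact pi_cent1_of_mem hG h4 hx hx1), semiReg_of_pi' hG hσ h3, h1⟩
  obtain ⟨L, hL, hN⟩ := mmax_exists (loc_norm_pgroup hϖ hQ.isPGroup (hQ.ne_bot hdq))
  have hLM := mmax_norm_notJ hG hM hL hϖ hQ.isPGroup hQM.le hN (Or.inr (Or.inr hq3))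
  have hQ' := hQM.mono (le_inf hQM.le (le_normalizer.trans hN)) inf_le_left
  obtain ⟨-, -, -, -, h1, h2⟩ := asym_facts hG hM hL hLM.ne hp (hPE.trans hE.1) rfl hϖ hQ'
    (hPE.trans hEQ) hreg hN
  have has := Malpha_sub_Msigma hG hM
  refine ⟨by_contra fun h' => ?_, by_contra fun h' => ?_,
    fun h' => h1 (eq_bot_iff.2 ((inf_le_inf_right _ has).trans h'.le))⟩
  · obtain ⟨g, hg, hgP⟩ := Hall.exists_conj_le_hallOf (isSolvable_of_le hsM hE.1)
      (isPi_of_card_prime rfl hp) hPE h.hall₁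
    have hP' := hgP.trans h.hall₁.1
    obtain ⟨-, -, -, -, h3, h4⟩ := asym_facts hG hM hL hLM.ne hp (hP'.trans hE.1)
      (card_map_conj _ _) hϖ hQ' (hP'.trans hEQ) (by
        rw [← map_conj_eq_of_mem_normalizer (hEQ hg), ← cj_inf_cent, hreg, Subgroup.map_bot]) hN
    refine h3 (eq_bot_iff.2 (le_trans (le_inf inf_le_left ?_) h4.le))
    refine ((inf_le_inf_right _ has).trans (U4.SemiPrime.cent_eq (tau13_primact_Msigma hG hM h h')
      (hgP.trans le_sup_right) (ne_bot_of_card_prime (card_map_conj _ _))).le).trans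
      (inf_le_right.trans (centralizer_antitone (sup_le_sup hQ.le hgP)))
  · have hs3 := tau3_primact_Msigma hG hM hE h.hall₃
    have hC : sigmaCore M ⊓ L = sigmaCore M ⊓ 𝐂(Q) := le_antisymm (le_inf inf_le_left
      (le_centralizer_comm ((cent_norm_tau13_mmax hG hM hE hϖ (Or.inr hq3) hQM.le hQ.isPGroup hL hN).1
        Q hQ'.le hQ.isPGroup))) (inf_le_inf_left _ ((cent_le_norm Q).trans hN))
    have hC1 : sigmaCore M ⊓ L ≠ ⊥ := fun e => h' fun x hx hx1 => by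
      rw [hs3 x hx hx1, ← U4.SemiPrime.cent_eq hs3 hQ.le (hQ.ne_bot hdq), ← hC, e]
    have hPL := (hPE.trans hEQ).trans hN
    obtain ⟨u, hu, hdu⟩ := exists_prime_dvd_card hC1
    have := Fact.mk hu
    have hus := Msigma_isPi M u hu (hdu.trans (card_dvd_of_le inf_le_left))
    obtain ⟨U, hU, hPU⟩ := exists_inv_sylow u (le_normalizer_inf
      ((hPE.trans hE.1).trans (le_norm_Msigma M)) (hPL.trans le_normalizer))
      (coprime_mono (coprime_sigma_compl hG hM hE).symm hPE inf_le_left)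
      (Or.inl (isSolvable_of_le hsM (hPE.trans hE.1)))
    have hU1 := hU.ne_bot hdu
    have hUM := hU.le.trans (inf_le_left.trans (Msigma_le M))
    have hU' : IsSylowIn u U (M ⊓ L) := by
      have := hall_inf (Msigma_Hall hG hM) (inf_le_left : M ⊓ L ≤ M)
        (Or.inr (inf_le_left.trans (le_norm_Msigma M)))
      rw [← inf_assoc, inf_eq_left.2 (Msigma_le M)] at this
      exact sylow_of_hall hU this hus
    have key : U ⊓ 𝐂(P) = ⊥ ∧ 𝐍(U) ≤ M := by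
      by_cases hb : u ∈ beta M
      · refine ⟨eq_bot_iff.2 (le_trans ?_ h2.le), beta_norm_sub_mmax hG hM hUM
          (isPi_of_isPGroup hU.isPGroup hb) hU1⟩
        rw [cent_sup, ← inf_assoc]
        exact inf_le_inf_right _ (le_inf (le_Malpha hG hM hUM
          (isPi_of_isPGroup hU.isPGroup (beta_sub_alpha M hb))) (hU.le.trans (hC.le.trans inf_le_right)))
      · obtain ⟨K, hK, hEK⟩ := der_compl_cent_beta' hG hM hE
        have hS : IsSylowIn u U (sigmaCore M) := sylow_trans hU inf_le_left fun e =>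
          hK.2.2 u hu hb (e.trans (relIndex_dvd_of_le_left _ ((le_inf hK.1
            (le_centralizer_comm ((hQ.le.trans hd3).trans hEK))).trans hC.ge)))
        exact ⟨cent_tau1_sylow_eq_bot hG hM hL hLM.ne hE hp hPE rfl hS (hU.le.trans inf_le_right),
          norm_sigma_Sylow hus (sylow_of_hall hS (Msigma_Hall hG hM) hus)⟩
    exact tau1_mmaxI_asymmetry hG hM hL hLM hp (tau1_of_not_cent hG hM hL hLM hE (le_inf hPE hPL) rfl
      fun e => hU1 (eq_bot_iff.2 ((le_inf le_rfl (hU.le.trans (le_centralizer_comm e))).trans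
        key.1.le))) (le_inf (hPE.trans hE.1) hPL) rfl hϖ (mem_pi_of_sigma hus) hQ' hU' (hPE.trans hEQ) hPU hreg key.1 hN key.2

/-- BG 13.11. -/
theorem tau13_nonregular (hG : PGHyp G) {M E E₁ E₂ E₃ : Subgroup G}
    (hM : Mx M) (h : SigmaCompl M E E₁ E₂ E₃) (hnr : ¬ SemiReg (sigmaCore M) E₃) :
    E₁ ≠ ⊥ ∧ E₃ ⊔ E₁ = E ∧ SemiPrime (sigmaCore M) E ∧
      ∀ X ≤ E, (Nat.card X).Prime → E ≤ 𝐍(X) := by
  have h2 := h.eq_bot_of_nonreg hG hM hnr
  obtain ⟨⟨-, hn3⟩, h1, ⟨hc1, hc3⟩, ⟨hdef, -⟩, -⟩ := sigma_compl_context hG hM h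
  rw [h2, sup_bot_eq] at hdef
  have hc : ∀ X ≤ E, (Nat.card X).Prime → X ≤ 𝐂(E₃) := fun X hX hp =>
    by_contra fun h' => hnr (tau13_regular hG hM h hX hp h').2.1
  obtain ⟨P, hP, hPp⟩ := U4.exists_prime_sub (h1 h2)
  have h3 : E₃ ≠ ⊥ := fun e => hnr fun x hx hx1 => absurd (mem_bot.1 (e ▸ hx)) hx1
  refine ⟨h1 h2, hdef, hdef ▸ tau13_primact_Msigma hG hM h fun h' => h3 ?_, fun X hX hp => ?_⟩
  · rw [← U4.SemiReg.cent_eq h' hP (U4.ne_bot_of_card_prime hPp)]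
    exact (inf_eq_left.2 (le_centralizer_comm (hc P (hP.trans h.hall₁.1) hPp))).symm
  rcases h.prime_sub_tau13 hG hM (hX.trans hdef.ge) hp with h4 | ⟨g, hg, h4⟩
  · exact hn3.trans (norm_le_norm_of_cyclic hc3 h4)
  · have h5 : E ≤ 𝐍(g •ᶜ X) := hdef.ge.trans (sup_le ((le_centralizer_comm (hc _
      (h4.trans h.hall₁.1) (by rwa [card_map_conj]))).trans (cent_le_norm _))
      (le_normalizer.trans (norm_le_norm_of_cyclic hc1 h4)))
    have h6 := map_conj_eq_of_mem_normalizer (h5 (inv_mem (hdef.le hg)))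
    rw [map_conj_inv_map_conj] at h6
    rwa [← h6] at h5

/-- BG 13.13. -/
theorem tau13_nonregular_sigma (hG : PGHyp G) {M H : Subgroup G} (hM : Mx M)
    {p : ℕ} {P : Subgroup G} (hPM : P ≤ M) (hP : Nat.card P = p) (hp : p ∈ tau1 M ∨ p ∈ tau3 M)
    (h : sigmaCore M ⊓ 𝐂(P) ≠ ⊥) (hH : Mx H) (hN : 𝐍(P) ≤ H) : p ∈ sigma H := by
  have := Fact.mk (hp.elim (fun h => h.1) fun h => h.1)
  have hPp := isPGroup_of_card_prime hP
  have hP1 := ne_bot_of_card_prime hP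
  have hϖ : p ∈ ϖ[G] := pi_of_inf_cent hG (pi_of_sigma (Msigma_isPi M)) h p Fact.out hP.symm.dvd
  refine (prime_class_mmax_norm hG hH hϖ hPp hN).resolve_right fun h2 => ?_
  obtain ⟨Q, hQ, hq⟩ := U4.exists_prime_sub h
  have := Fact.mk hq
  have hqs := Msigma_isPi M _ hq (card_dvd_of_le (hQ.trans inf_le_left))
  have hqH : Nat.card Q ∉ sigma H := Set.disjoint_left.1
    (sigma_partition hG hM hH (mmax_norm_notJ hG hM hH hϖ hPp hPM hN (Or.inr hp))) hqs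
  have hQP := hQ.trans inf_le_right
  obtain ⟨F, hF, hPQF⟩ := ex_sigma_compl hG hH
    (sup_le (le_normalizer.trans hN) (hQP.trans ((cent_le_norm P).trans hN)))
    (isPi_sup' (hQP.trans (cent_le_norm P)) (isPi_of_card_prime hP h2.2.1)
      (isPi_of_card_prime rfl hqH))
  obtain ⟨A, hA⟩ := ex_tau2Elem hG hH hF h2
  have hPA := (tau2_compl_context hG hH hF h2 hA).1.2 P (le_sup_left.trans hPQF) hP
  have hQF := le_sup_right.trans hPQF
  have huniq : UniqMax 𝐂(Q) M := by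
    obtain ⟨E, hE, hPE⟩ := ex_sigma_compl hG hM hPM
      (isPi_of_card_prime hP (hp.elim (fun h => h.2.1) fun h => h.2.1))
    rcases hp with hp | hp
    · exact (cent_cent_Msigma_tau1_uniq hG hM hE hPE (isPi_of_card_prime hP hp) hP1 hQ rfl).1
    · obtain ⟨E₁, E₂, E₃, hc⟩ := ex_sigmaCompl hG hM hE
      obtain ⟨h3, -, h4, -⟩ := tau13_nonregular hG hM hc fun h' => h (U4.SemiReg.cent_eq h'
        (le_hall_of_norm hc.hall₃ (isPi_of_card_prime hP hp) hPE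
          (hPE.trans (sigma_compl_context hG hM hc).1.2)) hP1)
      exact (cent_cent_Msigma_tau1_uniq hG hM hE hc.hall₁.1 (hall_isPi hc.hall₁) h3
        ((hQ.trans (U4.SemiPrime.cent_eq h4 hPE hP1).le).trans
          (inf_le_inf_left _ (centralizer_antitone hc.hall₁.1))) rfl).1
  have hAQ : ¬ A ≤ 𝐂(Q) := fun h' => (hA.of_le (h'.trans huniq.le)).not_rank
    (hp.elim (fun h => h.2.2.2.2) fun h => h.2.2.2)
  have hq1 : Nat.card Q ∈ tau1 H := by_contra fun h' => hAQ (le_centralizer_comm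
    ((tau1_cent_tau2Elem_factor hG hH hF h2 hA).1 Q hQF (isPi_of_card_prime rfl h')))
  have hPAQ : P ≤ A ⊓ 𝐂(Q) := le_inf hPA (le_centralizer_comm hQP)
  obtain ⟨-, -, h3, h4⟩ := tau1_act_tau2 hG hH hF h2 hA hq1 hQF rfl
    (tau12_regular hG hH hF hq1 hQF rfl h2 hA fun h' => hP1 (eq_bot_iff.2 (h' ▸ hPAQ)))
    fun h' => hAQ (comm_eq_bot_iff.1 h')
  exact h4 (eq_of_card_prime h3 hPAQ hP1 ▸ (cent_le_norm P).trans hN)

end CfsgLib.FT.PG
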