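import Mathlib
import Cfsg.Agent.Lib.PG.BG13
import Cfsg.Agent.Lib.FT.BG3
import Cfsg.Agent.Lib.FT.BG4a
import Cfsg.Agent.Lib.FT.U4
import Cfsg.Agent.Lib.FT.BG14a

/-! Bender–Glauberman, section 14, first part: `κ(M)`, 14.1, 14.2 and 14.3. -/

set_option autoImplicit false
set_option linter.unusedSectionVars false



namespace CfsgLib.FT.PG.U4.B14

open Subgroup Cfsg BGN
open scoped commutatorElement

variable {G : Type*} [Group G] [PiCtx G] [Finite G]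

/-! ### `M_σ` -/

omit [Finite G] in
theorem Ms_le (M : Subgroup G) : sigmaCore M ≤ M := map_subtype_le _

theorem norm_le_norm_Ms (M : Subgroup G) : 𝐍(M) ≤ 𝐍(sigmaCore M) :=
  normalizer_le_normalizer_map_piCore _ M

theorem Ms_normal (M : Subgroup G) : M ≤ 𝐍(sigmaCore M) := le_normalizer.trans (norm_le_norm_Ms M)

theorem Ms_pi (M : Subgroup G) : IsPiSubgroup (sigma M) (sigmaCore M) :=
  map_piCore_isPiSubgroup _ M

theorem conj_Ms {M : Subgroup G} {m : G} (hm : m ∈ M) : m •ᶜ sigmaCore M = sigmaCore M :=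
  map_conj_eq_of_mem_normalizer (Ms_normal M hm)

theorem Ms_elt {M : Subgroup G} {x : G} (hx : x ∈ sigmaCore M) : IsPiNum (sigma M) (orderOf x) :=
  isPiNum_orderOf_of_mem (Ms_pi M) hx

omit [Finite G] in
theorem sigma_prime {M : Subgroup G} {p : ℕ} (h : p ∈ sigma M) : p.Prime := h.1

omit [Finite G] in
theorem sigma_dvd {M : Subgroup G} {p : ℕ} (h : p ∈ sigma M) : p ∣ Nat.card M := h.2.1

section
variable (hG : PGHyp G) {M : Subgroup G} (hM : Mx M)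
include hG hM

theorem le_Ms {X : Subgroup G} (hX : X ≤ M) (h : IsPiSubgroup (sigma M) X) : X ≤ sigmaCore M :=
  le_of_normal_hallOf (Msigma_Hall hG hM) (Ms_normal M) h hX

theorem mem_Ms {x : G} (hx : x ∈ M) (h : IsPiNum (sigma M) (orderOf x)) : x ∈ sigmaCore M :=
  mem_of_normal_hallOf (Msigma_Hall hG hM) (Ms_normal M) h hx

theorem complIn_Ms {E : Subgroup G} (hE : IsPiHallOf (sigma M)ᶜ E M) :
    IsComplIn (sigmaCore M) E M := isComplIn_of_hall (Msigma_Hall hG hM) hE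

theorem mmax_sol : Group.IsSolvable M := mFT_sol hG hM.1

theorem der_lt : ⁅M, M⁆ < M := by
  have := mmax_sol hG hM
  have := (nontrivial_iff_ne_bot M).2 (mmax_neq_bot hG hM)
  refine lt_of_le_of_ne (commutator_le_self M) fun h => ?_
  have h1 := IsSolvable.commutator_lt_top_of_nontrivial (G := M)
  refine h1.ne (map_injective M.subtype_injective ?_)
  rw [map_subtype_commutator, h, ← MonoidHom.range_eq_map, range_subtype]

theorem not_sigma_mmax : ¬ IsPiSubgroup (sigma M) M := fun h =>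
  (der_lt hG hM).not_ge ((le_Ms hG hM le_rfl h).trans (Msigma_der1 hG hM))

theorem exists_sigma_compl : ∃ E, IsPiHallOf (sigma M)ᶜ E M :=
  Hall.exists_isPiHallOf (mmax_sol hG hM) _

theorem sigma_compl_ne_bot {E : Subgroup G} (hE : IsPiHallOf (sigma M)ᶜ E M) : E ≠ ⊥ := fun h =>
  not_sigma_mmax hG hM (by have := (hallOf_eq_bot_iff hE).1 h; rwa [compl_compl] at this)

theorem tau13_of_rank1 {p : ℕ} (hp : p.Prime) (hd : p ∣ Nat.card M) (hs : p ∉ sigma M)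
    (hr : PRankLE p 1 M) : p ∈ tau1 M ∨ p ∈ tau3 M := by
  rcases (partition_pi_mmax hG hM hp).1 hd with h | h | h | h
  exacts [Or.inl h, absurd hr h.2.2.2, Or.inr h, absurd h hs]

theorem tau13_of_not_tau2 {p : ℕ} (hp : p.Prime) (hd : p ∣ Nat.card M) (hs : p ∉ sigma M)
    (hr : p ∉ tau2 M) : p ∈ tau1 M ∨ p ∈ tau3 M := by
  rcases (partition_pi_mmax hG hM hp).1 hd with h | h | h | h
  exacts [Or.inl h, absurd h hr, Or.inr h, absurd h hs]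

end

omit [Finite G] in
theorem tau13_rank {M : Subgroup G} {p : ℕ} (h : p ∈ tau1 M ∨ p ∈ tau3 M) : PRankLE p 1 M :=
  h.elim (fun h => h.2.2.2.2) fun h => h.2.2.2

omit [Finite G] in
theorem tau13_prime {M : Subgroup G} {p : ℕ} (h : p ∈ tau1 M ∨ p ∈ tau3 M) : p.Prime :=
  h.elim (fun h => h.1) fun h => h.1

omit [Finite G] in
theorem tau13_not_sigma {M : Subgroup G} {p : ℕ} (h : p ∈ tau1 M ∨ p ∈ tau3 M) : p ∉ sigma M :=
  h.elim (fun h => h.2.1) fun h => h.2.1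

theorem tau2_dvd {M : Subgroup G} {p : ℕ} (h : p ∈ tau2 M) : p ∣ Nat.card M :=
  have := Fact.mk h.1
  dvd_card_of_not_pRankLE h.2.2.2

theorem cyclic_of_rank1 (hG : PGHyp G) {M P : Subgroup G} (hM : Loc M) {p : ℕ} [Fact p.Prime]
    (hr : PRankLE p 1 M) (hP : IsPGroup p P) (hPM : P ≤ M) : IsCyclic P := by
  by_cases h1 : P = ⊥
  · subst h1; infer_instance
  · obtain ⟨q, hq, hd⟩ := exists_prime_dvd_card h1
    have hqp : q = p := isPGroup_iff_isPiSubgroup.1 hP q hq hd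
    subst hqp
    exact (odd_pgroup_rank1_cyclic (mFT_prime_ne_two' hG (hM.mono hPM) hd) hP).1 (pRankLE_mono hr hPM)

/-- In a group of `p`-rank one, subgroups of order `p` are conjugate. -/
theorem conj_of_rank1 (hG : PGHyp G) {M X Y : Subgroup G} (hM : Loc M) {p : ℕ} (hp : p.Prime)
    (hr : PRankLE p 1 M) (hX : X ≤ M) (hY : Y ≤ M) (hXp : Nat.card X = p) (hYp : Nat.card Y = p) :
    ∃ m ∈ M, m •ᶜ X = Y := by
  have := Fact.mk hp
  obtain ⟨S, hYS, hS⟩ := IsSylowIn.exists_ge (isPGroup_of_card_eq hYp) hY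
  obtain ⟨m, hm, h⟩ := hS.exists_conj_le (isPGroup_of_card_eq hXp) hX
  exact ⟨m, hm, eq_of_le_cyclic (cyclic_of_rank1 hG hM hr hS.isPGroup hS.le) h hYS
    (by rw [card_map_conj, hXp, hYp])⟩

theorem Ms_cent_conj {M X : Subgroup G} {m : G} (hm : m ∈ M) :
    sigmaCore M ⊓ 𝐂(m •ᶜ X) = m •ᶜ (sigmaCore M ⊓ 𝐂(X)) := by
  rw [map_conj_inf, conj_Ms hm, centralizer_map_conj]

/-! ### `κ(M)` -/

theorem mem_kappa_iff' {M : Subgroup G} {p : ℕ} [Fact p.Prime] :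
    p ∈ kappa M ↔ p ∣ Nat.card M ∧ p ∉ sigma M ∧ ∀ P, IsSylowIn p P M → IsCyclic P ∧
      ∃ x ∈ P, x ≠ 1 ∧ sigmaCore M ⊓ 𝐂[x] ≠ ⊥ := by
  constructor
  · rintro ⟨-, h1, h2, h3⟩
    refine ⟨h1, h2, fun P hP => ?_⟩
    obtain ⟨Q, rfl⟩ := hP.exists_sylow_map
    obtain ⟨hc, x, hx, hx1, y, hy, hy1, e⟩ := h3 Q
    exact ⟨isCyclic_map_subtype_iff.2 hc, x, ⟨x, hx, rfl⟩, fun h => hx1 (Subtype.ext h),
      inf_cent_ne_bot_iff.2 ⟨y, hy, hy1, mem_cent1'.2 e⟩⟩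
  · rintro ⟨h1, h2, h3⟩
    refine ⟨Fact.out, h1, h2, fun Q => ?_⟩
    obtain ⟨hc, _, ⟨x, hx, rfl⟩, hx1, h⟩ := h3 _ (IsSylowIn.of_sylow_subgroup Q)
    obtain ⟨y, hy, hy1, e⟩ := inf_cent_ne_bot_iff.1 h
    exact ⟨isCyclic_map_subtype_iff.1 hc, x, hx, fun h => hx1 (by rw [h]; rfl), y, hy, hy1,
      mem_cent1'.1 e⟩

theorem kappa_conj_sub (g : G) (M : Subgroup G) : kappa M ⊆ kappa (g •ᶜ M) := by
  intro p hp
  have := Fact.mk hp.1
  obtain ⟨h1, h2, h3⟩ := mem_kappa_iff'.1 hp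
  refine mem_kappa_iff'.2 ⟨by rwa [card_map_conj], by rwa [sigma_conj], fun P hP => ?_⟩
  have hP' := hP.map_conj g⁻¹
  rw [map_conj_inv_map_conj] at hP'
  obtain ⟨hc, x, hx, hx1, h⟩ := h3 _ hP'
  refine ⟨isCyclic_conj.1 hc, g * x * g⁻¹, ?_, conj_ne_one_iff.2 hx1, ?_⟩
  · rw [← map_conj_map_conj_inv g P]; exact conj_mem_map_conj hx
  · rwa [sigmaCore_conj, cent1_conj, ← map_conj_inf, Ne, conj_eq_bot_iff]

theorem kappa_conj (g : G) (M : Subgroup G) : kappa (g •ᶜ M) = kappa M := by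
  refine Set.Subset.antisymm ?_ (kappa_conj_sub g M)
  have := kappa_conj_sub g⁻¹ (g •ᶜ M)
  rwa [map_conj_inv_map_conj] at this

omit [Finite G] in
theorem kappa_prime {M : Subgroup G} {p : ℕ} (h : p ∈ kappa M) : p.Prime := h.1

omit [Finite G] in
theorem kappa_dvd {M : Subgroup G} {p : ℕ} (h : p ∈ kappa M) : p ∣ Nat.card M := h.2.1

omit [Finite G] in
theorem kappa_sub_sigma' {M : Subgroup G} : kappa M ⊆ (sigma M)ᶜ := fun _ h => h.2.2.1

omit [Finite G] in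
theorem disjoint_sigma_kappa {M : Subgroup G} : Disjoint (sigma M) (kappa M) :=
  Set.disjoint_right.2 fun _ h => h.2.2.1

theorem kappa_rank {M : Subgroup G} {p : ℕ} (h : p ∈ kappa M) : PRankLE p 1 M := by
  have := Fact.mk h.1
  obtain ⟨P, hP⟩ := IsSylowIn.exists_in (p := p) M
  exact (pRankLE_iff_of_isSylowIn hP).2 (pRankLE_one_of_isCyclic ((mem_kappa_iff'.1 h).2.2 P hP).1)

theorem kappa_not_tau2 {M : Subgroup G} {p : ℕ} (h : p ∈ kappa M) : p ∉ tau2 M :=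
  fun h' => h'.2.2.2 (kappa_rank h)

section
variable (hG : PGHyp G) {M : Subgroup G} (hM : Mx M)
include hG

include hM in
theorem kappa_tau13 {p : ℕ} (h : p ∈ kappa M) : p ∈ tau1 M ∨ p ∈ tau3 M :=
  tau13_of_rank1 hG hM h.1 h.2.1 h.2.2.1 (kappa_rank h)

theorem mem_kappa (hM : Mx M) {p : ℕ} (h : p ∈ tau1 M ∨ p ∈ tau3 M) {X : Subgroup G} (hX : X ≤ M)
    (hXp : Nat.card X = p) (hC : sigmaCore M ⊓ 𝐂(X) ≠ ⊥) : p ∈ kappa M := by
  have hp := tau13_prime h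
  have := Fact.mk hp
  refine mem_kappa_iff'.2 ⟨hXp ▸ card_dvd_of_le hX, tau13_not_sigma h, fun P hP =>
    ⟨cyclic_of_rank1 hG hM.1 (tau13_rank h) hP.isPGroup hP.le, ?_⟩⟩
  obtain ⟨m, hm, hle⟩ := hP.exists_conj_le (isPGroup_of_card_eq hXp) hX
  obtain ⟨x, hx, hx1⟩ := exists_ne_one (conj_eq_bot_iff (g := m).not.2
    (ne_bot_of_card_prime (hXp ▸ hp)))
  refine ⟨x, hle hx, hx1, fun h1 => hC ?_⟩
  rw [← conj_eq_bot_iff (g := m), ← Ms_cent_conj hm, eq_bot_iff, ← h1]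
  exact inf_le_inf_left _ (cent_le_cent1 hx)

theorem kappa_nonregular (hM : Mx M) {p : ℕ} (h : p ∈ kappa M) {X : Subgroup G} (hX : X ≤ M)
    (hXp : Nat.card X = p) : sigmaCore M ⊓ 𝐂(X) ≠ ⊥ := by
  have := Fact.mk h.1
  obtain ⟨P, hP⟩ := IsSylowIn.exists_in (p := p) M
  obtain ⟨-, x, hx, hx1, hC⟩ := (mem_kappa_iff'.1 h).2.2 P hP
  obtain ⟨Y, hY, hYp⟩ := exists_prime_sub_zpowers hx1
  have hYP : Y ≤ P := hY.trans (zpowers_le.2 hx)
  have hYq : Nat.card Y = p := isPGroup_iff_isPiSubgroup.1 hP.isPGroup _ hYp (card_dvd_of_le hYP)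
  obtain ⟨m, hm, rfl⟩ := conj_of_rank1 hG hM.1 h.1 (kappa_rank h) (hYP.trans hP.le) hX hYq hXp
  rw [Ms_cent_conj hm, Ne, conj_eq_bot_iff]
  exact fun h1 => hC (eq_bot_iff.2 (h1 ▸ inf_le_inf_left _ (cent1_le_cent hY)))

end

theorem hallK_ne_bot_iff {M K : Subgroup G} (hK : IsPiHallOf (kappa M) K M) :
    K ≠ ⊥ ↔ (kappa M).Nonempty := by
  rw [Ne, hallOf_eq_bot_iff hK]
  constructor
  · intro h
    by_contra h1
    exact h fun p _ _ hp => h1 ⟨p, hp⟩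
  · rintro ⟨p, hp⟩ h
    exact h p hp.1 hp.2.1 hp

theorem hallK_eq_bot_iff {M K : Subgroup G} (hK : IsPiHallOf (kappa M) K M) :
    K = ⊥ ↔ kappa M = ∅ := by
  rw [← not_iff_not, ← Ne, hallK_ne_bot_iff hK, Set.nonempty_iff_ne_empty]

/-- `U` and `K` are as in the factorization `M = M_σ U K`. -/
structure KappaCompl (M U K : Subgroup G) : Prop where
  hallK : IsPiHallOf (kappa M) K M
  hallU : IsPiHallOf (sigma M ∪ kappa M)ᶜ U M
  norm : K ≤ 𝐍(U)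

/-- `M ∈ 𝓜_{P₁}` (for `M` maximal). -/
def P1 (M : Subgroup G) : Prop := IsPiSubgroup (sigma M ∪ kappa M) M

/-- `M ∈ 𝓜_{P₂}` (for `M` maximal). -/
def P2 (M : Subgroup G) : Prop := (kappa M).Nonempty ∧ ¬ P1 M

theorem P1_conj {M : Subgroup G} (g : G) : P1 (g •ᶜ M) ↔ P1 M := by
  unfold P1; rw [sigma_conj, kappa_conj, isPiSubgroup_conj]

theorem P2_conj {M : Subgroup G} (g : G) : P2 (g •ᶜ M) ↔ P2 M := by
  unfold P2; rw [kappa_conj, P1_conj]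

theorem P1.nonempty (hG : PGHyp G) {M : Subgroup G} (hM : Mx M) (h : P1 M) :
    (kappa M).Nonempty := by
  by_contra h1
  exact not_sigma_mmax hG hM fun p hp hd => (h p hp hd).resolve_right fun h2 => h1 ⟨p, h2⟩

theorem not_P1_of_tau2 {M : Subgroup G} {p : ℕ} (h : p ∈ tau2 M) : ¬ P1 M := fun h1 =>
  (h1 p h.1 (tau2_dvd h)).elim h.2.1 fun h2 => kappa_not_tau2 h2 h

namespace KappaCompl

variable {M U K : Subgroup G} (h : KappaCompl M U K)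
include h

omit [Finite G] in
theorem K_le : K ≤ M := h.hallK.1
omit [Finite G] in
theorem U_le : U ≤ M := h.hallU.1
omit [Finite G] in
theorem K_pi : IsPiSubgroup (kappa M) K := h.hallK.2.1
omit [Finite G] in
theorem U_pi : IsPiSubgroup (sigma M ∪ kappa M)ᶜ U := h.hallU.2.1
omit [Finite G] in
theorem K_sigma' : IsPiSubgroup (sigma M)ᶜ K := isPiSubgroup_mono h.K_pi kappa_sub_sigma'
omit [Finite G] in
theorem U_sigma' : IsPiSubgroup (sigma M)ᶜ U :=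
  isPiSubgroup_mono h.U_pi (Set.compl_subset_compl.2 Set.subset_union_left)
omit [Finite G] in
theorem U_kappa' : IsPiSubgroup (kappa M)ᶜ U :=
  isPiSubgroup_mono h.U_pi (Set.compl_subset_compl.2 Set.subset_union_right)

omit [Finite G] in
theorem coprime_UK : (Nat.card U).Coprime (Nat.card K) :=
  coprime_card_of_isPiSubgroup disjoint_compl_left h.U_kappa' h.K_pi

theorem inf_UK : U ⊓ K = ⊥ := disjoint_of_isPiSubgroup disjoint_compl_left h.U_kappa' h.K_pi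

theorem complUK : IsComplIn U K (U ⊔ K) := isComplIn_of_sup h.norm h.inf_UK rfl

omit [Finite G] in
theorem hallE : IsPiHallOf (sigma M)ᶜ (U ⊔ K) M := by
  refine ⟨sup_le h.U_le h.K_le, ?_, fun p hp hσ hd => ?_⟩
  · rw [sup_comm]; exact isPiSubgroup_sup h.norm h.K_sigma' h.U_sigma'
  · by_cases hκ : p ∈ kappa M
    · exact h.hallK.2.2 p hp hκ (hd.trans (relIndex_dvd_of_le_left M le_sup_right))
    · exact h.hallU.2.2 p hp (fun h1 => h1.elim hσ hκ)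
        (hd.trans (relIndex_dvd_of_le_left M le_sup_left))

omit [Finite G] in
theorem E_norm : U ⊔ K ≤ 𝐍(U) := sup_le le_normalizer h.norm

theorem conj (g : G) : KappaCompl (g •ᶜ M) (g •ᶜ U) (g •ᶜ K) :=
  ⟨by rw [kappa_conj]; exact hallOf_conj h.hallK g,
    by rw [kappa_conj, sigma_conj]; exact hallOf_conj h.hallU g, le_norm_conj h.norm g⟩

theorem U_eq_bot_iff : U = ⊥ ↔ P1 M := by
  rw [hallOf_eq_bot_iff h.hallU, compl_compl]; rfl

theorem P2_iff : P2 M ↔ K ≠ ⊥ ∧ U ≠ ⊥ := by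
  rw [P2, hallK_ne_bot_iff h.hallK, Ne, h.U_eq_bot_iff]

variable (hG : PGHyp G) (hM : Mx M)
include hG hM

theorem complM : IsComplIn (sigmaCore M) (U ⊔ K) M := complIn_Ms hG hM h.hallE

theorem MsU_normal : M ≤ 𝐍(sigmaCore M ⊔ U) := by
  conv_lhs => rw [← IsComplIn.sup_eq (h.complM hG hM)]
  refine sup_le (le_sup_left.trans le_normalizer) ?_
  exact le_normalizer_sup ((h.hallE.1).trans (Ms_normal M)) h.E_norm

omit hG hM in
theorem MsU_pi : IsPiSubgroup (kappa M)ᶜ (sigmaCore M ⊔ U) := by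
  rw [sup_comm]
  exact isPiSubgroup_sup (h.U_le.trans (Ms_normal M)) h.U_kappa'
    (isPiSubgroup_mono (Ms_pi M) (Set.subset_compl_comm.1 kappa_sub_sigma'))

theorem complMsU : IsComplIn (sigmaCore M ⊔ U) K M :=
  isComplIn_of_sup (h.K_le.trans (h.MsU_normal hG hM))
    (disjoint_of_isPiSubgroup disjoint_compl_left h.MsU_pi h.K_pi)
    (by rw [sup_assoc]; exact IsComplIn.sup_eq (h.complM hG hM))

theorem hallMsU : IsPiHallOf (kappa M)ᶜ (sigmaCore M ⊔ U) M :=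
  IsComplIn.hall_compl (IsComplIn.symm (h.complMsU hG hM)) h.hallK

omit hG hM in
theorem complMs_U : IsComplIn (sigmaCore M) U (sigmaCore M ⊔ U) :=
  isComplIn_of_sup (h.U_le.trans (Ms_normal M))
    (disjoint_of_isPiSubgroup disjoint_compl_right (Ms_pi M) h.U_sigma') rfl

end KappaCompl

section
variable (hG : PGHyp G) {M : Subgroup G} (hM : Mx M)
include hG hM

/-- BG 14.1. -/
theorem sigma'_kappa'_facts {p : ℕ} [Fact p.Prime] {S : Subgroup G} (hS : IsSylowIn p S M)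
    (hd : p ∣ Nat.card M) (hσ : p ∉ sigma M) (hκ : p ∉ kappa M) :
    sigmaCore M ⊓ 𝐂(omegaOne p S) = ⊥ ∧ Group.IsNilpotent (sigmaCore M) := by
  by_cases h2 : p ∈ tau2 M
  · obtain ⟨A, hAS, hA, hA2⟩ := not_pRankLE_iff.1 ((pRankLE_iff_of_isSylowIn hS).not.1 h2.2.2.2)
    have h := tau2_context hG hM h2 (A := A) ⟨hAS.trans hS.le, hA, hA2⟩
    rw [(h.2.1 S hS hAS).1]
    exact ⟨h.2.2.2.1, tau2_Msigma_nil hG hM h2⟩
  · have h13 := tau13_of_not_tau2 hG hM Fact.out hd hσ h2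
    have hc := card_omegaOne_of_isCyclic hS.isPGroup
      (cyclic_of_rank1 hG hM.1 (tau13_rank h13) hS.isPGroup hS.le) (hS.ne_bot hd)
    have hle : omegaOne p S ≤ M := (omegaOne_le_iff.2 fun x hx _ => hx).trans hS.le
    have h0 : sigmaCore M ⊓ 𝐂(omegaOne p S) = ⊥ := by
      by_contra h; exact hκ (mem_kappa hG hM h13 hle hc h)
    exact ⟨h0, prime_Frobenius_sol_kernel_nil (hle.trans (Ms_normal M))
      (by rw [hc]; exact Fact.out) h0⟩

theorem notP1_Ms_nil (h : ¬ P1 M) : Group.IsNilpotent (sigmaCore M) := by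
  simp only [P1, IsPiSubgroup, not_forall] at h
  obtain ⟨p, hp, hd, h⟩ := h
  have := Fact.mk hp
  obtain ⟨S, hS⟩ := IsSylowIn.exists_in (p := p) M
  exact (sigma'_kappa'_facts hG hM hS hd (fun h1 => h (Or.inl h1)) fun h1 => h (Or.inr h1)).2

/-- `C_{M_σ}(U) = 1` for a nontrivial Hall `(σ ∪ κ)'`-subgroup `U`. -/
theorem cent_Ms_U {U : Subgroup G} (hU : IsPiHallOf (sigma M ∪ kappa M)ᶜ U M) (h1 : U ≠ ⊥) :
    sigmaCore M ⊓ 𝐂(U) = ⊥ := by
  obtain ⟨p, hp, hd⟩ := exists_prime_dvd_card h1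
  have := Fact.mk hp
  have hπ := hU.2.1 p hp hd
  obtain ⟨S, hS⟩ := IsSylowIn.exists_in (p := p) U
  have h := (sigma'_kappa'_facts hG hM (sylow_of_sylow_hall hp hS hU hπ)
    (hd.trans (card_dvd_of_le hU.1)) (fun h1 => hπ (Or.inl h1)) fun h1 => hπ (Or.inr h1)).1
  rw [eq_bot_iff, ← h]
  exact inf_le_inf_left _ (centralizer_antitone ((omegaOne_le_iff.2 fun x hx _ => hx).trans hS.le))

/-- The core of BG 14.2(a). -/
theorem kappa_compl_aux {K E : Subgroup G} (hK : IsPiHallOf (kappa M) K M) (hK1 : K ≠ ⊥)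
    (hE : IsPiHallOf (sigma M)ᶜ E M) (hKE : K ≤ E) :
    ∃ U, U ≤ E ∧ E ≤ 𝐍(U) ∧ U ⊔ K = E ∧ IsPiSubgroup (sigma M ∪ kappa M)ᶜ U ∧
      IsMulCommutative U ∧ SemiPrime (sigmaCore M) K ∧ SemiReg U K ∧
      (∀ X ≤ K, (Nat.card X).Prime → K ≤ 𝐍(X)) ∧
      (∃ P ≤ K, P ≠ ⊥ ∧ IsPiSubgroup (tau1 M) P) ∧
      (kappa M ⊆ tau1 M ∨ ∃ E₃ ≤ K, E₃ ≠ ⊥ ∧ IsPiHallOf (tau3 M) E₃ K ∧ K = E) := by
  have hsE : Group.IsSolvable E := isSolvable_of_le (mmax_sol hG hM) hE.1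
  -- a semiprime group with a nonregular subgroup of prime order is a `κ`-group
  have key : ∀ L ≤ M, SemiPrime (sigmaCore M) L → (∀ q : ℕ, q.Prime → q ∣ Nat.card L →
      q ∈ tau1 M ∨ q ∈ tau3 M) → ∀ X ≤ L, X ≠ ⊥ → sigmaCore M ⊓ 𝐂(X) ≠ ⊥ →
      IsPiSubgroup (kappa M) L := fun L hL hpr hτ X hX hX1 hC q hq hd => by
    obtain ⟨Y, hY, hYq⟩ := exists_card_prime hq hd
    refine mem_kappa hG hM (hτ q hq hd) (hY.trans hL) hYq ?_
    rwa [SemiPrime.cent_eq hpr hY (ne_bot_of_card_prime (hYq ▸ hq)),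
      ← SemiPrime.cent_eq hpr hX hX1]
  by_cases h3 : kappa M ⊆ tau1 M
  · obtain ⟨E₁, h₁, hKE₁⟩ := Hall.exists_hallOf_ge hsE (isPiSubgroup_mono hK.2.1 h3) hKE
    obtain ⟨E₃, h₃⟩ := Hall.exists_isPiHallOf hsE (tau3 M)
    obtain ⟨E₂, hc⟩ := ex_tau2_compl hG hM hE h₁ h₃
    obtain ⟨⟨-, hn3⟩, -, ⟨hcyc, -⟩, ⟨hsup, hn32⟩, -⟩ := sigma_compl_context hG hM hc
    have hpr := tau1_primact_Msigma hG hM hE h₁
    obtain ⟨X₀, hX₀, hX₀p⟩ := exists_prime_sub hK1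
    have hC₀ := kappa_nonregular hG hM (hK.2.1 _ hX₀p (card_dvd_of_le hX₀)) (hX₀.trans hK.1) rfl
    have hKeq : K = E₁ := Hall.eq_of_hallOf_le hK
      (key E₁ (h₁.1.trans hE.1) hpr (fun q hq hd => Or.inl (h₁.2.1 q hq hd)) X₀ (hX₀.trans hKE₁)
        (ne_bot_of_card_prime hX₀p) hC₀) (h₁.1.trans hE.1) hKE₁
    subst hKeq
    have hU23 : ∀ q : ℕ, q.Prime → q ∣ Nat.card ↥(E₃ ⊔ E₂) → q ∈ tau3 M ∨ q ∈ tau2 M := by
      have : IsPiSubgroup (tau3 M ∪ tau2 M) (E₃ ⊔ E₂) := by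
        rw [sup_comm]
        exact isPiSubgroup_sup (hc.hall₂.1.trans hn3)
          (isPiSubgroup_mono hc.hall₂.2.1 Set.subset_union_right)
          (isPiSubgroup_mono h₃.2.1 Set.subset_union_left)
      exact this
    have hUE : E₃ ⊔ E₂ ≤ E := sup_le h₃.1 hc.hall₂.1
    have hreg3 : SemiReg E₃ K := by
      by_contra hnr
      have h31 : E₃ ≠ ⊥ := by
        rintro rfl
        exact hnr fun x _ _ => bot_inf_eq _
      obtain ⟨q, hq, hd⟩ := exists_prime_dvd_card h31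
      have hpi : IsPiSubgroup (tau3 M ∪ tau1 M) (E₃ ⊔ K) := by
        rw [sup_comm]
        exact isPiSubgroup_sup (hKE.trans hn3) (isPiSubgroup_mono h₁.2.1 Set.subset_union_right)
          (isPiSubgroup_mono h₃.2.1 Set.subset_union_left)
      have := key (E₃ ⊔ K) ((sup_le h₃.1 hKE).trans hE.1) (tau13_primact_Msigma hG hM hc hnr)
        (fun q hq hd => (hpi q hq hd).symm) X₀ (hX₀.trans le_sup_right)
        (ne_bot_of_card_prime hX₀p) hC₀ q hq (hd.trans (card_dvd_of_le le_sup_left))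
      exact tau3'1 (h3 this) (h₃.2.1 q hq hd)
    have hreg : SemiReg (E₃ ⊔ E₂) K := semiReg_of_prime fun X hX hXp => by
      by_contra hne
      obtain ⟨Y, hY, hYq⟩ := exists_prime_sub hne
      have hYE : Y ≤ E := hY.trans (inf_le_left.trans hUE)
      rcases hU23 _ hYq (card_dvd_of_le (hY.trans inf_le_left)) with hq | hq
      · have hY3 : Y ≤ E₃ := le_of_normal_hallOf h₃ hn3 (isPiSubgroup_of_card_eq hYq rfl hq) hYE
        exact ne_bot_of_card_prime hYq (eq_bot_iff.2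
          (SemiReg.cent_eq hreg3 hX (ne_bot_of_card_prime hXp) ▸ le_inf hY3 (hY.trans inf_le_right)))
      · have := Fact.mk hYq
        obtain ⟨A, hA⟩ := ex_tau2Elem hG hM hE hq
        have hYA := (tau2_compl_context hG hM hE hq hA).1.2 Y hYE rfl
        have hXκ := hK.2.1 _ hXp (card_dvd_of_le hX)
        exact kappa_nonregular hG hM hXκ (hX.trans hK.1) rfl (tau12_regular hG hM hE (h3 hXκ)
          (hX.trans hKE) rfl hq hA fun h => ne_bot_of_card_prime hYq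
            (eq_bot_iff.2 (h ▸ le_inf hYA (hY.trans inf_le_right))))
    have hUπ : IsPiSubgroup (sigma M ∪ kappa M)ᶜ (E₃ ⊔ E₂) := fun q hq hd h => by
      rcases hU23 q hq hd with h' | h'
      · exact h.elim h'.2.1 fun h => tau3'1 (h3 h) h'
      · exact h.elim h'.2.1 fun h => kappa_not_tau2 h h'
    refine ⟨E₃ ⊔ E₂, hUE, hn32, hsup, hUπ, ?_, hpr, hreg, fun X hX _ => ?_,
      ⟨K, le_rfl, hK1, h₁.2.1⟩, Or.inl h3⟩
    · exact sigma'_nil_abelian hG hM (hUE.trans hE.1) (isPiSubgroup_of_le hE.2.1 hUE)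
        (Frobenius_sol_kernel_nil (hKE.trans hn32) hK1 hreg)
    · exact le_normalizer.trans (norm_le_norm_of_le_cyclic hcyc hX)
  · obtain ⟨p, hp, hp1⟩ := Set.not_subset.1 h3
    have hp3 := (kappa_tau13 hG hM hp).resolve_left hp1
    obtain ⟨E₁, E₂, E₃, hc⟩ := ex_sigmaCompl hG hM hE
    obtain ⟨X₀, hX₀, hX₀p⟩ := exists_card_prime hp.1 (hallOf_dvd hc.hall₃ hp.1 hp3
      ((partition_pi_sigma_compl hG hM hE hp.1).2 (Or.inr (Or.inr hp3))))
    have hX₀1 := ne_bot_of_card_prime (hX₀p ▸ hp.1)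
    have hX₀E := hX₀.trans hc.hall₃.1
    have hC₀ := kappa_nonregular hG hM hp (hX₀E.trans hE.1) hX₀p
    obtain ⟨h11, hsup, hpr, hn⟩ := tau13_nonregular hG hM hc
      fun h => hC₀ (SemiReg.cent_eq h hX₀ hX₀1)
    have hn3 := (sigma_compl_context hG hM hc).1.2
    have hpi : IsPiSubgroup (tau3 M ∪ tau1 M) E := by
      rw [← hsup, sup_comm]
      exact isPiSubgroup_sup (hc.hall₁.1.trans hn3)
        (isPiSubgroup_mono hc.hall₁.2.1 Set.subset_union_right)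
        (isPiSubgroup_mono hc.hall₃.2.1 Set.subset_union_left)
    have hKeq : K = E := Hall.eq_of_hallOf_le hK
      (key E hE.1 hpr (fun q hq hd => (hpi q hq hd).symm) X₀ hX₀E hX₀1 hC₀) hE.1 hKE
    subst hKeq
    refine ⟨⊥, bot_le, ?_, bot_sup_eq _, isPiSubgroup_bot _, inferInstance, hpr,
      fun x _ _ => bot_inf_eq _, hn, ⟨E₁, hc.hall₁.1, h11, hc.hall₁.2.1⟩,
      Or.inr ⟨E₃, hc.hall₃.1, fun h => hX₀1 (eq_bot_iff.2 (h ▸ hX₀)), hc.hall₃, rfl⟩⟩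
    rw [normalizer_eq_top_iff.2 inferInstance]; exact le_top

theorem ex_kappa_compl_le {K E : Subgroup G} (hK : IsPiHallOf (kappa M) K M)
    (hE : IsPiHallOf (sigma M)ᶜ E M) (hKE : K ≤ E) : ∃ U, KappaCompl M U K ∧ U ⊔ K = E := by
  by_cases hK1 : K = ⊥
  · refine ⟨E, ⟨hK, ?_, by rw [hK1]; exact bot_le⟩, by rw [hK1, sup_bot_eq]⟩
    rwa [(hallK_eq_bot_iff hK).1 hK1, Set.union_empty]
  · obtain ⟨U, hUE, hn, hsup, hπ, -⟩ := kappa_compl_aux hG hM hK hK1 hE hKE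
    refine ⟨U, ⟨hK, ⟨hUE.trans hE.1, hπ, fun p hp hπp hd => ?_⟩, hKE.trans hn⟩, hsup⟩
    rw [← relIndex_mul_relIndex U E M hUE hE.1] at hd
    rcases (Nat.Prime.dvd_mul hp).1 hd with h | h
    · rw [IsComplIn.relIndex_left (isComplIn_of_sup (hKE.trans hn) (disjoint_of_isPiSubgroup
        disjoint_compl_left (isPiSubgroup_mono hπ (Set.compl_subset_compl.2 Set.subset_union_right))
        hK.2.1) hsup)] at h
      exact hπp (Or.inr (hK.2.1 p hp h))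
    · exact hE.2.2 p hp (fun h1 => hπp (Or.inl h1)) h

theorem ex_kappa_compl {K : Subgroup G} (hK : IsPiHallOf (kappa M) K M) :
    ∃ U, KappaCompl M U K := by
  obtain ⟨E, hE, hKE⟩ := ex_sigma_compl hG hM hK.1 (isPiSubgroup_mono hK.2.1 kappa_sub_sigma')
  obtain ⟨U, hU, -⟩ := ex_kappa_compl_le hG hM hK hE hKE
  exact ⟨U, hU⟩

theorem ex_hallK : ∃ K, IsPiHallOf (kappa M) K M := Hall.exists_isPiHallOf (mmax_sol hG hM) _

theorem ex_kappa_compl' : ∃ U K, KappaCompl M U K := by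
  obtain ⟨K, hK⟩ := ex_hallK hG hM
  obtain ⟨U, hU⟩ := ex_kappa_compl hG hM hK
  exact ⟨U, K, hU⟩

/-- BG 14.2(a), for any `U`. -/
theorem KappaCompl.facts {U K : Subgroup G} (h : KappaCompl M U K) (hK1 : K ≠ ⊥) :
    IsMulCommutative U ∧ SemiReg U K := by
  obtain ⟨V, hVE, hn, hsup, hπ, hab, -, hreg, -⟩ :=
    kappa_compl_aux hG hM h.hallK hK1 h.hallE le_sup_right
  have hVκ := isPiSubgroup_mono hπ (Set.compl_subset_compl.2 Set.subset_union_right)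
  have hUV : U ≤ V := le_of_normal_hallOf (IsComplIn.hall_left (isComplIn_of_sup
    (le_sup_right.trans hn) (disjoint_of_isPiSubgroup disjoint_compl_left hVκ h.K_pi) hsup) hVκ
    (by rw [compl_compl]; exact h.K_pi)) hn h.U_kappa' le_sup_left
  exact ⟨PGrp.isMulCommutative_of_le hUV hab, SemiReg.mono hreg hUV le_rfl⟩

section Ptype
variable {K : Subgroup G} (hK : IsPiHallOf (kappa M) K M) (hK1 : K ≠ ⊥)
include hK hK1

theorem kappa_aux : SemiPrime (sigmaCore M) K ∧ (∀ X ≤ K, (Nat.card X).Prime → K ≤ 𝐍(X)) ∧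
    (∃ E, IsPiHallOf (sigma M)ᶜ E M ∧ K ≤ E ∧ ∃ P ≤ K, P ≠ ⊥ ∧ IsPiSubgroup (tau1 M) P) ∧
    (kappa M ⊆ tau1 M ∨ ∃ E₃ ≤ K, E₃ ≠ ⊥ ∧ IsPiHallOf (tau3 M) E₃ K ∧
      IsPiHallOf (sigma M)ᶜ K M) := by
  obtain ⟨E, hE, hKE⟩ := ex_sigma_compl hG hM hK.1 (isPiSubgroup_mono hK.2.1 kappa_sub_sigma')
  obtain ⟨V, -, -, -, -, -, h1, -, h2, h3, h4⟩ := kappa_compl_aux hG hM hK hK1 hE hKE
  refine ⟨h1, h2, ⟨E, hE, hKE, h3⟩, h4.imp id ?_⟩
  rintro ⟨E₃, a, b, c, rfl⟩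
  exact ⟨E₃, a, b, c, hE⟩

/-- BG 14.2(a): `K` acts in a prime manner on `M_σ`. -/
theorem kappa_semiprime : SemiPrime (sigmaCore M) K := (kappa_aux hG hM hK hK1).1

theorem kappa_norm_prime {X : Subgroup G} (hX : X ≤ K) (hp : (Nat.card X).Prime) : K ≤ 𝐍(X) :=
  (kappa_aux hG hM hK hK1).2.1 X hX hp

omit hK1 in
/-- BG 14.2(b1). -/
theorem norm_sub_kappa {X : Subgroup G} (hX : X ≤ K) (hX1 : X ≠ ⊥) (hn : K ≤ 𝐍(X)) :
    M ⊓ 𝐍(X) = K ⊔ (sigmaCore M ⊓ 𝐂(K)) := by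
  have hK1 : K ≠ ⊥ := fun h => hX1 (eq_bot_iff.2 (h ▸ hX))
  obtain ⟨U, hU⟩ := ex_kappa_compl hG hM hK
  have h1 := IsComplIn.sup_eq (IsComplIn.norm (hU.complM hG hM) (hU.hallE.1.trans (Ms_normal M))
    (hX.trans le_sup_right))
  have h2 := IsComplIn.sup_eq (IsComplIn.norm hU.complUK hU.norm hX)
  rw [SemiReg.cent_eq (hU.facts hG hM hK1).2 hX hX1, bot_sup_eq, inf_eq_left.2 hn] at h2
  rw [← h1, ← h2, SemiPrime.cent_eq (kappa_semiprime hG hM hK hK1) hX hX1, sup_comm]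

theorem norm_kappa : M ⊓ 𝐍(K) = K ⊔ (sigmaCore M ⊓ 𝐂(K)) :=
  norm_sub_kappa hG hM hK le_rfl hK1 le_normalizer

theorem norm_prime_kappa {X : Subgroup G} (hX : X ≤ K) (hp : (Nat.card X).Prime) :
    M ⊓ 𝐍(X) = K ⊔ (sigmaCore M ⊓ 𝐂(K)) :=
  norm_sub_kappa hG hM hK hX (ne_bot_of_card_prime hp) (kappa_norm_prime hG hM hK hK1 hX hp)

omit hK1 in
/-- BG 14.2(b2). -/
theorem kappa_le_sigma {X H : Subgroup G} (hX : X ≤ K) (hp : (Nat.card X).Prime) (hH : Mx H)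
    (hN : 𝐍(X) ≤ H) : X ≤ sigmaCore H := by
  have hκ := hK.2.1 _ hp (card_dvd_of_le hX)
  exact le_Ms hG hH (le_normalizer.trans hN) (isPiSubgroup_of_card_eq hp rfl
    (tau13_nonregular_sigma hG hM (hX.trans hK.1) rfl (kappa_tau13 hG hM hκ)
      (kappa_nonregular hG hM hκ (hX.trans hK.1) rfl) hH hN))

/-- BG 14.2(c), first part. -/
theorem Kstar_ne_bot : sigmaCore M ⊓ 𝐂(K) ≠ ⊥ := by
  obtain ⟨X, hX, hp⟩ := exists_prime_sub hK1
  rw [← SemiPrime.cent_eq (kappa_semiprime hG hM hK hK1) hX (ne_bot_of_card_prime hp)]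
  exact kappa_nonregular hG hM (hK.2.1 _ hp (card_dvd_of_le hX)) (hX.trans hK.1) rfl

/-- BG 14.2(c), second part, and the first part of (e). -/
theorem Kstar_uniq' {X : Subgroup G} (hX : X ≤ sigmaCore M ⊓ 𝐂(K)) {q : ℕ} [Fact q.Prime]
    (hq : Nat.card X = q) :
    UniqMax 𝐂(X) M ∧ ∀ S, IsSylowIn q S (sigmaCore M) → UniqMax S M := by
  obtain ⟨E, hE, hKE, P, hP, hP1, hPτ⟩ := (kappa_aux hG hM hK hK1).2.2.1
  exact cent_cent_Msigma_tau1_uniq hG hM hE (hP.trans hKE) hPτ hP1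
    (hX.trans (inf_le_inf_left _ (centralizer_antitone hP))) hq

theorem Kstar_uniq {X : Subgroup G} (hX : X ≤ sigmaCore M ⊓ 𝐂(K)) (hq : (Nat.card X).Prime) :
    UniqMax 𝐂(X) M :=
  have := Fact.mk hq
  (Kstar_uniq' hG hM hK hK1 hX rfl).1

theorem Kstar_cent1_le {y : G} (hy : y ∈ sigmaCore M ⊓ 𝐂(K)) (hy1 : y ≠ 1) : 𝐂[y] ≤ M := by
  obtain ⟨Y, hY, hp⟩ := exists_prime_sub_zpowers hy1
  exact (cent1_le_cent hY).trans (Kstar_uniq hG hM hK hK1 (hY.trans (zpowers_le.2 hy)) hp).1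

/-- BG 14.2(d), first part. -/
theorem Kstar_TI {g : G} (hg : g ∉ M) : sigmaCore M ⊓ 𝐂(K) ⊓ g •ᶜ M = ⊥ := by
  by_contra h
  obtain ⟨X, hX, hp⟩ := exists_prime_sub h
  have := Fact.mk hp
  have hXs : X ≤ sigmaCore M := hX.trans (inf_le_left.trans inf_le_left)
  exact hg (inv_mem_iff.1 (sigma_cent_trans hG hM (Ms_pi M _ hp (card_dvd_of_le hXs))
    (isPGroup_of_card_eq rfl) (hXs.trans (Ms_le M))
    (Kstar_uniq hG hM hK hK1 (hX.trans inf_le_left) hp).1 (le_conj_iff.1 (hX.trans inf_le_right))))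

omit hG hM hK1 in
theorem complIn_Z : IsComplIn K (sigmaCore M ⊓ 𝐂(K)) (K ⊔ (sigmaCore M ⊓ 𝐂(K))) :=
  isComplIn_of_sup (inf_le_right.trans (cent_le_norm K))
    (disjoint_of_isPiSubgroup disjoint_sigma_kappa.symm hK.2.1
      (isPiSubgroup_of_le (Ms_pi M) inf_le_left)) rfl

omit hG hM hK1 in
theorem hall_Z_left : IsPiHallOf (sigma M)ᶜ K (K ⊔ (sigmaCore M ⊓ 𝐂(K))) :=
  IsComplIn.hall_left (complIn_Z hK) (isPiSubgroup_mono hK.2.1 kappa_sub_sigma')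
    (by rw [compl_compl]; exact isPiSubgroup_of_le (Ms_pi M) inf_le_left)

omit hG hM hK1 in
theorem hall_Z_right :
    IsPiHallOf (sigma M) (sigmaCore M ⊓ 𝐂(K)) (K ⊔ (sigmaCore M ⊓ 𝐂(K))) :=
  IsComplIn.hall_right (complIn_Z hK) (isPiSubgroup_of_le (Ms_pi M) inf_le_left)
    (isPiSubgroup_mono hK.2.1 kappa_sub_sigma')

omit hG hM hK hK1 [Finite G] in
theorem Z_norm_left : K ⊔ (sigmaCore M ⊓ 𝐂(K)) ≤ 𝐍(K) :=
  sup_le le_normalizer (inf_le_right.trans (cent_le_norm K))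

omit hG hM hK hK1 [Finite G] in
theorem Z_norm_right : K ⊔ (sigmaCore M ⊓ 𝐂(K)) ≤ 𝐍(sigmaCore M ⊓ 𝐂(K)) :=
  sup_le ((le_centralizer_comm inf_le_right).trans (cent_le_norm _)) le_normalizer

omit hG hM hK1 [Finite G] in
theorem Z_le : K ⊔ (sigmaCore M ⊓ 𝐂(K)) ≤ M := sup_le hK.1 (inf_le_left.trans (Ms_le M))

omit hG hM hK1 in
theorem mem_K_of_mem_Z {x : G} (hx : x ∈ K ⊔ (sigmaCore M ⊓ 𝐂(K)))
    (h : IsPiNum (sigma M)ᶜ (orderOf x)) : x ∈ K :=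
  mem_of_normal_hallOf (hall_Z_left hK) Z_norm_left h hx

omit hG hM hK1 in
theorem le_K_of_le_Z {X : Subgroup G} (hx : X ≤ K ⊔ (sigmaCore M ⊓ 𝐂(K)))
    (h : IsPiSubgroup (sigma M)ᶜ X) : X ≤ K :=
  le_of_normal_hallOf (hall_Z_left hK) Z_norm_left h hx

/-- BG 14.2(d), second part. -/
theorem kappa_TI {g : G} (hg : g ∈ M) (h : K ⊓ g •ᶜ K ≠ ⊥) : g ∈ 𝐍(K) := by
  obtain ⟨X, hX, hp⟩ := exists_prime_sub h
  have h1 : K ≤ 𝐍(g⁻¹ •ᶜ X) := kappa_norm_prime hG hM hK hK1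
    (le_conj_iff.1 (hX.trans inf_le_right)) (by rwa [card_map_conj])
  have h2 : g •ᶜ K ≤ M ⊓ 𝐍(X) := by
    refine le_inf ((map_mono hK.1).trans (conj_eq_of_mem hg).le) ?_
    have := le_norm_conj h1 g
    rwa [map_conj_map_conj_inv] at this
  rw [norm_prime_kappa hG hM hK hK1 (hX.trans inf_le_left) hp] at h2
  exact mem_normalizer_of_map_conj_eq (eq_of_le_of_card_le (le_K_of_le_Z hK h2
    (isPiSubgroup_conj.2 (isPiSubgroup_mono hK.2.1 kappa_sub_sigma'))) (card_map_conj g K).ge)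

/-- BG 14.2(e). -/
theorem Kstar_sylow {q : ℕ} [Fact q.Prime] (hq : q ∣ Nat.card ↥(sigmaCore M ⊓ 𝐂(K)))
    {S : Subgroup G} (hS : IsSylowIn q S (sigmaCore M)) : UniqMax S M ∧ ¬ S ≤ 𝐂(K) := by
  obtain ⟨Y, hY, hYq⟩ := exists_card_prime Fact.out hq
  have hu := (Kstar_uniq' hG hM hK hK1 hY hYq).2 S hS
  refine ⟨hu, fun h => ?_⟩
  obtain ⟨X, hX, hp⟩ := exists_prime_sub hK1
  have hX1 := ne_bot_of_card_prime hp
  obtain ⟨H, hH, hN⟩ := mmax_exists (loc_norm hX1 (pi_of_le (pi_of_inf_cent hG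
    (pi_of_sigma (Ms_pi M)) (Kstar_ne_bot hG hM hK hK1)) hX))
  have hHM : H = M := hu.2 H hH (h.trans ((centralizer_antitone hX).trans
    ((cent_le_norm X).trans hN)))
  have := kappa_le_sigma hG hM hK hX hp hH hN
  rw [hHM] at this
  exact (hK.2.1 _ hp (card_dvd_of_le hX)).2.2.1 (Ms_pi M _ hp (card_dvd_of_le this))

/-- BG 14.2(f). -/
theorem le_Ms_of_inf_Kstar {Y : Subgroup G} (hY : IsPiSubgroup (sigma M) Y)
    (h : Y ⊓ (sigmaCore M ⊓ 𝐂(K)) ≠ ⊥) : Y ≤ sigmaCore M := by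
  obtain ⟨g, hg⟩ := sigma_Jsub hG hM hY
  have hgM : g⁻¹ ∈ M := by
    by_contra hg'
    refine h (eq_bot_iff.2 ?_)
    rw [← Kstar_TI hG hM hK hK1 hg']
    exact le_inf inf_le_right (inf_le_left.trans (conj_le_iff.1 (hg.trans (Ms_le M))))
  rw [conj_le_iff, conj_Ms hgM] at hg
  exact hg

end Ptype

/-- `U = [U, K]` for type `P`. -/
theorem KappaCompl.commUK {U K : Subgroup G} (h : KappaCompl M U K) (hK1 : K ≠ ⊥) : ⁅U, K⁆ = U := by
  have := Cop.commutator_sup_centralizer h.norm h.coprime_UK.symm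
    (Or.inl (isSolvable_of_le (mmax_sol hG hM) h.K_le))
  rwa [SemiReg.cent_eq (h.facts hG hM hK1).2 le_rfl hK1, sup_bot_eq] at this

/-- BG 14.2(g). -/
theorem P2_facts {K : Subgroup G} (hK : IsPiHallOf (kappa M) K M) (h2 : P2 M) :
    sigma M ⊆ beta M ∧ (Nat.card K).Prime ∧ Group.IsNilpotent (sigmaCore M) ∧
      ∀ g : G, g ∉ M → sigmaCore M ⊓ g •ᶜ M = ⊥ := by
  obtain ⟨U, hU⟩ := ex_kappa_compl hG hM hK
  obtain ⟨hK1, hU1⟩ := hU.P2_iff.1 h2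
  have hnil := notP1_Ms_nil hG hM h2.2
  have hC := cent_Ms_U hG hM hU.hallU hU1
  have hβ : IsPiSubgroup (beta M) (sigmaCore M) := by
    obtain ⟨H, hH, hc⟩ := der_compl_cent_beta' hG hM hU.hallE
    have hUE : U ≤ ⁅U ⊔ K, U ⊔ K⁆ :=
      (hU.commUK hG hM hK1).ge.trans (commutator_mono le_sup_left le_sup_right)
    have : H = ⊥ := eq_bot_iff.2 (hC ▸ le_inf hH.1 (le_centralizer_comm (hUE.trans hc)))
    have := (hallOf_eq_bot_iff hH).1 this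
    rwa [compl_compl] at this
  refine ⟨fun p hp => hβ p hp.1 ((pi_Msigma hG hM hp.1).2 hp), ?_, hnil, fun g hg => ?_⟩
  · exact (Frobenius_primact hU1 hK1 hU.norm (hU.facts hG hM hK1).2 (Msigma_neq1 hG hM) hnil
      (hU.U_le.trans (Ms_normal M)) (hK.1.trans (Ms_normal M))
      (coprime_card_of_isPiSubgroup disjoint_compl_left hU.U_sigma' (Ms_pi M))
      (coprime_card_of_isPiSubgroup disjoint_compl_left hU.K_sigma' (Ms_pi M)) hC
      (kappa_semiprime hG hM hK hK1)).1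
  · have := ((sigma_compl_embedding hG hM hU.hallE).2.2 g hg).2.1
    have h1 := disjoint_of_isPiSubgroup disjoint_compl_left this hβ
    rwa [inf_eq_left.2 inf_le_left] at h1

/-- BG 14.3. -/
theorem pi_of_cent_sigma {x x' : G} (hx : x ∈ sigmaCore M) (hx1 : x ≠ 1) (hx' : x' ∈ M)
    (hc : x' ∈ 𝐂[x]) (hx'1 : x' ≠ 1) (hσ : IsPiNum (sigma M)ᶜ (orderOf x')) :
    (∃ K, IsPiHallOf (kappa M) K M ∧ x' ∈ K ∧ x ∈ 𝐂(K) ∧ 𝐂[x] ≤ M) ∨
      (IsPiNum (tau2 M) (orderOf x') ∧ (∃ H, Mx H ∧ x' ∈ sigmaCore H) ∧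
        UniqMax 𝐂[x'] M) := by
  by_cases h2 : IsPiNum (tau2 M) (orderOf x')
  · refine Or.inr ⟨h2, ?_, cent1_nreg_sigma_uniq hG hM hx' hx'1 h2
      (inf_cent_ne_bot_iff.2 ⟨x, hx, hx1, mem_cent1_comm.1 hc⟩)⟩
    obtain ⟨E, hE, hxE⟩ := ex_sigma_compl hG hM (zpowers_le.2 hx') (isPiSubgroup_zpowers_iff.2 hσ)
    obtain ⟨p, hp, hd⟩ := exists_prime_dvd_orderOf hx'1
    have := Fact.mk hp
    obtain ⟨A, hA⟩ := ex_tau2Elem hG hM hE (h2 p hp hd)
    have hA1 : A ≠ ⊥ := by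
      rintro rfl
      have := hA.2.2
      rw [card_bot] at this
      exact (Nat.one_lt_pow two_ne_zero hp.one_lt).ne this
    obtain ⟨H, hH, hN⟩ := mmax_exists (loc_norm_pgroup
      (mem_pi_of_tau2 hG hM.1 (h2 p hp hd)) hA.isPGroup hA1)
    refine ⟨H, hH, mem_Ms hG hH (hN ((tau2_compl_context hG hM hE (h2 p hp hd) hA).1.1
      (zpowers_le.1 hxE))) fun q hq hqd => ?_⟩
    exact ((primes_norm_tau2Elem hG hM hE (h2 p hp hd) hA hH hN).1 q (h2 q hq hqd)).1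
  · left
    simp only [IsPiNum, not_forall] at h2
    obtain ⟨p, hp, hd, h2⟩ := h2
    obtain ⟨X, hX, hXp⟩ := exists_card_prime_zpowers hp hd
    have hXM : X ≤ M := hX.trans (zpowers_le.2 hx')
    have hxX : x ∈ sigmaCore M ⊓ 𝐂(X) := ⟨hx, cent1_le_cent hX (mem_cent1_comm.1 hc)⟩
    have hκ := mem_kappa hG hM (tau13_of_not_tau2 hG hM hp (hd.trans (orderOf_dvd_natCard M hx'))
      (hσ p hp hd) h2) hXM hXp (ne_bot_of_mem hxX hx1)
    obtain ⟨K, hK, hXK⟩ := Hall.exists_hallOf_ge (mmax_sol hG hM)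
      (isPiSubgroup_of_card_eq hp hXp hκ) hXM
    have hX1 := ne_bot_of_card_prime (hXp ▸ hp)
    have hK1 : K ≠ ⊥ := fun h => hX1 (eq_bot_iff.2 (h ▸ hXK))
    rw [SemiPrime.cent_eq (kappa_semiprime hG hM hK hK1) hXK hX1] at hxX
    refine ⟨K, hK, mem_K_of_mem_Z hK ?_ hσ, hxX.2, Kstar_cent1_le hG hM hK hK1 hxX hx1⟩
    rw [← norm_prime_kappa hG hM hK hK1 hXK (hXp ▸ hp)]
    exact ⟨hx', cent_le_norm X (cent1_le_cent hX (self_mem_cent1 x'))⟩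

end

end CfsgLib.FT.PG.U4.B14
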