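import Mathlib
import Cfsg.Agent.Lib.PG.BG14a
import Cfsg.Agent.Lib.FT.BG14b

/-! Bender–Glauberman, section 14, second part: the signalizer `R(x)`, 14.4, 14.5 and 14.6. -/

set_option autoImplicit false
set_option linter.unusedSectionVars false

namespace CfsgLib.FT.PG.U4.B14
export CfsgLib.FT.U4.B14 (NotConj.symm NotConj.ne conj_or_notConj)
end CfsgLib.FT.PG.U4.B14


namespace CfsgLib.FT.PG.U4.B14

open Subgroup Cfsg BGN
open scoped commutatorElement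

variable {G : Type*} [Group G] [PiCtx G] [Finite G]

theorem notConj_of_sigma {H M : Subgroup G} {p : ℕ} (h1 : p ∈ sigma H) (h2 : p ∉ sigma M) :
    NotConj H M := fun g hg => h2 (by rwa [hg, sigma_conj] at h1)

theorem conj_of_sigma (hG : PGHyp G) {M H : Subgroup G} (hM : Mx M)
    (hH : Mx H) {p : ℕ} (h1 : p ∈ sigma M) (h2 : p ∈ sigma H) : ∃ g : G, H = g •ᶜ M :=
  (conj_or_notConj H M).resolve_right fun h =>
    Set.disjoint_left.1 (sigma_partition hG hM hH h) h1 h2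

theorem conj_of_mem_Ms (hG : PGHyp G) {M H : Subgroup G} (hM : Mx M)
    (hH : Mx H) {x : G} (hx1 : x ≠ 1) (h1 : IsPiNum (sigma M) (orderOf x))
    (h2 : IsPiNum (sigma H) (orderOf x)) : ∃ g : G, H = g •ᶜ M := by
  obtain ⟨p, hp, hd⟩ := exists_prime_dvd_orderOf hx1
  exact conj_of_sigma hG hM hH (h1 p hp hd) (h2 p hp hd)

theorem sigma'_of_notConj (hG : PGHyp G) {M H : Subgroup G} (hM : Mx M)
    (hH : Mx H) (h : NotConj H M) : sigma H ⊆ (sigma M)ᶜ :=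
  (sigma_partition hG hM hH h).subset_compl_left

/-- The conclusions of BG 14.4 for `x ∈ M_σ^#` with `C(x) ⊄ M`; `N = N(x)`. -/
structure Signalizer (M N : Subgroup G) (x : G) : Prop where
  coatom : Mx N
  uniq : UniqMax 𝐂[x] N
  notConj : NotConj N M
  R_ne : sigmaCore N ⊓ 𝐂[x] ≠ ⊥
  tau2_elt : IsPiNum (tau2 N) (orderOf x)
  hall : IsPiHallOf (sigma N)ᶜ (M ⊓ N) N
  tau2_sub : tau2 N ⊆ sigma M
  tau2_beta : ∀ q ∈ tau2 N, q ∉ beta M
  beta_of : ∀ r, r ∣ Nat.card M → r ∈ sigma N → r ∈ beta N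
  trans : ∀ L, Mx L → x ∈ sigmaCore L → ∃ r ∈ sigmaCore N ⊓ 𝐂[x], L = r •ᶜ M

section
variable (hG : PGHyp G) {M : Subgroup G} (hM : Mx M)
include hG hM

theorem signalizer_aux1 {q : ℕ} [Fact q.Prime] (hq : q ∈ sigma M) {X N : Subgroup G} (hXM : X ≤ M)
    (hX : Nat.card X = q) (hN : Mx N) (hXN : 𝐍(X) ≤ N) (hNM : N ≠ M) :
    NotConj N M ∧ q ∈ tau2 N ∧ (∀ r, r ∣ Nat.card M → r ∈ sigma N → r ∈ beta N) ∧
      IsPiHallOf (sigma N)ᶜ (M ⊓ N) N := by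
  obtain ⟨S, hXS, hS⟩ := IsSylowIn.exists_ge (isPGroup_of_card_eq hX)
    (le_inf hXM (le_normalizer.trans hXN))
  obtain ⟨h1, -, -, -, h2⟩ := sigma_subgroup_embedding hG hM hq hXM (isPGroup_of_card_eq hX)
    (ne_bot_of_card_prime (by rw [hX]; exact Fact.out)) hN hXN hNM hS hXS
  exact ⟨h1, h2 fun h => sigma'_of_notConj hG hM hN h1 h hq⟩

theorem cent_trans_of_mem_Ms {L : Subgroup G} (hL : Mx L) {q : ℕ} [Fact q.Prime]
    {X : Subgroup G} (hX : Nat.card X = q) (hXM : X ≤ sigmaCore M) (hXL : X ≤ sigmaCore L) :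
    ∃ c ∈ 𝐂(X), L = c •ᶜ M := by
  have hqM := Ms_pi M q Fact.out (hX ▸ card_dvd_of_le hXM)
  obtain ⟨g, rfl⟩ := conj_of_sigma hG hM hL hqM (Ms_pi L q Fact.out (hX ▸ card_dvd_of_le hXL))
  obtain ⟨c, hc, h⟩ := (sigma_group_trans hG hM hqM (isPGroup_of_card_eq hX)).2.1 1 g
    (by rw [map_conj_one]; exact hXM.trans (Ms_le M)) (hXL.trans (Ms_le _))
  exact ⟨c, hc, by rw [h, map_conj_one]⟩

theorem signalizer_aux2 {x : G} (hx : x ∈ sigmaCore M) {q : ℕ} [Fact q.Prime] {X N : Subgroup G}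
    (hXx : X ≤ zpowers x) (hX : Nat.card X = q) (hN : Mx N) (hXN : 𝐍(X) ≤ N) (hNM : N ≠ M)
    {L : Subgroup G} (hL : Mx L) (hxL : x ∈ sigmaCore L) :
    ∃ r ∈ sigmaCore N ⊓ 𝐂[x], L = r •ᶜ M := by
  have hXM : X ≤ sigmaCore M := hXx.trans (zpowers_le.2 hx)
  obtain ⟨c, hc, rfl⟩ := cent_trans_of_mem_Ms hG hM hL hX hXM (hXx.trans (zpowers_le.2 hxL))
  have hc' := complIn_Ms hG hN (signalizer_aux1 hG hM
    (Ms_pi M q Fact.out (hX ▸ card_dvd_of_le hXM)) (hXM.trans (Ms_le M)) hX hN hXN hNM).2.2.2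
  obtain ⟨u, hu, m, hm, rfl⟩ := hc'.2.2.2 c (hXN (cent_le_norm X hc))
  have hxN : x ∈ N := hXN (cent_le_norm X (cent1_le_cent hXx (self_mem_cent1 x)))
  have e : (u * m) •ᶜ M = u •ᶜ M := by rw [map_conj_mul, conj_eq_of_mem hm.1]
  rw [e] at hxL ⊢
  refine ⟨u, mem_inf.2 ⟨hu, ?_⟩, rfl⟩
  have h1 : u⁻¹ * x * u⁻¹⁻¹ ∈ M ⊓ N := by
    rw [inv_inv]
    exact mem_inf.2 ⟨mem_map_conj_iff.1 (Ms_le _ hxL),
      mul_mem (mul_mem (inv_mem (Ms_le N hu)) hxN) (Ms_le N hu)⟩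
  exact inv_mem_iff.1 (mem_cent1_of_conj_eq (conj_eq_of_conj_mem hc'.2.2.1
    (inf_le_right.trans (Ms_normal N)) (inv_mem hu) ⟨Ms_le M hx, hxN⟩ h1))

theorem exists_prime_norm_mmax {x : G} (hx : x ∈ M) (hx1 : x ≠ 1)
    (hϖ : IsPiNum ϖ[G] (orderOf x)) :
    ∃ X N : Subgroup G, X ≤ zpowers x ∧ (Nat.card X).Prime ∧ Mx N ∧ 𝐍(X) ≤ N := by
  obtain ⟨X, hX, hp⟩ := exists_prime_sub_zpowers hx1
  obtain ⟨N, hN, hXN⟩ := mmax_exists (mFT_norm_proper hG (ne_bot_of_card_prime hp)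
    (pi_of_le (pi_zpowers hϖ) hX))
  exact ⟨X, N, hX, hp, hN, hXN⟩

/-- If `C(x) ≤ M` then `𝓜_σ(x) = {M}`. -/
theorem sigma_mmax_eq {x : G} (hx : x ∈ sigmaCore M) (hx1 : x ≠ 1) (hC : 𝐂[x] ≤ M)
    {L : Subgroup G} (hL : Mx L) (hxL : x ∈ sigmaCore L) : L = M := by
  obtain ⟨X, N, hX, hp, hN, hXN⟩ := exists_prime_norm_mmax hG hM (Ms_le M hx) hx1
    ((Ms_elt hx).mono sigma_sub_pi)
  have := Fact.mk hp
  by_cases hNM : N = M
  · obtain ⟨c, hc, rfl⟩ := cent_trans_of_mem_Ms hG hM hL rfl (hX.trans (zpowers_le.2 hx))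
      (hX.trans (zpowers_le.2 hxL))
    exact conj_eq_of_mem (hNM ▸ hXN (cent_le_norm X hc))
  · obtain ⟨r, hr, rfl⟩ := signalizer_aux2 hG hM hx hX rfl hN hXN hNM hL hxL
    exact conj_eq_of_mem (hC hr.2)

omit hG hM in
theorem mem_Ms_conj_cent {x c : G} (hx : x ∈ sigmaCore M) (hc : c ∈ 𝐂[x]) :
    x ∈ sigmaCore (c •ᶜ M) := by
  rw [sigmaCore_conj, ← conj_eq_of_mem_cent1 hc]; exact conj_mem_map_conj hx

/-- BG 14.4. -/
theorem FT_signalizer_context {x : G} (hx : x ∈ sigmaCore M) (hx1 : x ≠ 1) (hC : ¬ 𝐂[x] ≤ M) :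
    ∃ N, Signalizer M N x := by
  obtain ⟨X, N, hX, hp, hN, hXN⟩ := exists_prime_norm_mmax hG hM (Ms_le M hx) hx1
    ((Ms_elt hx).mono sigma_sub_pi)
  have := Fact.mk hp
  have hCN : 𝐂[x] ≤ N := (cent1_le_cent hX).trans ((cent_le_norm X).trans hXN)
  have hNM : N ≠ M := fun h => hC (h ▸ hCN)
  have hXM : X ≤ sigmaCore M := hX.trans (zpowers_le.2 hx)
  have hq := Ms_pi M _ hp (card_dvd_of_le hXM)
  obtain ⟨h1, h2, h3, h4⟩ := signalizer_aux1 hG hM hq (hXM.trans (Ms_le M)) rfl hN hXN hNM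
  have htr := fun L hL hxL => signalizer_aux2 hG hM hx hX rfl hN hXN hNM (L := L) hL hxL
  have hR : sigmaCore N ⊓ 𝐂[x] ≠ ⊥ := by
    obtain ⟨c, hc, hcM⟩ := SetLike.not_le_iff_exists.1 hC
    obtain ⟨r, hr, e⟩ := htr _ (isCoatom_map_conj hM c) (mem_Ms_conj_cent hx hc)
    intro h
    rw [h, mem_bot] at hr
    rw [hr, map_conj_one] at e
    exact hcM (mem_of_conj_eq hG hM e)
  obtain ⟨y, hy, hy1, hyx⟩ := inf_cent_ne_bot_iff.1 hR
  have hxN : x ∈ N := hCN (self_mem_cent1 x)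
  have hqx : Nat.card X ∣ orderOf x := Nat.card_zpowers x ▸ card_dvd_of_le hX
  rcases pi_of_cent_sigma hG hN hy hy1 hxN (mem_cent1_comm.1 hyx) hx1
    (isPiNum_orderOf_of_mem h4.2.1 ⟨Ms_le M hx, hxN⟩) with ⟨K, hK, hxK, -⟩ | ⟨h5, -, h6⟩
  · exact absurd h2 (kappa_not_tau2 (isPiNum_orderOf_of_mem hK.2.1 hxK _ hp hqx))
  obtain ⟨A, hA⟩ := ex_tau2Elem hG hN h4 h2
  have hNA : 𝐍(A) ≤ M := norm_noncyclic_sigma hG hM hq (elemAb_isPGroup hA.2.1)
    (hA.1.trans inf_le_left) (not_isCyclic_of_p2Elem_le le_rfl hA.2.1 hA.2.2.ge)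
  have h7 := (primes_norm_tau2Elem hG hN h4 h2 hA hM hNA).1
  exact ⟨N, hN, h6, h1, hR, h5, h4, fun q hq => (h7 q hq).1, fun q hq => (h7 q hq).2, h3, htr⟩

end

namespace Signalizer

variable {M N : Subgroup G} {x : G} (h : Signalizer M N x)
include h

omit [Finite G] in
theorem cent_le : 𝐂[x] ≤ N := h.uniq.1

omit [Finite G] in
theorem mem : x ∈ N := h.cent_le (self_mem_cent1 x)

theorem not_mem_Ms (hx1 : x ≠ 1) : x ∉ sigmaCore N := fun h1 => hx1 (eq_one_of_isPiNum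
  disjoint_compl_right (Ms_elt h1) (h.tau2_elt.mono tau2_sub_sigma'))

theorem notP1 (hx1 : x ≠ 1) : ¬ P1 N := by
  obtain ⟨p, hp, hd⟩ := exists_prime_dvd_orderOf hx1
  exact not_P1_of_tau2 (h.tau2_elt p hp hd)

theorem complN (hG : PGHyp G) : IsComplIn (sigmaCore N) (M ⊓ N) N :=
  complIn_Ms hG h.coatom h.hall

theorem complC (hG : PGHyp G) (hx : x ∈ M) :
    IsComplIn (sigmaCore N ⊓ 𝐂[x]) (M ⊓ 𝐂[x]) 𝐂[x] := by
  have := IsComplIn.cent1 (h.complN hG) (inf_le_right.trans (Ms_normal N)) (x := x) ⟨hx, h.mem⟩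
  rwa [inf_assoc, inf_eq_right.2 h.cent_le] at this

theorem nil (hG : PGHyp G) (hx1 : x ≠ 1) : Group.IsNilpotent (sigmaCore N) :=
  notP1_Ms_nil hG h.coatom (h.notP1 hx1)

end Signalizer

open Classical in
/-- The signalizer `R(x)`. -/
noncomputable def sigR (x : G) : Subgroup G :=
  if h : ∃ N, Mx N ∧ UniqMax 𝐂[x] N ∧ x ∉ sigmaCore N then
    sigmaCore (Classical.choose h) ⊓ 𝐂[x] else ⊥

omit [Finite G] in
theorem sigR_eq {x : G} {N : Subgroup G} (hN : Mx N) (hu : UniqMax 𝐂[x] N)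
    (hx : x ∉ sigmaCore N) : sigR x = sigmaCore N ⊓ 𝐂[x] := by
  have h : ∃ N, Mx N ∧ UniqMax 𝐂[x] N ∧ x ∉ sigmaCore N := ⟨N, hN, hu, hx⟩
  rw [sigR, dif_pos h, hu.2 _ (Classical.choose_spec h).1 (Classical.choose_spec h).2.1.1]

omit [Finite G] in
theorem sigR_of_le {x : G} {M : Subgroup G} (hM : Mx M) (hx : x ∈ sigmaCore M)
    (hC : 𝐂[x] ≤ M) : sigR x = ⊥ := by
  rw [sigR, dif_neg]
  rintro ⟨N, -, hu, h⟩
  exact h (hu.2 M hM hC ▸ hx)

theorem Signalizer.sigR_eq {M N : Subgroup G} {x : G} (h : Signalizer M N x) (hx1 : x ≠ 1) :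
    sigR x = sigmaCore N ⊓ 𝐂[x] := B14.sigR_eq h.coatom h.uniq (h.not_mem_Ms hx1)

omit [Finite G] in
theorem sigR_le_cent (x : G) : sigR x ≤ 𝐂[x] := by
  unfold sigR; split_ifs
  exacts [inf_le_right, bot_le]

theorem sigR_conj (g x : G) : sigR (g * x * g⁻¹) = g •ᶜ sigR x := by
  by_cases h : ∃ N, Mx N ∧ UniqMax 𝐂[x] N ∧ x ∉ sigmaCore N
  · obtain ⟨N, hN, hu, hx⟩ := h
    rw [sigR_eq hN hu hx, sigR_eq (isCoatom_map_conj hN g) (cent1_conj g x ▸ UniqMax.conj hu g)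
      (by rwa [sigmaCore_conj, conj_mem_conj_iff]), sigmaCore_conj, cent1_conj, map_conj_inf]
  · rw [sigR, sigR, dif_neg h, dif_neg, Subgroup.map_bot]
    rintro ⟨N, hN, hu, hx⟩
    refine h ⟨g⁻¹ •ᶜ N, isCoatom_map_conj hN _, ?_, fun h1 => hx ?_⟩
    · have := UniqMax.conj hu g⁻¹
      rwa [cent1_conj, map_conj_inv_map_conj] at this
    · rw [← map_conj_map_conj_inv g N, sigmaCore_conj]; exact conj_mem_map_conj h1

section
variable (hG : PGHyp G) {M : Subgroup G} (hM : Mx M) {x : G}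
  (hx : x ∈ sigmaCore M) (hx1 : x ≠ 1)
include hG hM hx hx1

theorem sigR_cases : (𝐂[x] ≤ M ∧ sigR x = ⊥) ∨
    (¬ 𝐂[x] ≤ M ∧ ∃ N, Signalizer M N x ∧ sigR x = sigmaCore N ⊓ 𝐂[x]) := by
  by_cases hC : 𝐂[x] ≤ M
  · exact Or.inl ⟨hC, sigR_of_le hM hx hC⟩
  · obtain ⟨N, hN⟩ := FT_signalizer_context hG hM hx hx1 hC
    exact Or.inr ⟨hC, N, hN, hN.sigR_eq hx1⟩

theorem sigR_compl : IsComplIn (sigR x) (M ⊓ 𝐂[x]) 𝐂[x] := by
  rcases sigR_cases hG hM hx hx1 with ⟨h1, h2⟩ | ⟨-, N, hN, h2⟩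
  · rw [h2, inf_eq_right.2 h1]
    exact ⟨bot_le, le_rfl, bot_inf_eq _, fun m hm => ⟨1, one_mem _, m, hm, (one_mul m).symm⟩⟩
  · rw [h2]; exact hN.complC hG (Ms_le M hx)

theorem sigR_inf : sigR x ⊓ M = ⊥ := by
  rw [← (sigR_compl hG hM hx hx1).2.2.1, ← inf_assoc, inf_eq_left.2 (inf_le_left.trans
    (sigR_le_cent x))]

theorem sigR_sigma' : IsPiSubgroup (sigma M)ᶜ (sigR x) := by
  rcases sigR_cases hG hM hx hx1 with ⟨-, h2⟩ | ⟨-, N, hN, h2⟩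
  · rw [h2]; exact isPiSubgroup_bot _
  · rw [h2]
    exact isPiSubgroup_of_le (isPiSubgroup_mono (Ms_pi N)
      (sigma'_of_notConj hG hM hN.coatom hN.notConj)) inf_le_left

theorem sigR_trans {L : Subgroup G} (hL : Mx L) (hxL : x ∈ sigmaCore L) :
    ∃ r ∈ sigR x, L = r •ᶜ M := by
  rcases sigR_cases hG hM hx hx1 with ⟨h1, -⟩ | ⟨-, N, hN, h2⟩
  · exact ⟨1, one_mem _, by rw [map_conj_one, sigma_mmax_eq hG hM hx hx1 h1 hL hxL]⟩
  · rw [h2]; exact hN.trans L hL hxL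

theorem exists_signalizer_of_mem {r : G} (hr : r ∈ sigR x) (hr1 : r ≠ 1) :
    ∃ N, Signalizer M N x ∧ r ∈ sigmaCore N := by
  rcases sigR_cases hG hM hx hx1 with ⟨-, h2⟩ | ⟨-, N, hN, h2⟩
  · rw [h2] at hr; exact absurd (mem_bot.1 hr) hr1
  · rw [h2] at hr; exact ⟨N, hN, hr.1⟩

omit hG hM hx hx1 [Finite G] in
theorem commute_of_mem_sigR {r : G} (hr : r ∈ sigR x) : Commute x r :=
  mem_cent1'.1 (sigR_le_cent x hr)

/-- If `u * v = x * r` with `u` a nontrivial `σ(L)`-element, `v` a `σ(L)'`-element, then either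
`u = x`, or `u = r` and `v = x`. -/
theorem sigma_part_cover {r : G} (hr : r ∈ sigR x) {L : Subgroup G} (hL : Mx L) {u v : G}
    (huv : Commute u v) (hu : IsPiNum (sigma L) (orderOf u)) (hu1 : u ≠ 1)
    (hv : IsPiNum (sigma L)ᶜ (orderOf v)) (e : u * v = x * r) :
    (u = x ∧ v = r) ∨ (u = r ∧ v = x) := by
  have hc := commute_of_mem_sigR hr
  rcases conj_or_notConj M L with ⟨g, rfl⟩ | hML
  · have h1 := Ms_elt hx
    have h2 := isPiNum_orderOf_of_mem (sigR_sigma' hG hM hx hx1) hr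
    rw [sigma_conj] at h1 h2
    exact Or.inl (pi_part_unique huv hc hu hv h1 h2 e)
  · have hxL : IsPiNum (sigma L)ᶜ (orderOf x) := (Ms_elt hx).mono (sigma'_of_notConj hG hL hM hML)
    have key : ¬ IsPiNum (sigma L)ᶜ (orderOf r) := fun h => hu1
      (pi_part_unique huv (Commute.one_left _) hu hv (by rw [orderOf_one]; exact isPiNum_one _)
        (isPiNum_mul_of_commute hc hxL h) (by rw [e, one_mul])).1
    have hr1 : r ≠ 1 := by
      rintro rfl; exact key (by rw [orderOf_one]; exact isPiNum_one _)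
    obtain ⟨N, hN, hrN⟩ := exists_signalizer_of_mem hG hM hx hx1 hr hr1
    rcases conj_or_notConj N L with ⟨g, rfl⟩ | hNL
    · have h1 := Ms_elt hrN
      rw [sigma_conj] at h1
      exact Or.inr (pi_part_unique huv hc.symm hu hv h1 hxL (e.trans hc.eq))
    · exact absurd ((Ms_elt hrN).mono (sigma'_of_notConj hG hL hN.coatom hNL)) key

/-- BG 14.5(a). -/
theorem sigma_cover_disjoint {r : G} (hr : r ∈ sigR x) {L : Subgroup G} (hL : Mx L) {y s : G}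
    (hy : y ∈ sigmaCore L) (hy1 : y ≠ 1) (hs : s ∈ sigR y) (e : x * r = y * s) : x = y := by
  rcases sigma_part_cover hG hM hx hx1 hr hL (commute_of_mem_sigR hs) (Ms_elt hy) hy1
    (isPiNum_orderOf_of_mem (sigR_sigma' hG hL hy hy1) hs) e.symm with h | ⟨rfl, rfl⟩
  · exact h.1.symm
  · obtain ⟨N, hN, hxN⟩ := exists_signalizer_of_mem hG hL hy hy1 hs hx1
    exact absurd (eq_one_of_mem_inf (sigR_inf hG hN.coatom hxN hx1) hr hN.mem) hy1

theorem card_conj_mem_Ms :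
    {g : G | x ∈ sigmaCore (g •ᶜ M)}.ncard = Nat.card (sigR x) * Nat.card M := by
  rw [← Nat.card_prod, ← Nat.card_coe_set_eq]
  symm
  refine Nat.card_congr (Equiv.ofBijective (fun rm : sigR x × M =>
    (⟨rm.1 * rm.2, ?_⟩ : {g : G | x ∈ sigmaCore (g •ᶜ M)})) ⟨?_, ?_⟩)
  · show x ∈ sigmaCore (((rm.1 : G) * rm.2) •ᶜ M)
    rw [map_conj_mul, conj_eq_of_mem rm.2.2]
    exact mem_Ms_conj_cent hx (sigR_le_cent x rm.1.2)
  · rintro ⟨a, b⟩ ⟨a', b'⟩ e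
    have e1 : (a : G) * b = a' * b' := congrArg Subtype.val e
    have e2 : (a' : G)⁻¹ * a = b' * (b : G)⁻¹ := by
      calc (a' : G)⁻¹ * a = (a' : G)⁻¹ * (a * b) * (b : G)⁻¹ := by group
        _ = _ := by rw [e1]; group
    have e3 : (a' : G)⁻¹ * a = 1 := eq_one_of_mem_inf (sigR_inf hG hM hx hx1)
      (mul_mem (inv_mem a'.2) a.2) (e2 ▸ mul_mem b'.2 (inv_mem b.2))
    have e4 : (a : G) = a' := (inv_mul_eq_one.1 e3).symm
    rw [e4] at e1
    exact Prod.ext (Subtype.ext e4) (Subtype.ext (mul_left_cancel e1))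
  · rintro ⟨g, hg⟩
    obtain ⟨r, hr, e⟩ := sigR_trans hG hM hx hx1 (isCoatom_map_conj hM g) hg
    refine ⟨⟨⟨r, hr⟩, ⟨r⁻¹ * g, mem_of_conj_eq hG hM ?_⟩⟩, Subtype.ext (by simp)⟩
    rw [map_conj_mul, e, map_conj_inv_map_conj]

end

/-- The union of the conjugates of `M̃`. -/
def tilde (M : Subgroup G) : Set G :=
  {g | ∃ a ∈ sigmaCore M, a ≠ 1 ∧ ∃ r ∈ sigR a, ∃ y : G, g = y * (a * r) * y⁻¹}

theorem mem_tilde_iff {M : Subgroup G} {g : G} : g ∈ tilde M ↔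
    ∃ y : G, ∃ a ∈ sigmaCore (y •ᶜ M), a ≠ 1 ∧ ∃ r ∈ sigR a, g = a * r := by
  constructor
  · rintro ⟨a, ha, ha1, r, hr, y, rfl⟩
    exact ⟨y, y * a * y⁻¹, by rw [sigmaCore_conj]; exact conj_mem_map_conj ha,
      conj_ne_one_iff.2 ha1, y * r * y⁻¹, by rw [sigR_conj]; exact conj_mem_map_conj hr, by group⟩
  · rintro ⟨y, a, ha, ha1, r, hr, rfl⟩
    rw [sigmaCore_conj] at ha
    obtain ⟨a, ha, rfl⟩ := ha
    change r ∈ sigR (y * a * y⁻¹) at hr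
    rw [sigR_conj] at hr
    obtain ⟨r, hr, rfl⟩ := hr
    exact ⟨a, ha, conj_ne_one_iff.1 ha1, r, hr, y, by simp [mul_assoc]⟩

omit [Finite G] in
theorem conj_mem_tilde {M : Subgroup G} {g : G} (hg : g ∈ tilde M) (y : G) :
    y * g * y⁻¹ ∈ tilde M := by
  obtain ⟨a, ha, ha1, r, hr, z, rfl⟩ := hg
  exact ⟨a, ha, ha1, r, hr, y * z, by group⟩

theorem tilde_conj (g : G) (M : Subgroup G) : tilde (g •ᶜ M) = tilde M := by
  ext x
  simp only [mem_tilde_iff, ← map_conj_mul]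
  exact ⟨fun ⟨y, h⟩ => ⟨y * g, h⟩, fun ⟨y, h⟩ => ⟨y * g⁻¹, by rwa [inv_mul_cancel_right]⟩⟩

section
variable (hG : PGHyp G) {M : Subgroup G} (hM : Mx M)
include hG hM

theorem one_not_mem_tilde : (1 : G) ∉ tilde M := by
  intro h
  obtain ⟨y, a, ha, ha1, r, hr, e⟩ := mem_tilde_iff.1 h
  have : a = r⁻¹ := eq_inv_of_mul_eq_one_left e.symm
  exact ha1 (eq_one_of_mem_inf (sigR_inf hG (isCoatom_map_conj hM y) ha ha1)
    (by have h2 := inv_mem hr; rwa [← this] at h2) (Ms_le _ ha))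

/-- BG 14.5(b). -/
theorem tilde_disjoint {L : Subgroup G} (hL : Mx L) (h : NotConj L M) :
    Disjoint (tilde M) (tilde L) := by
  rw [Set.disjoint_left]
  intro g h1 h2
  obtain ⟨y, a, ha, ha1, r, hr, rfl⟩ := mem_tilde_iff.1 h1
  obtain ⟨z, b, hb, hb1, s, hs, e⟩ := mem_tilde_iff.1 h2
  obtain rfl := sigma_cover_disjoint hG (isCoatom_map_conj hM y) ha ha1 hr
    (isCoatom_map_conj hL z) hb hb1 hs e
  have h3 := Ms_elt ha
  have h4 := Ms_elt hb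
  rw [sigma_conj] at h3 h4
  obtain ⟨g, hg⟩ := conj_of_mem_Ms hG hM hL ha1 h3 h4
  exact h g hg

/-- BG 14.5(c). -/
theorem card_tilde : (tilde M).ncard = (Nat.card (sigmaCore M) - 1) * M.index := by
  classical
  have := Fintype.ofFinite G
  let C : Finset G := Finset.univ.filter fun a => a ≠ 1 ∧ ∃ y : G, a ∈ sigmaCore (y •ᶜ M)
  have h1 : (tilde M).ncard = ∑ a ∈ C, Nat.card (sigR a) := by
    have e : tilde M = ↑(C.biUnion fun a => (Finset.univ.filter (· ∈ sigR a)).image (a * ·)) := by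
      ext g
      simp only [mem_tilde_iff, C, Finset.coe_biUnion, Finset.coe_filter, Finset.mem_univ, true_and,
        Finset.coe_image, Set.mem_iUnion, Set.mem_image, Set.mem_setOf_eq]
      exact ⟨fun ⟨y, a, ha, ha1, r, hr, e⟩ => ⟨a, ⟨ha1, y, ha⟩, r, hr, e.symm⟩,
        fun ⟨a, ⟨ha1, y, ha⟩, r, hr, e⟩ => ⟨y, a, ha, ha1, r, hr, e.symm⟩⟩
    rw [e, Set.ncard_coe_finset, Finset.card_biUnion]
    · refine Finset.sum_congr rfl fun a _ => ?_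
      rw [Finset.card_image_of_injective _ (mul_right_injective a), Nat.card_eq_fintype_card,
        Fintype.card_subtype]
    · intro a ha b hb hab
      simp only [C, Finset.coe_filter, Finset.mem_univ, true_and, Set.mem_setOf_eq] at ha hb
      obtain ⟨ha1, y, ha⟩ := ha
      obtain ⟨hb1, z, hb⟩ := hb
      simp only [Function.onFun, Finset.disjoint_left, Finset.mem_image, Finset.mem_filter,
        Finset.mem_univ, true_and]
      rintro _ ⟨r, hr, rfl⟩ ⟨s, hs, e⟩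
      exact hab (sigma_cover_disjoint hG (isCoatom_map_conj hM y) ha ha1 hr
        (isCoatom_map_conj hM z) hb hb1 hs e.symm)
  have h2 : ∀ a ∈ C, Nat.card (sigR a) * Nat.card M =
      (Finset.univ.filter fun g : G => a ∈ sigmaCore (g •ᶜ M)).card := by
    intro a ha
    simp only [C, Finset.mem_filter, Finset.mem_univ, true_and] at ha
    obtain ⟨ha1, y, ha⟩ := ha
    have := card_conj_mem_Ms hG (isCoatom_map_conj hM y) ha ha1
    rw [card_map_conj] at this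
    rw [← this, ← Set.ncard_coe_finset, ← Set.ncard_image_of_injective _ (mul_left_injective y)]
    congr 1
    ext g
    simp only [Set.mem_image, Set.mem_setOf_eq, Finset.coe_filter, Finset.mem_univ, true_and,
      ← map_conj_mul]
    exact ⟨fun ⟨z, hz, e⟩ => e ▸ hz, fun h => ⟨g * y⁻¹, by rwa [inv_mul_cancel_right], by simp⟩⟩
  have h3 : ∀ g : G, (C.filter fun a => a ∈ sigmaCore (g •ᶜ M)).card =
      Nat.card (sigmaCore M) - 1 := by
    intro g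
    rw [← card_map_conj g, ← sigmaCore_conj, Nat.card_eq_fintype_card, Fintype.card_subtype,
      ← Finset.card_erase_of_mem (a := 1) (Finset.mem_filter.2 ⟨Finset.mem_univ _, one_mem _⟩)]
    congr 1
    ext a
    simp only [C, Finset.mem_filter, Finset.mem_univ, true_and, Finset.mem_erase]
    exact ⟨fun h => ⟨h.1.1, h.2⟩, fun h => ⟨⟨h.1, g, h.2⟩, h.2⟩⟩
  have h4 : (tilde M).ncard * Nat.card M = Nat.card G * (Nat.card (sigmaCore M) - 1) := by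
    have h5 := Finset.sum_card_bipartiteAbove_eq_sum_card_bipartiteBelow
      (r := fun a g => a ∈ sigmaCore (g •ᶜ M)) (s := C) (t := Finset.univ)
    simp only [Finset.bipartiteBelow, Finset.bipartiteAbove] at h5
    rw [h1, Finset.sum_mul, Finset.sum_congr rfl h2, h5]
    simp only [h3, Finset.sum_const, Finset.card_univ, smul_eq_mul, Nat.card_eq_fintype_card]
  refine Nat.eq_of_mul_eq_mul_right (Nat.card_pos (α := M)) ?_
  rw [h4, ← M.index_mul_card]; ring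

end

/-- Elements of the second kind in BG 14.6. -/
def KappaElt (g : G) : Prop := ∃ M K : Subgroup G, Mx M ∧ IsPiHallOf (kappa M) K M ∧
  ∃ y ∈ sigmaCore M ⊓ 𝐂(K), y ≠ 1 ∧ ∃ k ∈ K, k ≠ 1 ∧ g = y * k

section
variable (hG : PGHyp G)
include hG

theorem dichotomy_aux {g : G} {L : Subgroup G} (hL : Mx L) (hg : g ∈ L)
    (h : ¬ IsPiNum (sigma L)ᶜ (orderOf g)) : (∃ M, Mx M ∧ g ∈ tilde M) ∨ KappaElt g := by
  obtain ⟨u, hu, v, hv, e, hc, h1, h2⟩ := exists_pi_part (sigma L) g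
  have hu1 : u ≠ 1 := by
    rintro rfl; rw [one_mul] at e; exact h (e ▸ h2)
  have huL := mem_Ms hG hL (zpowers_le.2 hg hu) h1
  by_cases hv1 : v = 1
  · exact Or.inl ⟨L, hL, u, huL, hu1, 1, one_mem _, 1, by rw [e, hv1]; group⟩
  rcases pi_of_cent_sigma hG hL huL hu1 (zpowers_le.2 hg hv) (mem_cent1'.2 hc.eq) hv1 h2 with
    ⟨K, hK, hvK, huK, -⟩ | ⟨h3, ⟨H, hH, hvH⟩, h4⟩
  · exact Or.inr ⟨L, K, hL, hK, u, ⟨huL, huK⟩, hu1, v, hvK, hv1, e⟩
  · refine Or.inl ⟨H, hH, v, hvH, hv1, u, ?_, 1, by rw [e, hc.eq]; group⟩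
    rw [sigR_eq hL h4 fun h5 => hv1 (eq_one_of_isPiNum disjoint_compl_right (Ms_elt h5) h2)]
    exact ⟨huL, mem_cent1.2 hc.eq⟩

/-- BG 14.6, existence. -/
theorem sigma_dichotomy {g : G} (hg : g ≠ 1) (hϖ : IsPiNum ϖ[G] (orderOf g)) : (∃ M, Mx M ∧ g ∈ tilde M) ∨ KappaElt g := by
  obtain ⟨p, hp, hd⟩ := exists_prime_dvd_orderOf hg
  obtain ⟨M, hM, hpM⟩ := sigma_mmax_exists hG hp (hϖ p hp hd) (hd.trans (orderOf_dvd_natCard g))
  obtain ⟨u, hu, v, hv, e, hc, h1, h2⟩ := exists_pi_part (sigma M) g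
  obtain ⟨y, hy⟩ := sigma_Jsub hG hM (isPiSubgroup_zpowers_iff.2 h1)
  rw [conj_le_iff, ← sigmaCore_conj, zpowers_le] at hy
  have hL := isCoatom_map_conj hM y⁻¹
  have hσ := sigma_conj y⁻¹ M
  generalize y⁻¹ •ᶜ M = L at hy hL hσ
  have hnot : ∀ z : G, ¬ IsPiNum (sigma (z •ᶜ L))ᶜ (orderOf g) := fun z h =>
    h p hp hd (by rwa [sigma_conj, hσ])
  have hu1 : u ≠ 1 := by
    rintro rfl; rw [one_mul] at e; exact h2 p hp (e ▸ hd) hpM
  have hgu : g ∈ 𝐂[u] := cent1_le_cent1 hu (self_mem_cent1 g)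
  by_cases hC : 𝐂[u] ≤ L
  · exact dichotomy_aux hG hL (hC hgu) (by simpa only [map_conj_one] using hnot 1)
  obtain ⟨N, hN⟩ := FT_signalizer_context hG hL hy hu1 hC
  by_cases hσN : IsPiNum (sigma N)ᶜ (orderOf g)
  · obtain ⟨z, -, hz⟩ := Hall.exists_conj_le_hallOf (mmax_sol hG hN.coatom)
      (isPiSubgroup_zpowers_iff.2 hσN) (zpowers_le.2 (hN.cent_le hgu)) hN.hall
    exact dichotomy_aux hG (isCoatom_map_conj hL z⁻¹)
      (zpowers_le.1 (conj_le_iff.1 (hz.trans inf_le_left))) (hnot _)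
  · exact dichotomy_aux hG hN.coatom (hN.cent_le hgu) hσN

/-- BG 14.6, exclusion. -/
theorem KappaElt.not_mem_tilde {g : G} (h : KappaElt g) {L : Subgroup G} (hL : Mx L) :
    g ∉ tilde L := by
  obtain ⟨M, K, hM, hK, y, hy, hy1, k, hk, hk1, rfl⟩ := h
  intro h
  obtain ⟨z, x, hx, hx1, r, hr, e⟩ := mem_tilde_iff.1 h
  have hK1 := ne_bot_of_mem hk hk1
  have hC := Kstar_cent1_le hG hM hK hK1 hy hy1
  have hkκ := isPiNum_orderOf_of_mem hK.2.1 hk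
  rcases sigma_part_cover hG (isCoatom_map_conj hL z) hx hx1 hr hM (hy.2 k hk).symm (Ms_elt hy.1)
    hy1 (hkκ.mono kappa_sub_sigma') e with ⟨rfl, rfl⟩ | ⟨rfl, rfl⟩
  · rw [sigR_of_le hM hy.1 hC] at hr
    exact hk1 (mem_bot.1 hr)
  · obtain ⟨N, hN, hyN⟩ := exists_signalizer_of_mem hG (isCoatom_map_conj hL z) hx hx1 hr hy1
    obtain rfl := sigma_mmax_eq hG hM hy.1 hy1 hC hN.coatom hyN
    obtain ⟨p, hp, hd⟩ := exists_prime_dvd_orderOf hk1
    exact kappa_not_tau2 (hkκ p hp hd) (hN.tau2_elt p hp hd)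

end

end CfsgLib.FT.PG.U4.B14
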