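import Mathlib
import Cfsg.Agent.Lib.PG.BG14c
import Cfsg.Agent.Lib.FT.U4b
import Cfsg.Agent.Lib.FT.BG14d

/-! Bender–Glauberman, section 14, last part: 14.11, 14.12 and 14.13(a). -/

set_option autoImplicit false
set_option linter.unusedSectionVars false

namespace CfsgLib.FT.PG.U4
export CfsgLib.FT.U4 (pcore_le pcore_pi norm_le_norm_pcore pcore_normal le_pcore pcore_pgroup)
export CfsgLib.FT.U4 (le_fit fit_le fit_nil norm_le_norm_fit fit_normal fit_conj)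
export CfsgLib.FT.U4 (le_pcore_of_le_fit norm_le_norm_der der_normal normal_of_der_le comm_le_inf comm_le_right)
export CfsgLib.FT.U4 (comm_le_left le_cent_of_comm_le le_cent_of_inf_eq_bot cent_sup le_cent_sup norm_le_norm_cent)
export CfsgLib.FT.U4 (dedekind dedekind' le_cent_of_nil pcore_sup_of_nil complIn_pcore_of_nil hall_pcore_of_nil)
export CfsgLib.FT.U4 (le_pcore_of_nil eq_pcore_of_nil norm_le_norm_hall_of_nil hallOf_of_sylow sylow_of_hallOf norm_le_norm_sylow_of_nil)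
export CfsgLib.FT.U4 (sylow_pcore_of_nil norm_le_norm_of_normal_hall isNilpotent_sup_of_cent eq_of_norm_le_of_nil pcore_fit pcore_le_fit)
export CfsgLib.FT.U4 (fcore_le fcore_normal fcore_max fittingHall_prop fcore_nil fcore_coprime)
export CfsgLib.FT.U4 (fcore_hall fcore_le_fit map_fittingHall_le fcore_conj norm_le_norm_fcore sylow_le_fcore)
export CfsgLib.FT.U4 (fcore_eq_of_nil bar bar_mono bar_le_norm bar_comm bar_eq_bot_iff)
export CfsgLib.FT.U4 (bar_le_cent_iff card_bar_mul card_bar_dvd card_bar_of_inf card_bar bar_inf_cent)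
export CfsgLib.FT.U4 (exists_of_mem_bar bar_cent1 nil_bar comm_le_of_nil_bar primact_section)
end CfsgLib.FT.PG.U4

namespace CfsgLib.FT.PG.U4.B14
export CfsgLib.FT.U4.B14 (P2Elem.ne_bot P2Elem.pgroup P2Elem.mono P2Elem.comm P2Elem.not_rank1 P2Elem.not_cyclic)
export CfsgLib.FT.U4.B14 (P2Elem.nil)
end CfsgLib.FT.PG.U4.B14


namespace CfsgLib.FT.PG.U4.B14

open Subgroup Cfsg BGN
open scoped commutatorElement

variable {G : Type*} [Group G] [PiCtx G] [Finite G]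

section
variable (hG : PGHyp G) {M : Subgroup G} (hM : Mx M)
include hG hM

theorem sigma_or_tau2 {p : ℕ} (hp : p.Prime) (hr : ¬ PRankLE p 1 M) :
    p ∈ sigma M ∨ p ∈ tau2 M := by
  have := Fact.mk hp
  rcases (partition_pi_mmax hG hM hp).1 (dvd_card_of_not_pRankLE hr) with h | h | h | h
  exacts [absurd h.2.2.2.2 hr, Or.inr h, absurd h.2.2.2 hr, Or.inl h]

omit hM in
theorem exists_norm_mmax {X : Subgroup G} (hX1 : X ≠ ⊥) (hX : IsPiSubgroup ϖ[G] X) :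
    ∃ H, Mx H ∧ 𝐍(X) ≤ H := mmax_exists (mFT_norm_proper hG hX1 hX)

theorem reg_of_not_kappa {X : Subgroup G} (hX : X ≤ M) {p : ℕ} (hXp : Nat.card X = p)
    (h13 : p ∈ tau1 M ∨ p ∈ tau3 M) (hκ : p ∉ kappa M) : sigmaCore M ⊓ 𝐂(X) = ⊥ := by
  by_contra h; exact hκ (mem_kappa hG hM h13 hX hXp h)

theorem semiReg_of_no_tau2 (hκ : kappa M = ∅) (h2 : tau2 M = ∅) {E : Subgroup G} (hE : E ≤ M)
    (hσ : IsPiSubgroup (sigma M)ᶜ E) : SemiReg (sigmaCore M) E :=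
  semiReg_of_prime fun _ hX hp => reg_of_not_kappa hG hM (hX.trans hE) rfl
    (tau13_of_not_tau2 hG hM hp (card_dvd_of_le (hX.trans hE)) (hσ _ hp (card_dvd_of_le hX))
      (h2 ▸ Set.notMem_empty _)) (hκ ▸ Set.notMem_empty _)

theorem fcore_le_Ms : fittingHallOf M ≤ sigmaCore M := by
  refine le_Ms hG hM (fcore_le M) fun p hp hd => ?_
  have := Fact.mk hp
  have hS := sylow_pcore_of_nil (fcore_nil M) p
  refine mem_sigma_iff.2 ⟨hd.trans (card_dvd_of_le (fcore_le M)),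
    pi_of_norm_nil hG hM (fcore_le M) (fcore_normal M) (fcore_nil M) p hp hd, _,
    sylow_of_sylow_hall hp hS (fcore_hall M) hd, ?_⟩
  exact (mmax_normal hG hM (hS.le.trans (fcore_le M))
    ((fcore_normal M).trans (norm_le_norm_pcore _ _)) (hS.ne_bot hd)).le

theorem fcore_eq_Ms (h : Group.IsNilpotent (sigmaCore M)) : fittingHallOf M = sigmaCore M :=
  fcore_eq_of_nil (Msigma_Hall hG hM) (Ms_normal M) h (fcore_le_Ms hG hM)

theorem fcore_eq_Ms_iff : fittingHallOf M = sigmaCore M ↔ Group.IsNilpotent (sigmaCore M) :=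
  ⟨fun h => h ▸ fcore_nil M, fcore_eq_Ms hG hM⟩

/-- BG 14.11. -/
theorem primes_non_Fitting_Ftype (hκ : kappa M = ∅) {E Q : Subgroup G}
    (hE : IsPiHallOf (sigma M)ᶜ E M) {q : ℕ} (hq : q.Prime) (hϖ : q ∈ ϖ[G]) (hQ : Nat.card Q = q) (hQE : Q ≤ E)
    (hQF : ¬ Q ≤ fittingOf E) : ∃ H, Mx H ∧
      ((q ∈ tau2 H ∧ UniqMax 𝐂(Q) H) ∨ (q ∈ kappa H ∧ P1 H)) := by
  have := Fact.mk hq
  have hq1 : q ∈ tau1 M := by
    rcases (partition_pi_sigma_compl hG hM hE hq).1 (hQ ▸ card_dvd_of_le hQE) with h | h | h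
    · exact h
    · obtain ⟨A, hA⟩ := ex_tau2Elem hG hM hE h
      obtain ⟨⟨h1, h2⟩, -⟩ := tau2_compl_context hG hM hE h hA
      exact absurd ((h2 Q hQE hQ).trans (le_fit hA.1 h1 (P2Elem.nil hA))) hQF
    · obtain ⟨E₃, h₃⟩ := Hall.exists_isPiHallOf (isSolvable_of_le (mmax_sol hG hM) hE.1) (tau3 M)
      obtain ⟨h1, -, h2, -⟩ := tau3_context hG hM hE h₃
      exact absurd ((le_of_normal_hallOf h₃ h2 (isPiSubgroup_of_card_eq hq hQ h) hQE).trans
        (le_fit h₃.1 h2 (isNilpotent_of_comm inferInstance))) hQF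
  have hreg := reg_of_not_kappa hG hM (hQE.trans hE.1) hQ (Or.inl hq1) (hκ ▸ Set.notMem_empty _)
  have hE' : ⁅E, E⁆ ≤ E := commutator_le_self E
  have hab := der_mmax_compl_abelian hG hM hE
  have hqE' := ((tau1E hG hM hE hq).1 hq1).2.2
  have hQn : Q ≤ 𝐍(⁅E, E⁆) := hQE.trans (der_normal E)
  obtain ⟨hc, -, -⟩ := commG_sigma'_1Elem_cyclic hG hM (hE'.trans hE.1)
    (isPiSubgroup_of_le hE.2.1 hE') hq1.2.1 hQ (hQE.trans hE.1) hQn hreg hqE' hab
  have hK1 : ⁅⁅E, E⁆, Q⁆ ≠ ⊥ := fun h => hQF (le_sup_left.trans (le_fit (sup_le hQE hE')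
    (normal_of_der_le le_sup_right (sup_le hQE hE')) (isNilpotent_sup_of_cent
      (isPGroup_of_card_eq hQ).isNilpotent (isNilpotent_of_comm hab)
      (Cop.commutator_eq_bot_iff_le_centralizer'.1 h))))
  have hKE : ⁅⁅E, E⁆, Q⁆ ≤ E := (comm_le_left hQn).trans hE'
  obtain ⟨K₀, hK₀, hp⟩ := exists_prime_sub hK1
  have := Fact.mk hp
  have hp2 : Nat.card K₀ ∈ tau2 M := by
    by_contra h
    have := reg_of_not_kappa hG hM (hK₀.trans (hKE.trans hE.1)) rfl (tau13_of_not_tau2 hG hM hp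
      (card_dvd_of_le (hK₀.trans (hKE.trans hE.1))) (hE.2.1 _ hp (card_dvd_of_le (hK₀.trans hKE)))
      h) (hκ ▸ Set.notMem_empty _)
    rw [inf_eq_left.2 (le_centralizer_comm (hK₀.trans hc))] at this
    exact Msigma_neq1 hG hM this
  obtain ⟨A, hA⟩ := ex_tau2Elem hG hM hE hp2
  obtain ⟨⟨hnA, hK₀A⟩, -⟩ := tau2_compl_context hG hM hE hp2 hA
  have hQA : ¬ Q ≤ 𝐂(A) := fun h => ne_bot_of_card_prime hp (eq_bot_iff.2 (by
    rw [← Cop.commutator_inf_centralizer_eq_bot hQn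
      (hQ ▸ (Nat.Prime.coprime_iff_not_dvd hq).2 hqE') hab]
    exact le_inf hK₀ ((hK₀A K₀ (hK₀.trans hKE) rfl).trans (le_centralizer_comm h))))
  obtain ⟨-, -, hA1, -⟩ := tau1_act_tau2 hG hM hE hp2 hA hq1 hQE hQ hreg
    fun h => hQA (Cop.commutator_eq_bot_iff_le_centralizer'.1 h)
  obtain ⟨H, hH, hN⟩ := exists_norm_mmax hG (P2Elem.ne_bot hp hA)
    (isPiSubgroup_of_isPGroup (P2Elem.pgroup hA) (mem_pi_of_tau2 hG hM.1 hp2))
  obtain ⟨h1, h2, -⟩ := primes_norm_tau2Elem hG hM hE hp2 hA hH hN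
  have hqi : q ∣ (𝐂(A)).relIndex E := by
    by_contra h
    refine hQA (Cop.le_of_coprime_relIndex hQE (hnA.trans (norm_le_norm_cent A)) ?_)
    rw [hQ]; exact (Nat.Prime.coprime_iff_not_dvd hq).2 h
  have hQH : Q ≤ H := hQE.trans (hnA.trans hN)
  have hC : sigmaCore H ⊓ 𝐂(Q) ≠ ⊥ := fun h => ne_bot_of_card_prime (hA1 ▸ hp) (eq_bot_iff.2
    (h ▸ inf_le_inf_right _ (le_Ms hG hH (le_normalizer.trans hN)
      (isPiSubgroup_of_isPGroup (P2Elem.pgroup hA) (h1 _ hp2).1))))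
  refine ⟨H, hH, (h2 q hq hqi).symm.imp (fun h => ⟨h, ?_⟩) fun h => ?_⟩
  · obtain ⟨x, hx, hx1⟩ := exists_ne_one (ne_bot_of_card_prime (hQ ▸ hq))
    rw [← cent1_eq_of_card_prime (hQ ▸ hq) hx hx1] at hC ⊢
    exact cent1_nreg_sigma_uniq hG hH (hQH hx) hx1
      (isPiNum_orderOf_of_mem (isPiSubgroup_of_card_eq hq hQ h) hx) hC
  · have hκ := mem_kappa hG hH (Or.inl h) hQH hQ hC
    refine ⟨hκ, ?_⟩
    by_contra hP
    obtain ⟨K, hK⟩ := ex_hallK hG hH
    exact (h1 _ hp2).2 ((P2_facts hG hH hK ⟨⟨q, hκ⟩, hP⟩).1 (h1 _ hp2).1)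

end

theorem PPair.U_inf_N (hG : PGHyp G) {M N K L U : Subgroup G} (h : PPair M N K L)
    (hU : U ≤ M ⊓ N) (hπ : IsPiSubgroup (sigma M ∪ kappa M)ᶜ U) : U = ⊥ := by
  rw [h.inf_eq hG] at hU
  have h1 := h.zdata.le_L hU (isPiSubgroup_mono hπ (Set.compl_subset_compl.2 Set.subset_union_left))
  have h2 := disjoint_of_isPiSubgroup disjoint_compl_left
    (isPiSubgroup_mono hπ (Set.compl_subset_compl.2 Set.subset_union_right)) h.hallK.2.1
  rwa [inf_eq_left.2 h1] at h2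

/-- BG 14.12. -/
theorem P2type_signalizer (hG : PGHyp G) {M N K L U : Subgroup G}
    (h : PPair M N K L) (hU : KappaCompl M U K) {r : ℕ} [Fact r.Prime] (hϖ : r ∈ ϖ[G])
    {R H : Subgroup G} (hR : IsSylowIn r R U) (hR1 : R ≠ ⊥) (hH : Mx H) (hRH : 𝐍(R) ≤ H) :
    kappa H = ∅ ∧ NotConj H M ∧ NotConj H N ∧ U ≤ sigmaCore H ∧ M ⊓ H = U ⊔ K ∧
      ¬ H ⊓ 𝐍(U) ≤ M ∧ K ≤ fittingOf (H ⊓ N) ∧ IsPiHallOf (sigma H)ᶜ (H ⊓ N) H := by
  have hM := h.maxM
  have hU1 : U ≠ ⊥ := fun e => hR1 (eq_bot_iff.2 (e ▸ hR.le))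
  have h2 : P2 M := hU.P2_iff.2 ⟨h.K_ne, hU1⟩
  obtain ⟨hab, hreg⟩ := hU.facts hG hM h.K_ne
  have hUn := isNilpotent_of_comm hab
  have hEH : U ⊔ K ≤ H := hU.E_norm.trans ((norm_le_norm_sylow_of_nil hUn hR).trans hRH)
  have hKH : K ≤ H := le_sup_right.trans hEH
  have hUH : U ≤ H := le_sup_left.trans hEH
  have hq := (P2_facts hG hM h.hallK h2).2.1
  have := Fact.mk hq
  have hrU : r ∈ (sigma M ∪ kappa M)ᶜ := by
    obtain ⟨p, hp, hd⟩ := exists_prime_dvd_card hR1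
    obtain rfl : p = r := isPGroup_iff_isPiSubgroup.1 hR.isPGroup p hp hd
    exact hU.U_pi p hp (hd.trans (card_dvd_of_le hR.le))
  have hHM : NotConj H M := by
    rintro g rfl
    have h1 := sylow_of_sylow_hall Fact.out hR hU.hallU hrU
    have h3 := (h1.map_conj g).of_card_le hR.isPGroup (hR.le.trans hUH) (card_map_conj g R).le
    obtain ⟨p, hp, hd⟩ := exists_prime_dvd_card hR1
    obtain rfl : p = r := isPGroup_iff_isPiSubgroup.1 hR.isPGroup p hp hd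
    have h4 := mem_sigma_iff.2 ⟨hd.trans (card_dvd_of_le h3.le), hϖ, R, h3, hRH⟩
    rw [sigma_conj] at h4
    exact hrU (Or.inl h4)
  have hTI : ∀ g : G, K ≤ g •ᶜ N → g ∈ N := fun g hg => by
    by_contra hg'
    have := Kstar_TI hG h.maxN h.hallL h.L_ne hg'
    rw [h.defK, inf_eq_left.2 hg] at this
    exact h.K_ne this
  have hHN : NotConj H N := by
    rintro g rfl
    rw [conj_eq_of_mem (hTI g hKH)] at hUH
    exact hU1 (h.U_inf_N hG (le_inf hU.U_le hUH) hU.U_pi)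
  have hκ : kappa H = ∅ := by
    by_contra hne
    rcases h.conj_of_P hG hH (Set.nonempty_iff_ne_empty.2 hne) with ⟨g, hg⟩ | ⟨g, hg⟩
    exacts [hHM g hg, hHN g hg]
  have hqN : Nat.card K ∈ sigma N := Ms_pi N _ hq (card_dvd_of_le h.K_le_Ns)
  have hNH := sigma'_of_notConj hG hH h.maxN (NotConj.symm hHN)
  have hKσ : IsPiSubgroup (sigma H)ᶜ K := isPiSubgroup_of_card_eq hq rfl (hNH hqN)
  have hKU₂ : K ≤ 𝐍(piCoreOf (sigma H)ᶜ U) := hU.norm.trans (norm_le_norm_pcore _ U)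
  obtain ⟨D, hD, hle⟩ := ex_sigma_compl hG hH (sup_le hKH ((pcore_le _ U).trans hUH))
    (isPiSubgroup_sup hKU₂ hKσ (pcore_pi _ U))
  have hKD : K ≤ D := le_sup_left.trans hle
  have hKF : K ≤ fittingOf D := by
    by_contra hc
    obtain ⟨L', hL', ⟨h3, h4⟩ | ⟨h3, h4⟩⟩ := primes_non_Fitting_Ftype hG hH hκ hD hq
      (kappa_sub_pi hG hM (h.hallK.2.1 _ hq dvd_rfl)) rfl hKD hc
    · obtain rfl := h4.2 N h.maxN (h.uniqK hG le_rfl hq).1
      exact h3.2.1 hqN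
    · rcases h.conj_of_P hG hL' ⟨_, h3⟩ with ⟨g, rfl⟩ | ⟨g, rfl⟩
      · exact h2.2 ((P1_conj g).1 h4)
      · rw [kappa_conj] at h3; exact h3.2.2.1 hqN
  have hKO : K ≤ piCoreOf {Nat.card K} D :=
    le_pcore_of_le_fit hKF (isPiSubgroup_of_card_eq hq rfl rfl)
  have hU₂ : piCoreOf (sigma H)ᶜ U = ⊥ := by
    rw [eq_bot_iff, ← SemiReg.cent_eq hreg le_rfl h.K_ne]
    refine le_inf (pcore_le _ U) (le_cent_of_comm_le (comm_le_left hKU₂)
      ((commutator_mono le_rfl hKO).trans (comm_le_right ((le_sup_right.trans hle).trans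
        (pcore_normal _ D)))) ?_)
    exact disjoint_of_isPiSubgroup disjoint_compl_left
      (isPiSubgroup_of_le hU.U_kappa' (pcore_le _ U))
      (isPiSubgroup_mono (pcore_pi _ D) (Set.singleton_subset_iff.2 (h.hallK.2.1 _ hq dvd_rfl)))
  have hUσ : U ≤ sigmaCore H := by
    have := pcore_sup_of_nil hUn (sigma H)
    rw [hU₂, sup_bot_eq] at this
    exact le_Ms hG hH hUH (this ▸ pcore_pi _ U)
  have hMH : M ⊓ H = U ⊔ K := by
    have h3 : sigmaCore M ⊓ (M ⊓ H) = ⊥ := by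
      rw [eq_bot_iff, ← cent_Ms_U hG hM hU.hallU hU1]
      refine le_inf inf_le_left (le_cent_of_comm_le (C := sigmaCore M) (D := sigmaCore H)
        ((commutator_mono inf_le_left le_rfl).trans (comm_le_left (hU.U_le.trans (Ms_normal M))))
        ((commutator_mono le_rfl hUσ).trans (comm_le_right ((inf_le_right.trans inf_le_right).trans
          (Ms_normal H)))) ?_)
      exact disjoint_of_isPiSubgroup (sigma_partition hG hM hH hHM) (Ms_pi M) (Ms_pi H)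
    have := IsComplIn.sup_eq (IsComplIn.restrict (hU.complM hG hM) (le_inf hU.hallE.1 hEH)
      inf_le_left)
    rw [← this, h3, bot_sup_eq]
  have hDN : D ≤ N := by
    have h3 : piCoreOf {Nat.card K} D ≤ sigmaCore N := le_Ms_of_inf_Kstar hG h.maxN h.hallL h.L_ne
      (isPiSubgroup_mono (pcore_pi _ D) (Set.singleton_subset_iff.2 hqN))
      (by rw [h.defK, inf_eq_right.2 hKO]; exact h.K_ne)
    intro d hd
    refine inv_mem_iff.1 (hTI d⁻¹ (conj_le_iff.1 ((map_mono hKO).trans ?_)))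
    rw [map_conj_eq_of_mem_normalizer (pcore_normal _ D hd)]
    exact h3.trans (Ms_le N)
  have hCK : sigmaCore H ⊓ 𝐂(K) = ⊥ := by
    by_cases h3 : Nat.card K ∈ tau2 H
    · by_contra hC
      obtain ⟨x, hx, hx1⟩ := exists_ne_one h.K_ne
      rw [← cent1_eq_of_card_prime hq hx hx1] at hC
      exact NotConj.ne hHN ((cent1_nreg_sigma_uniq hG hH (hKH hx) hx1
        (isPiNum_orderOf_of_mem (isPiSubgroup_of_card_eq hq rfl h3) hx) hC).2 N h.maxN
        (h.cent1_K_le hG hx hx1)).symm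
    · exact reg_of_not_kappa hG hH hKH rfl (tau13_of_not_tau2 hG hH hq (card_dvd_of_le hKH)
        (hNH hqN) h3) (hκ ▸ Set.notMem_empty _)
  have hHND : H ⊓ N = D := by
    have h3 : sigmaCore H ⊓ (H ⊓ N) = ⊥ := by
      rw [eq_bot_iff, ← hCK]
      refine le_inf inf_le_left (le_cent_of_comm_le (C := sigmaCore H) (D := sigmaCore N)
        ((commutator_mono inf_le_left le_rfl).trans (comm_le_left (hKH.trans (Ms_normal H))))
        ((commutator_mono le_rfl h.K_le_Ns).trans (comm_le_right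
          ((inf_le_right.trans inf_le_right).trans (Ms_normal N)))) ?_)
      exact disjoint_of_isPiSubgroup (sigma_partition hG hH h.maxN (NotConj.symm hHN))
        (Ms_pi H) (Ms_pi N)
    have := IsComplIn.sup_eq (IsComplIn.restrict (complIn_Ms hG hH hD) (le_inf hD.1 hDN)
      inf_le_left)
    rw [← this, h3, bot_sup_eq]
  refine ⟨hκ, hHM, hHN, hUσ, hMH, fun hle' => ?_, hHND ▸ hKF, hHND ▸ hD⟩
  have hnil := notP1_Ms_nil hG hH fun h1 => (h1.nonempty hG hH).ne_empty hκ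
  have h3 : U = sigmaCore H := by
    refine eq_of_norm_le_of_nil hnil hUσ ?_
    have h4 : sigmaCore H ⊓ 𝐍(U) ≤ (U ⊔ K) ⊓ sigmaCore H := le_inf
      (hMH ▸ le_inf ((inf_le_inf_right _ (Ms_le H)).trans hle') (inf_le_left.trans (Ms_le H)))
      inf_le_left
    rwa [dedekind' hU.norm hUσ, disjoint_of_isPiSubgroup disjoint_compl_left hKσ (Ms_pi H),
      sup_bot_eq] at h4
  rw [h3, inf_eq_left.2 (Ms_normal H)] at hle'
  exact NotConj.ne hHM ((hH.le_iff_eq hM.1).1 hle').symm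

/-- BG 14.13(a). -/
theorem non_disjoint_signalizer (hG : PGHyp G) {M N : Subgroup G} (hM : Mx M)
    {x : G} (hx : x ∈ sigmaCore M) (hx1 : x ≠ 1) (hN : Signalizer M N x) {q : ℕ}
    (hqM : q ∣ Nat.card M) (hqN : q ∈ sigma N) : kappa M = ∅ ∧ tau2 M = ∅ := by
  have hq := hqN.1
  have := Fact.mk hq
  have hqβ := hN.beta_of q hqM hqN
  have hqσ : q ∉ sigma M := sigma'_of_notConj hG hM hN.coatom hN.notConj hqN
  have hκ : kappa M = ∅ := by
    by_contra hne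
    have hne := Set.nonempty_iff_ne_empty.2 hne
    obtain ⟨K, hK⟩ := ex_hallK hG hM
    have hM2 : ¬ P2 M := fun h2 => by
      obtain ⟨p, hp, hd⟩ := exists_prime_dvd_orderOf hx1
      have hp2 := hN.tau2_elt p hp hd
      exact hN.tau2_beta p hp2 ((P2_facts hG hM hK h2).1 (hN.tau2_sub hp2))
    have hM1 : P1 M := by by_contra h; exact hM2 ⟨hne, h⟩
    obtain ⟨N', h⟩ := exists_PPair hG hM hK ((hallK_ne_bot_iff hK).2 hne)
    have hqK := hallOf_dvd hK hq ((hM1 q hq hqM).resolve_left hqσ) hqM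
    obtain ⟨g, rfl⟩ := conj_of_sigma hG h.maxN hN.coatom
      (Ms_pi N' q hq (hqK.trans (card_dvd_of_le h.K_le_Ns))) hqN
    have h' := h.symm.conj g
    obtain ⟨n, hn, hle⟩ := Hall.exists_conj_le_hallOf (mmax_sol hG hN.coatom)
      (isPiSubgroup_mono h'.hallK.2.1 kappa_sub_sigma') h'.hallK.1 hN.hall
    have h'' := h'.conj n
    simp only [← map_conj_mul] at h'' hle
    have e : (n * g) •ᶜ N' = g •ᶜ N' := by rw [map_conj_mul, conj_eq_of_mem hn]
    have hgM : (n * g)⁻¹ ∈ M := by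
      by_contra hg
      have := Kstar_TI hG hM hK h.K_ne hg
      rw [inf_eq_left.2 (conj_le_iff.1 (hle.trans inf_le_left))] at this
      exact h.L_ne this
    rw [e, conj_eq_of_mem (inv_mem_iff.1 hgM)] at h''
    obtain ⟨U, hU, hsup⟩ := ex_kappa_compl_le hG hN.coatom h''.hallK hN.hall hle
    exact hN.notP1 hx1 (hU.U_eq_bot_iff.1 (h''.U_inf_N hG
      (by rw [inf_comm, ← hsup]; exact le_sup_left) hU.U_pi))
  refine ⟨hκ, Set.eq_empty_of_forall_notMem fun p hp => ?_⟩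
  have := Fact.mk hp.1
  obtain ⟨Q, hQM, hQ⟩ := exists_card_prime hq hqM
  obtain ⟨E, hE, hQE⟩ := ex_sigma_compl hG hM hQM (isPiSubgroup_of_card_eq hq hQ hqσ)
  have hq13 := tau13_of_not_tau2 hG hM hq hqM hqσ fun h => (tau2_not_beta hG hM h).1 hqβ.2
  have hreg := reg_of_not_kappa hG hM hQM hQ hq13 (hκ ▸ Set.notMem_empty _)
  obtain ⟨A, hA⟩ := ex_tau2Elem hG hM hE hp
  obtain ⟨g, hg⟩ := sigma_Jsub hG hN.coatom (isPiSubgroup_of_card_eq hq hQ hqN)
  obtain ⟨P, hP⟩ := IsSylowIn.exists_in (p := q) N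
  have hCQ := (cent_der_sigma_uniq hG hN.coatom (hg.trans (Ms_le N))
    ((card_map_conj g Q).trans hQ) hP (Or.inl hqβ)).1.1
  rw [centralizer_map_conj] at hCQ
  have hr : PRankLE p 1 N := by
    by_contra hr
    rcases sigma_or_tau2 hG hN.coatom hp.1 hr with h | h
    · exact (tau2_not_beta hG hM hp).1 (hN.beta_of p (tau2_dvd hp) h).2
    · exact hp.2.1 (hN.tau2_sub h)
  have hQA : ¬ Q ≤ 𝐂(A) := fun h => by
    refine P2Elem.not_rank1 hp.1 (A := g •ᶜ A) ⟨(map_mono (le_centralizer_comm h)).trans hCQ,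
      elemAb_map hA.2.1 _, (card_map_conj g A).trans hA.2.2⟩ hr
  have hq1 : q ∈ tau1 M := hq13.resolve_right fun h => hQA
    ((tau1_cent_tau2Elem_factor hG hM hE hp hA).1 Q hQE
      (isPiSubgroup_of_card_eq hq hQ fun h' => tau3'1 h' h))
  obtain ⟨⟨-, h1, h2, -⟩, h3, h4, -⟩ := tau1_act_tau2 hG hM hE hp hA hq1 hQE hQ hreg
    fun h => hQA (Cop.commutator_eq_bot_iff_le_centralizer'.1 h)
  obtain ⟨n, -, e⟩ := conj_of_rank1 hG hN.coatom.1 hp.1 hr (X := g •ᶜ (A ⊓ 𝐂(Q))) (Y := ⁅A, Q⁆)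
    ((map_mono inf_le_right).trans hCQ)
    (h2 ▸ inf_le_right.trans ((cent_le_cent1 hx).trans hN.cent_le))
    ((card_map_conj g _).trans h4) h1
  exact h3 (n * g) (by rw [map_conj_mul, e])

end CfsgLib.FT.PG.U4.B14
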