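import Mathlib
import Cfsg.Agent.Lib.PG.BG14d
import Cfsg.Agent.Lib.FT.BG15a

/-! Bender–Glauberman, section 15, first part: 15.1, 15.2, 15.5 and 15.6. -/

set_option autoImplicit false
set_option linter.unusedSectionVars false

namespace CfsgLib.FT.PG.U4.B14
export CfsgLib.FT.U4.B14 (der_le_cent_of_cyclic nil_of_hall_cent fit_le_sup_cent comm_eq_bot_of_comm_le)
end CfsgLib.FT.PG.U4.B14


namespace CfsgLib.FT.PG.U4.B14

open Subgroup Cfsg BGN
open scoped commutatorElement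

variable {G : Type*} [Group G] [PiCtx G] [Finite G]

section
variable (hG : PGHyp G) {M : Subgroup G} (hM : Mx M)
include hG hM

theorem der2_le_Ms : ⁅⁅M, M⁆, ⁅M, M⁆⁆ ≤ sigmaCore M := by
  obtain ⟨E, hE⟩ := exists_sigma_compl hG hM
  have hn : ⁅E, E⁆ ≤ 𝐍(sigmaCore M) := (commutator_le_self E).trans (hE.1.trans (Ms_normal M))
  rw [der1_eq_sigma_sup hG hM hE]
  refine (commutator_sup_sup_le hn).trans (sup_le (sup_le (commutator_le_self _)
    (comm_le_left hn)) ?_)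
  rw [commutator_eq_bot_iff_le_centralizer.2 (le_centralizer_of_isMulCommutative
    (der_mmax_compl_abelian hG hM hE))]
  exact bot_le

/-- BG 15.1(c). -/
theorem sigma'_kappa'_nonreg {X : Subgroup G} (hXM : X ≤ M)
    (hX : IsPiSubgroup (sigma M ∪ kappa M)ᶜ X) (hC : sigmaCore M ⊓ 𝐂(X) ≠ ⊥) :
    IsPiSubgroup (tau2 M) X ∧ IsCyclic X ∧ (X ≠ ⊥ → UniqMax 𝐂(X) M) := by
  have h2 : IsPiSubgroup (tau2 M) X := fun p hp hd => by
    by_contra h
    obtain ⟨Y, hY, hYp⟩ := exists_card_prime hp hd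
    refine hC (eq_bot_iff.2 ?_)
    rw [← reg_of_not_kappa hG hM (hY.trans hXM) hYp (tau13_of_not_tau2 hG hM hp
      (hd.trans (card_dvd_of_le hXM)) (fun h => hX p hp hd (Or.inl h)) h)
      fun h => hX p hp hd (Or.inr h)]
    exact inf_le_inf_left _ (centralizer_antitone hY)
  have hc : IsCyclic X := by
    refine isCyclic_of_nil_of_sylow (isNilpotent_of_comm (tau2_compl_abelian hG hM hXM h2))
      fun p _ P hP hPp => cyclic_of_rank1 hG (hM.loc hXM) ?_ hPp hP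
    by_contra hr
    obtain ⟨A, hAX, hA, hA2⟩ := not_pRankLE_iff.1 hr
    refine hC (eq_bot_iff.2 ?_)
    rw [← (tau2_context hG hM (h2 p Fact.out (dvd_card_of_not_pRankLE hr)) (A := A)
      ⟨hAX.trans hXM, hA, hA2⟩).2.2.2.1]
    exact inf_le_inf_left _ (centralizer_antitone hAX)
  refine ⟨h2, hc, fun hX1 => ?_⟩
  obtain ⟨x, rfl⟩ := exists_zpowers_eq hc
  rw [cent_zpowers] at hC ⊢
  exact cent1_nreg_sigma_uniq hG hM (zpowers_le.1 hXM) (zpowers_ne_bot.1 hX1)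
    (isPiSubgroup_zpowers_iff.1 h2) hC

/-- BG 15.1(d, e). -/
theorem KappaCompl.typeF {U K : Subgroup G} (h : KappaCompl M U K) :
    (∃ A ≤ U, U ≤ 𝐍(A) ∧ IsMulCommutative A ∧ ∀ x ∈ sigmaCore M, x ≠ 1 → U ⊓ 𝐂[x] ≤ A) ∧
      ∃ V ≤ U, Monoid.exponent V = Monoid.exponent U ∧ SemiReg (sigmaCore M) V := by
  refine FTtypeF_complement hG hM h.U_le (hallOf_coprime h.hallU) h.U_sigma' (h.MsU_normal hG hM)
    fun e he he1 hτ => ?_
  obtain ⟨X, hX, hp⟩ := exists_prime_sub_zpowers he1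
  have hXU := hX.trans (zpowers_le.2 he)
  rw [eq_bot_iff, ← reg_of_not_kappa hG hM (hXU.trans h.U_le) rfl
    (hτ _ hp (Nat.card_zpowers e ▸ card_dvd_of_le hX)) (h.U_kappa' _ hp (card_dvd_of_le hXU))]
  exact inf_le_inf_left _ (cent1_le_cent hX)

/-- BG 15.3(a), in the form used here. -/
theorem cent_sylow_sigma {q : ℕ} [Fact q.Prime] {S X : Subgroup G}
    (hS : IsSylowIn q S (sigmaCore M)) (hS1 : S ≠ ⊥) (hXM : X ≤ M) (hXS : X ≤ 𝐂(S))
    (hX : IsPiSubgroup (sigma M)ᶜ X) : IsPiSubgroup (sigma M ∪ kappa M)ᶜ X := by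
  rintro p hp hd (h | h)
  · exact hX p hp hd h
  obtain ⟨Y, hY, hYp⟩ := exists_card_prime hp hd
  obtain ⟨K, hK, hYK⟩ := Hall.exists_hallOf_ge (mmax_sol hG hM)
    (isPiSubgroup_of_card_eq hp hYp h) (hY.trans hXM)
  have hY1 := ne_bot_of_card_prime (hYp ▸ hp)
  have hK1 : K ≠ ⊥ := fun e => hY1 (eq_bot_iff.2 (e ▸ hYK))
  have h1 : S ≤ sigmaCore M ⊓ 𝐂(K) := by
    rw [← SemiPrime.cent_eq (kappa_semiprime hG hM hK hK1) hYK hY1]
    exact le_inf hS.le (le_centralizer_comm (hY.trans hXS))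
  obtain ⟨r, hr, hrd⟩ := exists_prime_dvd_card hS1
  obtain rfl : r = q := isPGroup_iff_isPiSubgroup.1 hS.isPGroup r hr hrd
  exact (Kstar_sylow hG hM hK hK1 (hrd.trans (card_dvd_of_le h1)) hS).2 (h1.trans inf_le_right)

/-- BG 15.2. -/
theorem Fcore_structure {K : Subgroup G} (hK : IsPiHallOf (kappa M) K M)
    (hnil : ¬ Group.IsNilpotent (sigmaCore M)) :
    P1 M ∧ K ≠ ⊥ ∧ (Nat.card K).Prime ∧ ∃ q : ℕ, q.Prime ∧
      Nat.card ↥(sigmaCore M ⊓ 𝐂(K)) = q ∧ q ∈ beta M ∧ IsSylowIn q (piCoreOf {q} M) M ∧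
      sigmaCore M ⊓ 𝐂(K) ≤ piCoreOf {q} M ∧
      (∀ A ≤ sigmaCore M, IsPiSubgroup {q}ᶜ A → Group.IsNilpotent A) ∧
      ⁅⁅M, M⁆, ⁅M, M⁆⁆ ≤ fittingOf M ∧ M ⊓ 𝐂(piCoreOf {q} M) ≤ fittingOf M ∧
      fittingOf M ≤ sigmaCore M ∧
      ∀ A ≤ sigmaCore M, IsPiSubgroup {q}ᶜ A → A ≤ 𝐂(sigmaCore M ⊓ 𝐂(K)) →
        A ≤ 𝐂(piCoreOf {q} M) := by
  have h1 : P1 M := by by_contra h; exact hnil (notP1_Ms_nil hG hM h)
  have hK1 := (hallK_ne_bot_iff hK).2 (h1.nonempty hG hM)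
  obtain ⟨U, hU⟩ := ex_kappa_compl hG hM hK
  have hE := hU.hallE
  have hder := hU.der_eq hG hM hK1
  rw [hU.U_eq_bot_iff.2 h1, bot_sup_eq] at hE
  rw [hU.U_eq_bot_iff.2 h1, sup_bot_eq] at hder
  obtain ⟨N, hP⟩ := exists_PPair hG hM hK hK1
  have hq := (P2_facts hG hP.maxN hP.hallL (hP.p2.resolve_left fun h => h.2 h1)).2.1
  have hpr := kappa_semiprime hG hM hK hK1
  have hKS : K ≤ 𝐍(sigmaCore M) := hK.1.trans (Ms_normal M)
  have hcKS : (Nat.card K).Coprime (Nat.card (sigmaCore M)) :=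
    coprime_card_of_isPiSubgroup disjoint_compl_left hP.K_sigma' (Ms_pi M)
  have hsS : Group.IsSolvable (sigmaCore M) := isSolvable_of_le (mmax_sol hG hM) (Ms_le M)
  have hLc := hP.L_cyclic hG
  set L := sigmaCore M ⊓ 𝐂(K) with hL
  obtain ⟨q, hqe⟩ : ∃ q, Nat.card L = q := ⟨_, rfl⟩
  rw [hqe] at hq
  have := Fact.mk hq
  have hqσ : q ∈ sigma M := Ms_pi M q hq (hqe ▸ card_dvd_of_le inf_le_left)
  have hLQ : L ≤ piCoreOf {q} M := by
    have h2 : fittingOf (sigmaCore M) ⊓ 𝐂(K) ≠ ⊥ := fun h => hnil (by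
      have := odd_sdprod_primact_commg_sub_Fitting hsS (hM.odd hG (Ms_le M)) (hM.odd hG hK.1)
        hKS hcKS hpr h
      rw [(sigma_compl_embedding hG hM hE).2.1] at this
      exact isNilpotent_of_le (fit_nil _) this)
    have h3 := eq_of_le_of_card_prime (hqe ▸ hq) (inf_le_inf_right _ (fit_le _)) h2
    refine le_pcore_of_le_fit (h3.ge.trans (inf_le_left.trans (le_fit
      ((fit_le _).trans (Ms_le M)) ((Ms_normal M).trans (norm_le_norm_fit _)) (fit_nil _))))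
      (isPiSubgroup_of_card_eq hq hqe rfl)
  set Q := piCoreOf {q} M with hQ
  have hQp : IsPGroup q Q := pcore_pgroup q M
  have hQn : Group.IsNilpotent Q := hQp.isNilpotent
  have hMQ : M ≤ 𝐍(Q) := pcore_normal _ M
  have hQS : Q ≤ sigmaCore M := le_Ms hG hM (pcore_le _ M) (isPiSubgroup_of_isPGroup hQp hqσ)
  have hKQ : K ≤ 𝐍(Q) := hK.1.trans hMQ
  have hcKQ := hcKS.coprime_dvd_right (card_dvd_of_le hQS)
  obtain ⟨D, hD, hKD⟩ := Cop.exists_invariant_hallOf {q}ᶜ hKS hcKS hsS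
  have hDM : D ≤ M := hD.1.trans (Ms_le M)
  have hDQ : D ≤ 𝐍(Q) := hDM.trans hMQ
  have hcDQ : (Nat.card D).Coprime (Nat.card Q) :=
    coprime_card_of_isPiSubgroup disjoint_compl_left hD.2.1 (pcore_pi _ M)
  have hDQi : D ⊓ Q = ⊥ := disjoint_of_isPiSubgroup disjoint_compl_left hD.2.1 (pcore_pi _ M)
  have hreg : SemiReg D K := fun x hx hx1 => eq_bot_iff.2 (hDQi ▸ le_inf inf_le_left
    ((inf_le_inf_right _ hD.1).trans ((hpr x hx hx1).le.trans hLQ)))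
  have hDn := Frobenius_sol_kernel_nil hKD hK1 hreg
  have hQsyl : IsSylowIn q Q (sigmaCore M) := by
    obtain ⟨P, hQP, hP'⟩ := IsSylowIn.exists_ge hQp hQS
    have hb := nil_bar ((Ms_le M).trans hMQ) hKQ hKS hK1 hcKQ inferInstance
      fun x hx hx1 => (hpr x hx hx1).le.trans hLQ
    have h2 := comm_le_of_nil_bar ((Ms_le M).trans hMQ) hb hP'.le hD.1
      (coprime_card_of_isPiSubgroup disjoint_compl_right
        (isPGroup_iff_isPiSubgroup.1 hP'.isPGroup) hD.2.1)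
    have h3 : sigmaCore M ≤ 𝐍(P) := by
      rw [← IsComplIn.sup_eq (isComplIn_of_hall (hallOf_of_sylow hP') hD)]
      exact sup_le le_normalizer (Cop.le_normalizer_of_commutator_le (h2.trans hQP) le_rfl)
    have h4 : P ≤ Q := le_pcore (hP'.le.trans (Ms_le M)) ((Ms_normal M).trans
      (norm_le_norm_of_normal_hall (hallOf_of_sylow hP') h3))
      (isPGroup_iff_isPiSubgroup.1 hP'.isPGroup)
    rwa [le_antisymm h4 hQP] at hP'
  have hcQD := isComplIn_of_hall (hallOf_of_sylow hQsyl) hD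
  have hDC : ¬ D ≤ 𝐂(Q) := fun h => hnil
    (nil_of_hall_cent (hallOf_of_sylow hQsyl) hD hQn hDn (le_centralizer_comm h))
  have step : ∀ T T' : Subgroup G, T' ≤ Q → T' ≤ 𝐍(T) → T ≤ Q → D ≤ 𝐍(T) → K ≤ 𝐍(T) →
      D ≤ 𝐍(T') → K ≤ 𝐍(T') → T' ⊓ L ≤ T → ⁅T', D⁆ ≤ T := by
    intro T T' a1 a2 a3 a4 a5 a6 a7 a8
    have := isNilpotent_of_le hQn a3
    have hb := nil_bar (sup_le a2 a4) a5 (le_normalizer_sup a7 hKD) hK1
      (hcKQ.coprime_dvd_right (card_dvd_of_le a3)) inferInstance fun x hx hx1 => by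
        have b1 : (T' ⊔ D) ⊓ 𝐂[x] ≤ L :=
          (inf_le_inf_right _ (sup_le (a1.trans hQS) hD.1)).trans (hpr x hx hx1).le
        refine le_trans (le_inf ?_ b1) a8
        have b2 := dedekind' a6 a1
        rw [hDQi, sup_bot_eq] at b2
        exact (le_inf inf_le_left (b1.trans hLQ)).trans b2.le
    exact comm_le_of_nil_bar (sup_le a2 a4) hb le_sup_left le_sup_right
      (hcDQ.symm.coprime_dvd_left (card_dvd_of_le a1))
  have claimA : ∀ T : Subgroup G, T ≤ Q → D ≤ 𝐍(T) → K ≤ 𝐍(T) → L ≤ T → ⁅Q, D⁆ ≤ T := by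
    intro T
    induction T using WellFoundedGT.induction with
    | ind T ih =>
      intro a1 a2 a3 a4
      rcases a1.eq_or_lt with rfl | hlt
      · exact comm_le_left hDQ
      have b1 := lt_inf_normalizer_of_isNilpotent hQn hlt
      have b2 : D ≤ 𝐍(Q ⊓ 𝐍(T)) := le_normalizer_inf hDQ (Cop.le_normalizer_normalizer a2)
      have b3 : K ≤ 𝐍(Q ⊓ 𝐍(T)) := le_normalizer_inf hKQ (Cop.le_normalizer_normalizer a3)
      rw [← Cop.commutator_commutator_eq hDQ hcDQ]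
      exact (commutator_mono (ih _ b1 inf_le_left b2 b3 (a4.trans b1.le)) le_rfl).trans
        (step T _ inf_le_left inf_le_right a1 a2 a3 b2 b3 (inf_le_right.trans a4))
  have hD0 : D ≤ 𝐍(Q ⊓ 𝐂(D)) := Cop.le_normalizer_inf_centralizer hDQ le_normalizer
  have hK0 : K ≤ 𝐍(Q ⊓ 𝐂(D)) := Cop.le_normalizer_inf_centralizer hKQ hKD
  have hL0 : ¬ L ≤ Q ⊓ 𝐂(D) := fun h => hDC
    (comm_eq_bot_of_comm_le hDQ hcDQ (claimA _ inf_le_left hD0 hK0 h) inf_le_right)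
  have claimB : ∀ T : Subgroup G, Q ⊓ 𝐂(D) ≤ T → T ≤ Q → T ≤ 𝐍(Q ⊓ 𝐂(D)) → D ≤ 𝐍(T) →
      K ≤ 𝐍(T) → ¬ T ≤ Q ⊓ 𝐂(D) → Q ≤ T := by
    intro T a1 a2 a3 a4 a5 a6
    have b1 : L ≤ T := by
      refine (inf_eq_bot_or_le_of_card_prime (hqe ▸ hq) T).resolve_left fun h => a6 ?_
      refine le_inf a2 (le_centralizer_comm (comm_eq_bot_of_comm_le a4
        (hcDQ.coprime_dvd_right (card_dvd_of_le a2))
        (step _ T a2 a3 inf_le_left hD0 hK0 a4 a5 ?_) inf_le_right))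
      rw [inf_comm, h]; exact bot_le
    rw [← Cop.commutator_sup_centralizer hDQ hcDQ (Or.inr inferInstance)]
    exact sup_le (claimA T a2 a4 a5 b1) a1
  have hlt0 : Q ⊓ 𝐂(D) < Q :=
    lt_of_le_of_ne inf_le_left fun e => hDC (le_centralizer_comm (e.ge.trans inf_le_right))
  have hQ0 : Q ≤ 𝐍(Q ⊓ 𝐂(D)) := by
    have b1 := lt_inf_normalizer_of_isNilpotent hQn hlt0
    exact (claimB _ b1.le inf_le_left inf_le_right
      (le_normalizer_inf hDQ (Cop.le_normalizer_normalizer hD0))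
      (le_normalizer_inf hKQ (Cop.le_normalizer_normalizer hK0)) b1.not_ge).trans inf_le_right
  have hQab : ⁅Q, Q⁆ ≤ Q ⊓ 𝐂(D) := by
    by_contra hc
    have b1 : ⁅Q, Q⁆ ⊔ (Q ⊓ 𝐂(D)) ≤ Q := sup_le (commutator_le_self Q) inf_le_left
    exact hlt0.ne (eq_of_le_commutator_sup inferInstance inf_le_left hQ0
      (claimB _ le_sup_right b1 (b1.trans hQ0)
        (le_normalizer_sup (hDQ.trans (norm_le_norm_der Q)) hD0)
        (le_normalizer_sup (hKQ.trans (norm_le_norm_der Q)) hK0) fun h => hc (le_sup_left.trans h)))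
  have hQK : Q ⊓ 𝐂(K) = L := le_antisymm (inf_le_inf_right _ hQS) (le_inf hLQ inf_le_right)
  obtain ⟨hKp, -, h3⟩ := primact_section hDC hK1 hKD hreg hQn hDQ hKQ hQ0 hcDQ hcKQ
    fun x hx hx1 => le_antisymm (le_inf inf_le_left ((inf_le_inf_right _ hQS).trans
      ((hpr x hx hx1).le.trans inf_le_right))) (inf_le_inf_left _ (cent_le_cent1 hx))
  have hD' : ⁅D, D⁆ ≤ 𝐂(Q) := by
    have b1 := h3 (hQK ▸ hLc)
    rw [commutator_comm] at b1
    exact comm_eq_bot_of_comm_le ((commutator_le_self D).trans hDQ)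
      (hcDQ.coprime_dvd_left (card_dvd_of_le (commutator_le_self D))) b1
      (inf_le_right.trans (centralizer_antitone (commutator_le_self D)))
  have hnilq : ∀ A ≤ sigmaCore M, IsPiSubgroup {q}ᶜ A → Group.IsNilpotent A := fun A hA hAq => by
    obtain ⟨g, -, hg⟩ := Hall.exists_conj_le_hallOf hsS hAq hA hD
    exact isNilpotent_of_le (isNilpotent_map hDn _) (conj_le_iff.1 hg)
  have hQ1 : Q ≠ ⊥ := hlt0.ne_bot
  have hCS : M ⊓ 𝐂(Q) ≤ sigmaCore M := by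
    refine le_Ms hG hM inf_le_left fun p hp hd => ?_
    by_contra hp'
    obtain ⟨X, hX, hXp⟩ := exists_card_prime hp hd
    exact cent_sylow_sigma hG hM hQsyl hQ1 (hX.trans inf_le_left) (hX.trans inf_le_right)
      (isPiSubgroup_of_card_eq hp hXp hp') p hp hXp.symm.dvd (h1 p hp (hd.trans
        (card_dvd_of_le inf_le_left)))
  have hCF : M ⊓ 𝐂(Q) ≤ fittingOf M := by
    refine le_fit inf_le_left (Cop.le_normalizer_inf_centralizer le_normalizer hMQ) ?_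
    obtain ⟨D₁, hD₁⟩ := Hall.exists_isPiHallOf (isSolvable_of_le hsS hCS) {q}ᶜ
    exact nil_of_hall_cent (hallOf_inf_of_normal_hall (hallOf_of_sylow hQsyl)
      ((Ms_le M).trans hMQ) hCS) hD₁ (isNilpotent_of_le hQn inf_le_left)
      (hnilq D₁ (hD₁.1.trans hCS) hD₁.2.1)
      (inf_le_left.trans (le_centralizer_comm (hD₁.1.trans inf_le_right)))
  have hQM := sylow_of_sylow_hall hq hQsyl (Msigma_Hall hG hM) hqσ
  refine ⟨h1, hK1, hKp, q, hq, hqe, ?_, hQM, hLQ, hnilq, ?_, hCF, ?_, fun A hA hAq hAL => ?_⟩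
  · by_contra hβ
    have b1 := (beta_max_pdiv hG hM hβ).2.1
    refine hDC ((le_of_normal_hallOf b1 (pcore_normal _ _) hD.2.1 hD.1).trans
      (le_cent_of_inf_eq_bot ((pcore_le _ _).trans ((Ms_le M).trans hMQ))
        (hQS.trans (pcore_normal _ _)) ?_))
    exact disjoint_of_isPiSubgroup disjoint_compl_left (pcore_pi _ _) (pcore_pi _ _)
  · rw [hder, ← IsComplIn.sup_eq hcQD]
    refine (commutator_sup_sup_le hDQ).trans (sup_le (sup_le ((commutator_le_self Q).trans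
      (pcore_le_fit q M)) ((comm_le_left hDQ).trans (pcore_le_fit q M))) ?_)
    exact (le_inf ((commutator_le_self D).trans hDM) hD').trans hCF
  · exact (fit_le_sup_cent (hallOf_of_sylow hQM) hMQ hQn).trans (sup_le hQS hCS)
  · obtain ⟨g, hg, hgA⟩ := Hall.exists_conj_le_hallOf hsS hAq hA hD
    obtain ⟨d, hd, u, hu, rfl⟩ := (IsComplIn.symm hcQD).2.2.2 g hg
    rw [map_conj_mul, conj_le_iff, conj_eq_of_mem (inv_mem hd)] at hgA
    have b1 : Q ≤ 𝐍(L ⊔ (Q ⊓ 𝐂(D))) :=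
      normal_of_der_le (hQab.trans le_sup_right) (sup_le hLQ inf_le_left)
    have b2 : u •ᶜ A ≤ D ⊓ 𝐂(L) := by
      refine le_inf hgA (le_trans ?_ (centralizer_antitone (le_sup_left (b := Q ⊓ 𝐂(D)))))
      rw [← map_conj_eq_of_mem_normalizer (b1 hu), conj_sup,
        map_conj_eq_of_mem_normalizer (hQ0 hu)]
      refine le_cent_sup ?_ (hgA.trans (le_centralizer_comm inf_le_right))
      rw [centralizer_map_conj]; exact map_mono hAL
    have b3 : D ≤ 𝐍(D ⊓ 𝐂(L)) := normal_of_der_le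
      (le_inf (commutator_le_self D) (hD'.trans (centralizer_antitone hLQ))) inf_le_left
    have b4 : K ≤ 𝐍(D ⊓ 𝐂(L)) := Cop.le_normalizer_inf_centralizer hKD
      (hP.K_le_cent.trans (cent_le_norm _))
    have b5 := claimB (Q ⊓ 𝐂(D ⊓ 𝐂(L))) (inf_le_inf_left _ (centralizer_antitone inf_le_left))
      inf_le_left (inf_le_left.trans hQ0) (Cop.le_normalizer_inf_centralizer hDQ b3)
      (Cop.le_normalizer_inf_centralizer hKQ b4)
      fun h => hL0 ((le_inf hLQ (le_centralizer_comm inf_le_right)).trans h)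
    have b6 : u •ᶜ A ≤ 𝐂(Q) := b2.trans (le_centralizer_comm (b5.trans inf_le_right))
    rwa [← conj_eq_of_mem hu, centralizer_map_conj, conj_le_conj_iff] at b6

theorem fcore_sylow : ∃ (q : ℕ) (_ : Fact q.Prime) (S : Subgroup G),
    IsSylowIn q S (sigmaCore M) ∧ S ≠ ⊥ ∧ S ≤ fittingHallOf M := by
  by_cases hnil : Group.IsNilpotent (sigmaCore M)
  · obtain ⟨q, hq, hd⟩ := exists_prime_dvd_card (Msigma_neq1 hG hM)
    have := Fact.mk hq
    obtain ⟨S, hS⟩ := IsSylowIn.exists_in (p := q) (sigmaCore M)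
    exact ⟨q, this, S, hS, hS.ne_bot hd, (fcore_eq_Ms hG hM hnil).symm ▸ hS.le⟩
  · obtain ⟨K, hK⟩ := ex_hallK hG hM
    obtain ⟨-, hK1, -, q, hq, -, hβ, hQ, hL, -⟩ := Fcore_structure hG hM hK hnil
    have := Fact.mk hq
    have h1 := sylow_le_fcore hQ (pcore_normal _ M)
    exact ⟨q, this, _, hQ.mono (h1.trans (fcore_le_Ms hG hM)) (Ms_le M),
      fun e => Kstar_ne_bot hG hM hK hK1 (eq_bot_iff.2 (e ▸ hL)), h1⟩

theorem fcore_ne_bot : fittingHallOf M ≠ ⊥ := by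
  obtain ⟨q, _, S, -, h1, h2⟩ := fcore_sylow hG hM
  exact fun e => h1 (eq_bot_iff.2 (e ▸ h2))

/-- BG 15.3(a) for `M_F`. -/
theorem cent_fcore_sigma' {X : Subgroup G} (hXM : X ≤ M) (hXS : X ≤ 𝐂(fittingHallOf M))
    (hX : IsPiSubgroup (sigma M)ᶜ X) : IsPiSubgroup (tau2 M) X ∧ IsCyclic X := by
  obtain ⟨q, _, S, hS, h1, h2⟩ := fcore_sylow hG hM
  have := sigma'_kappa'_nonreg hG hM hXM (cent_sylow_sigma hG hM hS h1 hXM
    (hXS.trans (centralizer_antitone h2)) hX) fun e => fcore_ne_bot hG hM (eq_bot_iff.2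
      (e ▸ le_inf (fcore_le_Ms hG hM) (le_centralizer_comm hXS)))
  exact ⟨this.1, this.2.1⟩

/-- BG 15.5(a). -/
theorem fit_sigma' {X : Subgroup G} (hXM : X ≤ fittingOf M) (hX : IsPiSubgroup (sigma M)ᶜ X) :
    IsPiSubgroup (tau2 M) X ∧ IsCyclic X :=
  cent_fcore_sigma' hG hM (hXM.trans (fit_le M)) (le_cent_of_nil (fit_nil M) hXM (fcore_le_fit M)
    (coprime_card_of_isPiSubgroup disjoint_compl_left hX
      (isPiSubgroup_of_le (Ms_pi M) (fcore_le_Ms hG hM)))) hX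

/-- BG 15.5(b), first part. -/
theorem der2_le_fit : ⁅⁅M, M⁆, ⁅M, M⁆⁆ ≤ fittingOf M := by
  by_cases hnil : Group.IsNilpotent (sigmaCore M)
  · exact (der2_le_Ms hG hM).trans (le_fit (Ms_le M) (Ms_normal M) hnil)
  · obtain ⟨K, hK⟩ := ex_hallK hG hM
    obtain ⟨-, -, -, q, -, -, -, -, -, -, h, -⟩ := Fcore_structure hG hM hK hnil
    exact h

/-- BG 15.5(b), second part. -/
theorem fcore_sup_cent : fittingHallOf M ⊔ (M ⊓ 𝐂(fittingHallOf M)) = fittingOf M := by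
  refine le_antisymm (sup_le (fcore_le_fit M) ?_)
    (fit_le_sup_cent (fcore_hall M) (fcore_normal M) (fcore_nil M))
  by_cases hnil : Group.IsNilpotent (sigmaCore M)
  · refine le_fit inf_le_left (Cop.le_normalizer_inf_centralizer le_normalizer (fcore_normal M)) ?_
    obtain ⟨X, hX⟩ := Hall.exists_isPiHallOf (isSolvable_of_le (mmax_sol hG hM)
      (inf_le_left (b := 𝐂(fittingHallOf M)))) (sigma M)ᶜ
    have := (cent_fcore_sigma' hG hM (hX.1.trans inf_le_left) (hX.1.trans inf_le_right) hX.2.1).2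
    refine nil_of_hall_cent (hallOf_inf_of_normal_hall (Msigma_Hall hG hM) (Ms_normal M)
      inf_le_left) hX (isNilpotent_of_le hnil inf_le_left) (isNilpotent_of_comm inferInstance) ?_
    rw [← fcore_eq_Ms hG hM hnil]
    exact inf_le_left.trans (le_centralizer_comm (hX.1.trans inf_le_right))
  · obtain ⟨K, hK⟩ := ex_hallK hG hM
    obtain ⟨-, -, -, q, hq, -, -, hQ, -, -, -, h, -⟩ := Fcore_structure hG hM hK hnil
    have := Fact.mk hq
    exact (inf_le_inf_left _ (centralizer_antitone (sylow_le_fcore hQ (pcore_normal _ M)))).trans h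

/-- BG 15.5(d). -/
theorem fit_le_der (hκ : (kappa M).Nonempty) : fittingOf M ≤ ⁅M, M⁆ := by
  rw [← pcore_sup_of_nil (fit_nil M) (sigma M)]
  refine sup_le ((le_Ms hG hM ((pcore_le _ _).trans (fit_le M)) (pcore_pi _ _)).trans
    (Msigma_der1 hG hM)) (le_of_normal_hallOf (hall_der hG hM hκ) (der_normal M) ?_
      ((pcore_le _ _).trans (fit_le M)))
  exact isPiSubgroup_mono (fit_sigma' hG hM (pcore_le _ _) (pcore_pi _ _)).1
    fun p h h' => kappa_not_tau2 h' h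

section
variable {K : Subgroup G} (hK : IsPiHallOf (kappa M) K M) (hK1 : K ≠ ⊥)
include hK hK1

theorem der_cent1_K {x : G} (hx : x ∈ K) (hx1 : x ≠ 1) : ⁅M, M⁆ ⊓ 𝐂[x] = sigmaCore M ⊓ 𝐂(K) := by
  obtain ⟨N, h⟩ := exists_PPair hG hM hK hK1
  have h1 := complIn_der hG hM hK hK1
  have h2 : sigmaCore M ⊓ 𝐂(K) ≤ ⁅M, M⁆ := inf_le_left.trans (Msigma_der1 hG hM)
  rw [← inf_eq_left.2 (commutator_le_self M), inf_assoc, h.cent1_K hG hx hx1, inf_comm, sup_comm,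
    dedekind' (h.K_le_cent.trans (cent_le_norm _)) h2, inf_comm K, h1.2.2.1, sup_bot_eq]

theorem der_cent_K : ⁅M, M⁆ ⊓ 𝐂(K) = sigmaCore M ⊓ 𝐂(K) := by
  obtain ⟨x, hx, hx1⟩ := exists_ne_one hK1
  refine le_antisymm ?_ (inf_le_inf_right _ (Msigma_der1 hG hM))
  rw [← der_cent1_K hG hM hK hK1 hx hx1]
  exact inf_le_inf_left _ (cent_le_cent1 hx)

/-- BG 15.6. -/
theorem Kstar_le_der2 : sigmaCore M ⊓ 𝐂(K) ≤ ⁅⁅M, M⁆, ⁅M, M⁆⁆ := by
  have h1 := complIn_der hG hM hK hK1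
  rw [← der_cent_K hG hM hK hK1]
  refine (coprime_der1_sdprod (isSolvable_of_le (mmax_sol hG hM) (commutator_le_self M))
    (hK.1.trans (der_normal M)) (coprime_card_of_isPiSubgroup disjoint_compl_right hK.2.1
      (hall_der hG hM ((hallK_ne_bot_iff hK).1 hK1)).2.1) ?_).2
  rw [IsComplIn.sup_eq h1]

theorem Kstar_le_fcore : sigmaCore M ⊓ 𝐂(K) ≤ fittingHallOf M := by
  by_cases hnil : Group.IsNilpotent (sigmaCore M)
  · rw [fcore_eq_Ms hG hM hnil]; exact inf_le_left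
  · obtain ⟨-, -, -, q, hq, -, -, hQ, h, -⟩ := Fcore_structure hG hM hK hnil
    have := Fact.mk hq
    exact h.trans (sylow_le_fcore hQ (pcore_normal _ M))

theorem fcore_not_cyclic : ¬ IsCyclic (fittingHallOf M) := fun hc => by
  have hκ := (hallK_ne_bot_iff hK).1 hK1
  have h1 : ⁅M, M⁆ ≤ fittingOf M := by
    rw [← fcore_sup_cent hG hM]
    exact (le_inf (commutator_le_self M) (der_le_cent_of_cyclic hc (fcore_normal M))).trans
      le_sup_right
  have h2 : ⁅M, M⁆ ≤ fittingHallOf M := fcore_max (commutator_le_self M) (der_normal M)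
    (isNilpotent_of_le (fit_nil M) h1) (hallOf_coprime (hall_der hG hM hκ))
  refine Kstar_ne_bot hG hM hK hK1 (eq_bot_iff.2 ((Kstar_le_der2 hG hM hK hK1).trans ?_))
  rw [le_bot_iff, commutator_eq_bot_iff_le_centralizer]
  exact le_cent_of_isCyclic (isCyclic_of_le' hc h2)

end

/-- BG 15.3(b) for `M_σ`. -/
theorem Ms_fusion {x g : G} (hx : x ∈ sigmaCore M) (hg : g * x * g⁻¹ ∈ sigmaCore M) :
    ∃ m ∈ M, m * x * m⁻¹ = g * x * g⁻¹ := by
  by_cases hx1 : x = 1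
  · exact ⟨1, one_mem _, by rw [hx1]; group⟩
  obtain ⟨r, hr, e⟩ := sigR_trans hG hM hx hx1 (isCoatom_map_conj hM g⁻¹) (by
    rw [sigmaCore_conj, mem_map_conj_iff, inv_inv]; exact hg)
  refine ⟨g * r, mem_of_conj_eq hG hM (by rw [map_conj_mul, ← e, map_conj_map_conj_inv]), ?_⟩
  calc g * r * x * (g * r)⁻¹ = g * (r * x * r⁻¹) * g⁻¹ := by group
    _ = _ := by rw [conj_eq_of_mem_cent1 (sigR_le_cent x hr)]

end

end CfsgLib.FT.PG.U4.B14
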