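import Mathlib
import Cfsg.Agent.Lib.PG.BG15a
import Cfsg.Agent.Lib.FT.BG2
import Cfsg.Agent.Lib.FT.BG4c
import Cfsg.Agent.Lib.FT.BG5
import Cfsg.Agent.Lib.PG.BG9
import Cfsg.Agent.Lib.FT.BG15b

/-! Bender–Glauberman, section 15, second part: 15.7, 15.8 and 15.9. -/

set_option autoImplicit false
set_option linter.unusedSectionVars false

namespace CfsgLib.FT.PG.U4.B14
export CfsgLib.FT.U4.B14 (comm_of_nil_of_pcore)
end CfsgLib.FT.PG.U4.B14


namespace CfsgLib.FT.PG.U4.B14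

open Subgroup Cfsg BGN
open scoped commutatorElement

variable {G : Type*} [Group G] [PiCtx G] [Finite G]

theorem cyclic_of_nil_rank1 (hG : PGHyp G) {N : Subgroup G} (hNl : Loc N)
    (hN : Group.IsNilpotent N) (h : RankLE 1 N) : IsCyclic N :=
  isCyclic_of_nil_of_sylow hN fun p _ _ hP hPp => cyclic_of_rank1 hG hNl (h p Fact.out) hPp hP

section
variable (hG : PGHyp G) {M : Subgroup G} (hM : Mx M)
include hG hM

theorem norm_of_fit_sigma' {X : Subgroup G} (hX : X ≤ fittingOf M) (hX1 : X ≠ ⊥)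
    (hσ : IsPiSubgroup (sigma M)ᶜ X) : 𝐍(X) = M :=
  mmax_normal hG hM (hX.trans (fit_le M)) ((fit_normal M).trans ((norm_le_norm_pcore _ _).trans
    (norm_le_norm_of_le_cyclic (fit_sigma' hG hM (pcore_le _ _) (pcore_pi _ _)).2
      (le_pcore_of_nil (fit_nil M) hX hσ)))) hX1

/-- BG 15.7. -/
theorem nonTI_Fitting {g : G} (hg : g ∉ M) {X : Subgroup G} (hX : X ≤ fittingOf M ⊓ g •ᶜ fittingOf M)
    {p : ℕ} (hp : p.Prime) (hXp : Nat.card X = p) :
    ¬ P2 M ∧ Group.IsNilpotent (sigmaCore M) ∧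
      ((kappa M = ∅ ∧ IsMulCommutative (sigmaCore M) ∧ RankLE 2 (sigmaCore M) ∧
          ¬ RankLE 1 (sigmaCore M)) ∨
        (p ∣ Nat.card (sigmaCore M) ∧
          (∀ q : ℕ, q.Prime → q ∣ Nat.card (sigmaCore M) →
            ∃ Z ≤ sigmaCore M, Nat.card Z = q ∧ M ≤ 𝐍(Z)) ∧
          ∀ K, IsPiHallOf (kappa M) K M → K ≠ ⊥ → Nat.card K ∣ p - 1 ∨
            (Nat.card (piCoreOf {p} (sigmaCore M)) = p ^ 3 ∧ Nat.card K ∣ p + 1))) := by
  have := Fact.mk hp
  have hX1 := ne_bot_of_card_prime (hXp ▸ hp)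
  have hXF : X ≤ fittingOf M := hX.trans inf_le_left
  have hXM : X ≤ M := hXF.trans (fit_le M)
  have hXg : X ≤ g •ᶜ M := hX.trans (inf_le_right.trans (map_mono (fit_le M)))
  have hXpg := isPGroup_of_card_eq hXp
  have hσ : p ∈ sigma M := by
    by_contra hσ
    have h1 := norm_of_fit_sigma' hG hM hXF hX1 (isPiSubgroup_of_card_eq hp hXp hσ)
    have h2 := norm_of_fit_sigma' hG (isCoatom_map_conj hM g)
      (by rw [fit_conj]; exact hX.trans inf_le_right) hX1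
      (isPiSubgroup_of_card_eq hp hXp (by rwa [sigma_conj]))
    exact hg (mem_of_conj_eq hG hM (h2.symm.trans h1))
  have hXS : X ≤ sigmaCore M := le_Ms hG hM hXM (isPiSubgroup_of_card_eq hp hXp hσ)
  obtain ⟨E, hE⟩ := exists_sigma_compl hG hM
  have hβ : p ∉ beta M := ((sigma_compl_embedding hG hM hE).2.2 g hg).2.1 p hp
    (hXp ▸ card_dvd_of_le (le_inf hXS hXg))
  obtain ⟨K₀, hK₀⟩ := ex_hallK hG hM
  have hP2 : ¬ P2 M := fun h => hβ ((P2_facts hG hM hK₀ h).1 hσ)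
  have hC : ¬ 𝐂(X) ≤ M := fun h =>
    hg (inv_mem_iff.1 (sigma_cent_trans hG hM hσ hXpg hXM h (le_conj_iff.1 hXg)))
  have hnu : ∀ Y ≤ M, Y ≤ 𝐂(X) → ¬ InUniqueMaximal Y := fun Y h1 h2 h3 =>
    hC (InUniqueMaximal.le h3 hM h1 (mFT_cent_proper hG hX1 (pi_of_sigma
      (isPiSubgroup_of_card_eq hp hXp hσ))) h2)
  have hnil : Group.IsNilpotent (sigmaCore M) := by
    by_contra hnil
    obtain ⟨-, hK1, -, q, hq, hqK, hqβ, hQ, -⟩ := Fcore_structure hG hM hK₀ hnil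
    have := Fact.mk hq
    have h1 := hQ.mono ((sylow_le_fcore hQ (pcore_normal _ M)).trans (fcore_le_Ms hG hM)) (Ms_le M)
    refine hnu _ hQ.le (le_cent_of_nil (fit_nil M) (pcore_le_fit q M) hXF ?_)
      (UniqMax.inUniq (Kstar_sylow hG hM hK₀ hK1 hqK.symm.dvd h1).1 hM)
    exact coprime_card_of_isPiSubgroup disjoint_compl_right (pcore_pi _ M)
      (isPiSubgroup_of_card_eq hp hXp fun e => hβ (e ▸ hqβ))
  refine ⟨hP2, hnil, ?_⟩
  have hSt : Loc (sigmaCore M) := ne_top_of_le_ne_top hM.1 (Ms_le M)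
  by_cases hab : IsMulCommutative (sigmaCore M)
  · have hSX : sigmaCore M ≤ 𝐂(X) :=
      (le_centralizer_of_isMulCommutative hab).trans (centralizer_antitone hXS)
    refine Or.inl ⟨?_, hab, ?_, fun h => hC ((cent_le_norm X).trans (mmax_normal hG hM hXM
      ((Ms_normal M).trans (norm_le_norm_of_le_cyclic (cyclic_of_nil_rank1 hG hSt hnil h) hXS))
      hX1).le)⟩
    · by_contra hκ
      have hK1 := (hallK_eq_bot_iff hK₀).not.2 hκ
      obtain ⟨U, hU⟩ := ex_kappa_compl hG hM hK₀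
      have hU1 : U = ⊥ := by by_contra h; exact hP2 (hU.P2_iff.2 ⟨hK1, h⟩)
      have h1 := Kstar_le_der2 hG hM hK₀ hK1
      rw [hU.der_eq hG hM hK1, hU1, sup_bot_eq, commutator_eq_bot_iff_le_centralizer.2
        (le_centralizer_of_isMulCommutative hab)] at h1
      exact Kstar_ne_bot hG hM hK₀ hK1 (eq_bot_iff.2 h1)
    · by_contra h
      exact hnu _ (Ms_le M) hSX (rank3_Uniqueness hG _ hSt h)
  right
  set P := piCoreOf {p} (sigmaCore M) with hP
  have hPp : IsPGroup p P := pcore_pgroup p _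
  have hPS : P ≤ sigmaCore M := pcore_le _ _
  have hXP : X ≤ P := le_pcore_of_nil hnil hXS (isPiSubgroup_of_card_eq hp hXp rfl)
  have hMq : ∀ q : ℕ, M ≤ 𝐍(piCoreOf {q} (sigmaCore M)) := fun q =>
    (Ms_normal M).trans (norm_le_norm_pcore _ _)
  have hqc : ∀ q : ℕ, q ≠ p → piCoreOf {q} (sigmaCore M) ≤ 𝐂(P) := fun q hq =>
    le_cent_of_nil hnil (pcore_le _ _) hPS (coprime_card_of_isPiSubgroup
      (Set.disjoint_singleton.2 hq) (pcore_pi _ _) (pcore_pi _ _))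
  have hPna : ¬ IsMulCommutative P := fun h => hab (comm_of_nil_of_pcore hnil fun q _ => by
    by_cases hq : q = p
    · subst hq; exact h
    · by_contra hc
      exact hnu _ ((pcore_le _ _).trans (Ms_le M)) ((hqc q hq).trans (centralizer_antitone hXP))
        (nonabelian_Uniqueness hG (mem_pi_of_pgroup (pcore_pgroup q _)
          (fun e => hc (by rw [e]; infer_instance)) (pi_of_sigma
            (isPiSubgroup_of_le (Ms_pi M) (pcore_le _ _)))) (pcore_pgroup q _) hc))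
  have hPU := nonabelian_Uniqueness hG (sigma_sub_pi hσ) hPp hPna
  have hXZ : ¬ X ≤ 𝐂(P) := fun h => hnu P (hPS.trans (Ms_le M)) (le_centralizer_comm h) hPU
  have hZp : IsPGroup p ↥(P ⊓ 𝐂(P)) := hPp.to_le inf_le_left
  have hZc : IsCyclic ↥(P ⊓ 𝐂(P)) := by
    refine cyclic_of_rank1 hG (hSt.mono (inf_le_left.trans hPS)) ?_ hZp le_rfl
    by_contra hr
    obtain ⟨B, hB, hBe, hB2⟩ := not_pRankLE_iff.1 hr
    have hXB : X ≤ 𝐂(B) := hXP.trans (le_centralizer_comm (hB.trans inf_le_right))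
    have h1 : X ⊓ B = ⊥ := (inf_eq_bot_or_le_of_card_prime (hXp ▸ hp) B).resolve_right
      fun h => hXZ (h.trans (hB.trans inf_le_right))
    have h2 := card_sup_of_disjoint (hXB.trans (cent_le_norm B)) h1
    have h3 := elemAb_sup (elemAb_of_card_eq_prime hXp) hBe (le_centralizer_comm hXB)
    have h4 : X ⊔ B ≤ M := sup_le hXM (hB.trans (inf_le_left.trans (hPS.trans (Ms_le M))))
    refine hnu _ h4 ((elemAb_le_centralizer h3).trans (centralizer_antitone le_sup_left))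
      (rank3_Uniqueness hG _ (ne_top_of_le_ne_top hM.1 h4) fun h => ?_)
    refine not_pRankLE_of_le le_rfl h3 ?_ (h p hp)
    rw [h2, hXp, hB2, ← pow_succ']
    exact Nat.pow_lt_pow_right hp.one_lt (by norm_num)
  have hZ1 : P ⊓ 𝐂(P) ≠ ⊥ := inf_centralizer_ne_bot_of_isNilpotent hPp.isNilpotent le_rfl
    le_normalizer fun e => hX1 (eq_bot_iff.2 (e ▸ hXP))
  have hZ0 := card_omegaOne_of_isCyclic hZp hZc hZ1
  have hZ0p : (Nat.card (omegaOne p (P ⊓ 𝐂(P)))).Prime := by rw [hZ0]; exact hp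
  have hMZ : M ≤ 𝐍(P ⊓ 𝐂(P)) := Cop.le_normalizer_inf_centralizer (hMq p) (hMq p)
  have hMZ0 : M ≤ 𝐍(omegaOne p (P ⊓ 𝐂(P))) := hMZ.trans (normalizer_le_normalizer_omegaOne _)
  have hΩ : ∀ {q : ℕ} {R : Subgroup G}, omegaOne q R ≤ R := by
    intro q R; exact omegaOne_le_iff.2 fun _ hx _ => hx
  refine ⟨hXp ▸ card_dvd_of_le hXS, fun q hq hd => ?_, fun K hK hK1 => ?_⟩
  · by_cases hqp : q = p
    · subst hqp
      exact ⟨_, hΩ.trans (inf_le_left.trans hPS), hZ0, hMZ0⟩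
    · have := Fact.mk hq
      refine ⟨omegaOne q (piCoreOf {q} (sigmaCore M)), hΩ.trans (pcore_le _ _),
        card_omegaOne_of_isCyclic (pcore_pgroup q _) (cyclic_of_nil_rank1 hG
          (hSt.mono (pcore_le _ _)) (pcore_pgroup q _).isNilpotent ?_) ((sylow_pcore_of_nil hnil q).ne_bot hd),
        (hMq q).trans (normalizer_le_normalizer_omegaOne _)⟩
      by_contra hr
      exact hnu _ ((pcore_le _ _).trans (Ms_le M)) ((hqc q hqp).trans (centralizer_antitone hXP))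
        (cent_uniq_Uniqueness hG P _ hPU (hqc q hqp) hr)
  by_cases hreg : SemiReg (omegaOne p (P ⊓ 𝐂(P))) K
  · exact Or.inl (hZ0 ▸ semiregular_card_dvd (hK.1.trans hMZ0) hreg)
  obtain ⟨N, hPP⟩ := exists_PPair hG hM hK hK1
  have hL := (P2_facts hG hPP.maxN hPP.hallL (hPP.p2.resolve_left hP2)).2.1
  have hpr := kappa_semiprime hG hM hK hK1
  have hZL : omegaOne p (P ⊓ 𝐂(P)) = sigmaCore M ⊓ 𝐂(K) := by
    simp only [SemiReg, not_forall] at hreg
    obtain ⟨x, hx, hx1, h⟩ := hreg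
    refine eq_of_le_of_card_prime hL ?_ (ne_bot_of_card_prime hZ0p)
    rw [← hpr x hx hx1]
    exact le_inf (hΩ.trans (inf_le_left.trans hPS))
      ((inf_eq_bot_or_le_of_card_prime hZ0p _).resolve_left h)
  have hp2 : p ≠ 2 := ne_two_of_mem_pi hG (sigma_sub_pi hσ)
  have hKp : (Nat.card K).Coprime p := coprime_iff_isPiSubgroup.2
    (isPiSubgroup_mono hPP.K_sigma' (Set.compl_subset_compl.2 (Set.singleton_subset_iff.2 hσ)))
  have hZZ : P ⊓ 𝐂(P) = sigmaCore M ⊓ 𝐂(K) := by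
    refine le_antisymm (le_inf (inf_le_left.trans hPS) (le_centralizer_comm
      (coprime_odd_faithful_Ohm1 hp2 hZp (hK.1.trans hMZ) hKp ?_))) (hZL ▸ hΩ)
    rw [hZL]; exact le_centralizer_comm inf_le_right
  have hCx : ∀ x ∈ K, x ≠ 1 → P ⊓ 𝐂[x] = P ⊓ 𝐂(P) := fun x hx hx1 => by
    refine le_antisymm ((inf_le_inf_right _ hPS).trans ((hpr x hx hx1).trans hZZ.symm).le)
      (le_inf inf_le_left ?_)
    rw [hZZ]; exact inf_le_right.trans (cent_le_cent1 hx)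
  have hKc := hPP.K_cyclic hG
  by_cases hr : PRankLE p 2 P
  · have hPs : IsSylowIn p P ⊤ := sigma_Sylow_G hσ (sylow_of_sylow_hall hp
      (sylow_pcore_of_nil hnil p) (Msigma_Hall hG hM) hσ)
    obtain ⟨S, C, h1, h2, h3, h4, -, h5, h6⟩ := mFT_rank2_Sylow_cprod hG (sigma_sub_pi hσ) hPs hr hPna
    have h7 : C ≤ omegaOne p (P ⊓ 𝐂(P)) := by
      rw [hZL, ← hZZ]
      refine le_inf (h1 ▸ le_sup_right) ?_
      rw [← h1]; exact le_cent_sup h2 (le_cent_of_isCyclic h5)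
    have h8 : C ≤ S := (le_omegaOne le_rfl fun x hx => by
      have := pow_card_eq_one' (G := omegaOne p (P ⊓ 𝐂(P))) (x := ⟨x, h7 hx⟩)
      rw [hZ0] at this
      exact congrArg Subtype.val this).trans (h6.le.trans inf_le_left)
    rw [sup_eq_left.2 h8] at h1
    rw [h1] at h4
    rcases extraspecial_cyclic_dvd (isExtraspecial_of_card_eq_cube h4 hPna) (n := 1) h4 hKc
      (hK.1.trans (hMq p)) hKp hCx with h | h
    · exact Or.inr ⟨h4, by rwa [pow_one] at h⟩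
    · exact Or.inl (by rwa [pow_one] at h)
  · left
    have hnar : IsNarrow p P := (isNarrow_iff_exists_cent_rank2 hp2 hPp hr).2 ⟨X, hXP, hXp, by
      by_contra h
      exact hnu _ (inf_le_left.trans (hPS.trans (Ms_le M))) inf_le_right (rank3_Uniqueness hG _
        (ne_top_of_le_ne_top hSt (inf_le_left.trans hPS)) fun h' => h (h' p hp))⟩
    obtain ⟨a, rfl⟩ := exists_zpowers_eq hKc
    rw [Nat.card_zpowers] at hKp ⊢
    have h1 := pow_mem_cent_narrow hp2 hPp hnar hr (hMq p (hK.1 (mem_zpowers a)))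
      (mFT_odd_orderOf hG hM.1 (hK.1 (mem_zpowers a))) hKp
    rw [orderOf_dvd_iff_pow_eq_one]
    by_contra h2
    have h3 := hCx _ (pow_mem (mem_zpowers a) _) h2
    rw [inf_eq_left.2 (show P ≤ 𝐂[a ^ (p - 1)] from fun y hy => mem_cent1.2 (h1 y hy))] at h3
    exact hPna (isMulCommutative_of_le_centralizer (h3.le.trans inf_le_right))

end

/-- BG 15.8 (the part that is used). -/
theorem tau2_P2type_signalizer (hG : PGHyp G) {M N K L U : Subgroup G}
    (h : PPair M N K L) (hU : KappaCompl M U K) {r : ℕ} [Fact r.Prime] (hϖ : r ∈ ϖ[G])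
    {R H : Subgroup G} (hR : IsSylowIn r R U) (hR1 : R ≠ ⊥) (hH : Mx H) (hRH : 𝐍(R) ≤ H)
    {p : ℕ} (hp : p ∈ tau2 H) : tau2 M = ∅ := by
  obtain ⟨-, -, hHN, hUH, -, -, hKF, hD⟩ := P2type_signalizer hG h hU hϖ hR hR1 hH hRH
  have hM := h.maxM
  have hN := h.maxN
  have hU1 : U ≠ ⊥ := fun e => hR1 (eq_bot_iff.2 (e ▸ hR.le))
  have hq := (P2_facts hG hM h.hallK (hU.P2_iff.2 ⟨h.K_ne, hU1⟩)).2.1
  have := Fact.mk hp.1
  obtain ⟨A, hA⟩ := ex_tau2Elem hG hH hD hp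
  obtain ⟨⟨hnA, hKA⟩, ⟨hCA, -⟩, -⟩ := tau2_compl_context hG hH hD hp hA
  have hAK : A ≤ 𝐂(K) := (le_fit hA.1 hnA (P2Elem.nil hA)).trans
    ((le_centralizer_of_isMulCommutative (sigma'_nil_abelian hG hH ((fit_le _).trans hD.1)
      (isPiSubgroup_of_le hD.2.1 (fit_le _)) (fit_nil _))).trans (centralizer_antitone hKF))
  have hAN : P2Elem p A N := P2Elem.mono hA (hA.1.trans inf_le_right)
  have hpN : p ∈ sigma N := (sigma_or_tau2 hG hN hp.1 (P2Elem.not_rank1 hp.1 hAN)).resolve_right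
    fun h2 => h.K_ne (eq_bot_iff.2 ((tau2_context hG hN h2 hAN).2.2.2.1 ▸
      le_inf h.K_le_Ns (le_centralizer_comm hAK)))
  have hAS : A ≤ sigmaCore N := le_Ms hG hN hAN.1 (isPiSubgroup_of_isPGroup (P2Elem.pgroup hA) hpN)
  have hsyl : ∀ (q : ℕ) [Fact q.Prime] (Q : Subgroup G), q = Nat.card K →
      IsSylowIn q Q (sigmaCore N) → UniqMax Q N := fun q _ Q e hQ =>
    (Kstar_sylow hG hN h.hallL h.L_ne (by rw [h.defK, e]) hQ).1
  have hpq : p = Nat.card K := by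
    by_contra hne
    have := Fact.mk hq
    have hAq : IsPiSubgroup {Nat.card K}ᶜ A := isPiSubgroup_of_isPGroup (P2Elem.pgroup hA) hne
    obtain ⟨Q, hQ, hAQ⟩ : ∃ Q, IsSylowIn (Nat.card K) Q (sigmaCore N) ∧ A ≤ 𝐂(Q) := by
      by_cases hnil : Group.IsNilpotent (sigmaCore N)
      · exact ⟨_, sylow_pcore_of_nil hnil _, le_cent_of_nil hnil hAS (pcore_le _ _)
          (coprime_card_of_isPiSubgroup disjoint_compl_left hAq (pcore_pi _ _))⟩
      · obtain ⟨-, -, -, q, -, e, -, hQ, -, -, -, -, -, h1⟩ := Fcore_structure hG hN h.hallL hnil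
        rw [h.defK] at e h1
        subst e
        exact ⟨_, hQ.mono ((sylow_le_fcore hQ (pcore_normal _ N)).trans (fcore_le_Ms hG hN))
          (Ms_le N), h1 A hAS hAq hAK⟩
    exact NotConj.ne hHN (InUniqueMaximal.eq (cent_uniq_Uniqueness hG Q A
      (UniqMax.inUniq (hsyl _ Q rfl hQ) hN) hAQ fun h1 =>
        P2Elem.not_rank1 hp.1 (P2Elem.mono hA le_rfl) (h1 p hp.1)) hN hAN.1 hH
      (hA.1.trans inf_le_left))
  obtain ⟨Q, hAQ, hQ⟩ := IsSylowIn.exists_ge (P2Elem.pgroup hA) hAS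
  have hna : ¬ IsMulCommutative Q := fun hc => NotConj.ne hHN ((hsyl p Q hpq hQ).2 H hH
    ((le_centralizer_of_isMulCommutative hc).trans ((centralizer_antitone hAQ).trans
      (hCA.trans inf_le_left))))
  have hX := (nonabelian_tau2 hG hH hD hp hA hQ.isPGroup hna).2.1.1
  have hXU : A ⊓ 𝐂(sigmaCore H) ≤ 𝐂(U) := inf_le_right.trans (centralizer_antitone hUH)
  refine Set.eq_empty_of_forall_notMem fun s hs => ?_
  have := Fact.mk hs.1
  obtain ⟨B, hB⟩ := ex_tau2Elem hG hM hU.hallE hs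
  have hBU : B ≤ U := le_of_normal_hallOf (IsComplIn.hall_left hU.complUK hU.U_kappa'
    (by rw [compl_compl]; exact hU.K_pi)) hU.E_norm
    (isPiSubgroup_of_isPGroup (P2Elem.pgroup hB) fun h1 => kappa_not_tau2 h1 hs) hB.1
  have hXM : A ⊓ 𝐂(sigmaCore H) ≤ M := hXU.trans ((centralizer_antitone hBU).trans
    (p2Elem_mmax hG hM (P2Elem.mono hB (hB.1.trans hU.hallE.1))).1)
  have hKA' : K ≤ A := hKA K (hKF.trans (fit_le _)) hpq.symm
  have hc : IsCyclic ↥((A ⊓ 𝐂(sigmaCore H)) ⊔ K) := cyclic_of_rank1 hG hM.1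
    (kappa_rank (h.hallK.2.1 p hp.1 hpq.dvd)) ((P2Elem.pgroup hA).to_le (sup_le inf_le_left hKA'))
    (sup_le hXM h.hallK.1)
  rw [eq_of_le_cyclic hc le_sup_left le_sup_right (hX.trans hpq)] at hXU
  have := SemiReg.cent_eq (hU.facts hG hM h.K_ne).2 le_rfl h.K_ne
  rw [inf_eq_left.2 (le_centralizer_comm hXU)] at this
  exact hU1 this

/-- BG 15.9 (the part that is used). -/
theorem nonFtype_signalizer_base (hG : PGHyp G) {M N : Subgroup G}
    (hM : Mx M) {x : G} (hx1 : x ≠ 1) (hN : Signalizer M N x) (hκ : (kappa N).Nonempty) :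
    kappa M = ∅ ∧ tau2 M = ∅ := by
  obtain ⟨K₀, hK₀⟩ := ex_hallK hG hN.coatom
  obtain ⟨n, hn, hle⟩ := Hall.exists_conj_le_hallOf (mmax_sol hG hN.coatom)
    (isPiSubgroup_mono hK₀.2.1 kappa_sub_sigma') hK₀.1 hN.hall
  have hK := Hall.isPiHallOf_map_conj hK₀ (le_normalizer hn)
  generalize n •ᶜ K₀ = K at hle hK
  obtain ⟨U, hU, hsup⟩ := ex_kappa_compl_le hG hN.coatom hK hN.hall hle
  obtain ⟨N', h⟩ := exists_PPair hG hN.coatom hK ((hallK_ne_bot_iff hK).2 hκ)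
  obtain ⟨r, hr, hd⟩ := exists_prime_dvd_orderOf hx1
  have := Fact.mk hr
  have hr2 := hN.tau2_elt r hr hd
  obtain ⟨R, hR⟩ := IsSylowIn.exists_in (p := r) U
  have hRN := sylow_of_sylow_hall hr hR hU.hallU fun h1 => h1.elim hr2.2.1
    fun h2 => kappa_not_tau2 h2 hr2
  have hR1 := hRN.ne_bot (tau2_dvd hr2)
  have hRM : 𝐍(R) ≤ M := norm_noncyclic_sigma hG hM (hN.tau2_sub hr2) hR.isPGroup
    (hR.le.trans ((hsup ▸ le_sup_left : U ≤ M ⊓ N).trans inf_le_left)) fun hc =>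
      hr2.2.2.2 ((pRankLE_iff_of_isSylowIn hRN).2 (pRankLE_one_of_isCyclic hc))
  have hϖ := sigma_sub_pi (hN.tau2_sub hr2)
  refine ⟨(P2type_signalizer hG h hU hϖ hR hR1 hM hRM).1,
    Set.eq_empty_of_forall_notMem fun p hp => ?_⟩
  rw [tau2_P2type_signalizer hG h hU hϖ hR hR1 hM hRM hp] at hr2
  exact hr2

end CfsgLib.FT.PG.U4.B14
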