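import Mathlib
import Cfsg.Agent.Lib.FT.Main

/-! Interface of the prime graph project: isolated sets of primes, cells, and the exceptional
two-prime configuration. -/

set_option autoImplicit false

namespace CfsgLib.FT.PGI

open Subgroup Cfsg BGN

variable {G : Type*} [Group G]

/-- `π` is a union of connected components of the prime graph of `G`. -/
def Isolated (π : Set ℕ) (G : Type*) [Group G] : Prop :=
  ∀ x : G, x ≠ 1 → IsPiNum π (orderOf x) → IsPiSubgroup π 𝐂[x]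

/-- A nontrivial nilpotent subgroup containing the centralizers of its non-identity elements. -/
structure Cell (H : Subgroup G) : Prop where
  ne_bot : H ≠ ⊥
  nil : Group.IsNilpotent H
  cent : ∀ h ∈ H, h ≠ 1 → 𝐂[h] ≤ H

/-- One half of the exceptional configuration: `N(P) = P ⋊ (U ⋊ W₁)` with `P` an elementary
abelian Sylow `p`-subgroup of order `p ^ q`, `|W₁| = q`, `W₂ = C_P(W₁)` of order `p`. -/
structure Half (p q : ℕ) (P U W₁ W₂ : Subgroup G) : Prop where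
  p_prime : p.Prime
  q_prime : q.Prime
  ne : p ≠ q
  elem : IsElementaryAbelian p P
  card_P : Nat.card P = p ^ q
  not_dvd_index : ¬ p ∣ P.index
  U_cyclic : IsCyclic U
  U_ne : U ≠ ⊥
  U_cop : (Nat.card U).Coprime (p * q)
  norm_eq : 𝐍(P) = P ⊔ U ⊔ W₁
  W₁_norm : W₁ ≤ 𝐍(U)
  card_W₁ : Nat.card W₁ = q
  card_W₂ : Nat.card W₂ = p
  reg : SemiReg P U
  reg' : U ⊓ 𝐂(W₁) = ⊥
  cent : P ⊓ 𝐂(W₁) = W₂
  ti : ∀ X ≤ P, X ≠ ⊥ → 𝐍(X) ≤ 𝐍(P)
  irr : ∀ K ≤ P, U ⊔ W₁ ≤ 𝐍(K) → K = ⊥ ∨ K = P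

end CfsgLib.FT.PGI
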