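import Mathlib
import Cfsg.Agent.Lib.FT.BG3
import Cfsg.Agent.Lib.FT.BG4a
import Cfsg.Agent.Lib.PG.Defs
import Cfsg.Agent.Lib.FT.PF12G

/-! Group theoretic lemmas for Peterfalvi, sections 12 to 14. -/

set_option autoImplicit false
set_option linter.unusedSectionVars false

namespace CfsgLib.FT.PG.P12
export CfsgLib.FT.P12 (orderOf_conj' exists_ne_one nil_sylow_norm nil_sylow_le mem_of_coprime_relIndex le_of_coprime_relIndex)
export CfsgLib.FT.P12 (pgroup_coprime pgroup_dvd not_dvd_of_coprime sylow_trans mem_cent1 cent1_le_norm_zpowers)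
export CfsgLib.FT.P12 (mem_norm_zpowers card_dvd_succ_of_free_lines two_mul_card_le_succ)
end CfsgLib.FT.PG.P12

set_option linter.unusedSectionVars false

namespace CfsgLib.FT.PG.P12

open Cfsg Subgroup
open scoped commutatorElement

variable {G : Type*} [Group G] [PiCtx G] [Finite G] {p : ℕ}

end CfsgLib.FT.PG.P12
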