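import Mathlib
import Cfsg.Agent.Lib.FT.CFDefs
import Cfsg.Agent.Lib.PG.Defs
import Cfsg.Agent.Lib.FT.BG10Defs
import Cfsg.Agent.Lib.SylowIn
import Cfsg.Agent.Lib.CoreElements
import Cfsg.Agent.Lib.FT.TypeDefs

/-!
# The five types of maximal subgroups (ambient style definitions)

These follow the Coq odd order development (`BGsection16`, `PFsection8`, `PFsection9`).
`M_F` is `fittingHallOf M`, `F(M)` is `fittingOf M`, `M_σ` is `sigmaCore M`, `M'` is `⁅M, M⁆`,
`M^g` is `M.map (MulAut.conj g).toMonoidHom`, and `R_M(x)` is `supportR M x`.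
-/

set_option autoImplicit false
set_option linter.unusedSectionVars false



namespace CfsgLib.FT.PG

open Cfsg Subgroup
open scoped commutatorElement

variable {G : Type*} [Group G] [PiCtx G]

/-- PF (8.6), type II. -/
structure OfTypeII (M U W W1 W2 : Subgroup G) : Prop extends OfTypeII_IV M U W W1 W2 where
  U_comm : IsMulCommutative U
  not_norm_le : IsPiSubgroup ϖ[G] U → ¬ normalizer (U : Set G) ≤ M
  der_typeF : OfTypeF ⁅M, M⁆ U
  der_Fcore : fittingHallOf ⁅M, M⁆ = fittingHallOf M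

/-- PF (8.6), type III. -/
structure OfTypeIII (M U W W1 W2 : Subgroup G) : Prop extends OfTypeII_IV M U W W1 W2 where
  U_comm : IsMulCommutative U
  pi : IsPiSubgroup ϖ[G] U
  norm_le : normalizer (U : Set G) ≤ M

/-- PF (8.6), type IV. -/
structure OfTypeIV (M U W W1 W2 : Subgroup G) : Prop extends OfTypeII_IV M U W W1 W2 where
  U_not_comm : ¬ IsMulCommutative U
  pi : IsPiSubgroup ϖ[G] U
  norm_le : normalizer (U : Set G) ≤ M

open Classical in
/-- The type (a number between 1 and 5) of a maximal subgroup. -/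
noncomputable def FTtype (M : Subgroup G) : ℕ :=
  if kappa M = ∅ then 1 else
  if sigmaCore M ≠ ⁅M, M⁆ then 2 else
  if sigmaCore M = fittingHallOf M then 5 else
  if ⁅sigmaCore M, sigmaCore M⁆ ≤ fittingHallOf M then 3 else 4

/-- `M_s`. -/
noncomputable def FTcore (M : Subgroup G) : Subgroup G :=
  if FTtype M ≤ 2 then fittingHallOf M else ⁅M, M⁆

/-- `A₁(M) = M_s^#`. -/
noncomputable def FTsupp1 (M : Subgroup G) : Set G := sharp (FTcore M)

/-- `M` for type I, `M'` otherwise. -/
noncomputable def FTder (M : Subgroup G) : Subgroup G := if FTtype M = 1 then M else ⁅M, M⁆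

/-- `A(M)`. -/
noncomputable def FTsupp (M : Subgroup G) : Set G :=
  {a | a ∈ FTder M ∧ a ≠ 1 ∧ ∃ x ∈ FTsupp1 M, a * x = x * a}

/-- `A₀(M)`: `A(M)` together with the elements of `M` that are neither `π`-elements nor
`π'`-elements, for `π = π(FTder M)`. -/
noncomputable def FTsupp0 (M : Subgroup G) : Set G :=
  FTsupp M ∪ {x | x ∈ M ∧ ¬ IsPiNum {p | p ∣ Nat.card (FTder M)} (orderOf x) ∧
    ¬ IsPiNum {p | p ∣ Nat.card (FTder M)}ᶜ (orderOf x)}

/-- `L` supports `M`, PF (8.14). -/
def FTsupports (M L : Subgroup G) : Prop :=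
  ∃ x ∈ FTsupp M, ¬ centralizer ({x} : Set G) ≤ M ∧ centralizer ({x} : Set G) ≤ L

/-- `Ã` for a subset `A` of `A₀(M)`, PF (8.14). -/
abbrev FTtilde (M : Subgroup G) (A : Set G) : Set G := dadeSupp A (supportR M)

/-- The Dade isometry for `A₀(M)`. -/
noncomputable abbrev FTDade0 (M : Subgroup G) : CFMap G := Dade (FTsupp0 M) (supportR M)

/-- The Dade isometry for `A(M)`. -/
noncomputable abbrev FTDade (M : Subgroup G) : CFMap G := Dade (FTsupp M) (supportR M)

/-- The Dade isometry for `A₁(M)`. -/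
noncomputable abbrev FTDade1 (M : Subgroup G) : CFMap G := Dade (FTsupp1 M) (supportR M)

/-- The Dade isometry for `M_F^#`. -/
noncomputable abbrev FTDadeF (M : Subgroup G) : CFMap G :=
  Dade (sharp (fittingHallOf M)) (supportR M)

/-- PF (8.8)(b). -/
structure TypePPair (S T W W1 W2 : Subgroup G) : Prop where
  cycTI : CycTI ⊤ W W1 W2
  maxS : Mx S
  maxT : Mx T
  defS : IsComplIn ⁅S, S⁆ W1 S
  defT : IsComplIn ⁅T, T⁆ W2 T
  inf_eq : S ⊓ T = W
  type2 : FTtype S = 2 ∨ FTtype T = 2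
  S_ne : FTtype S ≠ 1
  T_ne : FTtype T ≠ 1
  conj : ∀ M : Subgroup G, Mx M → FTtype M ≠ 1 → ConjSub S M ∨ ConjSub T M

/-- All maximal subgroups are of type I. -/
def AllFTtype1 (G : Type*) [Group G] [PiCtx G] : Prop := ∀ M : Subgroup G, Mx M → FTtype M = 1

end CfsgLib.FT.PG
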