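import Mathlib
import Cfsg.Agent.Lib.PG.TypeDefs
import Cfsg.Agent.Lib.PG.BG15b
import Cfsg.Agent.Lib.FT.PF8a

/-! Peterfalvi, section 8, elementary part: properties of the definitions and of the types
`F` and `P` in general. -/

set_option autoImplicit false
set_option linter.unusedSectionVars false

namespace CfsgLib.FT.PG.U4.B14
export CfsgLib.FT.U4.B14 (mem_sharp' conj_mem_sharp_iff conj_comm_iff der_le FrobIn.semiReg frobIn_of_semiReg)
export CfsgLib.FT.U4.B14 (FrobIn.conj' exponent_conj isNilpotent_conj normedTI_conj conj_of_typeF piSep_of_normal_hall)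
export CfsgLib.FT.U4.B14 (exists_conj_compl_fcore typeP_hall_der typeP_hall_W1 typeP_hall_H typeP_coprime_HU typeP_complM)
export CfsgLib.FT.U4.B14 (typeP_inf_der typeP_conj_W1 conj_mem_cycTIset_iff typeP_inf_fit_cent typeP_fcore_der cycTIset_comm')
end CfsgLib.FT.PG.U4.B14


namespace CfsgLib.FT.PG.U4.B14

open Subgroup Cfsg BGN
open scoped commutatorElement

variable {G : Type*} [Group G] [PiCtx G]

/-! ### `M_F` -/

/-! ### Elementary properties of the definitions -/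

theorem _root_.CfsgLib.FT.PG.FTtype_range (M : Subgroup G) : 1 ≤ FTtype M ∧ FTtype M ≤ 5 := by
  unfold FTtype; split_ifs <;> omega

theorem _root_.CfsgLib.FT.PG.FTtype_map_conj [Finite G] (M : Subgroup G) (g : G) :
    FTtype (M.map (MulAut.conj g).toMonoidHom) = FTtype M := by
  unfold FTtype
  rw [kappa_conj, sigmaCore_conj, fcore_conj, ← conj_comm, ← conj_comm]
  classical
  exact if_congr Iff.rfl rfl (if_congr conj_inj.not rfl
    (if_congr conj_inj rfl (if_congr conj_le_conj_iff rfl rfl)))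

theorem _root_.CfsgLib.FT.PG.FTcore_map_conj [Finite G] (M : Subgroup G) (g : G) :
    FTcore (M.map (MulAut.conj g).toMonoidHom) = (FTcore M).map (MulAut.conj g).toMonoidHom := by
  unfold FTcore
  rw [FTtype_map_conj]
  split_ifs
  · exact fcore_conj g M
  · exact (conj_comm g M M).symm

theorem FTder_conj [Finite G] (M : Subgroup G) (g : G) : FTder (g •ᶜ M) = g •ᶜ FTder M := by
  unfold FTder
  rw [FTtype_map_conj]
  split_ifs
  · rfl
  · exact (conj_comm g M M).symm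

theorem _root_.CfsgLib.FT.PG.conj_mem_FTsupp1_iff [Finite G] (M : Subgroup G) (g x : G) :
    g * x * g⁻¹ ∈ FTsupp1 (M.map (MulAut.conj g).toMonoidHom) ↔ x ∈ FTsupp1 M := by
  unfold FTsupp1
  rw [FTcore_map_conj, conj_mem_sharp_iff]

theorem _root_.CfsgLib.FT.PG.conj_mem_FTsupp_iff [Finite G] (M : Subgroup G) (g x : G) :
    g * x * g⁻¹ ∈ FTsupp (M.map (MulAut.conj g).toMonoidHom) ↔ x ∈ FTsupp M := by
  unfold FTsupp
  simp only [Set.mem_setOf_eq]
  rw [FTder_conj, conj_mem_conj_iff, conj_ne_one_iff]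
  refine and_congr_right fun _ => and_congr_right fun _ => ⟨fun ⟨y, hy, e⟩ => ?_, fun ⟨y, hy, e⟩ =>
    ⟨g * y * g⁻¹, (conj_mem_FTsupp1_iff M g y).2 hy, conj_comm_iff.2 e⟩⟩
  obtain ⟨z, rfl⟩ : ∃ z, y = g * z * g⁻¹ := ⟨g⁻¹ * y * g, by group⟩
  exact ⟨z, (conj_mem_FTsupp1_iff M g z).1 hy, conj_comm_iff.1 e⟩

theorem _root_.CfsgLib.FT.PG.conj_mem_FTsupp0_iff [Finite G] (M : Subgroup G) (g x : G) :
    g * x * g⁻¹ ∈ FTsupp0 (M.map (MulAut.conj g).toMonoidHom) ↔ x ∈ FTsupp0 M := by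
  unfold FTsupp0
  simp only [Set.mem_union, Set.mem_setOf_eq]
  rw [conj_mem_FTsupp_iff, FTder_conj, conj_mem_conj_iff, orderOf_conj, card_map_conj]

theorem supportR_eq {M L : Subgroup G} {x : G} (hC : ¬ 𝐂[x] ≤ M) (hL : Mx L)
    (hu : UniqMax 𝐂[x] L) : supportR M x = fittingHallOf L ⊓ 𝐂[x] := by
  have h : ¬ 𝐂[x] ≤ M ∧ ∃! L : Subgroup G, Mx L ∧ 𝐂[x] ≤ L :=
    ⟨hC, L, ⟨hL, hu.1⟩, fun N hN => hu.2 N hN.1 hN.2⟩
  unfold supportR
  rw [dif_pos h, hu.2 _ (Classical.choose_spec h.2.exists).1 (Classical.choose_spec h.2.exists).2]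

theorem _root_.CfsgLib.FT.PG.supportR_of_cent_le {M : Subgroup G} {x : G}
    (hC : centralizer ({x} : Set G) ≤ M) : supportR M x = ⊥ := by
  unfold supportR
  rw [dif_neg (fun h => h.1 hC)]

theorem supportR_of_not_uniq {M : Subgroup G} {x : G}
    (h : ¬ ∃ L, Mx L ∧ UniqMax 𝐂[x] L) : supportR M x = ⊥ := by
  unfold supportR
  rw [dif_neg]
  rintro ⟨-, L, hL, hu⟩
  exact h ⟨L, hL.1, hL.2, fun N h1 h2 => hu N ⟨h1, h2⟩⟩

theorem _root_.CfsgLib.FT.PG.supportR_map_conj [Finite G] (M : Subgroup G) (g x : G) :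
    supportR (M.map (MulAut.conj g).toMonoidHom) (g * x * g⁻¹) =
      (supportR M x).map (MulAut.conj g).toMonoidHom := by
  by_cases hC : 𝐂[x] ≤ M
  · rw [supportR_of_cent_le hC, supportR_of_cent_le (by rwa [cent1_conj, conj_le_conj_iff]),
      Subgroup.map_bot]
  by_cases h : ∃ L, Mx L ∧ UniqMax 𝐂[x] L
  · obtain ⟨L, hL, hu⟩ := h
    rw [supportR_eq hC hL hu, supportR_eq (by rwa [cent1_conj, conj_le_conj_iff])
      (isCoatom_map_conj hL g) (by rw [cent1_conj]; exact UniqMax.conj hu g), map_conj_inf,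
      fcore_conj, cent1_conj]
  · rw [supportR_of_not_uniq h, supportR_of_not_uniq, Subgroup.map_bot]
    rintro ⟨L, hL, hu⟩
    refine h ⟨g⁻¹ •ᶜ L, isCoatom_map_conj hL _, ?_⟩
    have := UniqMax.conj hu g⁻¹
    rwa [cent1_conj, map_conj_inv_map_conj] at this

theorem FTtilde_conj_aux [Finite G] {M : Subgroup G} {g : G} {A B : Set G}
    (h : ∀ x, g * x * g⁻¹ ∈ B ↔ x ∈ A) : FTtilde (g •ᶜ M) B = FTtilde M A := by
  ext z
  constructor
  · rintro ⟨b, hb, r, hr, y, rfl⟩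
    obtain ⟨a, rfl⟩ : ∃ a, b = g * a * g⁻¹ := ⟨g⁻¹ * b * g, by group⟩
    obtain ⟨s, rfl⟩ : ∃ s, r = g * s * g⁻¹ := ⟨g⁻¹ * r * g, by group⟩
    rw [supportR_map_conj, conj_mem_conj_iff] at hr
    exact ⟨a, (h a).1 hb, s, hr, y * g, by group⟩
  · rintro ⟨a, ha, r, hr, y, rfl⟩
    refine ⟨g * a * g⁻¹, (h a).2 ha, g * r * g⁻¹, ?_, y * g⁻¹, by group⟩
    rwa [supportR_map_conj, conj_mem_conj_iff]

theorem _root_.CfsgLib.FT.PG.FTtilde1_map_conj [Finite G] (M : Subgroup G) (g : G) :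
    FTtilde (M.map (MulAut.conj g).toMonoidHom) (FTsupp1 (M.map (MulAut.conj g).toMonoidHom)) =
      FTtilde M (FTsupp1 M) := FTtilde_conj_aux (conj_mem_FTsupp1_iff M g)

theorem _root_.CfsgLib.FT.PG.FTtilde_map_conj [Finite G] (M : Subgroup G) (g : G) :
    FTtilde (M.map (MulAut.conj g).toMonoidHom) (FTsupp (M.map (MulAut.conj g).toMonoidHom)) =
      FTtilde M (FTsupp M) := FTtilde_conj_aux (conj_mem_FTsupp_iff M g)

theorem _root_.CfsgLib.FT.PG.FTtilde0_map_conj [Finite G] (M : Subgroup G) (g : G) :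
    FTtilde (M.map (MulAut.conj g).toMonoidHom) (FTsupp0 (M.map (MulAut.conj g).toMonoidHom)) =
      FTtilde M (FTsupp0 M) := FTtilde_conj_aux (conj_mem_FTsupp0_iff M g)

theorem _root_.CfsgLib.FT.PG.FTcore_le (M : Subgroup G) : FTcore M ≤ M := by
  unfold FTcore; split_ifs
  exacts [fcore_le M, der_le M]

theorem _root_.CfsgLib.FT.PG.FTcore_normal (M : Subgroup G) : M ≤ normalizer (FTcore M : Set G) := by
  unfold FTcore; split_ifs
  exacts [fcore_normal M, der_normal M]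

theorem FTder_le (M : Subgroup G) : FTder M ≤ M := by
  unfold FTder; split_ifs
  exacts [le_rfl, der_le M]

theorem FTder_normal (M : Subgroup G) : M ≤ 𝐍(FTder M) := by
  unfold FTder; split_ifs
  exacts [le_normalizer, der_normal M]

theorem der_le_FTder (M : Subgroup G) : ⁅M, M⁆ ≤ FTder M := by
  unfold FTder; split_ifs
  exacts [der_le M, le_rfl]

theorem _root_.CfsgLib.FT.PG.FTcore_type1 {M : Subgroup G} (h : FTtype M = 1) :
    FTcore M = fittingHallOf M := by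
  simp [FTcore, h]

theorem _root_.CfsgLib.FT.PG.FTcore_type2 {M : Subgroup G} (h : FTtype M = 2) :
    FTcore M = fittingHallOf M := by
  simp [FTcore, h]

theorem _root_.CfsgLib.FT.PG.FTcore_type_gt2 {M : Subgroup G} (h : 2 < FTtype M) :
    FTcore M = ⁅M, M⁆ := by
  simp [FTcore, not_le.mpr h]

theorem _root_.CfsgLib.FT.PG.FTder_type1 {M : Subgroup G} (h : FTtype M = 1) : FTder M = M := by
  simp [FTder, h]

theorem _root_.CfsgLib.FT.PG.FTder_typeP {M : Subgroup G} (h : FTtype M ≠ 1) : FTder M = ⁅M, M⁆ := by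
  simp [FTder, h]

theorem _root_.CfsgLib.FT.PG.FTsupp_sub (M : Subgroup G) : FTsupp M ⊆ sharp M :=
  fun _ h => ⟨FTder_le M h.1, h.2.1⟩

theorem _root_.CfsgLib.FT.PG.FTsupp0_sub (M : Subgroup G) : FTsupp0 M ⊆ sharp M := by
  rintro x (h | h)
  · exact FTsupp_sub M h
  · refine ⟨h.1, fun e => h.2.1 ?_⟩
    rw [show x = 1 from e, orderOf_one]
    exact isPiNum_one _

theorem _root_.CfsgLib.FT.PG.FTsupp_sub0 (M : Subgroup G) : FTsupp M ⊆ FTsupp0 M :=
  Set.subset_union_left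

theorem _root_.CfsgLib.FT.PG.FTsupp1_norm (M : Subgroup G) :
    ∀ g ∈ M, ∀ x ∈ FTsupp1 M, g * x * g⁻¹ ∈ FTsupp1 M := fun _ hg _ hx =>
  ⟨conj_mem_of_mem_normalizer (FTcore_normal M hg) hx.1, conj_ne_one_iff.2 hx.2⟩

theorem _root_.CfsgLib.FT.PG.FTsupp_norm (M : Subgroup G) :
    ∀ g ∈ M, ∀ x ∈ FTsupp M, g * x * g⁻¹ ∈ FTsupp M := fun g hg _ ⟨h1, h2, y, hy, e⟩ =>
  ⟨conj_mem_of_mem_normalizer (FTder_normal M hg) h1, conj_ne_one_iff.2 h2, g * y * g⁻¹,
    FTsupp1_norm M g hg y hy, conj_comm_iff.2 e⟩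

theorem _root_.CfsgLib.FT.PG.FTsupp0_norm (M : Subgroup G) :
    ∀ g ∈ M, ∀ x ∈ FTsupp0 M, g * x * g⁻¹ ∈ FTsupp0 M := by
  rintro g hg x (h | h)
  · exact Or.inl (FTsupp_norm M g hg x h)
  · refine Or.inr ⟨M.mul_mem (M.mul_mem hg h.1) (M.inv_mem hg), ?_⟩
    rw [orderOf_conj]
    exact h.2

theorem _root_.CfsgLib.FT.PG.FTsupp0_type1 [Finite G] {M : Subgroup G} (h : FTtype M = 1) :
    FTsupp0 M = FTsupp M := by
  refine Set.union_eq_left.2 fun x hx => (hx.2.1 fun p _ hd => ?_).elim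
  rw [FTder_type1 h]
  exact hd.trans (M.orderOf_dvd_natCard hx.1)

theorem _root_.CfsgLib.FT.PG.FTsupp_type_gt2 {M : Subgroup G} (h : 2 < FTtype M) :
    FTsupp M = sharp ⁅M, M⁆ := by
  ext x
  unfold FTsupp FTsupp1
  rw [FTder_typeP (by omega), FTcore_type_gt2 h]
  exact ⟨fun hx => ⟨hx.1, hx.2.1⟩, fun hx => ⟨hx.1, hx.2, x, hx, rfl⟩⟩

theorem _root_.CfsgLib.FT.PG.FTsupp_eq1 {M : Subgroup G} (h : 2 < FTtype M) :
    FTsupp M = FTsupp1 M := by
  rw [FTsupp_type_gt2 h, FTsupp1, FTcore_type_gt2 h]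

/-! ### Types F and P in general -/

/-- PF (8.2)(a). -/
theorem _root_.CfsgLib.FT.PG.typeF_compl_card [Finite G] (hG : PGHyp G)
    {M U U0 : Subgroup G} (hU : Loc U) (h0 : IsTypeFCompl M U U0) : Nat.card U0 = Monoid.exponent U := by
  have := odd_regular_Zgroup (mFT_odd hG (hU.mono h0.le)) h0.frob.ker_ne (le_sup_right.trans h0.frob.normal)
    (FrobIn.semiReg h0.frob)
  rw [← h0.exponent_eq, IsZGroup.exponent_eq_card]

/-- PF (8.2)(b). -/
theorem _root_.CfsgLib.FT.PG.typeF_frob_iff [Finite G] (hG : PGHyp G)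
    {M U : Subgroup G} (hM : Loc M) (h : OfTypeF M U) : FrobIn M (fittingHallOf M) U ↔ IsZGroup U := by
  refine ⟨fun hF => odd_regular_Zgroup (mFT_odd hG (hM.mono h.compl.2.1)) hF.ker_ne (hF.compl.2.1.trans hF.normal)
    (FrobIn.semiReg hF), fun hZ => ?_⟩
  obtain ⟨U0, h0⟩ := h.complement
  have h1 := typeF_compl_card hG (hM.mono h.compl.2.1) h0
  rw [IsZGroup.exponent_eq_card] at h1
  have h2 := h0.frob
  rwa [eq_of_le_of_card_ge h0.le h1.ge, IsComplIn.sup_eq h.compl] at h2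

section typeP
variable {M U W W1 W2 : Subgroup G}

theorem _root_.CfsgLib.FT.PG.FT_cyclicTI_hyp [Finite G] (hG : PGHyp G) (hM : Loc M)
    (h : OfTypeP M U W W1 W2) : CycTI ⊤ W W1 W2 := by
  refine ⟨h.defW, h.W_inf, ?_, mFT_odd hG (hM.mono (h.defW ▸ sup_le h.defM.2.1
    (h.W2_le_H.trans (h.H_le_der.trans h.defM.1)))), h.normedTI⟩
  rw [← h.defW]
  exact isCyclic_sup h.W1_cyclic h.W2_cyclic (by rw [← typeP_cent_compl h]; exact inf_le_right)
    (h.W1_hall.symm.coprime_dvd_right (card_dvd_of_le (h.W2_le_H.trans h.H_le_der)))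

theorem _root_.CfsgLib.FT.PG.FT_primeTI_hyp [Finite G] (hG : PGHyp G) (hM : Loc M)
    (h : OfTypeP M U W W1 W2) : PrimeTI M ⁅M, M⁆ W W1 W2 :=
  ⟨h.defM, der_normal M, h.W1_ne, h.W1_cyclic, h.W1_hall, h.W2_ne, h.W2_le_H.trans h.H_le_der,
    h.W2_cyclic, h.cent, h.defW, mFT_odd hG (hM.mono (h.defW ▸ sup_le h.defM.2.1
    (h.W2_le_H.trans (h.H_le_der.trans h.defM.1))))⟩

end typeP

theorem _root_.CfsgLib.FT.PG.TypePPair.symm {S T W W1 W2 : Subgroup G}
    (h : TypePPair S T W W1 W2) : TypePPair T S W W2 W1 :=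
  ⟨⟨by rw [sup_comm, h.cycTI.sup_eq], by rw [inf_comm, h.cycTI.inf_eq], h.cycTI.cyclic,
    h.cycTI.odd, by rw [cycTIset_comm']; exact h.cycTI.normedTI⟩, h.maxT, h.maxS, h.defT, h.defS,
    by rw [inf_comm, h.inf_eq], h.type2.symm, h.T_ne, h.S_ne,
    fun M hM h1 => (h.conj M hM h1).symm⟩

end CfsgLib.FT.PG.U4.B14
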