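import Mathlib
import Cfsg.Agent.Lib.PG.PF8a
import Cfsg.Agent.Lib.FT.PF8b

/-! Bender–Glauberman, section 16: the types of the maximal subgroups of a minimal simple group
of odd order. -/

set_option autoImplicit false
set_option linter.unusedSectionVars false

namespace CfsgLib.FT.PG.U4.B14
export CfsgLib.FT.U4.B14 (normedTI_sharp_of typeP_classSupport_iff)
end CfsgLib.FT.PG.U4.B14


namespace CfsgLib.FT.PG.U4.B14

open Subgroup Cfsg BGN
open scoped commutatorElement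

variable {G : Type*} [Group G] [PiCtx G]

theorem FTtype_one_iff {M : Subgroup G} : FTtype M = 1 ↔ kappa M = ∅ := by
  unfold FTtype; split_ifs <;> simp_all

theorem FTtype_ne_one_iff {M : Subgroup G} : FTtype M ≠ 1 ↔ (kappa M).Nonempty := by
  rw [Ne, FTtype_one_iff, Set.nonempty_iff_ne_empty]

theorem FTtype_gt_two_iff' {M : Subgroup G} :
    2 < FTtype M ↔ (kappa M).Nonempty ∧ sigmaCore M = ⁅M, M⁆ := by
  rw [Set.nonempty_iff_ne_empty]
  unfold FTtype; split_ifs <;> simp_all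

theorem FTtype_five_iff' {M : Subgroup G} :
    FTtype M = 5 ↔ 2 < FTtype M ∧ sigmaCore M = fittingHallOf M := by
  unfold FTtype; split_ifs <;> simp_all

theorem FTtype_three_iff' {M : Subgroup G} :
    FTtype M = 3 ↔ 2 < FTtype M ∧ sigmaCore M ≠ fittingHallOf M ∧
      ⁅sigmaCore M, sigmaCore M⁆ ≤ fittingHallOf M := by
  unfold FTtype; split_ifs <;> simp_all

theorem FTtype_four_iff' {M : Subgroup G} :
    FTtype M = 4 ↔ 2 < FTtype M ∧ sigmaCore M ≠ fittingHallOf M ∧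
      ¬ ⁅sigmaCore M, sigmaCore M⁆ ≤ fittingHallOf M := by
  unfold FTtype; split_ifs <;> simp_all

section group
variable [Finite G] (hG : PGHyp G) {M : Subgroup G} (hM : Mx M)
include hG hM

theorem FTtype_gt_two_iff : 2 < FTtype M ↔ P1 M := by
  obtain ⟨U, K, h⟩ := ex_kappa_compl' hG hM
  rw [FTtype_gt_two_iff', ← h.U_eq_bot_iff]
  constructor
  · rintro ⟨h1, h2⟩
    rw [KappaCompl.der_eq hG hM h ((hallK_ne_bot_iff h.hallK).2 h1), left_eq_sup] at h2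
    rw [eq_bot_iff, ← h.complMs_U.2.2.1]
    exact le_inf h2 le_rfl
  · intro h1
    have h2 := P1.nonempty hG hM (h.U_eq_bot_iff.1 h1)
    rw [KappaCompl.der_eq hG hM h ((hallK_ne_bot_iff h.hallK).2 h2), h1, sup_bot_eq]
    exact ⟨h2, rfl⟩

theorem FTtype_le_two_iff : FTtype M ≤ 2 ↔ ¬ P1 M := by
  rw [← FTtype_gt_two_iff hG hM, not_lt]

theorem FTtype_two_iff : FTtype M = 2 ↔ P2 M := by
  rw [P2, ← FTtype_ne_one_iff, ← FTtype_le_two_iff hG hM]
  have := FTtype_range M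
  omega

theorem fcore_eq_of_le_two (h : FTtype M ≤ 2) : fittingHallOf M = sigmaCore M :=
  fcore_eq_Ms hG hM (notP1_Ms_nil hG hM ((FTtype_le_two_iff hG hM).1 h))

theorem _root_.CfsgLib.FT.PG.mmax_Fcore_ne_bot : fittingHallOf M ≠ ⊥ := fcore_ne_bot hG hM

theorem _root_.CfsgLib.FT.PG.def_FTcore : FTcore M = sigmaCore M := by
  unfold FTcore
  split_ifs with h
  · exact fcore_eq_of_le_two hG hM h
  · exact (FTtype_gt_two_iff'.1 (not_le.1 h)).2.symm

theorem mem_FTsupp1 {x : G} : x ∈ FTsupp1 M ↔ x ∈ sigmaCore M ∧ x ≠ 1 := by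
  rw [FTsupp1, def_FTcore hG hM, mem_sharp']

theorem mem_FTsupp {a : G} :
    a ∈ FTsupp M ↔ a ∈ FTder M ∧ a ≠ 1 ∧ sigmaCore M ⊓ 𝐂[a] ≠ ⊥ := by
  rw [inf_cent_ne_bot_iff]
  refine and_congr_right fun _ => and_congr_right fun _ => exists_congr fun x => ?_
  rw [mem_FTsupp1 hG hM, mem_cent1', and_assoc]

theorem _root_.CfsgLib.FT.PG.Fcore_le_FTcore : fittingHallOf M ≤ FTcore M := by
  rw [def_FTcore hG hM]; exact fcore_le_Ms hG hM

theorem _root_.CfsgLib.FT.PG.FTcore_le_der1 : FTcore M ≤ ⁅M, M⁆ := by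
  rw [def_FTcore hG hM]; exact Msigma_der1 hG hM

theorem _root_.CfsgLib.FT.PG.FTsupp1_sub : FTsupp1 M ⊆ FTsupp M := fun x hx =>
  ⟨der_le_FTder M (FTcore_le_der1 hG hM hx.1), hx.2, x, hx, rfl⟩

theorem _root_.CfsgLib.FT.PG.FTsupp1_sub0 : FTsupp1 M ⊆ FTsupp0 M :=
  (FTsupp1_sub hG hM).trans (FTsupp_sub0 M)

theorem _root_.CfsgLib.FT.PG.Fcore_sub_FTsupp1 : sharp (fittingHallOf M) ⊆ FTsupp1 M :=
  fun _ hx => ⟨Fcore_le_FTcore hG hM hx.1, hx.2⟩

theorem _root_.CfsgLib.FT.PG.Fitting_sub_FTsupp : sharp (fittingOf M) ⊆ FTsupp M := by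
  intro a ha
  refine (mem_FTsupp hG hM).2 ⟨?_, ha.2, ?_⟩
  · by_cases h : FTtype M = 1
    · rw [FTder_type1 h]; exact fit_le M ha.1
    · rw [FTder_typeP h]; exact fit_le_der hG hM (FTtype_ne_one_iff.1 h) ha.1
  · have h3 : fittingHallOf M ⊓ 𝐂(fittingHallOf M) ≠ ⊥ := by
      haveI := fcore_nil M
      haveI : Nontrivial (fittingHallOf M) := (nontrivial_iff_ne_bot _).2 (fcore_ne_bot hG hM)
      obtain ⟨z, hz, hz1⟩ := exists_ne_one
        (inf_center_ne_bot_of_isNilpotent (G := fittingHallOf M) (N := ⊤) bot_ne_top.symm)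
      refine ne_bot_of_mem (x := (z : G)) (mem_inf.2 ⟨z.2, mem_cent.2 fun x hx => ?_⟩) ?_
      · exact congrArg Subtype.val (mem_center_iff.1 hz.2 ⟨x, hx⟩)
      · exact fun e => hz1 (Subtype.ext e)
    refine fun e => h3 (eq_bot_iff.2 (e ▸ le_inf (inf_le_left.trans (fcore_le_Ms hG hM)) ?_))
    refine le_trans ?_ (cent_le_cent1 ha.1)
    rw [← fcore_sup_cent hG hM]
    exact le_cent_sup inf_le_right (le_centralizer_iff.1 (inf_le_right.trans
      (centralizer_le inf_le_left)))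

/-- The type `F` data attached to a `κ`-complement. -/
theorem typeF_of_kappaCompl {U K L : Subgroup G} (h : KappaCompl M U K) (h1 : U ≠ ⊥)
    (hL : fittingHallOf L = sigmaCore M) (hc : IsComplIn (sigmaCore M) U L) : OfTypeF L U := by
  obtain ⟨⟨A, a1, a2, a3, a4⟩, V, v1, v2, v3⟩ := KappaCompl.typeF hG hM h
  have hn : V ≤ 𝐍(sigmaCore M) := (v1.trans h.U_le).trans (Ms_normal M)
  refine ⟨hL ▸ Msigma_neq1 hG hM, h1, hL ▸ hc, ⟨A, a1, a2, a3, hL ▸ a4⟩, V, v1, v2, ?_⟩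
  rw [hL]
  refine frobIn_of_semiReg (isComplIn_of_sup hn ?_ rfl) (sup_le le_normalizer hn)
    (Msigma_neq1 hG hM) ?_ v3
  · rw [eq_bot_iff, ← hc.2.2.1]; exact inf_le_inf_left _ v1
  · rintro rfl
    rw [Monoid.exp_eq_one_of_subsingleton, eq_comm, Monoid.exp_eq_one_iff] at v2
    exact h1 (eq_bot_of_subsingleton U)

theorem typeI_of_kappa_empty (h : kappa M = ∅) : ∃ U, OfTypeI M U := by
  obtain ⟨U, K, hU⟩ := ex_kappa_compl' hG hM
  have hK : K = ⊥ := (hallK_eq_bot_iff hU.hallK).2 h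
  have h1 : ¬ P1 M := fun h1 => (P1.nonempty hG hM h1).ne_empty h
  have hF := fcore_eq_Ms hG hM (notP1_Ms_nil hG hM h1)
  have hc := hU.complM hG hM
  rw [hK, sup_bot_eq] at hc
  have hT := typeF_of_kappaCompl hG hM hU (hU.U_eq_bot_iff.not.2 h1) hF hc
  refine ⟨U, hT, ?_⟩
  by_contra hne
  push Not at hne
  refine hne.1 (normedTI_sharp_of (fcore_normal M) (fcore_ne_bot hG hM) fun g hg X hX hp => ?_)
  obtain ⟨-, -, h2 | h2⟩ := nonTI_Fitting hG hM hg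
    (hX.trans (inf_le_inf (fcore_le_fit M) (map_mono (fcore_le_fit M)))) hp rfl
  · rw [hF] at hne
    exact h2.2.2.2 (hne.2.1 h2.2.1 h2.2.2.1)
  · obtain ⟨q, hq, hd, h3⟩ := hne.2.2
    obtain ⟨Z, z1, z2, z3⟩ := h2.2.1 q hq (hF ▸ hd)
    obtain ⟨V, hV⟩ := hT.complement
    refine h3 ?_
    rw [← hV.exponent_eq, ← z2]
    exact Group.exponent_dvd_nat_card.trans (semiregular_card_dvd ((hV.le.trans hU.U_le).trans z3)
      (SemiReg.mono (FrobIn.semiReg hV.frob) (hF ▸ z1) le_rfl))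

theorem typeP_of_hallK {K : Subgroup G} (hK : IsPiHallOf (kappa M) K M) (hK1 : K ≠ ⊥) :
    ∃ U, OfTypeP M U (K ⊔ (sigmaCore M ⊓ 𝐂(K))) K (sigmaCore M ⊓ 𝐂(K)) := by
  have hκ := (hallK_ne_bot_iff hK).1 hK1
  obtain ⟨N, hN⟩ := exists_PPair hG hM hK hK1
  have hFs := fcore_le_Ms hG hM
  have hFd : fittingHallOf M ≤ ⁅M, M⁆ := hFs.trans (Msigma_der1 hG hM)
  obtain ⟨E, hE, hKE⟩ := Hall.exists_hallOf_ge (π := {p | p ∣ Nat.card (fittingHallOf M)}ᶜ)
    (mmax_sol hG hM) (U := K) (fun p hp hd h => kappa_sub_sigma' (hallOf_pi hK p hp hd)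
      (Ms_pi M p hp (Dvd.dvd.trans h (card_dvd_of_le hFs)))) hK.1
  have hU := hallOf_inf_of_normal hE (der_le M) (der_normal M)
  have hc := isComplIn_of_hall (Hall.isPiHallOf_of_le (fcore_hall M) hFd (der_le M)) hU
  refine ⟨E ⊓ ⁅M, M⁆, kappa_cyclic hG hM hK, ?_, hK1, complIn_der hG hM hK hK1, ?_, ?_, hc,
    fcore_not_cyclic hG hM hK hK1, der2_le_fit hG hM, fcore_sup_cent hG hM, fit_le_der hG hM hκ,
    hN.L_cyclic hG, hN.L_ne, Kstar_le_fcore hG hM hK hK1, Kstar_le_der2 hG hM hK hK1,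
    fun x hx h1 => der_cent1_K hG hM hK hK1 hx h1, rfl, hN.normedTI hG⟩
  · exact (IsPiNum.coprime_compl (hallOf_pi hK) (hallOf_pi (hall_der hG hM hκ))).symm
  · by_cases hn : Group.IsNilpotent (sigmaCore M)
    · refine isNilpotent_of_comm (le_centralizer_iff_isMulCommutative.1 (le_cent_of_comm_le
        ((commutator_mono inf_le_right inf_le_right).trans (der2_le_Ms hG hM)) (der_le _) ?_))
      rw [← fcore_eq_Ms hG hM hn, hc.2.2.1]
    · obtain ⟨h1, -, -, q, hq, h2, -, h3, h4, h5, -⟩ := Fcore_structure hG hM hK hn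
      haveI := Fact.mk hq
      refine h5 _ (inf_le_right.trans (FTtype_gt_two_iff'.1 ((FTtype_gt_two_iff hG hM).2 h1)).2.ge)
        fun p hp hd e => hallOf_pi hU p hp hd ?_
      rw [show p = q from e, ← h2]
      exact card_dvd_of_le (h4.trans (sylow_le_fcore h3 (pcore_normal _ _)))
  · exact le_normalizer_inf (hKE.trans le_normalizer) (hK.1.trans (der_normal M))

theorem _root_.CfsgLib.FT.PG.FTtypeP_witness (h : FTtype M ≠ 1) :
    ∃ U W W1 W2, OfTypeP M U W W1 W2 := by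
  obtain ⟨K, hK⟩ := ex_hallK hG hM
  obtain ⟨U, hU⟩ := typeP_of_hallK hG hM hK ((hallK_ne_bot_iff hK).2 (FTtype_ne_one_iff.1 h))
  exact ⟨U, _, _, _, hU⟩

theorem type1_of_typeF {U : Subgroup G} (h : OfTypeF M U) : FTtype M = 1 := by
  by_contra h1
  obtain ⟨V, W, W1, W2, hP⟩ := FTtypeP_witness hG hM h1
  exact typePF_exclusion hP U h

theorem _root_.CfsgLib.FT.PG.FT_Frobenius_type1 (h : FrobKer M (fittingHallOf M)) : FTtype M = 1 := by
  obtain ⟨E, hE⟩ := h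
  exact type1_of_typeF hG hM (Frobenius_of_typeF hE)

/-- BG 16.1. -/
theorem _root_.CfsgLib.FT.PG.FTtype_eq_one_iff : FTtype M = 1 ↔ ∃ U, OfTypeI M U :=
  ⟨fun h => typeI_of_kappa_empty hG hM (FTtype_one_iff.1 h),
    fun ⟨_, h⟩ => type1_of_typeF hG hM h.typeF⟩

variable {U W W1 W2 : Subgroup G} (hP : OfTypeP M U W W1 W2)
include hP

theorem _root_.CfsgLib.FT.PG.FTtypeP_ne_one : FTtype M ≠ 1 := fun h => by
  obtain ⟨V, hV⟩ := (FTtype_eq_one_iff hG hM).1 h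
  exact typePF_exclusion hP V hV.typeF

theorem typeP_kappa : (kappa M).Nonempty := FTtype_ne_one_iff.1 (FTtypeP_ne_one hG hM hP)

theorem typeP_hallK : IsPiHallOf (kappa M) W1 M := by
  simpa using IsComplIn.hall_compl hP.defM (hall_der hG hM (typeP_kappa hG hM hP))

theorem typeP_W2 : sigmaCore M ⊓ 𝐂(W1) = W2 := by
  rw [← der_cent_K hG hM (typeP_hallK hG hM hP) hP.W1_ne, typeP_cent_compl hP]

theorem typeP_PPair : ∃ N, PPair M N W1 W2 := by
  rw [← typeP_W2 hG hM hP]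
  exact exists_PPair hG hM (typeP_hallK hG hM hP) hP.W1_ne

theorem typeP_kappaCompl (h : P2 M) : KappaCompl M U W1 := by
  refine ⟨typeP_hallK hG hM hP, ?_, hP.nUW1⟩
  have h1 := hP.defHU
  rw [fcore_eq_Ms hG hM (notP1_Ms_nil hG hM h.2)] at h1
  have h2 := IsComplIn.hall_compl h1
    (Hall.isPiHallOf_of_le (Msigma_Hall hG hM) (Msigma_der1 hG hM) (der_le M))
  have h3 := hall_der hG hM h.1
  refine Hall.isPiHallOf_trans (hallOf_congr h2 fun p hp hd => ?_) (der_le M)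
    fun p hp h4 => h3.2.2 p hp fun h5 => h4 (Or.inr h5)
  have := h3.2.1 p hp hd
  simp only [Set.mem_compl_iff, Set.mem_union] at this ⊢
  tauto

theorem typeP_norm_le (h : 2 < FTtype M) (hU : U ≠ ⊥) : 𝐍(U) ≤ M := by
  obtain ⟨p, hp, hd⟩ := exists_prime_dvd_card hU
  haveI := Fact.mk hp
  obtain ⟨S, hS⟩ := IsSylowIn.exists_in (p := p) U
  have h1 := (FTtype_gt_two_iff'.1 h).2
  have h2 := IsComplIn.hall_compl hP.defHU (typeP_hall_H hP)
  have h3 : p ∈ sigma M := Ms_pi M p hp (hd.trans (card_dvd_of_le (hP.U_le_der.trans h1.ge)))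
  have h4 := sylow_of_sylow_hall hp hS h2 (hallOf_pi h2 p hp hd)
  rw [← h1] at h4
  exact (norm_le_norm_sylow_of_nil hP.U_nilpotent hS).trans
    (norm_sigma_Sylow h3 (sylow_of_sylow_hall hp h4 (Msigma_Hall hG hM) h3))

theorem typeP_U_pi (h : 2 < FTtype M) : IsPiSubgroup ϖ[G] U :=
  pi_of_sigma (pi_of_le (Ms_pi M) (hP.U_le_der.trans (FTtype_gt_two_iff'.1 h).2.ge))

theorem typeII_of_P2 (h : P2 M) : OfTypeII M U W W1 W2 := by
  have hU := typeP_kappaCompl hG hM hP h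
  have hU1 := (hU.P2_iff.1 h).2
  have hF := fcore_eq_Ms hG hM (notP1_Ms_nil hG hM h.2)
  refine ⟨⟨hP, hU1, (P2_facts hG hM hU.hallK h).2.1, normedTI_sharp_of (fit_normal M)
    (mmax_fitting_ne_bot hG hM) fun g hg X hX hp => (nonTI_Fitting hG hM hg hX hp rfl).1 h⟩,
    (KappaCompl.facts hG hM hU hP.W1_ne).1, fun hπ h1 => ?_,
    typeF_of_kappaCompl hG hM hU hU1 ((typeP_fcore_der hP).trans hF) (hF ▸ hP.defHU),
    typeP_fcore_der hP⟩
  obtain ⟨N, hN⟩ := typeP_PPair hG hM hP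
  obtain ⟨r, hr, hd⟩ := exists_prime_dvd_card hU1
  haveI := Fact.mk hr
  obtain ⟨R, hR⟩ := IsSylowIn.exists_in (p := r) U
  obtain ⟨H, hH, hRH⟩ := exists_norm_mmax hG (hR.ne_bot hd)
    (pi_of_le hπ hR.le)
  exact (P2type_signalizer hG hN hU (hπ r hr hd) hR (hR.ne_bot hd) hH hRH).2.2.2.2.2.1 (inf_le_right.trans h1)

theorem typeP_U_ne_iff (h : 2 < FTtype M) : U ≠ ⊥ ↔ sigmaCore M ≠ fittingHallOf M := by
  rw [(FTtype_gt_two_iff'.1 h).2, ← IsComplIn.sup_eq hP.defHU, Ne, Ne, sup_eq_left]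
  refine not_congr ⟨fun e => e ▸ bot_le, fun e => ?_⟩
  rw [eq_bot_iff, ← hP.defHU.2.2.1]
  exact le_inf e le_rfl

theorem typeP_U_comm_iff (h : 2 < FTtype M) :
    IsMulCommutative U ↔ ⁅sigmaCore M, sigmaCore M⁆ ≤ fittingHallOf M := by
  rw [(FTtype_gt_two_iff'.1 h).2]
  constructor
  · intro h1
    rw [← IsComplIn.sup_eq hP.defHU]
    refine (der_sup_le ((hP.U_le_der.trans (der_le M)).trans (fcore_normal M))).trans ?_
    rw [commutator_eq_bot_iff_le_centralizer.2 (le_centralizer_iff_isMulCommutative.2 h1),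
      sup_bot_eq]
  · intro h1
    exact le_centralizer_iff_isMulCommutative.1 (le_cent_of_comm_le
      ((commutator_mono hP.U_le_der hP.U_le_der).trans h1) (der_le _) hP.defHU.2.2.1)

theorem typeII_IV_of_gt_two (h : 2 < FTtype M) (h1 : sigmaCore M ≠ fittingHallOf M) :
    OfTypeII_IV M U W W1 W2 := by
  have hn : ¬ Group.IsNilpotent (sigmaCore M) := fun hn => h1 (fcore_eq_Ms hG hM hn).symm
  exact ⟨hP, (typeP_U_ne_iff hG hM hP h).2 h1,
    (Fcore_structure hG hM (typeP_hallK hG hM hP) hn).2.2.1, normedTI_sharp_of (fit_normal M)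
      (mmax_fitting_ne_bot hG hM) fun g hg X hX hp => hn (nonTI_Fitting hG hM hg hX hp rfl).2.1⟩

theorem gt_two_of_norm_le (hU : IsPiSubgroup ϖ[G] U) (h : 𝐍(U) ≤ M) : 2 < FTtype M := by
  have h1 := FTtypeP_ne_one hG hM hP
  have h2 := FTtype_range M
  have h3 : FTtype M ≠ 2 := fun e =>
    (typeII_of_P2 hG hM hP ((FTtype_two_iff hG hM).1 e)).not_norm_le hU h
  omega

theorem _root_.CfsgLib.FT.PG.FTtype_eq_two_iff : FTtype M = 2 ↔ OfTypeII M U W W1 W2 := by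
  refine ⟨fun h => typeII_of_P2 hG hM hP ((FTtype_two_iff hG hM).1 h), fun h => ?_⟩
  have h1 := FTtypeP_ne_one hG hM hP
  have h2 := FTtype_range M
  have h3 : ¬ 2 < FTtype M := fun e => h.not_norm_le (typeP_U_pi hG hM hP e)
    (typeP_norm_le hG hM hP e h.U_ne)
  omega

theorem _root_.CfsgLib.FT.PG.FTtype_eq_three_iff : FTtype M = 3 ↔ OfTypeIII M U W W1 W2 := by
  rw [FTtype_three_iff']
  refine ⟨fun ⟨h1, h2, h3⟩ => ⟨typeII_IV_of_gt_two hG hM hP h1 h2,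
    (typeP_U_comm_iff hG hM hP h1).2 h3, typeP_U_pi hG hM hP h1,
    typeP_norm_le hG hM hP h1 ((typeP_U_ne_iff hG hM hP h1).2 h2)⟩, fun h => ?_⟩
  have h1 := gt_two_of_norm_le hG hM hP h.pi h.norm_le
  exact ⟨h1, (typeP_U_ne_iff hG hM hP h1).1 h.U_ne, (typeP_U_comm_iff hG hM hP h1).1 h.U_comm⟩

theorem _root_.CfsgLib.FT.PG.FTtype_eq_four_iff : FTtype M = 4 ↔ OfTypeIV M U W W1 W2 := by
  rw [FTtype_four_iff']
  refine ⟨fun ⟨h1, h2, h3⟩ => ⟨typeII_IV_of_gt_two hG hM hP h1 h2,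
    (typeP_U_comm_iff hG hM hP h1).not.2 h3, typeP_U_pi hG hM hP h1,
    typeP_norm_le hG hM hP h1 ((typeP_U_ne_iff hG hM hP h1).2 h2)⟩, fun h => ?_⟩
  have h1 := gt_two_of_norm_le hG hM hP h.pi h.norm_le
  exact ⟨h1, (typeP_U_ne_iff hG hM hP h1).1 h.U_ne,
    (typeP_U_comm_iff hG hM hP h1).not.1 h.U_not_comm⟩

theorem _root_.CfsgLib.FT.PG.FTtype_eq_five_iff : FTtype M = 5 ↔ OfTypeV M U W W1 W2 := by
  rw [FTtype_five_iff']
  constructor
  · rintro ⟨h1, h2⟩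
    refine ⟨hP, by_contra fun e => (typeP_U_ne_iff hG hM hP h1).1 e h2, ?_⟩
    by_contra hne
    push Not at hne
    refine hne.1 (normedTI_sharp_of (fcore_normal M) (fcore_ne_bot hG hM) fun g hg X hX hp => ?_)
    obtain ⟨-, -, h3 | h3⟩ := nonTI_Fitting hG hM hg
      (hX.trans (inf_le_inf (fcore_le_fit M) (map_mono (fcore_le_fit M)))) hp rfl
    · exact (typeP_kappa hG hM hP).ne_empty h3.1
    · rw [← h2] at hne
      rcases h3.2.2 W1 (typeP_hallK hG hM hP) hP.W1_ne with h4 | h4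
      · exact hne.2.1 _ hp h3.1 h4
      · exact hne.2.2 _ hp h3.1 h4.1 h4.2
  · intro h
    have h1 := IsComplIn.sup_eq hP.defHU
    rw [h.U_eq, sup_bot_eq] at h1
    have h2 : sigmaCore M = ⁅M, M⁆ :=
      le_antisymm (Msigma_der1 hG hM) (h1.ge.trans (fcore_le_Ms hG hM))
    exact ⟨FTtype_gt_two_iff'.2 ⟨typeP_kappa hG hM hP, h2⟩, h2.trans h1.symm⟩

theorem _root_.CfsgLib.FT.PG.compl_of_typeII_IV (h5 : FTtype M ≠ 5) : OfTypeII_IV M U W W1 W2 := by
  by_cases h : 2 < FTtype M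
  · exact typeII_IV_of_gt_two hG hM hP h fun e => h5 (FTtype_five_iff'.2 ⟨h, e⟩)
  · have h1 := FTtypeP_ne_one hG hM hP
    have h2 := FTtype_range M
    exact ((FTtype_eq_two_iff hG hM hP).1 (by omega)).toOfTypeII_IV

theorem _root_.CfsgLib.FT.PG.FTtypeP_pair_witness :
    ∃ T, TypePPair M T W W1 W2 ∧ ∃ V, OfTypeP T V W W2 W1 := by
  obtain ⟨N, hN⟩ := typeP_PPair hG hM hP
  obtain ⟨V, hV⟩ := typeP_of_hallK hG hN.maxN hN.hallL hN.L_ne
  rw [hN.defK, sup_comm, hP.defW] at hV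
  refine ⟨N, ⟨FT_cyclicTI_hyp hG hM.1 hP, hM, hN.maxN, hP.defM, hV.defM, by rw [hN.inf_eq hG, hP.defW],
    ?_, FTtypeP_ne_one hG hM hP, FTtypeP_ne_one hG hN.maxN hV,
    fun H hH h1 => hN.conj_of_P hG hH (FTtype_ne_one_iff.1 h1)⟩, V, hV⟩
  rw [FTtype_two_iff hG hM, FTtype_two_iff hG hN.maxN]
  exact hN.p2

/-- PF (8.10): `A₀(M) = A(M) ∪ V^M`. -/
theorem _root_.CfsgLib.FT.PG.FTtypeP_supp0_def :
    FTsupp0 M = FTsupp M ∪ classSupport (cycTIset W W1 W2) M := by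
  rw [FTsupp0, FTder_typeP (FTtypeP_ne_one hG hM hP)]
  congr 1
  ext x
  exact (typeP_classSupport_iff hP).symm

theorem _root_.CfsgLib.FT.PG.FTsupp0_typeP :
    FTsupp0 M \ FTsupp M = classSupport (cycTIset W W1 W2) M := by
  rw [FTtypeP_supp0_def hG hM hP, Set.union_diff_cancel_left]
  rintro x ⟨h1, h2⟩
  have h3 := h1.1
  rw [FTder_typeP (FTtypeP_ne_one hG hM hP)] at h3
  exact ((typeP_classSupport_iff hP).1 h2).2.1
    (isPiNum_orderOf_of_mem (hallOf_pi (typeP_hall_der hP)) h3)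

theorem typeP_class_TI {x g : G} (hx : x ∈ classSupport (cycTIset W W1 W2) M)
    (hg : g * x * g⁻¹ ∈ M) : g ∈ M := by
  obtain ⟨N, hN⟩ := typeP_PPair hG hM hP
  obtain ⟨t, ht, m, hm, rfl⟩ := hx
  rw [← hP.defW] at ht
  have := hN.Zhat_not_mem_conj hG ht (g := (g * m)⁻¹) (by
    rw [← conj_mem_conj_iff (g := g * m), map_conj_map_conj_inv]
    convert hg using 1; group)
  rwa [M.inv_mem_iff, M.mul_mem_cancel_right hm] at this

end group

end CfsgLib.FT.PG.U4.B14
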