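import Mathlib
import Cfsg.Agent.Lib.PG.PF8b
import Cfsg.Agent.Lib.FT.PF8c

/-! Peterfalvi, section 8: (8.8), (8.9), (8.11)–(8.18) (Theorems I and II of Bender–Glauberman). -/

set_option autoImplicit false
set_option linter.unusedSectionVars false

namespace CfsgLib.FT.PG.U4.B14
export CfsgLib.FT.U4.B14 (dadeHyp_restrict NotConj.conj_left)
end CfsgLib.FT.PG.U4.B14


namespace CfsgLib.FT.PG.U4.B14

open Subgroup Cfsg BGN
open scoped commutatorElement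

variable {G : Type*} [Group G] [PiCtx G]

theorem tau2_sub_sigma' {M : Subgroup G} : tau2 M ⊆ (sigma M)ᶜ := fun _ h => h.2.1

section group
variable [Finite G] (hG : PGHyp G) {M : Subgroup G} (hM : Mx M)
  {U W W1 W2 : Subgroup G}
include hG hM

theorem FTder_hall : IsPiHallOf (kappa M)ᶜ (FTder M) M := by
  by_cases h : FTtype M = 1
  · rw [FTder_type1 h]
    exact hallOf_self fun p _ _ => by rw [FTtype_one_iff.1 h]; simp
  · rw [FTder_typeP h]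
    exact hall_der hG hM (FTtype_ne_one_iff.1 h)

theorem Ms_le_FTder : sigmaCore M ≤ FTder M := (Msigma_der1 hG hM).trans (der_le_FTder M)

/-- BG Theorem B(5), local form. -/
theorem FTsupp_sigma' {a y : G} (ha : a ∈ FTsupp M) (hy : y ∈ zpowers a) (hy1 : y ≠ 1)
    (hσ : IsPiNum (sigma M)ᶜ (orderOf y)) :
    IsPiNum (tau2 M) (orderOf y) ∧ UniqMax 𝐂[y] M := by
  rw [mem_FTsupp hG hM] at ha
  have h1 : y ∈ FTder M := zpowers_le.2 ha.1 hy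
  have h2 := isPiNum_orderOf_of_mem (hallOf_pi (FTder_hall hG hM)) h1
  have := sigma'_kappa'_nonreg hG hM (X := zpowers y) (zpowers_le.2 (FTder_le M h1))
    (isPiSubgroup_zpowers_iff.2 fun p hp hd h => h.elim (hσ p hp hd) (h2 p hp hd))
    (fun e => ha.2.2 (eq_bot_iff.2 (e ▸ inf_le_inf_left _ (cent1_le_cent (zpowers_le.2 hy)))))
  rw [cent_zpowers] at this
  exact ⟨isPiSubgroup_zpowers_iff.1 this.1, this.2.2 (zpowers_ne_bot.2 hy1)⟩

theorem exists_sigma'_part {a : G} (ha : a ∈ M) (h : a ∉ sigmaCore M) :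
    ∃ y ∈ zpowers a, y ≠ 1 ∧ IsPiNum (sigma M)ᶜ (orderOf y) := by
  obtain ⟨u, hu, v, hv, e, -, h1, h2⟩ := exists_pi_part (sigma M) a
  refine ⟨v, hv, fun e1 => h ?_, h2⟩
  rw [e, e1, mul_one]
  exact mem_Ms hG hM (zpowers_le.2 ha hu) h1

theorem FTsupp_TI {a g : G} (ha : a ∈ FTsupp M) (h : a ∉ sigmaCore M)
    (hg : g * a * g⁻¹ ∈ FTsupp M) : g ∈ M := by
  obtain ⟨y, hy, hy1, hσ⟩ := exists_sigma'_part hG hM (FTsupp_sub M ha).1 h
  have h1 := (FTsupp_sigma' hG hM ha hy hy1 hσ).2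
  have h2 := (FTsupp_sigma' hG hM hg (y := g * y * g⁻¹)
    (by rw [zpowers_conj, conj_mem_conj_iff]; exact hy) (conj_ne_one_iff.2 hy1)
    (by rwa [orderOf_conj])).2
  exact UniqMax.mem_of_conj_le hG hM h2 (by rw [cent1_conj, conj_le_conj_iff]; exact h1.1)

theorem FTsupp0_cases {x : G} (hx : x ∈ FTsupp0 M) :
    x ∈ FTsupp M ∨ ∀ g : G, g * x * g⁻¹ ∈ M → g ∈ M := by
  by_cases h : FTtype M = 1
  · exact Or.inl (FTsupp0_type1 h ▸ hx)
  · obtain ⟨U, W, W1, W2, hP⟩ := FTtypeP_witness hG hM h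
    rw [FTtypeP_supp0_def hG hM hP] at hx
    exact hx.imp_right fun hx g hg => typeP_class_TI hG hM hP hx hg

/-- PF (8.11). -/
theorem _root_.CfsgLib.FT.PG.FTcore_facts :
    (Nat.card (fittingHallOf M)).Coprime (fittingHallOf M).index ∧
    (Nat.card (FTcore M)).Coprime (FTcore M).index ∧
    ∀ (p : ℕ) (S : Subgroup G), p.Prime → IsSylowIn p S (FTcore M) → S ≠ ⊥ →
      normalizer (S : Set G) ≤ M := by
  rw [def_FTcore hG hM]
  refine ⟨Hall.hall_coprime (sigma_hall_G (π := {p | p.Prime ∧ p ∣ Nat.card (fittingHallOf M)})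
    (fun p hp => Ms_pi M p hp.1 (hp.2.trans (card_dvd_of_le (fcore_le_Ms hG hM))))
    (hallOf_congr (fcore_hall M) fun p hp _ => by simp [hp])),
    Hall.hall_coprime (Msigma_Hall_G hG hM), fun p S hp hS h1 => ?_⟩
  haveI := Fact.mk hp
  obtain ⟨q, hq, hd⟩ := exists_prime_dvd_card h1
  have h2 := isPiSubgroup_of_isPGroup (π := {p}) hS.isPGroup rfl q hq hd
  have h3 : p ∈ sigma M := Ms_pi M p hp (((show q = p from h2) ▸ hd).trans (card_dvd_of_le hS.le))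
  exact norm_sigma_Sylow h3 (sylow_of_sylow_hall hp hS (Msigma_Hall hG hM) h3)

/-- PF (8.12). -/
theorem _root_.CfsgLib.FT.PG.FTtypeI_II_facts (h12 : FTtype M ≤ 2)
    (hU : IsComplIn (fittingHallOf M) U (FTder M)) :
    (∀ (p : ℕ) (S : Subgroup G), p.Prime → IsSylowIn p S U → IsMulCommutative S ∧ PRankLE p 2 S) ∧
    (∀ X : Set G, X.Nonempty → X ⊆ sharp U → fittingHallOf M ⊓ centralizer X ≠ ⊥ →
      UniqMax (centralizer X) M) ∧
    ((FTsupp M \ FTsupp1 M).Nonempty → NormedTI (FTsupp M \ FTsupp1 M) ⊤ M) := by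
  rw [fcore_eq_of_le_two hG hM h12] at hU ⊢
  have hUM : U ≤ M := hU.2.1.trans (FTder_le M)
  have h1 := hallOf_pi (IsComplIn.hall_compl hU
    (Hall.isPiHallOf_of_le (Msigma_Hall hG hM) hU.1 (FTder_le M)))
  refine ⟨fun p S hp hS => ?_, fun X hX h2 h3 => ?_, fun hne => ⟨hne, le_top, fun x hx a ha =>
    ⟨FTsupp_norm M x hx a ha.1, fun h => ha.2 ?_⟩, fun g _ a ha hg => FTsupp_TI hG hM ha.1
      (fun h => ha.2 ((mem_FTsupp1 hG hM).2 ⟨h, ha.1.2.1⟩)) hg.1⟩⟩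
  · haveI := Fact.mk hp
    refine ⟨sigma'_nil_abelian hG hM (hS.le.trans hUM)
      (fun q hq hd => h1 q hq (hd.trans (card_dvd_of_le hS.le))) hS.isPGroup.isNilpotent, ?_⟩
    by_cases hd : p ∣ Nat.card U
    · exact pRankLE_mono (sigma'_rank_le2 hG hM (h1 p hp hd)) (hS.le.trans hUM)
    · rw [(IsSylowIn.bot_iff.2 hd).eq_of_le hS.isPGroup bot_le hS.le]
      exact pRankLE_of_card_le (by simpa using Nat.one_le_pow _ _ hp.pos)
  · have h4 : closure X ≤ U := (closure_le _).2 fun x hx => (h2 hx).1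
    rw [← centralizer_closure] at h3 ⊢
    refine (sigma'_kappa'_nonreg hG hM (h4.trans hUM) (fun p hp hd h => h.elim
      (h1 p hp (hd.trans (card_dvd_of_le h4))) (hallOf_pi (FTder_hall hG hM) p hp
        (hd.trans (card_dvd_of_le (h4.trans hU.2.1))))) h3).2.2 ?_
    obtain ⟨x, hx⟩ := hX
    exact ne_bot_of_mem (subset_closure hx) (h2 hx).2
  · have := FTsupp1_norm M x⁻¹ (M.inv_mem hx) _ h
    rwa [show x⁻¹ * (x * a * x⁻¹) * x⁻¹⁻¹ = a by group] at this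

/-- PF (8.13)(a). -/
theorem _root_.CfsgLib.FT.PG.FTsupp0_fusion : ∀ x ∈ FTsupp0 M, ∀ g : G, g * x * g⁻¹ ∈ FTsupp0 M →
    ∃ m ∈ M, m * x * m⁻¹ = g * x * g⁻¹ := by
  intro x hx g hg
  rcases FTsupp0_cases hG hM hx with h1 | h1
  swap
  · exact ⟨g, h1 g (FTsupp0_sub M hg).1, rfl⟩
  rcases FTsupp0_cases hG hM hg with h2 | h2
  swap
  · exact ⟨g, M.inv_mem_iff.1 (h2 g⁻¹ (by
      rw [show g⁻¹ * (g * x * g⁻¹) * g⁻¹⁻¹ = x by group]; exact (FTsupp0_sub M hx).1)), rfl⟩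
  by_cases h : x ∈ sigmaCore M
  · exact Ms_fusion hG hM h (mem_Ms hG hM (FTsupp_sub M h2).1 (by rw [orderOf_conj]; exact Ms_elt h))
  · exact ⟨g, FTsupp_TI hG hM h1 h h2, rfl⟩

theorem FTsupp0_mem_Ms {x : G} (hx : x ∈ FTsupp0 M) (hC : ¬ 𝐂[x] ≤ M) : x ∈ sigmaCore M := by
  by_contra h
  refine hC fun c hc => ?_
  rcases FTsupp0_cases hG hM hx with h1 | h1
  · exact FTsupp_TI hG hM h1 h (by rwa [conj_eq_of_mem_cent1 hc])
  · exact h1 c (by rw [conj_eq_of_mem_cent1 hc]; exact (FTsupp0_sub M hx).1)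

theorem frobKer_of_no_tau2 (h1 : kappa M = ∅) (h2 : tau2 M = ∅) : FrobKer M (fittingHallOf M) := by
  obtain ⟨E, hE⟩ := exists_sigma_compl hG hM
  rw [fcore_eq_of_le_two hG hM (by rw [FTtype_one_iff.2 h1]; omega)]
  exact ⟨E, frobIn_of_semiReg (complIn_Ms hG hM hE) (Ms_normal M) (Msigma_neq1 hG hM)
    (sigma_compl_ne_bot hG hM hE) (semiReg_of_no_tau2 hG hM h1 h2 hE.1 (hallOf_pi hE))⟩

theorem Signalizer.fcore_eq {N : Subgroup G} {x : G} (h : Signalizer M N x) (hx1 : x ≠ 1) :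
    fittingHallOf N = sigmaCore N := fcore_eq_Ms hG h.coatom (h.nil hG hx1)

theorem Signalizer.coprime_cent {N : Subgroup G} {x : G} (h : Signalizer M N x)
    (hx : x ∈ sigmaCore M) (hx1 : x ≠ 1) {y : G} (hy : y ∈ FTsupp0 M) :
    (Nat.card (sigmaCore N)).Coprime (Nat.card ↥(M ⊓ 𝐂[y])) := by
  refine Nat.coprime_of_dvd fun q hq h1 h2 => ?_
  have h3 := Ms_pi N q hq h1
  obtain ⟨h4, h5⟩ := non_disjoint_signalizer hG hM hx hx1 h
    (h2.trans (card_dvd_of_le inf_le_left)) h3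
  rw [FTsupp0_type1 (FTtype_one_iff.2 h4)] at hy
  have h6 : y ∈ sigmaCore M := by
    by_contra h6
    obtain ⟨z, hz, hz1, hσ⟩ := exists_sigma'_part hG hM (FTsupp_sub M hy).1 h6
    have := (FTsupp_sigma' hG hM hy hz hz1 hσ).1
    obtain ⟨p, hp, hd⟩ := exists_prime_dvd_orderOf hz1
    simpa [h5] using this p hp hd
  obtain ⟨X, hX, hXq⟩ := exists_card_prime hq h2
  have h7 := SemiReg.symm (semiReg_of_no_tau2 hG hM h4 h5 (hX.trans inf_le_left)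
    (isPiSubgroup_of_card_eq hq hXq (sigma'_of_notConj hG hM h.coatom h.notConj h3))) y h6 hy.2.1
  rw [inf_eq_left.2 (hX.trans inf_le_right)] at h7
  exact ne_bot_of_card_prime (hXq ▸ hq) h7

/-- PF (8.13)(b), (c). -/
theorem _root_.CfsgLib.FT.PG.FTsupport_facts {x : G} (hx : x ∈ FTsupp0 M)
    (hC : ¬ centralizer ({x} : Set G) ≤ M) :
    x ∈ FTsupp1 M ∧ ∃ L : Subgroup G, Mx L ∧ UniqMax (centralizer ({x} : Set G)) L ∧
      supportR M x = fittingHallOf L ⊓ centralizer ({x} : Set G) ∧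
      IsComplIn (fittingHallOf L) (M ⊓ L) L ∧
      IsComplIn (fittingHallOf L ⊓ centralizer ({x} : Set G)) (M ⊓ centralizer ({x} : Set G))
        (centralizer ({x} : Set G)) ∧
      (∀ y ∈ FTsupp0 M, (Nat.card (fittingHallOf L)).Coprime
        (Nat.card ↥(M ⊓ centralizer ({y} : Set G)))) ∧
      (x ∈ FTsupp L ∧ x ∉ FTsupp1 L) ∧ FTtype L ≤ 2 ∧
      (FTtype L = 2 → FrobKer M (fittingHallOf M)) := by
  have h1 := FTsupp0_mem_Ms hG hM hx hC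
  have hx1 := (FTsupp0_sub M hx).2
  obtain ⟨N, hN⟩ := FT_signalizer_context hG hM h1 hx1 hC
  refine ⟨(mem_FTsupp1 hG hM).2 ⟨h1, hx1⟩, N, hN.coatom, hN.uniq,
    supportR_eq hC hN.coatom hN.uniq, ?_⟩
  rw [hN.fcore_eq hG hM hx1]
  refine ⟨hN.complN hG, hN.complC hG (Ms_le M h1), fun y hy => hN.coprime_cent hG hM h1 hx1 hy,
    ⟨(mem_FTsupp hG hN.coatom).2 ⟨?_, hx1, hN.R_ne⟩,
      fun h => hN.not_mem_Ms hx1 ((mem_FTsupp1 hG hN.coatom).1 h).1⟩,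
    (FTtype_le_two_iff hG hN.coatom).2 (hN.notP1 hx1), fun h => ?_⟩
  · exact mem_of_normal_hallOf (FTder_hall hG hN.coatom) (FTder_normal N)
      (hN.tau2_elt.mono fun p hp h => kappa_not_tau2 h hp) hN.mem
  · obtain ⟨h2, h3⟩ := nonFtype_signalizer_base hG hM hx1 hN (FTtype_ne_one_iff.1 (by omega))
    exact frobKer_of_no_tau2 hG hM h2 h3

theorem norm_set_eq {A : Set G} (hne : A.Nonempty) (hA : A ⊆ sharp M)
    (hn : ∀ g ∈ M, ∀ x ∈ A, g * x * g⁻¹ ∈ A) : normalizer A = M := by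
  have h1 : M ≤ normalizer A := fun g hg x => ⟨hn g hg x, fun h => by
    have := hn g⁻¹ (M.inv_mem hg) _ h
    rwa [show g⁻¹ * (g * x * g⁻¹) * g⁻¹⁻¹ = x by group] at this⟩
  have h2 : closure A ≤ M := (closure_le _).2 fun x hx => (hA hx).1
  obtain ⟨a, ha⟩ := hne
  have h3 : normalizer A ≤ 𝐍(closure A) := fun g hg => by
    have : g •ᶜ closure A ≤ closure A := by
      rw [MonoidHom.map_closure, closure_le]
      rintro _ ⟨x, hx, rfl⟩
      exact subset_closure ((hg x).1 hx)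
    exact mem_normalizer_of_conj_mem fun x hx => this (conj_mem_conj_iff.2 hx)
  rw [mmax_normal hG hM h2 (h1.trans h3) (ne_bot_of_mem (subset_closure ha) (hA ha).2)] at h3
  exact le_antisymm h3 h1

theorem FTsupp1_nonempty : (FTsupp1 M).Nonempty := by
  obtain ⟨x, hx⟩ := exists_ne_one (Msigma_neq1 hG hM)
  exact ⟨x, (mem_FTsupp1 hG hM).2 hx⟩

/-- PF (8.15). -/
theorem _root_.CfsgLib.FT.PG.norm_FTsupp1 : normalizer (FTsupp1 M) = M :=
  norm_set_eq hG hM (FTsupp1_nonempty hG hM) ((FTsupp1_sub hG hM).trans (FTsupp_sub M))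
    (FTsupp1_norm M)

theorem _root_.CfsgLib.FT.PG.norm_FTsupp : normalizer (FTsupp M) = M :=
  norm_set_eq hG hM ((FTsupp1_nonempty hG hM).mono (FTsupp1_sub hG hM)) (FTsupp_sub M)
    (FTsupp_norm M)

theorem _root_.CfsgLib.FT.PG.norm_FTsupp0 : normalizer (FTsupp0 M) = M :=
  norm_set_eq hG hM ((FTsupp1_nonempty hG hM).mono (FTsupp1_sub0 hG hM)) (FTsupp0_sub M)
    (FTsupp0_norm M)

theorem _root_.CfsgLib.FT.PG.FT_Dade0_hyp : DadeHypothesis (FTsupp0 M) M (supportR M) := by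
  have key : ∀ a ∈ FTsupp0 M, IsComplIn (supportR M a) (M ⊓ 𝐂[a]) 𝐂[a] ∧
      𝐂[a] ≤ 𝐍(supportR M a) ∧ ∀ b ∈ FTsupp0 M,
        (Nat.card (supportR M a)).Coprime (Nat.card ↥(M ⊓ 𝐂[b])) := by
    intro a ha
    by_cases hC : 𝐂[a] ≤ M
    · rw [supportR_of_cent_le hC, inf_eq_right.2 hC, normalizer_eq_top, card_bot]
      exact ⟨isComplIn_of_sup (by rw [normalizer_eq_top]; exact le_top) (bot_inf_eq _)
        (bot_sup_eq _), le_top, fun _ _ => Nat.coprime_one_left _⟩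
    · obtain ⟨-, L, -, h1, h2, -, h3, h4, -⟩ := FTsupport_facts hG hM ha hC
      rw [h2]
      exact ⟨h3, le_normalizer_inf (h1.1.trans (fcore_normal L)) le_normalizer,
        fun b hb => (h4 b hb).coprime_dvd_left (card_dvd_of_le inf_le_left)⟩
  exact ⟨fun h => (FTsupp0_sub M h).2 rfl, fun x hx => (FTsupp0_sub M hx).1, FTsupp0_norm M,
    FTsupp0_fusion hG hM, fun a ha => (key a ha).1.1,
    fun a ha c hc u hu => conj_mem_of_mem_normalizer ((key a ha).2.1 hc) hu,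
    fun a ha => (key a ha).1.2.2.1, fun a ha => IsComplIn.sup_eq (key a ha).1,
    fun a ha => (key a ha).2.2⟩

theorem _root_.CfsgLib.FT.PG.FT_Dade_hyp : DadeHypothesis (FTsupp M) M (supportR M) :=
  dadeHyp_restrict (FT_Dade0_hyp hG hM) (FTsupp_sub0 M) (FTsupp_norm M)

theorem _root_.CfsgLib.FT.PG.FT_Dade1_hyp : DadeHypothesis (FTsupp1 M) M (supportR M) :=
  dadeHyp_restrict (FT_Dade0_hyp hG hM) (FTsupp1_sub0 hG hM) (FTsupp1_norm M)

theorem _root_.CfsgLib.FT.PG.FT_DadeF_hyp : DadeHypothesis (sharp (fittingHallOf M)) M (supportR M) :=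
  dadeHyp_restrict (FT_Dade0_hyp hG hM) ((Fcore_sub_FTsupp1 hG hM).trans (FTsupp1_sub0 hG hM))
    fun _ hx _ ha => ⟨conj_mem_of_mem_normalizer (fcore_normal M hx) ha.1, conj_ne_one_iff.2 ha.2⟩

theorem prDade_aux (hP : OfTypeP M U W W1 W2) {H : Subgroup G} (h1 : fittingHallOf M ≤ H)
    (h2 : H ≤ FTcore M) (h3 : M ≤ 𝐍(H)) :
    PrimeDade M ⁅M, M⁆ H (FTsupp M) (FTsupp0 M) (supportR M) W W1 W2 := by
  have h4 := FTder_typeP (FTtypeP_ne_one hG hM hP)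
  exact ⟨FT_cyclicTI_hyp hG hM.1 hP, FT_primeTI_hyp hG hM.1 hP, FT_Dade0_hyp hG hM, h3, hP.W2_le_H.trans h1,
    h2.trans (FTcore_le_der1 hG hM), FTsupp_norm M,
    fun h hh h5 k hk h6 e => ⟨h4 ▸ hk, h6, h, ⟨h2 hh, h5⟩, e⟩, fun x hx => ⟨h4 ▸ hx.1, hx.2.1⟩,
    FTtypeP_supp0_def hG hM hP⟩

/-- PF (8.15): Hypothesis (4.6) holds with `H = M_F`. -/
theorem _root_.CfsgLib.FT.PG.FT_prDade_hypF (hP : OfTypeP M U W W1 W2) :
    PrimeDade M ⁅M, M⁆ (fittingHallOf M) (FTsupp M) (FTsupp0 M) (supportR M) W W1 W2 :=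
  prDade_aux hG hM hP le_rfl (Fcore_le_FTcore hG hM) (fcore_normal M)

/-- PF (8.15): Hypothesis (4.6) holds with `H = M_s`. -/
theorem _root_.CfsgLib.FT.PG.FT_prDade_hyp (hP : OfTypeP M U W W1 W2) :
    PrimeDade M ⁅M, M⁆ (FTcore M) (FTsupp M) (FTsupp0 M) (supportR M) W W1 W2 :=
  prDade_aux hG hM hP (Fcore_le_FTcore hG hM) le_rfl (FTcore_normal M)

theorem _root_.CfsgLib.FT.PG.FTsupp_Frobenius (h : FrobKer M (fittingHallOf M)) :
    FTsupp M = sharp (fittingHallOf M) := by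
  have h1 := FT_Frobenius_type1 hG hM h
  refine Set.Subset.antisymm (fun a ha => ⟨?_, ha.2.1⟩)
    ((Fcore_sub_FTsupp1 hG hM).trans (FTsupp1_sub hG hM))
  obtain ⟨E, hE⟩ := h
  have hF := fcore_eq_of_le_two hG hM (by omega)
  by_contra h2
  obtain ⟨y, hy, hy1, hσ⟩ := exists_sigma'_part hG hM (FTsupp_sub M ha).1 (hF ▸ h2)
  have hyM : y ∈ M := zpowers_le.2 (FTsupp_sub M ha).1 hy
  rw [hF] at hE
  obtain ⟨m, hm, h3⟩ := Hall.exists_conj_le_hallOf (mmax_sol hG hM) (isPiSubgroup_zpowers_iff.2 hσ)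
    (zpowers_le.2 hyM) (IsComplIn.hall_compl hE.compl (Msigma_Hall hG hM))
  have h4 := FrobIn.semiReg hE _ (h3 (conj_mem_conj_iff.2 (mem_zpowers y))) (conj_ne_one_iff.2 hy1)
  rw [cent1_conj, ← conj_Ms hm, ← map_conj_inf, conj_eq_bot_iff] at h4
  exact ((mem_FTsupp hG hM).1 ha).2.2 (eq_bot_iff.2 (h4 ▸ inf_le_inf_left _ (cent1_le_cent1 hy)))

/-- PF (8.16). -/
theorem _root_.CfsgLib.FT.PG.FTtypeII_ker_TI (h2 : FTtype M = 2) :
    NormedTI (FTsupp0 M) ⊤ M ∧ NormedTI (FTsupp M) ⊤ M ∧ NormedTI (FTsupp1 M) ⊤ M := by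
  obtain ⟨K, hK⟩ := ex_hallK hG hM
  have h3 := (P2_facts hG hM hK ((FTtype_two_iff hG hM).1 h2)).2.2.2
  have h4 : ∀ g : G, ∀ a ∈ FTsupp0 M, g * a * g⁻¹ ∈ FTsupp0 M → g ∈ M := by
    intro g a ha hg
    have hC : 𝐂[a] ≤ M := by
      by_contra hC
      obtain ⟨c, hc, hcM⟩ := SetLike.not_le_iff_exists.1 hC
      refine (FTsupp0_sub M ha).2 (eq_one_of_mem_inf (h3 c hcM) (FTsupp0_mem_Ms hG hM ha hC) ?_)
      rw [← conj_eq_of_mem_cent1 hc, conj_mem_conj_iff]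
      exact (FTsupp0_sub M ha).1
    obtain ⟨m, hm, e⟩ := FTsupp0_fusion hG hM a ha g hg
    have := hC (mem_cent1_of_conj_eq (c := m⁻¹ * g) (by
      rw [show m⁻¹ * g * a * (m⁻¹ * g)⁻¹ = m⁻¹ * (g * a * g⁻¹) * m by group, ← e]; group))
    rwa [M.mul_mem_cancel_left (M.inv_mem hm)] at this
  have h5 := FTsupp1_nonempty hG hM
  exact ⟨⟨h5.mono (FTsupp1_sub0 hG hM), le_top, FTsupp0_norm M, fun g _ => h4 g⟩,
    ⟨h5.mono (FTsupp1_sub hG hM), le_top, FTsupp_norm M,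
      fun g _ a ha hg => h4 g a (FTsupp_sub0 M ha) (FTsupp_sub0 M hg)⟩,
    ⟨h5, le_top, FTsupp1_norm M,
      fun g _ a ha hg => h4 g a (FTsupp1_sub0 hG hM ha) (FTsupp1_sub0 hG hM hg)⟩⟩

theorem supportR_eq_sigR {x : G} (hx : x ∈ sigmaCore M) (hx1 : x ≠ 1) : supportR M x = sigR x := by
  rcases sigR_cases hG hM hx hx1 with ⟨h1, h2⟩ | ⟨h1, N, hN, h2⟩
  · rw [h2, supportR_of_cent_le h1]
  · rw [h2, supportR_eq h1 hN.coatom hN.uniq, hN.fcore_eq hG hM hx1]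

theorem FTtilde1_eq : FTtilde M (FTsupp1 M) = tilde M := by
  ext g
  constructor
  · rintro ⟨a, ha, r, hr, h⟩
    rw [mem_FTsupp1 hG hM] at ha
    exact ⟨a, ha.1, ha.2, r, supportR_eq_sigR hG hM ha.1 ha.2 ▸ hr, h⟩
  · rintro ⟨a, ha, ha1, r, hr, h⟩
    exact ⟨a, (mem_FTsupp1 hG hM).2 ⟨ha, ha1⟩, r, (supportR_eq_sigR hG hM ha ha1).symm ▸ hr, h⟩

/-- PF (8.17)(b). -/
theorem _root_.CfsgLib.FT.PG.card_FTtilde1 :
    (FTtilde M (FTsupp1 M)).ncard = (Nat.card (FTcore M) - 1) * M.index := by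
  rw [FTtilde1_eq hG hM, card_tilde hG hM, def_FTcore hG hM]

omit hM

/-- PF (8.8). -/
theorem _root_.CfsgLib.FT.PG.FTtypeP_pair_cases :
    AllFTtype1 G ∨ ∃ S T W W1 W2 : Subgroup G, TypePPair S T W W1 W2 := by
  by_cases h : AllFTtype1 G
  · exact Or.inl h
  · simp only [AllFTtype1, not_forall] at h
    obtain ⟨S, hS, h1⟩ := h
    obtain ⟨U, W, W1, W2, hP⟩ := FTtypeP_witness hG hS h1
    obtain ⟨T, hT, -⟩ := FTtypeP_pair_witness hG hS hP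
    exact Or.inr ⟨S, T, W, W1, W2, hT⟩

/-- PF (8.9). -/
theorem _root_.CfsgLib.FT.PG.typeP_pairW {S T W W1 W2 : Subgroup G} (h : TypePPair S T W W1 W2) :
    ∃ U, OfTypeP S U W W1 W2 := by
  have hκ := FTtype_ne_one_iff.1 h.S_ne
  have hK : IsPiHallOf (kappa S) W1 S := by
    simpa using IsComplIn.hall_compl h.defS (hall_der hG h.maxS hκ)
  have hK1 := (hallK_ne_bot_iff hK).2 hκ
  obtain ⟨U, hU⟩ := typeP_of_hallK hG h.maxS hK hK1
  obtain ⟨N, hN⟩ := exists_PPair hG h.maxS hK hK1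
  have hZ := hN.Z_cyclic hG
  have h1 : W ≤ W1 ⊔ (sigmaCore S ⊓ 𝐂(W1)) := by
    obtain ⟨x, hx, hx1⟩ := exists_ne_one hK1
    rw [← hN.cent1_K hG hx hx1]
    exact le_inf (h.inf_eq ▸ inf_le_left) ((le_cent_of_isCyclic h.cycTI.cyclic).trans
      (cent_le_cent1 (h.cycTI.sup_eq ▸ mem_sup_left hx)))
  have h2 : W = W1 ⊔ (sigmaCore S ⊓ 𝐂(W1)) := by
    refine le_antisymm h1 fun z hz => ?_
    obtain ⟨v, hv⟩ := h.cycTI.normedTI.nonempty
    refine h.cycTI.normedTI.ti z (mem_top _) v hv ?_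
    rwa [conj_eq_of_mem_cent1 (cent_le_cent1 (h1 hv.1) (le_cent_of_isCyclic hZ hz))]
  have h3 : W2 ≤ W := h.cycTI.sup_eq ▸ le_sup_right
  have h4 : W1 ≤ W := h.cycTI.sup_eq ▸ le_sup_left
  have h5 := IsComplIn.card_mul (isComplIn_of_sup (h3.trans ((le_cent_of_isCyclic
    h.cycTI.cyclic).trans ((centralizer_le h4).trans (cent_le_norm _)))) h.cycTI.inf_eq
    h.cycTI.sup_eq)
  have h6 := IsComplIn.card_mul hN.complZ
  rw [← h2, ← h5] at h6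
  have h7 := eq_of_le_cyclic h.cycTI.cyclic (h2 ▸ le_sup_right) h3
    (Nat.eq_of_mul_eq_mul_left Nat.card_pos h6)
  rw [← h2, h7] at hU
  exact ⟨U, hU⟩

/-- PF (8.17)(a), first part. -/
theorem _root_.CfsgLib.FT.PG.exists_FTcore_of_prime {p : ℕ} (hp : p.Prime) (hϖ : p ∈ ϖ[G]) (hd : p ∣ Nat.card G) :
    ∃ M : Subgroup G, Mx M ∧ p ∣ Nat.card (FTcore M) := by
  obtain ⟨M, hM, h⟩ := sigma_mmax_exists hG hp hϖ hd
  exact ⟨M, hM, by rw [def_FTcore hG hM]; exact (pi_Msigma hG hM hp).2 h⟩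

/-- PF (8.17)(a), second part. -/
theorem _root_.CfsgLib.FT.PG.coprime_FTcore {M L : Subgroup G} (hM : Mx M) (hL : Mx L)
    (hnc : ¬ ConjSub M L) : (Nat.card (FTcore M)).Coprime (Nat.card (FTcore L)) := by
  rw [def_FTcore hG hM, def_FTcore hG hL]
  exact IsPiNum.coprime (sigma_partition hG hM hL (notConj_iff.2 hnc)) (Ms_pi M) (Ms_pi L)

/-- PF (8.17)(c), disjointness. -/
theorem _root_.CfsgLib.FT.PG.FT_Dade1_support_disjoint {S T : Subgroup G} (hS : Mx S)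
    (hT : Mx T) (hnc : ¬ ConjSub S T) :
    Disjoint (FTtilde S (FTsupp1 S)) (FTtilde T (FTsupp1 T)) := by
  rw [FTtilde1_eq hG hS, FTtilde1_eq hG hT]
  exact tilde_disjoint hG hS hT (notConj_iff.2 hnc)

/-- PF (8.17)(c), case (8.8)(a). -/
theorem _root_.CfsgLib.FT.PG.FTtilde1_cover_type1 (h : AllFTtype1 G) {g : G} (hg : g ≠ 1)
    (hϖ : IsPiNum ϖ[G] (orderOf g)) :
    ∃ M : Subgroup G, Mx M ∧ g ∈ FTtilde M (FTsupp1 M) := by
  rcases sigma_dichotomy hG hg hϖ with ⟨M, hM, h1⟩ | ⟨M, K, hM, hK, -, -, -, k, hk, hk1, -⟩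
  · exact ⟨M, hM, by rwa [FTtilde1_eq hG hM]⟩
  · exact absurd (h M hM) (FTtype_ne_one_iff.2 ((hallK_ne_bot_iff hK).1 (ne_bot_of_mem hk hk1)))

/-- PF (8.17)(c), case (8.8)(b). -/
theorem _root_.CfsgLib.FT.PG.FTtilde1_cover_typeP {S T W W1 W2 : Subgroup G}
    (h : TypePPair S T W W1 W2) :
    (∀ g : G, g ≠ 1 → IsPiNum ϖ[G] (orderOf g) → g ∈ classSupport (cycTIset W W1 W2) ⊤ ∨
      ∃ M : Subgroup G, Mx M ∧ g ∈ FTtilde M (FTsupp1 M)) ∧
    ∀ M : Subgroup G, Mx M →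
      Disjoint (classSupport (cycTIset W W1 W2) ⊤) (FTtilde M (FTsupp1 M)) := by
  obtain ⟨U, hP⟩ := typeP_pairW hG h
  obtain ⟨N, hN⟩ := typeP_PPair hG h.maxS hP
  rw [← hP.defW]
  refine ⟨fun g hg hϖ => ?_, fun M hM => Set.disjoint_left.2 ?_⟩
  · rcases sigma_dichotomy hG hg hϖ with ⟨M, hM, h1⟩ | h1
    · exact Or.inr ⟨M, hM, by rwa [FTtilde1_eq hG hM]⟩
    · exact Or.inl (hN.KappaElt_mem hG h1)
  · rintro _ ⟨t, ht, y, -, rfl⟩ h1
    rw [FTtilde1_eq hG hM] at h1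
    refine KappaElt.not_mem_tilde hG (hN.kappaElt ht) hM ?_
    have := conj_mem_tilde h1 y⁻¹
    rwa [show y⁻¹ * (y * t * y⁻¹) * y⁻¹⁻¹ = t by group] at this

theorem support_disjoint_a2 {S T : Subgroup G} (hS : Mx S) (hT : Mx T)
    (hnc : NotConj T S) {x : G} (h1 : x ∈ FTsupp1 S) (h2 : x ∈ FTsupp T) :
    ¬ 𝐂[x] ≤ S ∧ 𝐂[x] ≤ T := by
  rw [mem_FTsupp1 hG hS] at h1
  have := (FTsupp_sigma' hG hT h2 (mem_zpowers x) h1.2
    ((Ms_elt h1.1).mono (sigma'_of_notConj hG hT hS (NotConj.symm hnc)))).2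
  exact ⟨fun h => NotConj.ne hnc (this.2 S hS h).symm, this.1⟩

theorem support_disjoint_a1 {S T : Subgroup G} (hS : Mx S) (hT : Mx T)
    (hnc : NotConj T S) : FTsupports S T ↔ (FTsupp1 S ∩ FTsupp T).Nonempty := by
  constructor
  · rintro ⟨x, hx, h1, h2⟩
    obtain ⟨h3, L, -, h4, -, -, -, -, h5, -⟩ := FTsupport_facts hG hS (FTsupp_sub0 S hx) h1
    exact ⟨x, h3, h4.2 T hT h2 ▸ h5.1⟩
  · rintro ⟨x, h1, h2⟩
    exact ⟨x, FTsupp1_sub hG hS h1, support_disjoint_a2 hG hS hT hnc h1 h2⟩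

theorem support_disjoint_b {S T : Subgroup G} (hS : Mx S) (hT : Mx T)
    (hnc : NotConj T S) : (∃ g : G, FTsupports S (g •ᶜ T)) ↔
      ¬ Disjoint (FTtilde S (FTsupp1 S)) (FTtilde T (FTsupp T)) := by
  rw [Set.not_disjoint_iff]
  constructor
  · rintro ⟨g, hg⟩
    obtain ⟨y, h1, h2⟩ :=
      (support_disjoint_a1 hG hS (isCoatom_map_conj hT g) (NotConj.conj_left hnc g)).1 hg
    refine ⟨y, ⟨y, h1, 1, one_mem _, 1, by group⟩, ?_⟩
    rw [← FTtilde_map_conj T g]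
    exact ⟨y, h2, 1, one_mem _, 1, by group⟩
  · rintro ⟨_, h1, x, hx, s, hs, z, rfl⟩
    by_cases hC : 𝐂[x] ≤ T
    swap
    · exact absurd ⟨x, (FTsupport_facts hG hT (FTsupp_sub0 T hx) hC).1, s, hs, z, rfl⟩
        (Set.disjoint_left.1 (FT_Dade1_support_disjoint hG hS hT (notConj_iff.1 hnc)) h1)
    rw [supportR_of_cent_le hC, mem_bot] at hs
    rw [hs, mul_one, FTtilde1_eq hG hS] at h1
    obtain ⟨a, ha, ha1, r, hr, y, e⟩ := h1
    refine ⟨y⁻¹ * z, (support_disjoint_a1 hG hS (isCoatom_map_conj hT _)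
      (NotConj.conj_left hnc _)).2 ⟨a, (mem_FTsupp1 hG hS).2 ⟨ha, ha1⟩, ?_⟩⟩
    have h2 := (conj_mem_FTsupp_iff T (y⁻¹ * z) x).2 hx
    rw [show y⁻¹ * z * x * (y⁻¹ * z)⁻¹ = y⁻¹ * (z * x * z⁻¹) * y by group, e,
      show y⁻¹ * (y * (a * r) * y⁻¹) * y = a * r by group] at h2
    have h3 := mem_zpowers_mul_of_coprime (commute_of_mem_sigR hr)
      (IsPiNum.coprime_compl (Ms_elt ha) (isPiNum_orderOf_of_mem (sigR_sigma' hG hS ha ha1) hr))
    rw [mem_FTsupp hG (isCoatom_map_conj hT _)] at h2 ⊢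
    exact ⟨zpowers_le.2 h2.1 h3, ha1,
      fun e1 => h2.2.2 (eq_bot_iff.2 (e1 ▸ inf_le_inf_left _ (cent1_le_cent1 h3)))⟩

/-- PF (8.18). -/
theorem _root_.CfsgLib.FT.PG.FT_Dade_support_disjoint {S T : Subgroup G} (hS : Mx S)
    (hT : Mx T) (hnc : ¬ ConjSub S T) :
    (FTsupports S T ↔ (FTsupp1 S ∩ FTsupp T).Nonempty) ∧
    (∀ x ∈ FTsupp1 S ∩ FTsupp T,
      ¬ centralizer ({x} : Set G) ≤ S ∧ centralizer ({x} : Set G) ≤ T) ∧
    ((∃ g : G, FTsupports S (T.map (MulAut.conj g).toMonoidHom)) ↔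
      ¬ Disjoint (FTtilde S (FTsupp1 S)) (FTtilde T (FTsupp T))) ∧
    (Disjoint (FTtilde S (FTsupp1 S)) (FTtilde T (FTsupp T)) ∨
      Disjoint (FTtilde T (FTsupp1 T)) (FTtilde S (FTsupp S))) := by
  have hnc' := notConj_iff.2 hnc
  refine ⟨support_disjoint_a1 hG hS hT hnc', fun x hx => support_disjoint_a2 hG hS hT hnc' hx.1 hx.2,
    support_disjoint_b hG hS hT hnc', ?_⟩
  by_contra h
  rw [not_or, ← support_disjoint_b hG hS hT hnc',
    ← support_disjoint_b hG hT hS (NotConj.symm hnc')] at h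
  obtain ⟨⟨g, y, hy, h1, h2⟩, x, h3⟩ := h
  obtain ⟨-, L, -, h4, -, -, -, h5, -, h6, -⟩ := FTsupport_facts hG hS (FTsupp_sub0 S hy) h1
  rw [← h4.2 _ (isCoatom_map_conj hT g) h2] at h5 h6
  rw [FTtype_map_conj] at h6
  rw [fcore_conj, card_map_conj, fcore_eq_of_le_two hG hT h6] at h5
  obtain ⟨z, h7, h8⟩ := (support_disjoint_a1 hG hT (isCoatom_map_conj hS x)
    (NotConj.conj_left (NotConj.symm hnc') x)).1 h3
  obtain ⟨w, rfl⟩ : ∃ w, z = x * w * x⁻¹ := ⟨x⁻¹ * z * x, by group⟩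
  rw [conj_mem_FTsupp_iff] at h8
  rw [mem_FTsupp1 hG hT] at h7
  have h9 := (Nat.coprime_self _).1 (((h5 w (FTsupp_sub0 S h8)).coprime_dvd_left
    (orderOf_conj x w ▸ orderOf_dvd_natCard _ h7.1)).coprime_dvd_right
      (orderOf_dvd_natCard _ (mem_inf.2 ⟨(FTsupp_sub S h8).1, self_mem_cent1 w⟩)))
  exact h8.2.1 (orderOf_eq_one_iff.1 h9)

end group

end CfsgLib.FT.PG.U4.B14
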