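import Mathlib
import Cfsg.Agent.Lib.PG.PF8c
import Cfsg.Agent.Lib.FT.PF5
import Cfsg.Agent.Lib.FT.PF8

/-! Peterfalvi, section 8 (and the final results of Bender–Glauberman section 16):
structure of a minimal simple group of odd order.  The group theoretic part is in the files
`PF8a`, `PF8b`, `PF8c`; this file contains the statements involving characters. -/

set_option autoImplicit false
set_option linter.unusedSectionVars false



namespace CfsgLib.FT.PG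

open Cfsg Subgroup
open scoped commutatorElement

variable {G : Type*} [Group G] [PiCtx G]

section group
variable [Finite G] (hG : PGHyp G) {M : Subgroup G} (hM : Mx M)
include hG hM

theorem FTDade_eq {φ : G → ℂ} (hφ : φ ∈ CFon M (FTsupp M)) : FTDade M φ = FTDade0 M φ :=
  haveI := Fintype.ofFinite G
  restr_DadeE (FT_Dade0_hyp hG hM) (FTsupp_sub0 M) hφ

theorem FTDade1_eq {φ : G → ℂ} (hφ : φ ∈ CFon M (FTsupp1 M)) : FTDade1 M φ = FTDade0 M φ :=
  haveI := Fintype.ofFinite G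
  restr_DadeE (FT_Dade0_hyp hG hM) (FTsupp1_sub0 hG hM) hφ

theorem FTDadeF_eq {φ : G → ℂ} (hφ : φ ∈ CFon M (sharp (fittingHallOf M))) :
    FTDadeF M φ = FTDade0 M φ :=
  haveI := Fintype.ofFinite G
  restr_DadeE (FT_Dade0_hyp hG hM) ((Fcore_sub_FTsupp1 hG hM).trans (FTsupp1_sub0 hG hM)) hφ

end group

/-! ### The base coherence data for type `P` -/

section character
variable [Fintype G] (hG : PGHyp G) {M : Subgroup G} (hM : Mx M)
  {U W W1 W2 : Subgroup G} (hP : OfTypeP M U W W1 W2)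
include hG hM hP

omit hP in
theorem FTtypeP_seqInd_not_real {χ : G → ℂ} (hχ : χ ∈ seqIndD ⁅M, M⁆ M (FTcore M) ⊥) :
    cfConjC χ ≠ χ :=
  seqInd_conjC_neq (U4.B14.der_le M) (U4.der_normal M) (FTcore_le_der1 hG hM) (mFT_odd hG hM.1) hχ

open Classical in
/-- PF (8.15), last assertion: Hypothesis (5.2) holds, with the description of (5.3)(b). -/
theorem FTtypeP_subcoherent : ∃ R : (G → ℂ) → Finset (G → ℂ),
    Subcoherent M (seqIndD ⁅M, M⁆ M (FTcore M) ⊥) (FTDade0 M) R ∧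
    (∀ φ ∈ seqIndD ⁅M, M⁆ M (FTcore M) ⊥, IsIrr M φ → ∀ α ∈ R φ, ∀ (i : Irr W1) (j : Irr W2),
      cfdot ⊤ α (cycEta ⊤ W W1 W2 i j) = 0) ∧
    (∀ j k : Irr W2, (k : G → ℂ) = cfConjC j → R (prTIred M W W1 W2 j) =
      (Finset.univ.image fun i : Irr W1 =>
        (prTIsign M W W1 W2 j : ℂ) • cycEta ⊤ W W1 W2 i j) ∪
      (Finset.univ.image fun i : Irr W1 =>
        -((prTIsign M W W1 W2 j : ℂ) • cycEta ⊤ W W1 W2 i k))) := by
  obtain ⟨R, h1, h2, h3⟩ := prDade_subcoherent (FT_prDade_hyp hG hM hP)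
    (ConjCSubset.refl fun _ h => cfAut_seqInd _ h) fun _ h => FTtypeP_seqInd_not_real hG hM h
  refine ⟨R, h1, h2, fun j k hk => ?_⟩
  rw [h3, show k = j.conj from Irr.ext hk, prTIRmu]

theorem coherent_ortho_cycTIiso {S1 : Finset (G → ℂ)} {τ1 : CFMap G}
    (hS : ConjCSubset S1 (seqIndD ⁅M, M⁆ M (FTcore M) ⊥))
    (hcoh : CoherentWith M S1 (FTDade0 M) τ1) {χ : G → ℂ} (hχ : χ ∈ S1) (hirr : IsIrr M χ)
    (i : Irr W1) (j : Irr W2) : cfdot ⊤ (τ1 χ) (cycEta ⊤ W W1 W2 i j) = 0 :=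
  prDade_coherent_ortho_cycEta (FT_prDade_hyp hG hM hP) hS
    (fun _ h => FTtypeP_seqInd_not_real hG hM (hS.1 h)) hcoh hχ hirr i j

/-- PF (5.8) for type `P`. -/
theorem FTtypeP_coherent_TIred {S1 : Finset (G → ℂ)} {τ1 : CFMap G}
    (hS : ConjCSubset S1 (seqIndD ⁅M, M⁆ M (FTcore M) ⊥))
    (hcoh : CoherentWith M S1 (FTDade0 M) τ1) {χ : G → ℂ} (hχ : χ ∈ S1) (hirr : IsIrr M χ)
    {j k : Irr W2} (hj : prTIred M W W1 W2 j ∈ S1) (hk : (k : G → ℂ) = cfConjC j) :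
    τ1 (prTIred M W W1 W2 j) =
        (prTIsign M W W1 W2 j : ℂ) • ∑ i : Irr W1, cycEta ⊤ W W1 W2 i j ∨
      (τ1 (prTIred M W W1 W2 j) =
        -((prTIsign M W W1 W2 j : ℂ) • ∑ i : Irr W1, cycEta ⊤ W W1 W2 i k) ∧
        ∀ l : Irr W2, prTIred M W W1 W2 l ∈ S1 →
          prTIred M W W1 W2 l 1 = prTIred M W W1 W2 j 1 → l = j ∨ l = k) := by
  rw [show k = j.conj from Irr.ext hk]
  exact coherent_prDade_TIred (FT_prDade_hyp hG hM hP) hS
    (fun _ h => FTtypeP_seqInd_not_real hG hM (hS.1 h)) ⟨χ, hχ, hirr⟩ hj hcoh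

end character

end CfsgLib.FT.PG
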