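import Mathlib
import Cfsg.Agent.Lib.PG.PF8c
import Cfsg.Agent.Lib.FT.Wielandt
import Cfsg.Agent.Lib.FpfReduce
import Cfsg.Agent.Lib.FT.PF9a

/-! Peterfalvi, section 9, group theoretic part: (9.3) to (9.6). -/

set_option autoImplicit false
set_option linter.unusedSectionVars false

namespace CfsgLib.FT.PG.P9
export CfsgLib.FT.P9 (complIn_sup complIn_card complIn_relIndex complIn_of le_centMod_iff normalizer_le_centMod)
export CfsgLib.FT.P9 (le_normalizer_centMod le_normalizer_sup' le_normalizer_inf' le_of_le_sup_commutator exists_quot wielandt_section)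
export CfsgLib.FT.P9 (der_le U_le UW1_le U_norm_H W1_norm_H sup_HU)
export CfsgLib.FT.P9 (sup_M der_normal le_of_HUW card_der relIndex_der coprime_W1_U)
export CfsgLib.FT.P9 (coprime_W1_H U_fpf U_cent_W1 commutator_U_W1 coprime_U_H solvable_H)
export CfsgLib.FT.P9 (wielandt prime abelem cent_le_of_not_le mem_sup_of_fixed facts)
export CfsgLib.FT.P9 (C_le U_norm_C W1_norm_C commutator_H_C der_U_le_C normal_sup)
export CfsgLib.FT.P9 (normal_H_sup)
end CfsgLib.FT.PG.P9


namespace CfsgLib.FT.PG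

open Cfsg Subgroup
open scoped commutatorElement

universe u

variable {G : Type u} [Group G] [PiCtx G]

namespace P9

section typeP
variable {M U W W1 W2 : Subgroup G} (hP : OfTypeP M U W W1 W2)
include hP

end typeP

end P9

open P9

section group
variable [Finite G] (hG : PGHyp G) {M : Subgroup G} (hM : Mx M)
  {U W W1 W2 : Subgroup G} (hP : OfTypeP M U W W1 W2) (h5 : FTtype M ≠ 5)
include hG hM hP h5

theorem Ptype_compl_Frobenius : FrobIn (U ⊔ W1) U W1 :=
  ⟨complIn_of hP.nUW1 (inf_eq_bot_of_coprime (coprime_W1_U hP).symm),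
    sup_le le_normalizer hP.nUW1, (compl_of_typeII_IV hG hM hP h5).U_ne, hP.W1_ne,
    fun e he h1 k hk h => mem_bot.1 ((U_fpf hP e he h1).le
      ⟨hk, mem_centralizer_singleton_iff.2 h.symm⟩)⟩

/-- PF (9.3), type II. -/
theorem typeII_core (h2 : FTtype M = 2) :
    fittingHallOf M ⊓ centralizer (U : Set G) = ⊥ ∧
      Nat.card (fittingHallOf M) = Nat.card W2 ^ Nat.card W1 := by
  have hT := (FTtype_eq_two_iff hG hM hP).1 h2
  have h1 : fittingHallOf M ⊓ centralizer (U : Set G) = ⊥ := by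
    by_contra hne
    have hs : centralizer (sharp U) = centralizer (U : Set G) :=
      le_antisymm (fun x hx y hy => by
        by_cases h : y = 1
        · simp [h]
        · exact hx y ⟨hy, h⟩) (centralizer_le Set.diff_subset)
    obtain ⟨⟨x, hx⟩, hx1⟩ := ne_bot_iff_exists_ne_one.1 hT.U_ne
    have h3 := (FTtypeI_II_facts hG hM h2.le (U := U) (by
      rw [FTder_typeP (by omega)]; exact hP.defHU)).2.1 (sharp U)
      ⟨x, hx, fun h => hx1 (Subtype.ext h)⟩ subset_rfl (by rwa [hs])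
    have hπ := pi_of_inf_cent hG (pi_of_le (pi_fitting hG hM) (U4.fcore_le_fit M)) hne
    obtain ⟨L, hL, hUL⟩ := mmax_exists (mFT_norm_proper hG hT.U_ne hπ)
    exact hT.not_norm_le hπ (h3.2 L hL (hs.le.trans ((centralizer_le_normalizer _).trans hUL)) ▸ hUL)
  have h3 := P9.wielandt hP
  rw [h1, le_bot_iff.1 ((inf_le_inf_left _ (centralizer_le
    (le_sup_left : U ≤ U ⊔ W1))).trans h1.le)] at h3
  exact ⟨h1, by simpa using h3⟩

omit h5 in
theorem P9.W2_prime (h2 : FTtype M ≠ 2) : (Nat.card W2).Prime := by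
  obtain ⟨T, hT, V, hV⟩ := FTtypeP_pair_witness hG hM hP
  exact ((FTtype_eq_two_iff hG hT.maxT hV).1 (hT.type2.resolve_left h2)).W1_prime

/-- PF (9.3), types III and IV. -/
theorem typeIII_IV_core (h2 : FTtype M ≠ 2) :
    (Nat.card W2).Prime ∧ fittingHallOf M ⊓ centralizer ((U ⊔ W1 : Subgroup G) : Set G) = ⊥ ∧
      Nat.card (fittingHallOf M) =
        Nat.card W2 ^ Nat.card W1 * Nat.card ↥(fittingHallOf M ⊓ centralizer (U : Set G)) := by
  have hp := P9.W2_prime hG hM hP h2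
  have h3 := P9.wielandt hP
  have h1 : fittingHallOf M ⊓ centralizer ((U ⊔ W1 : Subgroup G) : Set G) = ⊥ := by
    have h4 : fittingHallOf M ⊓ centralizer ((U ⊔ W1 : Subgroup G) : Set G) ≤ W2 :=
      (inf_le_inf_left _ (centralizer_le (le_sup_right : W1 ≤ U ⊔ W1))).trans
        (typeP_cent_core_compl hP).le
    rcases (Nat.dvd_prime hp).1 (card_dvd_of_le h4) with h | h
    · exact card_eq_one.1 h
    · rw [h, Nat.mul_right_inj (pow_pos hp.pos _).ne'] at h3
      exact absurd (le_centralizer_iff.1 ((eq_of_le_of_card_le inf_le_left h3.le).ge.trans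
        inf_le_right)) ((typeP_der_cent hP).2 (compl_of_typeII_IV hG hM hP h5).U_ne)
  rw [h1] at h3
  exact ⟨hp, h1, by simpa using h3⟩

/-- PF (9.4). -/
theorem Ptype_Fcore_kernel_exists : ∃ H0, PtypeKer M U H0 := by
  have hn := (typeP_der_cent hP).2 (compl_of_typeII_IV hG hM hP h5).U_ne
  set H := fittingHallOf M
  have hH' : ⁅H, H⁆ ≤ H := commutator_le_self H
  have h1 : (H ⊓ centralizer (U : Set G)) ⊔ ⁅H, H⁆ < H := by
    refine lt_of_le_of_ne (sup_le inf_le_left hH') fun h => hn (le_centralizer_iff.1 ?_)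
    exact (le_of_le_sup_commutator (Fcore_nil M) inf_le_left h.ge).trans inf_le_right
  obtain ⟨H0, ⟨a1, a2, a3⟩, hmax⟩ := exists_maximal_of_wellFoundedGT
    (fun K : Subgroup G => (H ⊓ centralizer (U : Set G)) ⊔ ⁅H, H⁆ ≤ K ∧ K < H ∧
      M ≤ normalizer (K : Set G)) ⟨_, le_rfl, h1, le_of_HUW hP
        (Cop.le_normalizer_of_commutator_le (G := H) le_sup_right h1.le) (le_normalizer_sup'
          (Cop.le_normalizer_inf_centralizer (U_norm_H hP) le_normalizer)
          (Cop.le_normalizer_commutator (U_norm_H hP) (U_norm_H hP))) (le_normalizer_sup'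
          (Cop.le_normalizer_inf_centralizer (W1_norm_H hP) hP.nUW1)
          (Cop.le_normalizer_commutator (W1_norm_H hP) (W1_norm_H hP)))⟩
  refine ⟨H0, a2, a3, fun K b1 b2 b3 => ?_, fun h => a2.not_ge ?_⟩
  · exact or_iff_not_imp_right.2 fun h => le_antisymm
      (hmax ⟨a1.trans b1, lt_of_le_of_ne b2 h, b3⟩ b1) b1
  · exact (Cop.commutator_sup_centralizer (U_norm_H hP) (coprime_U_H hP)
      (Or.inr solvable_H)).ge.trans (sup_le ((le_centMod_iff ((U_le hP).trans a3)).1 h)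
        (le_sup_left.trans a1))

variable {H0 : Subgroup G} (h0 : PtypeKer M U H0)
include h0

theorem PtypePrime_prime : (PtypePrime M H0).Prime := P9.prime h0

/-- `H / H0` is elementary abelian. -/
theorem Ptype_Fcore_factor_abelem : ⁅fittingHallOf M, fittingHallOf M⁆ ≤ H0 ∧
    ∀ h ∈ fittingHallOf M, h ^ PtypePrime M H0 ∈ H0 := P9.abelem h0

/-- PF (9.6). -/
theorem Ptype_Fcore_factor_facts :
    (∀ h ∈ fittingHallOf M, (∀ u ∈ U, u * h * u⁻¹ * h⁻¹ ∈ H0) → h ∈ H0) ∧
    (∀ h ∈ fittingHallOf M, (∀ w ∈ W1, w * h * w⁻¹ * h⁻¹ ∈ H0) ↔ h ∈ W2 ⊔ H0) ∧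
    H0.relIndex W2 = PtypePrime M H0 ∧
    H0.relIndex (fittingHallOf M) = PtypePrime M H0 ^ Nat.card W1 := P9.facts hP h0

theorem def_Ptype_factor_prime (hp : (Nat.card W2).Prime) : PtypePrime M H0 = Nat.card W2 :=
  (Nat.prime_dvd_prime_iff_eq (P9.prime h0) hp).1
    ((P9.facts hP h0).2.2.1 ▸ relIndex_dvd_card H0 W2)

theorem typeIII_IV_core_prime (h2 : FTtype M ≠ 2) : PtypePrime M H0 = Nat.card W2 :=
  def_Ptype_factor_prime hG hM hP h5 h0 (P9.W2_prime hG hM hP h2)

theorem Ptype_Fcore_extensions_normal :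
    M ≤ normalizer ((H0 ⊔ FcomplKer M U H0 : Subgroup G) : Set G) ∧
    M ≤ normalizer ((fittingHallOf M ⊔ FcomplKer M U H0 : Subgroup G) : Set G) ∧
    M ≤ normalizer ((H0 ⊔ ⁅U, U⁆ : Subgroup G) : Set G) ∧
    M ≤ normalizer ((H0 ⊔ ⁅FcomplKer M U H0, FcomplKer M U H0⁆ : Subgroup G) : Set G) :=
  ⟨P9.normal_sup hP h0 le_rfl (P9.U_norm_C hP h0) (P9.W1_norm_C hP h0),
    P9.normal_H_sup hP (P9.U_norm_C hP h0) (P9.W1_norm_C hP h0),
    P9.normal_sup hP h0 (P9.der_U_le_C hP h0) (normalizer_commutator_ge_left U U)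
      (Cop.le_normalizer_commutator hP.nUW1 hP.nUW1),
    P9.normal_sup hP h0 (commutator_le_self _)
      (Cop.le_normalizer_commutator (P9.U_norm_C hP h0) (P9.U_norm_C hP h0))
      (Cop.le_normalizer_commutator (P9.W1_norm_C hP h0) (P9.W1_norm_C hP h0))⟩

end group

end CfsgLib.FT.PG
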