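import Mathlib
import Cfsg.Agent.Lib.PG.PF9a
import Cfsg.Agent.Lib.H9SylowNum
import Cfsg.Agent.Lib.FT.PF9b

/-! Peterfalvi, section 9, (9.7). -/

set_option autoImplicit false
set_option linter.unusedSectionVars false

namespace CfsgLib.FT.PG.P9
export CfsgLib.FT.P9 (relIndex_sup_mul relIndex_map_conj' le_map_conj' map_conj_le' le_normalizer_map_conj' centMod_map_conj)
export CfsgLib.FT.P9 (relIndex_biSup eq_or_eq_of_relIndex_prime exists_gen_of_ker exists_secMod exists_field_of_comm_irr iSup_conj_eq)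
export CfsgLib.FT.P9 (mem_C_of_forall nonGalois galoisData mem_C_of_commutator galois)
end CfsgLib.FT.PG.P9


namespace CfsgLib.FT.PG

open Cfsg Subgroup P9
open scoped commutatorElement

universe u

variable {G : Type u} [Group G] [PiCtx G]

namespace P9

end P9

section group
variable [Finite G] {M U W W1 W2 : Subgroup G} (hP : OfTypeP M U W W1 W2)
  {H0 : Subgroup G} (h0 : PtypeKer M U H0)
include hP h0

end group

section group
variable [Finite G] (hG : PGHyp G) {M : Subgroup G} (hM : Mx M)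
  {U W W1 W2 : Subgroup G} (hP : OfTypeP M U W W1 W2) (h5 : FTtype M ≠ 5)
  {H0 : Subgroup G} (h0 : PtypeKer M U H0)
include hG hM hP h5 h0

/-- PF (9.7)(a). -/
theorem typeP_Galois_Pn (hGal : ¬ TypePGalois M U H0) : ∃ H1, NonGaloisData M U W1 H0 H1 :=
  P9.nonGalois hP h0 (compl_of_typeII_IV hG hM hP h5).W1_prime hGal

/-- PF (9.7)(b). -/
theorem typeP_Galois_P (hGal : TypePGalois M U H0) :
    (∃ (F : Type) (_ : Field F) (_ : Fintype F) (φ ψ : G → F), GaloisData M U W1 W2 H0 F φ ψ) ∧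
    (∃ g ∈ U, zpowers g ⊔ FcomplKer M U H0 = U) ∧
    ((FcomplKer M U H0).relIndex U).Coprime (PtypePrime M H0 - 1) ∧
    (FcomplKer M U H0).relIndex U ∣
      (PtypePrime M H0 ^ Nat.card W1 - 1) / (PtypePrime M H0 - 1) :=
  ⟨P9.galoisData hP h0 hGal, P9.galois hP h0 hGal⟩

end group

end CfsgLib.FT.PG
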