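import Mathlib
import Cfsg.Agent.Lib.PG.PF9b
import Cfsg.Agent.Lib.FT.PF7
import Cfsg.Agent.Lib.PG.PF8
import Cfsg.Agent.Lib.FT.PF9c

/-! Peterfalvi, section 9: (9.8), (9.9), (9.10). -/

set_option autoImplicit false
set_option linter.unusedSectionVars false

namespace CfsgLib.FT.PG.P9
export CfsgLib.FT.P9 (inf_sup_eq_of_le relIndex_sup_of_le relIndex_sup_sup commutator_sup_sup_le lin_mem_cfker lin_mem_inertia)
export CfsgLib.FT.P9 (inertia_normalizes_cfker mem_inertia_cfConjg exists_lin_under clifford_lin_deg cfdot_lin_cfRes seqIndD_sup)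
export CfsgLib.FT.P9 (le_C_of_inertia C_le_inertia U_norm_of_C_le der_inf_le relIndex_der_eq relIndex_HV_der)
export CfsgLib.FT.P9 (HV_le relIndex_HV_M H0V_inf_H relIndex_H0V_HV sum_square norm_C')
export CfsgLib.FT.P9 (exists_ind_HC exists_lin_under' galois_inertia invariant_inertia H_le_cfker_prTIres red_cases)
export CfsgLib.FT.P9 (prTIred_mem card_red cfnorm_red galois_all_red)
end CfsgLib.FT.PG.P9


namespace CfsgLib.FT.PG

open Cfsg Subgroup
open scoped commutatorElement ComplexConjugate

universe u

variable {G : Type u} [Group G] [PiCtx G]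

namespace P9

variable [Fintype G]

end P9

section character
variable [Fintype G] {M U W W1 W2 : Subgroup G} (hP : OfTypeP M U W W1 W2)
  {H0 : Subgroup G} (h0 : PtypeKer M U H0)
include hP h0

end character

section character
variable [Fintype G] {M U W W1 W2 : Subgroup G} (hP : OfTypeP M U W W1 W2)
  {H0 : Subgroup G} (h0 : PtypeKer M U H0) (hT : PrimeTI M ⁅M, M⁆ W W1 W2)
include hP h0 hT

end character

end CfsgLib.FT.PG
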