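import Mathlib
import Cfsg.Agent.Lib.PG.PF9c
import Cfsg.Agent.Lib.FT.PF9d

/-! Peterfalvi, section 9: (9.8), the non Galois case. -/

set_option autoImplicit false
set_option linter.unusedSectionVars false

namespace CfsgLib.FT.PG.P9
export CfsgLib.FT.P9 (ComplData H_norm_of_le exists_ext conj_facts exists_complData inertia_le_centMod)
export CfsgLib.FT.P9 (relIndex_centMod_conj nonGalois_a decomp exists_theta1 H1_not_le commutator_H_U1)
export CfsgLib.FT.P9 (C_le_U1 C_le_U1' inertia_theta1 cfker_theta1 mem_der_of_norm_D inertia_theta1_M)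
export CfsgLib.FT.P9 (nonGalois_d)
end CfsgLib.FT.PG.P9


namespace CfsgLib.FT.PG

open Cfsg Subgroup
open scoped commutatorElement ComplexConjugate

universe u

variable {G : Type u} [Group G] [PiCtx G]

section character
variable [Fintype G] {M U W W1 W2 : Subgroup G} (hP : OfTypeP M U W W1 W2)
  {H0 : Subgroup G} (h0 : PtypeKer M U H0) {H1 : Subgroup G} (h1 : NonGaloisData M U W1 H0 H1)
include hP h0

include h1

variable {D : Subgroup G} (hD : P9.ComplData M U W1 H0 H1 D)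
include hD

/-- PF (9.8)(c). -/
theorem P9.nonGalois_c (hodd : Odd (Nat.card M)) : ∃ ζ, IsIrr M ζ ∧ IsIndHC M U W1 H0 ζ := by
  classical
  obtain ⟨θ1, hθ1, hk1, hn1⟩ := P9.exists_theta1 h0 hD
  have hone : ∀ w ∈ W1, w ≠ 1 → ∀ h ∈ H1, θ1 (w * h * w⁻¹) = 1 := fun w hw hw1 h hh =>
    ((P9.lin_mem_cfker hθ1).1 (hk1 (hD.conj_le w hw hw1 (conj_mem_map_conj hh)))).2
  let θ : G → ℂ := fun g => conj (θ1 g) * ∏ w ∈ (elems (W1 : Set G)).erase 1, θ1 (w⁻¹ * g * w)
  have hmem : ∀ w, w ∈ (elems (W1 : Set G)).erase 1 ↔ w ≠ 1 ∧ w ∈ W1 := fun w => by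
    rw [Finset.mem_erase, mem_elems]; rfl
  have hθ : IsLin (fittingHallOf M) θ := by
    refine isLin_of_mul (fun x hx => ?_) ?_ fun x hx y hy => ?_
    · simp [θ, CF_zero hθ1.mem_CF hx]
    · simp [θ, hθ1.one]
    · simp only [θ]
      rw [hθ1.map_mul hx hy, map_mul, Finset.prod_congr rfl (g := fun w =>
        θ1 (w⁻¹ * x * w) * θ1 (w⁻¹ * y * w)), Finset.prod_mul_distrib]
      · ring
      · intro w hw
        have hwH := P9.W1_norm_H hP ((hmem w).1 hw).2
        rw [← hθ1.map_mul (conj_mem_of_mem_normalizer' hwH hx) (conj_mem_of_mem_normalizer' hwH hy)]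
        congr 1; group
  have e1 : ∀ h ∈ H1, θ h = conj (θ1 h) := fun h hh => by
    simp only [θ]
    rw [Finset.prod_eq_one, mul_one]
    intro w hw
    simpa using hone w⁻¹ (inv_mem ((hmem w).1 hw).2) (inv_ne_one.2 ((hmem w).1 hw).1) h hh
  have e2 : ∀ w ∈ W1, w ≠ 1 → ∀ h ∈ H1, θ (w * h * w⁻¹) = θ1 h := fun w hw hw1 h hh => by
    simp only [θ]
    rw [hone w hw hw1 h hh, map_one, one_mul, Finset.prod_eq_single w]
    · congr 1; group
    · intro v hv hvw
      have := hone (v⁻¹ * w) (mul_mem (inv_mem ((hmem v).1 hv).2) hw)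
        (fun h => hvw (inv_mul_eq_one.1 h)) h hh
      rw [← this]; congr 1; group
    · intro h; exact absurd ((hmem w).2 ⟨hw1, hw⟩) h
  obtain ⟨g, hg, hg1⟩ : ∃ g ∈ H1, θ1 g ≠ 1 := by
    by_contra! h
    exact P9.H1_not_le hD hk1 hn1 fun g hg => (P9.lin_mem_cfker hθ1).2 ⟨h1.le_H hg, h g hg⟩
  have h2 : H0 ≤ cfker (fittingHallOf M) θ := fun x hx =>
    (P9.lin_mem_cfker hθ).2 ⟨h0.lt.le hx, by
      rw [e1 x (h1.H0_le hx), ((P9.lin_mem_cfker hθ1).1 (hk1 (hD.H0_le hx))).2, map_one]⟩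
  have h3 : ∀ w ∈ W1, ¬ H1.map (MulAut.conj w).toMonoidHom ≤ cfker (fittingHallOf M) θ := by
    intro w hw h
    have h4 := ((P9.lin_mem_cfker hθ).1 (h (conj_mem_map_conj hg))).2
    by_cases hw1 : w = 1
    · rw [hw1, one_mul, inv_one, mul_one, e1 g hg] at h4
      exact hg1 (by simpa using congrArg conj h4)
    · exact hg1 (e2 w hw hw1 g hg ▸ h4)
  have h4 : ¬ fittingHallOf M ≤ cfker (fittingHallOf M) θ := fun h =>
    h3 1 W1.one_mem ((P9.conj_facts hP h0 h1 W1.one_mem).2.1.trans h)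
  have hV : FcomplKer M U H0 = U ⊓ inertia θ :=
    le_antisymm (le_inf P9.C_le (P9.C_le_inertia hP h0 hθ h2)) fun v hv =>
      P9.mem_C_of_forall hP h0 h1.le_H h1.iSup_eq hv.1 fun w hw =>
        (P9.centMod_map_conj (h0.normal (hP.W1_le hw))).1
          (P9.inertia_le_centMod hP h0 h1 hθ h2 hw (h3 w hw) hv)
  obtain ⟨ξ, hξ, hr, hi, hk, hk'⟩ := P9.exists_ext hP h0 hθ h2 h4 hV
  have hle := P9.HV_le hP (P9.C_le (M := M) (U := U) (H0 := H0))
  refine ⟨cfInd _ M ξ, inertia_cfInd_irr le_sup_left (hle.trans (P9.der_le hP)) (Fcore_normal M)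
    hθ.isIrr (fun x hx => ?_) hξ.isIrr (hr ▸ P9.cfdot_lin_cfRes le_sup_left hξ), ?_,
    mem_seqIndD.2 ⟨_, hi, hk, hk', (cfInd_cfInd hle (P9.der_le hP)).symm⟩, ξ, hξ, rfl⟩
  · obtain ⟨h, hh, v, hv, w, hw, rfl⟩ := P9.decomp hP hx.1
    have h5 : v * w ∈ inertia θ :=
      ((inertia θ).mul_mem_cancel_left (le_inertia hθ.mem_CF hh)).1 hx.2
    by_cases hw1 : w = 1
    · rw [hw1, mul_one] at h5 ⊢
      exact mul_mem_sup hh (hV.ge ⟨hv, h5⟩)
    exfalso
    have hv' : w⁻¹ * v * w ∈ U := conj_mem_of_mem_normalizer' (hP.nUW1 hw) hv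
    set y := w⁻¹ * v * w with hy
    have h6 : ∀ k ∈ H1, θ1 (y * k * y⁻¹) = conj (θ1 k) := fun k hk => by
      rw [← e1 k hk, ← mem_inertia.1 h5 k,
        ← e2 w hw hw1 _ (conj_mem_of_mem_normalizer (h1.normal hv') hk)]
      congr 1; rw [hy]; group
    have h7 : ∀ n : ℕ, θ1 (y ^ (2 * n + 1) * g * (y ^ (2 * n + 1))⁻¹) = conj (θ1 g) := by
      intro n
      induction n with
      | zero => simpa using h6 g hg
      | succ n ih =>
        have a1 := conj_mem_of_mem_normalizer (h1.normal (pow_mem hv' (2 * n + 1))) hg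
        have a2 := conj_mem_of_mem_normalizer (h1.normal hv') a1
        have a3 := h6 _ a2
        rw [h6 _ a1, ih] at a3
        rw [← Complex.conj_conj (conj (θ1 g)), ← a3]
        congr 1
        rw [show 2 * (n + 1) + 1 = 1 + 1 + (2 * n + 1) by ring, pow_add, pow_add, pow_one]
        group
    obtain ⟨n, hn⟩ := hodd
    have h8 := h7 n
    have hpow : ∀ z ∈ M, z ^ Nat.card M = 1 := fun z hz =>
      orderOf_dvd_iff_pow_eq_one.1 (M.orderOf_dvd_natCard hz)
    rw [← hn, hpow y (P9.U_le hP hv'), one_mul, inv_one, mul_one] at h8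
    have h9 := hθ1.mul_conj (h1.le_H hg)
    have h10 := hθ1.map_pow (h1.le_H hg) (2 * n + 1)
    rw [← hn, hpow g (P9.der_le hP (hP.H_le_der (h1.le_H hg))), hθ1.one, hn, pow_succ, pow_mul, sq] at h10
    rw [← h8] at h9
    rw [h9, one_pow, one_mul] at h10
    exact hg1 h10.symm
  · rw [cfInd_one (hle.trans (P9.der_le hP)), hξ.one, mul_one, P9.relIndex_HV_M hP P9.C_le]

end character

end CfsgLib.FT.PG
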