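import Mathlib
import Cfsg.Agent.Lib.FT.PF7
import Cfsg.Agent.Lib.FT.PF9e
import Cfsg.Agent.Lib.PG.Defs

/-! Peterfalvi, section 9: the abstract part of (9.11). -/

set_option autoImplicit false
set_option linter.unusedSectionVars false

namespace CfsgLib.FT.PG.P9
export CfsgLib.FT.P9 (cfdot_sub_proj cfnorm_sum_smul cfnorm_proj bessel one_le_norm_int sub_mem_zspan)
export CfsgLib.FT.P9 (coh_sub bridge_extend pow_bound)
end CfsgLib.FT.PG.P9


namespace CfsgLib.FT.PG

open Cfsg Subgroup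
open scoped commutatorElement ComplexConjugate

variable {G : Type*} [Group G] [PiCtx G] [Fintype G]

namespace P9

section proj
variable {L : Subgroup G} {ι : Type*} (s : Finset ι) (f : ι → G → ℂ)
  (h1 : ∀ i ∈ s, cfdot L (f i) (f i) = 1) (h2 : ∀ i ∈ s, ∀ j ∈ s, i ≠ j → cfdot L (f i) (f j) = 0)
include h1 h2

end proj

variable {L : Subgroup G} {S S1 S3 S4 : Finset (G → ℂ)} {τ τ1 τ3 : CFMap G}
  {R : (G → ℂ) → Finset (G → ℂ)}

end P9

end CfsgLib.FT.PG
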