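import Mathlib
import Cfsg.Agent.Lib.PG.PF9d
import Cfsg.Agent.Lib.PG.PF9e
import Cfsg.Agent.Lib.FT.PF9f

/-! Peterfalvi, section 9: (9.11). -/

set_option autoImplicit false
set_option linter.unusedSectionVars false

namespace CfsgLib.FT.PG.P9
export CfsgLib.FT.P9 (exists_deg_inf U1_eq_C cfnorm_gamma gamma_on)
end CfsgLib.FT.PG.P9


namespace CfsgLib.FT.PG

open Cfsg Subgroup
open scoped commutatorElement ComplexConjugate

universe u

variable {G : Type u} [Group G] [PiCtx G]

section character
variable [Fintype G] {M U W W1 W2 : Subgroup G} (hP : OfTypeP M U W W1 W2)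
  {H0 : Subgroup G} (h0 : PtypeKer M U H0) {H1 : Subgroup G} (h1 : NonGaloisData M U W1 H0 H1)
  {D : Subgroup G} (hD : P9.ComplData M U W1 H0 H1 D)
include hP h0 h1 hD

end character

end CfsgLib.FT.PG
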