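import Mathlib
import Cfsg.Agent.Lib.PG.PF9f
import Cfsg.Agent.Lib.FT.PF9

/-! Peterfalvi, section 9: on the maximal subgroups of types II, III and IV.

Throughout `H = M_F`, `HU = M'`, `q = |W1|`, `H0` is as in (9.4), `p = PtypePrime M H0`,
`C = FcomplKer M U H0`, `u = |U : C|`, `S(Y) = seqIndD HU M H Y`. -/

set_option autoImplicit false
set_option linter.unusedSectionVars false



namespace CfsgLib.FT.PG

open Cfsg Subgroup
open scoped commutatorElement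

variable {G : Type*} [Group G] [PiCtx G]

section character
variable [Fintype G]

variable (hG : PGHyp G) {M : Subgroup G} (hM : Mx M)
  {U W W1 W2 : Subgroup G} (hP : OfTypeP M U W W1 W2) (h5 : FTtype M ≠ 5)
  {H0 : Subgroup G} (h0 : PtypeKer M U H0)
include hG hM hP h5 h0

open Classical in
/-- PF (9.8)(a), (c), (d). -/
theorem typeP_nonGalois_characters {H1 : Subgroup G} (h1 : NonGaloisData M U W1 H0 H1) :
    (∀ χ : Irr ⁅M, M⁆, H0 ≤ cfker ⁅M, M⁆ χ → ¬ fittingHallOf M ≤ cfker ⁅M, M⁆ χ →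
      ∃ n : ℕ, χ 1 = ((centMod H1 H0).relIndex U * n : ℕ)) ∧
    (∃ ζ, IsIrr M ζ ∧ IsIndHC M U W1 H0 ζ) ∧
    ((centMod H1 H0).relIndex U ^ 2 * Nat.card ↥⁅U, U⁆ ∣ (PtypePrime M H0 - 1) * Nat.card U ∧
      (PtypePrime M H0 - 1) * Nat.card U / ((centMod H1 H0).relIndex U ^ 2 * Nat.card ↥⁅U, U⁆) ≤
        ((seqIndD ⁅M, M⁆ M (fittingHallOf M) (H0 ⊔ ⁅U, U⁆)).filter fun ζ =>
          IsIrr M ζ ∧ ζ 1 = (Nat.card W1 * (centMod H1 H0).relIndex U : ℕ)).card) := by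
  obtain ⟨D, hD⟩ := P9.exists_complData hP h0 h1
  exact ⟨fun χ => P9.nonGalois_a hP h0 h1 χ.irr, P9.nonGalois_c hP h0 h1 hD (mFT_odd hG hM.1),
    P9.nonGalois_d hP h0 h1 hD⟩

/-- PF (9.9)(a), (c). -/
theorem typeP_Galois_characters (hGal : TypePGalois M U H0) :
    (∀ χ : Irr ⁅M, M⁆, H0 ≤ cfker ⁅M, M⁆ χ → ¬ fittingHallOf M ≤ cfker ⁅M, M⁆ χ →
      ∃ n : ℕ, χ 1 = ((FcomplKer M U H0).relIndex U * n : ℕ)) ∧
    (∀ χ : Irr ⁅M, M⁆, H0 ⊔ ⁅FcomplKer M U H0, FcomplKer M U H0⁆ ≤ cfker ⁅M, M⁆ χ →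
      ¬ fittingHallOf M ≤ cfker ⁅M, M⁆ χ →
      χ 1 = ((FcomplKer M U H0).relIndex U : ℕ) ∧
        ∃ ξ, IsLin (fittingHallOf M ⊔ FcomplKer M U H0) ξ ∧
          (χ : G → ℂ) = cfInd (fittingHallOf M ⊔ FcomplKer M U H0) ⁅M, M⁆ ξ) ∧
    ((∀ ζ ∈ seqIndD ⁅M, M⁆ M (fittingHallOf M) (H0 ⊔ ⁅FcomplKer M U H0, FcomplKer M U H0⁆),
        ¬ IsIrr M ζ) →
      FcomplKer M U H0 = ⊥ ∧
      (FcomplKer M U H0).relIndex U =
        (PtypePrime M H0 ^ Nat.card W1 - 1) / (PtypePrime M H0 - 1) ∧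
      ∀ v ∈ U, v ≠ 1 → ∀ h ∈ fittingHallOf M, v * h * v⁻¹ * h⁻¹ ∈ H0 → h ∈ H0) := by
  refine ⟨fun χ h1 h2 => ?_, fun χ h1 h2 => ?_,
    P9.galois_all_red hP h0 (FT_primeTI_hyp hG hM.1 hP) hGal⟩
  · obtain ⟨θ, hθ, h3, h4, hd⟩ := P9.exists_lin_under' hP h0 χ.irr h1 h2
    obtain ⟨e, he⟩ := P9.clifford_lin_deg hP.H_le_der ((P9.der_le hP).trans (Fcore_normal M))
      χ.irr hθ hd
    refine ⟨e, ?_⟩
    rw [he, P9.relIndex_der_eq hP (le_inertia hθ.mem_CF), ← inf_relIndex_right, inf_comm,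
      le_antisymm (P9.galois_inertia hP h0 hGal hθ h3 h4)
        (le_inf P9.C_le (P9.C_le_inertia hP h0 hθ h3))]
  · obtain ⟨θ, hθ, h3, h4, hd⟩ := P9.exists_lin_under' hP h0 χ.irr (le_sup_left.trans h1) h2
    exact P9.exists_ind_HC hP h0 χ.irr hθ hd (P9.galois_inertia hP h0 hGal hθ h3 h4) h1

open Classical in
/-- PF (9.8)(b) and (9.9)(b). -/
theorem typeP_reducible_core_Ind :
    ((seqIndD ⁅M, M⁆ M (fittingHallOf M) H0).filter fun ζ => ¬ IsIrr M ζ).card =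
      PtypePrime M H0 - 1 ∧
    ∀ ζ ∈ seqIndD ⁅M, M⁆ M (fittingHallOf M) H0, ¬ IsIrr M ζ →
      IsIndHC M U W1 H0 ζ ∧ ∃ j : Irr W2, j ≠ 1 ∧ ζ = prTIred M W W1 W2 j := by
  refine ⟨P9.card_red hP h0 (FT_primeTI_hyp hG hM.1 hP), fun ζ h1 h2 => ?_⟩
  obtain ⟨h3, j, hj, -, h4⟩ := P9.red_cases hP h0 (FT_primeTI_hyp hG hM.1 hP) h1 h2
  exact ⟨h3, j, hj, h4⟩

/-- PF (9.10). -/
theorem typeP_reducible_core_cases :
    (∃ ζ, IsIrr M ζ ∧
      ζ ∈ seqIndD ⁅M, M⁆ M (fittingHallOf M) (H0 ⊔ ⁅FcomplKer M U H0, FcomplKer M U H0⁆) ∧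
      ζ 1 = (Nat.card W1 * (FcomplKer M U H0).relIndex U : ℕ) ∧
      ∃ ξ, IsLin (fittingHallOf M ⊔ FcomplKer M U H0) ξ ∧
        ζ = cfInd (fittingHallOf M ⊔ FcomplKer M U H0) M ξ) ∨
    (TypePGalois M U H0 ∧
      (∀ v ∈ U, v ≠ 1 → ∀ h ∈ fittingHallOf M, v * h * v⁻¹ * h⁻¹ ∈ H0 → h ∈ H0) ∧
      IsCyclic U ∧
      Nat.card U = (PtypePrime M H0 ^ Nat.card W1 - 1) / (PtypePrime M H0 - 1) ∧
      (FTtype M = 2 → FrobIn ⁅M, M⁆ (fittingHallOf M) U)) := by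
  by_cases hGal : TypePGalois M U H0
  · obtain ⟨-, h2, h3⟩ := typeP_Galois_characters hG hM hP h5 h0 hGal
    by_cases h : ∃ ζ ∈ seqIndD ⁅M, M⁆ M (fittingHallOf M)
        (H0 ⊔ ⁅FcomplKer M U H0, FcomplKer M U H0⁆), IsIrr M ζ
    · obtain ⟨ζ, hζ, hi⟩ := h
      refine Or.inl ⟨ζ, hi, hζ, ?_⟩
      obtain ⟨χ, hχ, a, b, rfl⟩ := mem_seqIndD.1 hζ
      obtain ⟨c, ξ, hξ, d⟩ := h2 ⟨χ, hχ⟩ a b
      refine ⟨?_, ξ, hξ, ?_⟩
      · rw [cfInd_one (P9.der_le hP), P9.relIndex_der hP, Nat.cast_mul, ← c]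
      · rw [← cfInd_cfInd (P9.HV_le hP P9.C_le) (P9.der_le hP), ← d]
    · push Not at h
      obtain ⟨a, b, c⟩ := h3 h
      obtain ⟨g, -, hg⟩ := (P9.galois hP h0 hGal).1
      rw [a, sup_bot_eq] at hg
      have hcyc : IsCyclic U := hg ▸ inferInstance
      refine Or.inr ⟨hGal, c, hcyc, by rw [← b, a, relIndex_bot_left], fun h2 => ?_⟩
      have hII := (FTtype_eq_two_iff hG hM hP).1 h2
      have := (typeF_frob_iff hG (hM.loc (P9.der_le hP)) hII.der_typeF).2 inferInstance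
      rwa [hII.der_Fcore] at this
  · obtain ⟨H1, h1⟩ := typeP_Galois_Pn hG hM hP h5 h0 hGal
    obtain ⟨-, ⟨ζ, hi, a, b, c⟩, -⟩ := typeP_nonGalois_characters hG hM hP h5 h0 h1
    exact Or.inl ⟨ζ, hi, seqIndDS le_rfl (sup_le_sup_left (commutator_le_self _) _) b, a, c⟩

/-- PF (9.11). -/
theorem Ptype_core_coherence :
    Coherent M (seqIndD ⁅M, M⁆ M (fittingHallOf M)
      (H0 ⊔ ⁅FcomplKer M U H0, FcomplKer M U H0⁆)) (FTDade0 M) := by
  classical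
  have hPD := FT_prDade_hypF hG hM hP
  have hT := FT_primeTI_hyp hG hM.1 hP
  set H := fittingHallOf M with hH
  set C := FcomplKer M U H0 with hC
  set K : Subgroup G := ⁅M, M⁆ with hK
  set S := seqIndD K M H (H0 ⊔ ⁅C, C⁆) with hS
  have hKM : K ≤ M := P9.der_le hP
  have hMK : M ≤ normalizer (K : Set G) := P9.der_normal hP
  have hoddM : Odd (Nat.card M) := mFT_odd hG hM.1
  obtain ⟨R, hR, -⟩ := prDade_subcoherent hPD (S := S) (seqInd_conjC_subset le_rfl bot_le)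
    fun χ hχ => seqInd_conjC_neq hKM hMK hP.H_le_der hoddM hχ
  have hqK : K.relIndex M = Nat.card W1 := P9.relIndex_der hP
  by_cases hGal : TypePGalois M U H0
  · obtain ⟨-, h2, -⟩ := typeP_Galois_characters hG hM hP h5 h0 hGal
    have : ∀ ζ ∈ S, ζ 1 = K.relIndex M * (C.relIndex U : ℕ) := fun ζ hζ => by
      obtain ⟨χ, hχ, a, b, rfl⟩ := mem_seqIndD.1 hζ
      rw [cfInd_one hKM, ← (h2 ⟨χ, hχ⟩ a b).1]
    exact uniform_degree_coherence hR fun χ hχ φ hφ => by rw [this χ hχ, this φ hφ]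
  obtain ⟨H1, h1⟩ := typeP_Galois_Pn hG hM hP h5 h0 hGal
  obtain ⟨D, hD⟩ := P9.exists_complData hP h0 h1
  obtain ⟨hdv, hlb⟩ := P9.nonGalois_d hP h0 h1 hD
  have hqp := (compl_of_typeII_IV hG hM hP h5).W1_prime
  have hq3 := hT.cycTI.three_le_W1
  have hp := P9.prime h0
  set a := (centMod H1 H0).relIndex U with ha
  set q := Nat.card W1 with hq
  set p := PtypePrime M H0 with hpd
  set u := C.relIndex U with hu
  set S0 := (seqIndD K M H (H0 ⊔ ⁅U, U⁆)).filter fun ζ => IsIrr M ζ ∧ ζ 1 = (q * a : ℕ) with hS0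
  set S1 := S.filter fun ζ : G → ℂ => ζ 1 = (q * a : ℕ) with hS1
  have hU'C : ⁅U, U⁆ ≤ C := P9.der_U_le_C hP h0
  have hCU : C ≤ U := P9.C_le
  have sCS : seqIndD K M H (H0 ⊔ C) ⊆ S :=
    seqIndDS le_rfl (sup_le_sup_left (commutator_le_self _) _)
  have s01 : S0 ⊆ S1 := fun ζ hζ => by
    obtain ⟨a1, -, a2⟩ := Finset.mem_filter.1 hζ
    exact Finset.mem_filter.2
      ⟨seqIndDS le_rfl (sup_le_sup_left (commutator_mono hCU hCU) _) a1, a2⟩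
  have cS1 : ConjCSubset S1 S := ⟨Finset.filter_subset _ _, fun χ hχ => by
    obtain ⟨a1, a2⟩ := Finset.mem_filter.1 hχ
    exact Finset.mem_filter.2 ⟨hR.conj_mem _ a1, by rw [← a2]; exact (hR.char _ a1).conj_one⟩⟩
  have coh1 : Coherent M S1 (FTDade0 M) := uniform_degree_coherence (subset_subcoherent hR cS1)
    fun χ hχ φ hφ => by rw [(Finset.mem_filter.1 hχ).2, (Finset.mem_filter.1 hφ).2]
  obtain ⟨S2, hS2, hmax⟩ := Finset.exists_max_image (S.powerset.filter fun S2 => S1 ⊆ S2 ∧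
    (∀ χ ∈ S2, cfConjC χ ∈ S2) ∧ Coherent M S2 (FTDade0 M)) Finset.card
    ⟨S1, Finset.mem_filter.2 ⟨Finset.mem_powerset.2 cS1.1, subset_rfl, cS1.2, coh1⟩⟩
  obtain ⟨s2S, s12, c2, coh2⟩ := Finset.mem_filter.1 hS2
  rw [Finset.mem_powerset] at s2S
  by_cases hSS : S ⊆ S2
  · exact subset_coherent coh2 hSS
  exfalso
  have hmax' : ∀ ζ ∈ S, ζ ∉ S2 → ¬ Coherent M (insert ζ (insert (cfConjC ζ) S2)) (FTDade0 M) := by
    intro ζ hζ hζ2 hc
    have s1 : S2 ⊆ insert (cfConjC ζ) S2 := Finset.subset_insert _ _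
    have s2 : S2 ⊆ insert ζ (insert (cfConjC ζ) S2) := s1.trans (Finset.subset_insert _ _)
    refine absurd (hmax _ (Finset.mem_filter.2 ⟨Finset.mem_powerset.2 (Finset.insert_subset hζ
      (Finset.insert_subset (hR.conj_mem _ hζ) s2S)), s12.trans s2, fun χ hχ => ?_, hc⟩))
      (not_le.2 (Finset.card_lt_card ⟨s2, fun h => hζ2 (h (Finset.mem_insert_self _ _))⟩))
    simp only [Finset.mem_insert] at hχ ⊢
    rcases hχ with rfl | rfl | hχ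
    · exact Or.inr (Or.inl rfl)
    · exact Or.inl (by simp)
    · exact Or.inr (Or.inr (c2 _ hχ))
  -- numerical facts
  have ha1 : 1 < a := h1.one_lt
  have hu0 : 0 < u := Nat.pos_of_ne_zero (relIndex_ne_zero' _ _)
  set Λ := (⁅U, U⁆ : Subgroup G).relIndex U with hΛ
  have hΛu : (⁅U, U⁆ : Subgroup G).relIndex C * u = Λ := relIndex_mul_relIndex _ _ _ hU'C hCU
  have huΛ : u ≤ Λ := hΛu ▸ Nat.le_mul_of_pos_left _ (Nat.pos_of_ne_zero (relIndex_ne_zero' _ _))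
  have hs : (p - 1) * Λ ≤ S0.card * a ^ 2 := by
    have e := Nat.div_mul_cancel hdv
    have e2 := card_mul_relIndex (commutator_le_self U)
    refine Nat.le_of_mul_le_mul_right ?_ (Nat.card_pos (α := ↥⁅U, U⁆))
    calc (p - 1) * Λ * Nat.card ↥⁅U, U⁆ = (p - 1) * Nat.card U := by rw [← e2]; ring
      _ ≤ S0.card * (a ^ 2 * Nat.card ↥⁅U, U⁆) := e ▸ Nat.mul_le_mul_right _ hlb
      _ = _ := by ring
  have h2a : 2 * a ≤ p - 1 := by
    obtain ⟨m, hm⟩ := h1.dvd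
    rw [← ha, ← hpd] at hm
    have o1 : Odd a := (hM.odd hG (P9.U_le hP)).of_dvd_nat (relIndex_dvd_card _ _)
    have o2 : Odd p := (hM.odd hG (hP.W2_le_H.trans (hP.H_le_der.trans hKM))).of_dvd_nat
      (((P9.facts hP h0).2.2.1 ▸ relIndex_dvd_card H0 W2).trans dvd_rfl)
    have := hp.two_le
    rcases m with _ | _ | m
    · omega
    · obtain ⟨x, hx⟩ := o1; obtain ⟨y, hy⟩ := o2; omega
    · rw [hm]; nlinarith
  have hS0ne : S0.Nonempty := Finset.card_pos.1 (by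
    by_contra! h
    rw [Nat.le_zero.1 h, zero_mul] at hs
    have : 0 < (p - 1) * Λ := Nat.mul_pos (by omega) (by omega)
    omega)
  obtain ⟨ψ1, hψ1⟩ := hS0ne
  have dS1 : ∀ ψ ∈ S1, ψ 1 = (q * a : ℕ) := fun ψ hψ => (Finset.mem_filter.1 hψ).2
  have iS0 : ∀ ψ ∈ S0, IsIrr M ψ := fun ψ hψ => (Finset.mem_filter.1 hψ).2.1
  have sum0 : ∑ ξ ∈ S0, (ξ 1).re ^ 2 / cfnorm M ξ = S0.card * ((q : ℝ) * a) ^ 2 := by
    rw [Finset.sum_congr rfl (g := fun _ => ((q : ℝ) * a) ^ 2), Finset.sum_const, nsmul_eq_mul]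
    intro ξ hξ
    rw [(iS0 ξ hξ).cfnorm, dS1 ξ (s01 hξ), Complex.natCast_re, div_one, Nat.cast_mul]
  have hpos : ∀ ξ ∈ S, 0 < (ξ 1).re ^ 2 / cfnorm M ξ := fun ξ hξ =>
    div_pos (pow_pos (seqInd1_re_pos hKM hξ) 2) (hR.cfnorm_pos hξ)
  have hq0 : (0 : ℝ) < q := by exact_mod_cast hqp.pos
  have ha0 : (0 : ℝ) < a := by exact_mod_cast ha1.le
  -- (9.11.1)
  have key : ∀ ζ ∈ S, ζ ∉ S2 → ζ 1 = (q * u : ℕ) ∧ a ∣ u ∧ p - 1 = 2 * a ∧ Λ = u ∧
      S0.card * a = 2 * u ∧ S2 = S0 := by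
    intro ζ hζ hζ2
    obtain ⟨χ, hχ, k1, k2, rfl⟩ := mem_seqIndD.1 hζ
    obtain ⟨n, hn⟩ := P9.nonGalois_a hP h0 h1 hχ (le_sup_left.trans k1) k2
    rw [← ha] at hn
    have d1 : cfInd K M χ 1 = (q * (a * n) : ℕ) := by rw [cfInd_one hKM, hqK, hn]; push_cast; rfl
    have hN := P9.normal_sup hP h0 (commutator_le_self _) (P9.norm_C' hP h0).1 (P9.norm_C' hP h0).2
    have b1 := irr1_bound_quo hχ k1 le_rfl (P9.HV_le hP hCU)
      (P9.commutator_sup_sup_le ((Fcore_le M).trans hN) ((hCU.trans (P9.U_le hP)).trans hN)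
        ((P9.abelem h0).1.trans le_sup_left) ((P9.commutator_H_C hP h0).trans le_sup_left)
        le_sup_right)
    rw [relIndex_self, P9.relIndex_HV_der hP hCU, hn, Complex.natCast_re, Nat.cast_one, mul_one,
      ← hu] at b1
    have b2 : a * n ≤ u := by
      have : (a * n) ^ 2 ≤ u ^ 2 := by exact_mod_cast b1
      exact (Nat.pow_le_pow_iff_left two_ne_zero).1 this
    have b3 : ∑ ξ ∈ S2, (ξ 1).re ^ 2 / cfnorm M ξ ≤ 2 * ((q : ℝ) * (a * n)) * (q * a) := by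
      by_contra! h
      refine hmax' _ hζ hζ2 (extend_coherent hR ⟨s2S, c2⟩ coh2 (s12 (s01 hψ1)) hζ hζ2
        ⟨n, by rw [d1, dS1 _ (s01 hψ1)]; push_cast; ring⟩ ?_)
      rw [d1, dS1 _ (s01 hψ1), Complex.natCast_re, Complex.natCast_re]
      push_cast
      exact h
    have b4 := Finset.sum_le_sum_of_subset_of_nonneg (s01.trans s12)
      (f := fun ξ => (ξ 1).re ^ 2 / cfnorm M ξ) fun ξ hξ _ => (hpos ξ (s2S hξ)).le
    have b5 : S0.card * a ^ 2 ≤ 2 * a * (a * n) := by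
      have : (S0.card * a ^ 2 : ℝ) ≤ 2 * a * (a * n) := by
        refine le_of_mul_le_mul_left ?_ (pow_pos hq0 2)
        rw [sum0] at b4
        linarith
      exact_mod_cast this
    have c1 : 2 * a * (a * n) ≤ 2 * a * u := Nat.mul_le_mul_left _ b2
    have c2' : 2 * a * u ≤ (p - 1) * u := Nat.mul_le_mul_right _ h2a
    have c3 : (p - 1) * u ≤ (p - 1) * Λ := Nat.mul_le_mul_left _ huΛ
    have e1 : a * n = u := Nat.eq_of_mul_eq_mul_left (by omega : 0 < 2 * a) (by omega)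
    have e2 : S0.card * a = 2 * u := Nat.eq_of_mul_eq_mul_right (by omega : 0 < a) (by
      rw [mul_assoc, ← sq, mul_right_comm]; omega)
    refine ⟨by rw [d1, e1], ⟨n, e1.symm⟩, Nat.eq_of_mul_eq_mul_right hu0 (by omega),
      Nat.eq_of_mul_eq_mul_left (by omega : 0 < p - 1) (by omega), e2, ?_⟩
    by_contra hne
    obtain ⟨ξ, hξ, hξ0⟩ := Finset.exists_of_ssubset
      (Finset.ssubset_iff_subset_ne.2 ⟨s01.trans s12, Ne.symm hne⟩)
    have b6 := Finset.sum_lt_sum_of_subset (s01.trans s12)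
      (f := fun ξ => (ξ 1).re ^ 2 / cfnorm M ξ) hξ hξ0 (hpos ξ (s2S hξ))
      fun ξ hξ _ => (hpos ξ (s2S hξ)).le
    rw [sum0] at b6
    have e3 : (S0.card * a : ℝ) = 2 * (a * n) := by rw [← e1] at e2; exact_mod_cast e2
    have : (S0.card : ℝ) * ((q : ℝ) * a) ^ 2 = 2 * ((q : ℝ) * (a * n)) * (q * a) := by
      linear_combination (q : ℝ) ^ 2 * a * e3
    linarith
  obtain ⟨ζ0, hζ0, hζ02⟩ := Finset.not_subset.1 hSS
  obtain ⟨d0, ⟨n, hn⟩, hpa, hΛe, hc0, e20⟩ := key ζ0 hζ0 hζ02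
  have e10 : S1 = S0 := Finset.Subset.antisymm (e20 ▸ s12) s01
  have hau : a ≠ u := fun h => hζ02 (s12 (Finset.mem_filter.2 ⟨hζ0, by rw [d0, h]⟩))
  have hCU' : ⁅U, U⁆ = C := by
    refine le_antisymm hU'C (relIndex_eq_one.1 (Nat.eq_of_mul_eq_mul_right hu0 ?_))
    rw [hΛu, hΛe, one_mul]
  have hn1 : 1 < n := by
    rcases n with _ | _ | n <;> omega
  have hcn : S0.card = 2 * n := Nat.eq_of_mul_eq_mul_right (by omega : 0 < a) (by rw [hc0, hn]; ring)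
  set S3 := S \ S2 with hS3
  have cS3 : ConjCSubset S3 S := ⟨Finset.sdiff_subset, fun χ hχ => by
    obtain ⟨a1, a2⟩ := Finset.mem_sdiff.1 hχ
    exact Finset.mem_sdiff.2 ⟨hR.conj_mem _ a1, fun h => a2 (by simpa using c2 _ h)⟩⟩
  have dS3 : ∀ ψ ∈ S3, ψ 1 = (q * u : ℕ) := fun ψ hψ =>
    (key ψ (Finset.mem_sdiff.1 hψ).1 (Finset.mem_sdiff.1 hψ).2).1
  -- (9.11.2)
  have ha' : (U ⊓ centMod H1 H0).relIndex U = a := by rw [inf_comm, inf_relIndex_right]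
  have hV : ∀ w ∈ W1, w ≠ 1 →
      U ⊓ centMod H1 H0 ⊓ centMod (H1.map (MulAut.conj w).toMonoidHom) H0 = C := by
    intro w hw hw1
    obtain ⟨ζ, hζ, hd⟩ := P9.exists_deg_inf hP h0 h1 hD hw hw1
    set V := U ⊓ centMod H1 H0 ⊓ centMod (H1.map (MulAut.conj w).toMonoidHom) H0 with hVd
    have hCV : C ≤ V := le_inf (P9.C_le_U1' hP h0 h1) ((P9.C_le_U1 hP h0 h1 hw).trans inf_le_right)
    by_cases h : ζ ∈ S2
    · rw [dS1 ζ (e10 ▸ e20 ▸ h)] at hd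
      have e1 : a = V.relIndex U := Nat.eq_of_mul_eq_mul_left hqp.pos (by exact_mod_cast hd)
      have e2 := relIndex_mul_relIndex V (U ⊓ centMod H1 H0) U inf_le_left inf_le_left
      rw [ha', ← e1] at e2
      have e3 := relIndex_eq_one.1 (Nat.eq_of_mul_eq_mul_right (by omega : 0 < a)
        (e2.trans (one_mul _).symm))
      have e4 := P9.U1_eq_C hP h0 h1 hqp hw hw1 (e3.trans inf_le_right)
      exact absurd (by rw [← ha', e4]) hau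
    · rw [(key ζ (sCS hζ) h).1] at hd
      have e1 : u = V.relIndex U := Nat.eq_of_mul_eq_mul_left hqp.pos (by exact_mod_cast hd)
      have e2 := relIndex_mul_relIndex C V U hCV (inf_le_left.trans inf_le_left)
      rw [← hu, ← e1] at e2
      exact le_antisymm (relIndex_eq_one.1 (Nat.eq_of_mul_eq_mul_right hu0
        (e2.trans (one_mul _).symm))) hCV
  have hua : u ≤ a ^ 2 := by
    obtain ⟨⟨w, hw⟩, hw1⟩ := ne_bot_iff_exists_ne_one.1 hP.W1_ne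
    rw [hu, ← hV w hw fun e => hw1 (Subtype.ext e), sq]
    refine relIndex_inf_le.trans ?_
    rw [ha', P9.relIndex_centMod_conj hP h0 hw]
  -- (9.11.3)
  set SC := seqIndD K M H (H0 ⊔ C) with hSC
  set S4 := (SC.filter fun ζ => IsIrr M ζ) \ S0 with hS4
  have s0C : S0 ⊆ SC.filter fun ζ => IsIrr M ζ := fun ζ hζ => by
    obtain ⟨a1, a2, -⟩ := Finset.mem_filter.1 hζ
    exact Finset.mem_filter.2 ⟨by rwa [hCU'] at a1, a2⟩
  have s43 : S4 ⊆ S3 := fun ζ hζ => Finset.mem_sdiff.2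
    ⟨sCS (Finset.mem_filter.1 (Finset.mem_sdiff.1 hζ).1).1, e20 ▸ (Finset.mem_sdiff.1 hζ).2⟩
  have iS4 : ∀ ψ ∈ S4, IsIrr M ψ := fun ψ hψ => (Finset.mem_filter.1 (Finset.mem_sdiff.1 hψ).1).2
  have hcount : (2 * a + 1) ^ q = 1 + 2 * a * q + 2 * a * u + S4.card * q * u := by
    have s1 := P9.sum_square hP h0 le_rfl (P9.U_norm_C hP h0) (P9.W1_norm_C hP h0)
    have e2 : (SC.filter fun ζ => ¬ IsIrr M ζ) =
        (seqIndD K M H H0).filter fun ζ => ¬ IsIrr M ζ := by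
      ext ζ
      simp only [Finset.mem_filter]
      exact ⟨fun h => ⟨seqIndDS le_rfl le_sup_left h.1, h.2⟩,
        fun h => ⟨(P9.red_cases hP h0 hT h.1 h.2).1.2.1, h.2⟩⟩
    have e3 : ∑ ξ ∈ S4, (ξ 1).re ^ 2 / cfnorm M ξ = S4.card * ((q : ℝ) * u) ^ 2 := by
      rw [Finset.sum_congr rfl (g := fun _ => ((q : ℝ) * u) ^ 2), Finset.sum_const, nsmul_eq_mul]
      intro ξ hξ
      rw [(iS4 ξ hξ).cfnorm, dS3 ξ (s43 hξ), Complex.natCast_re, div_one, Nat.cast_mul]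
    have e4 : ∑ ξ ∈ (seqIndD K M H H0).filter fun ζ => ¬ IsIrr M ζ, (ξ 1).re ^ 2 / cfnorm M ξ =
        2 * a * (((q : ℝ) * u) ^ 2 / q) := by
      rw [Finset.sum_congr rfl (g := fun _ => ((q : ℝ) * u) ^ 2 / q), Finset.sum_const,
        nsmul_eq_mul, P9.card_red hP h0 hT, ← hpd, hpa, Nat.cast_mul, Nat.cast_ofNat]
      intro ζ hζ
      rw [Finset.mem_filter] at hζ
      rw [P9.cfnorm_red hP h0 hT hζ.1 hζ.2, (P9.red_cases hP h0 hT hζ.1 hζ.2).1.1,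
        Complex.natCast_re, Nat.cast_mul]
    rw [← hC, ← hH, ← hK, ← hSC, ← Finset.sum_filter_add_sum_filter_not SC (fun ζ => IsIrr M ζ),
      ← Finset.sum_sdiff s0C, ← hS4, e2, e3, e4, sum0, ← hpd, ← hq, ← hu,
      show p = 2 * a + 1 by omega] at s1
    have hc0' : (S0.card * a : ℝ) = 2 * u := by exact_mod_cast hc0
    have hu' : (0 : ℝ) < u := by exact_mod_cast hu0
    have : ((2 * a + 1) ^ q : ℝ) = 1 + 2 * a * q + 2 * a * u + S4.card * q * u := by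
      refine mul_left_cancel₀ (mul_pos hq0 hu').ne' ?_
      push_cast at s1
      field_simp at s1
      linear_combination -(q : ℝ) * s1 + (q : ℝ) ^ 2 * a * hc0'
    exact_mod_cast this
  -- (9.11.4)
  set γ := cfInd (H ⊔ (U ⊓ centMod H1 H0)) M (cf1 (H ⊔ (U ⊓ centMod H1 H0))) with hγ
  have hTM : H ⊔ (U ⊓ centMod H1 H0) ≤ M := (P9.HV_le hP inf_le_left).trans hKM
  have hγc : IsChar M γ := isChar_cf1.cfInd hTM
  have onS : ∀ ξ ∈ S, ξ ∈ CFon M (insert 1 (FTsupp0 M)) := fun ξ hξ => by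
    obtain ⟨χ, hχ, -, k2, rfl⟩ := mem_seqIndD.1 hξ
    exact CFon_mono (Set.insert_subset_insert hPD.A_subset) (hPD.prDade_Ind_irr_on hχ k2)
  have hγS : ∀ ξ ∈ S, cfdot M γ ξ = 0 := fun ξ hξ => by
    by_contra h
    obtain ⟨χ, hχ, k1, k2⟩ := exists_constt_of_cfdot_ne hγc.mem_CF h
    obtain ⟨θ, hθ, -, k3, rfl⟩ := mem_seqIndD.1 hξ
    rw [← cfdot_conj, map_ne_zero, cfdot_cfInd_right hKM hχ.mem_CF] at k2
    refine k3 ((sub_cfker_constt_irr hKM hP.H_le_der (Fcore_normal M) hχ hθ k2).2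
      (le_trans ?_ (cfker_constt hγc.mem_CF hχ k1)))
    exact le_cfker_cfInd hTM (Fcore_normal M) (le_sup_left.trans cfker_cf1.ge)
  have hψS := cS1.1 (s01 hψ1)
  have hαon : γ - ψ1 ∈ CFon M (FTsupp0 M) := by
    refine CFon_of_insert_one (sub_mem (CFon_mono (Set.insert_subset_insert hPD.A_subset)
      (P9.gamma_on hP h0 h1 hD hPD.A_conj hPD.cent_sub)) (onS _ hψS)) ?_
    rw [Pi.sub_apply, hγ, cfInd_one hTM, P9.relIndex_HV_M hP inf_le_left, ha', dS1 _ (s01 hψ1),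
      cf1_apply (one_mem _), mul_one, sub_self]
  have hnα : cfnorm ⊤ (FTDade0 M (γ - ψ1)) < S4.card := by
    rw [cfnorm_Dade hPD.dade hαon, cfnorm_sub_of_ortho (hγS _ hψS), (iS0 _ hψ1).cfnorm, hγ,
      P9.cfnorm_gamma hP h0 h1 fun w hw hw1 => (hV w hw hw1).le, ← ha, ← hq, ← hC, ← hu]
    have hu' : (0 : ℝ) < u := by exact_mod_cast hu0
    have b1 := P9.pow_bound a (by omega) hq3
    rw [hcount] at b1
    have b2 : (1 + 2 * a * q + q ^ 2 * a ^ 2 + (q + 2) * a ^ 3 : ℝ) <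
      1 + 2 * a * q + 2 * a * u + S4.card * q * u := by exact_mod_cast b1
    have b3 : (u : ℝ) ≤ a ^ 2 := by exact_mod_cast hua
    rw [add_right_comm, ← lt_sub_iff_add_lt', div_lt_iff₀ hu']
    refine lt_of_mul_lt_mul_left ?_ hq0.le
    have b4 := mul_le_mul_of_nonneg_left b3 (show (0 : ℝ) ≤ 2 * a + q * (a + 1) by positivity)
    linarith
  have hS4ne : S4.Nonempty := Finset.card_pos.1 (by
    have := lt_of_le_of_lt cfnorm_nonneg hnα
    exact_mod_cast this)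
  obtain ⟨l1, hl1⟩ := hS4ne
  obtain ⟨τ1, hτ1⟩ := coh2
  obtain ⟨τ3, hτ3⟩ := uniform_degree_coherence (subset_subcoherent hR cS3)
    fun χ hχ φ hφ => by rw [dS3 _ hχ, dS3 _ hφ]
  refine hmax' l1 (cS3.1 (s43 hl1)) (Finset.mem_sdiff.1 (s43 hl1)).2 (P9.bridge_extend hR ⟨s2S, c2⟩
    cS3 Finset.disjoint_sdiff (e20 ▸ iS0) hτ1 hτ3 s43 iS4 (e20 ▸ hψ1) hl1 hn1 (e20 ▸ hcn)
    (fun ψ hψ => by rw [dS1 _ (s01 hψ1), dS1 ψ (e10 ▸ e20 ▸ hψ)])
    (fun ψ hψ => by rw [dS1 _ (s01 hψ1), dS3 ψ hψ, hn]; push_cast; ring)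
    (Dade_vchar hPD.dade (sub_mem hγc.mem_ZIrr (hR.vchar hψS)) fun x hx => CFon_zero hαon hx)
    (fun φ hφ hφ1 => ?_) hnα)
  rw [Dade_isometry hPD.dade hαon (zspan_mem_CFon_of_one onS hφ hφ1), cfdot_sub_left,
    cfdot_zspan_right hγS hφ, zero_sub]

end character

end CfsgLib.FT.PG
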