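import Mathlib
import Cfsg.Agent.Lib.PG.PF9
import Cfsg.Agent.Lib.FT.PF10a

/-! Peterfalvi, section 10: (10.1) to (10.5) and (10.9). -/

set_option autoImplicit false
set_option linter.unusedSectionVars false

namespace CfsgLib.FT.PG.P10
export CfsgLib.FT.P10 (exists_irr_ne_one ortho_irr ortho_red prTIred_mem cfdot_sum_col sign_cases)
export CfsgLib.FT.P10 (ratio der_ne solvable_der der2_lt der2_normal frobQuo)
export CfsgLib.FT.P10 (S1_facts card_seqInd)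
end CfsgLib.FT.PG.P10


namespace CfsgLib.FT.PG

open Cfsg Subgroup
open scoped commutatorElement ComplexConjugate

variable {G : Type*} [Group G] [PiCtx G] [Fintype G]

section
variable {M U W W1 W2 : Subgroup G} (hP : OfTypeP M U W W1 W2)
include hP

theorem P10.index_bound (hodd : Odd (Nat.card M)) {N : Subgroup G} (h1 : ⁅⁅M, M⁆, ⁅M, M⁆⁆ < N)
    (h2 : N ≤ ⁅M, M⁆) (h3 : M ≤ normalizer (N : Set G)) :
    2 * Nat.card W1 + 1 ≤ (⁅⁅M, M⁆, ⁅M, M⁆⁆ : Subgroup G).relIndex N := by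
  obtain ⟨m, hm⟩ := (P10.frobQuo hP).index_dvd h1.le h2 h3
  rw [P9.relIndex_der hP] at hm
  obtain ⟨a, ha⟩ := hodd.of_dvd_nat ((relIndex_dvd_card ⁅⁅M, M⁆, ⁅M, M⁆⁆ N).trans
    (card_dvd_of_le (h2.trans (P9.der_le hP))))
  obtain ⟨b, hb⟩ := hodd.of_dvd_nat (card_dvd_of_le hP.defM.2.1)
  have h4 : (⁅⁅M, M⁆, ⁅M, M⁆⁆ : Subgroup G).relIndex N ≠ 1 := fun h =>
    h1.not_ge (relIndex_eq_one.1 h)
  rcases m with _ | _ | m
  · omega
  · omega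
  · have : Nat.card W1 * (m + 1 + 1) = Nat.card W1 * m + 2 * Nat.card W1 := by ring
    omega

end

section
variable (hG : PGHyp G) {M : Subgroup G} (hM : Mx M)
  {U W W1 W2 : Subgroup G} (hP : OfTypeP M U W W1 W2)
include hG hM hP

omit hP in
theorem P10.odd {L : Subgroup G} (hL : L ≤ M) : Odd (Nat.card L) := hM.odd hG hL

/-- PF (10.2). -/
theorem FTtypeP_ref_irr :
    ∃ ζ, IsIrr M ζ ∧ ζ ∈ seqIndD ⁅M, M⁆ M ⁅M, M⁆ ⊥ ∧ ζ 1 = Nat.card W1 := by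
  obtain ⟨ζ, hζ⟩ := seqIndD_nonempty (L := M) le_rfl ((P9.der_le hP).trans (P10.der2_normal hP))
    (P10.der2_lt hP)
  obtain ⟨h1, h2⟩ := P10.S1_facts hP (FT_primeTI_hyp hG hM.1 hP) hζ
  exact ⟨ζ, h1, seqIndDS le_rfl bot_le hζ, h2⟩

variable (h2 : FTtype M ≠ 2)
include h2

theorem P10.gt2 : 2 < FTtype M := by
  have := FTtypeP_ne_one hG hM hP
  have := (FTtype_range M).1
  omega

theorem P10.core : FTcore M = ⁅M, M⁆ := FTcore_type_gt2 (P10.gt2 hG hM hP h2)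

theorem P10.supp : FTsupp M = sharp ⁅M, M⁆ := FTsupp_type_gt2 (P10.gt2 hG hM hP h2)

theorem P10.prDade : PrimeDade M ⁅M, M⁆ ⁅M, M⁆ (sharp ⁅M, M⁆) (FTsupp0 M) (supportR M) W W1 W2 := by
  have := FT_prDade_hyp hG hM hP
  rwa [P10.core hG hM hP h2, P10.supp hG hM hP h2] at this

theorem P10.subcoh : ∃ R, Subcoherent M (seqIndD ⁅M, M⁆ M ⁅M, M⁆ ⊥) (FTDade0 M) R := by
  obtain ⟨R, hR, -⟩ := FTtypeP_subcoherent hG hM hP
  rw [P10.core hG hM hP h2] at hR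
  exact ⟨R, hR⟩

theorem P10.on0 {φ : G → ℂ} (h : φ ∈ CFon M ((⁅M, M⁆ : Subgroup G) : Set G)) (h1 : φ 1 = 0) :
    φ ∈ CFon M (FTsupp0 M) :=
  CFon_mono (P10.prDade hG hM hP h2).A_subset (mem_CFon_sharp.2 ⟨h, h1⟩)

theorem P10.zon {S : Finset (G → ℂ)} {P : Irr ⁅M, M⁆ → Prop} (hS : S ⊆ seqInd ⁅M, M⁆ M P)
    {φ : G → ℂ} (h : φ ∈ zspan S) (h1 : φ 1 = 0) : φ ∈ CFon M (FTsupp0 M) :=
  CFon_mono (P10.prDade hG hM hP h2).A_subset
    (zcharD1_seqInd_on (P9.der_normal hP) (zspan_mono hS h) h1)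

theorem P10.ortho_eta {S1 : Finset (G → ℂ)} {τ1 : CFMap G}
    (hS : ConjCSubset S1 (seqIndD ⁅M, M⁆ M ⁅M, M⁆ ⊥))
    (hcoh : CoherentWith M S1 (FTDade0 M) τ1) {χ : G → ℂ} (hχ : χ ∈ S1) (hirr : IsIrr M χ)
    (i : Irr W1) (j : Irr W2) : cfdot ⊤ (τ1 χ) (cycEta ⊤ W W1 W2 i j) = 0 :=
  coherent_ortho_cycTIiso hG hM hP (by rwa [P10.core hG hM hP h2]) hcoh hχ hirr i j

/-- PF (10.3). -/
theorem FTtype345_core_prime : (Nat.card W2).Prime := P9.W2_prime hG hM hP h2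

/-- PF (10.3). -/
theorem FTtype345_constants : ∃ d δ n, FT345Const M W W1 W2 d δ n := by
  have hT := FT_primeTI_hyp hG hM.1 hP
  obtain ⟨j, hj⟩ := P10.exists_irr_ne_one (L := W2) (by
    rw [hT.cycTI.card_irr_W2]; exact lt_of_lt_of_le (by norm_num) hT.cycTI.three_le_W2)
  obtain ⟨d, hd0, hd⟩ := (hT.prTIirr_irr 1 j).exists_nat_one
  have key : ∀ k : Irr W2, k ≠ 1 → ∃ u, k = j.aut u := fun k hk => by
    obtain ⟨u, hu, -⟩ := exists_aut_of_prime_card (P9.W2_prime hG hM hP h2) j.irr k.irr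
      (fun h => hj (Irr.ext h)) (fun h => hk (Irr.ext h)) (Nat.coprime_one_left _) one_ne_zero
    exact ⟨u, Irr.ext hu.symm⟩
  have hd1 : 1 < d := by
    refine lt_of_le_of_ne hd0 fun h => ?_
    have := (hT.prTIirr_irr 1 j).isLin (by rw [hd, ← h, Nat.cast_one])
    obtain ⟨i, hi⟩ := (hT.prTIirr0P this.isIrr).1 this.commutator_le_cfker
    exact hj (hT.prTIirr_inj.1 hi).2
  obtain ⟨n, hn⟩ := hT.prTIirr1_mod 1 j
  have hn' : (d : ℤ) - prTIsign M W W1 W2 j = n * Nat.card W1 := by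
    rw [hd] at hn
    have : ((d : ℤ) : ℂ) = (prTIsign M W W1 W2 j + n * Nat.card W1 : ℤ) := by push_cast; exact hn
    have := Int.cast_injective this
    linarith
  have hn0 : 0 ≤ n := by
    by_contra! h
    have : n * Nat.card W1 ≤ 0 := mul_nonpos_of_nonpos_of_nonneg h.le (by positivity)
    rcases prTIsign_cases (L := M) (W := W) (W1 := W1) j with h | h <;> omega
  lift n to ℕ using hn0
  refine ⟨d, prTIsign M W W1 W2 j, n, fun i k hk => ?_, fun k hk => ?_, hd1, hn'⟩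
  · obtain ⟨u, rfl⟩ := key k hk
    rw [hT.prTIirr_1, ← Irr.aut_one u, hT.prTIirr_aut, cfAut_apply, hd, map_natCast]
  · obtain ⟨u, rfl⟩ := key k hk
    exact hT.prTIsign_aut u j

section bridge
variable {d : ℕ} {δ : ℤ} {n : ℕ} (hc : FT345Const M W W1 W2 d δ n) {ζ : G → ℂ}
  (hζirr : IsIrr M ζ) (hζS : ζ ∈ seqIndD ⁅M, M⁆ M ⁅M, M⁆ ⊥) (hζ1 : ζ 1 = Nat.card W1)
include hc hζirr hζS hζ1

omit h2 hζirr hζ1 in
theorem P10.bridge_apply (i : Irr W1) {j : Irr W2} (hj : j ≠ 1) {x : G} (hx : x ∈ W)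
    (hx2 : x ∉ W2) : FT345bridge M W W1 W2 δ n ζ i j x =
      δ * (cycW W1 W2 i j x - cycW W1 W2 i 1 x) := by
  have hT := FT_primeTI_hyp hG hM.1 hP
  have : ζ x = 0 := CFon_zero (seqInd_on hT.normal hζS) fun h => hx2 (hT.inf_K.le ⟨hx, h⟩)
  simp only [FT345bridge, Pi.sub_apply, Pi.smul_apply, smul_eq_mul]
  rw [hT.prTIirr_id i j hx hx2, hT.prTIirr_id i 1 hx hx2, hT.prTIsign0, hc.sign j hj, this]
  push_cast; ring

omit h2 hc hζS hζ1 in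
theorem P10.bridge_vchar (i : Irr W1) (j : Irr W2) : FT345bridge M W W1 W2 δ n ζ i j ∈ ZIrr M :=
  sub_mem (sub_mem ((FT_primeTI_hyp hG hM.1 hP).prTIirr_irr i j).mem_ZIrr
    (intCast_smul_mem ((FT_primeTI_hyp hG hM.1 hP).prTIirr_irr i 1).mem_ZIrr δ))
    (natCast_smul_mem hζirr.mem_ZIrr n)

/-- PF (10.5). -/
theorem supp_FTtype345_bridge (i : Irr W1) {j : Irr W2} (hj : j ≠ 1) :
    FT345bridge M W W1 W2 δ n ζ i j ∈ CFon M (FTsupp0 M) := by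
  have hD := P10.prDade hG hM hP h2
  have hT := hD.prTI
  have hCF := ZIrr_mem_CF (P10.bridge_vchar hG hM hP (δ := δ) (n := n) hζirr i j)
  refine mem_CFon.2 ⟨hCF, fun x hx => ?_⟩
  rw [hD.A0_eq, Set.mem_union, not_or] at hx
  by_cases hxM : x ∈ M
  swap; · exact CF_zero hCF hxM
  by_cases hxK : x ∈ (⁅M, M⁆ : Subgroup G)
  · obtain rfl : x = 1 := by_contra fun h => hx.1 ⟨hxK, h⟩
    simp only [FT345bridge, Pi.sub_apply, Pi.smul_apply, smul_eq_mul]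
    rw [hc.deg i j hj, (hT.prTIirr0_linear i).one, hζ1, P10.ratio hc]; ring
  obtain ⟨y, hy, h1, h3⟩ := hT.exists_conj_mem hxM hxK
  have h4 : y * x * y⁻¹ ∈ W1 := by
    by_contra h
    exact hx.2 ⟨_, mem_cycTIset.2 ⟨h1, h, h3⟩, y⁻¹, inv_mem (hT.K_le hy), by group⟩
  rw [← CF_conj hCF (hT.K_le hy), P10.bridge_apply hG hM hP hc hζS i hj h1 h3,
    hT.cycTI.cycW_apply_left _ _ h4, hT.cycTI.cycW_apply_left _ _ h4, sub_self, mul_zero]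

theorem P10.Dade_bridge_vchar (i : Irr W1) {j : Irr W2} (hj : j ≠ 1) :
    FTDade0 M (FT345bridge M W W1 W2 δ n ζ i j) ∈ ZIrr (⊤ : Subgroup G) :=
  Dade_vchar (FT_Dade0_hyp hG hM) (P10.bridge_vchar hG hM hP hζirr i j) fun _ hx =>
    CFon_zero (supp_FTtype345_bridge hG hM hP h2 hc hζirr hζS hζ1 i hj) hx

theorem norm_FTtype345_bridge (i : Irr W1) {j : Irr W2} (hj : j ≠ 1) :
    cfnorm ⊤ (FTDade0 M (FT345bridge M W W1 W2 δ n ζ i j)) = 2 + (n : ℝ) ^ 2 := by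
  have hT := FT_primeTI_hyp hG hM.1 hP
  rw [cfnorm_Dade (FT_Dade0_hyp hG hM) (supp_FTtype345_bridge hG hM hP h2 hc hζirr hζS hζ1 i hj),
    FT345bridge, cfnorm_sub_of_ortho, cfnorm_sub_of_ortho, cfnorm_intCast_smul, cfnorm_smul,
    (hT.prTIirr_irr i j).cfnorm, (hT.prTIirr_irr i 1).cfnorm, hζirr.cfnorm, Complex.norm_natCast]
  · rcases P10.sign_cases hc hj with h | h <;> rw [h] <;> norm_num
  · rw [cfdot_intCast_smul_right, hT.cfdot_prTIirr, if_neg fun h => hj h.2, mul_zero]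
  · rw [cfdot_natCast_smul_right, cfdot_sub_left, cfdot_smul_left, P10.ortho_irr hT hζirr hζS,
      P10.ortho_irr hT hζirr hζS]; simp

/-- inner products of `α_ij` with induced irreducible characters -/
theorem P10.bridge_dot {S1 : Finset (G → ℂ)} {τ1 : CFMap G}
    (hS : S1 ⊆ seqIndD ⁅M, M⁆ M ⁅M, M⁆ ⊥) (hcoh : CoherentWith M S1 (FTDade0 M) τ1)
    (i : Irr W1) {j : Irr W2} (hj : j ≠ 1) {φ : G → ℂ} (hφ : φ ∈ zspan S1) (hφ1 : φ 1 = 0) :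
    cfdot ⊤ (FTDade0 M (FT345bridge M W W1 W2 δ n ζ i j)) (τ1 φ) =
      cfdot M (FT345bridge M W W1 W2 δ n ζ i j) φ := by
  rw [hcoh.agree φ hφ hφ1, Dade_isometry (FT_Dade0_hyp hG hM)
    (supp_FTtype345_bridge hG hM hP h2 hc hζirr hζS hζ1 i hj) (P10.zon hG hM hP h2 hS hφ hφ1)]

omit h2 hc hζirr hζS hζ1 in
theorem P10.bridge_dot_irr (i : Irr W1) (j : Irr W2) {ψ : G → ℂ} (hi : IsIrr M ψ)
    (hψ : ψ ∈ seqIndD ⁅M, M⁆ M ⁅M, M⁆ ⊥) :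
    cfdot M (FT345bridge M W W1 W2 δ n ζ i j) ψ = -n * cfdot M ζ ψ := by
  have hT := FT_primeTI_hyp hG hM.1 hP
  rw [FT345bridge, cfdot_sub_left, cfdot_sub_left, cfdot_smul_left, cfdot_smul_left,
    P10.ortho_irr hT hi hψ, P10.ortho_irr hT hi hψ]
  ring

omit h2 hc hζ1 in
theorem P10.bridge_dot_red (i : Irr W1) (j : Irr W2) {k : Irr W2} (hk : k ≠ 1) :
    cfdot M (FT345bridge M W W1 W2 δ n ζ i j) (prTIred M W W1 W2 k) = if j = k then 1 else 0 := by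
  have hT := FT_primeTI_hyp hG hM.1 hP
  rw [FT345bridge, cfdot_sub_left, cfdot_sub_left, cfdot_smul_left, cfdot_smul_left,
    hT.cfdot_prTIirr_red, hT.cfdot_prTIirr_red, if_neg hk.symm,
    cfdot_symm_zero (P10.ortho_red hT hζirr hζS k)]
  ring

open Classical in
theorem FTtype345_bridge_coherence {S1 : Finset (G → ℂ)} {τ1 : CFMap G} (i : Irr W1)
    {j : Irr W2} {X Y : G → ℂ} (hcoh : CoherentWith M S1 (FTDade0 M) τ1)
    (hXY : FTDade0 M (FT345bridge M W W1 W2 δ n ζ i j) = X + Y)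
    (hS1 : ConjCSubset S1 (seqIndD ⁅M, M⁆ M (FTcore M) ⊥)) (hirr : ∀ χ ∈ S1, IsIrr M χ)
    (hj : j ≠ 1) (hY : Y ∈ zspan (S1.image τ1)) (hYX : cfdot ⊤ Y X = 0)
    (hnY : cfnorm ⊤ Y = (n : ℝ) ^ 2) :
    X = (δ : ℂ) • (cycEta ⊤ W W1 W2 i j - cycEta ⊤ W W1 W2 i 1) := by
  have hD := P10.prDade hG hM hP h2
  have hV := hD.cycTI
  have hYv : Y ∈ ZIrr (⊤ : Subgroup G) := zspan_le_ZIrr (fun ξ hξ => by
    obtain ⟨χ, hχ, rfl⟩ := Finset.mem_image.1 hξ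
    exact hcoh.virt _ (subset_zspan hχ)) hY
  have hXe : X = FTDade0 M (FT345bridge M W W1 W2 δ n ζ i j) - Y := by rw [hXY, add_sub_cancel_right]
  have hn := norm_FTtype345_bridge hG hM hP h2 hc hζirr hζS hζ1 i hj
  rw [hXY, cfnorm_add_of_ortho (cfdot_symm_zero hYX), hnY] at hn
  refine hV.eq_signed_sub_cTIiso
    (hXe ▸ sub_mem (P10.Dade_bridge_vchar hG hM hP h2 hc hζirr hζS hζ1 i hj) hYv) (by linarith)
    (P10.sign_cases hc hj) hj fun x hx => ?_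
  have h0 := hV.ortho_cycTIiso_vanish (ZIrr_mem_CF hYv) (fun i j => cfdot_zspan_left (fun ξ hξ => by
    obtain ⟨χ, hχ, rfl⟩ := Finset.mem_image.1 hξ
    exact coherent_ortho_cycTIiso hG hM hP hS1 hcoh hχ (hirr χ hχ) i j) hY) x hx
  rw [hXe, Pi.sub_apply, h0, sub_zero, Dade_id hD.dade (ZIrr_mem_CF
    (P10.bridge_vchar hG hM hP hζirr i j)) (hD.cycTIset_subset hx), P10.bridge_apply hG hM hP hc hζS i hj
    (mem_cycTIset.1 hx).1 (mem_cycTIset.1 hx).2.2, hV.cycEta_apply _ _ hx, hV.cycEta_apply _ _ hx]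

theorem P10.def_tau_alpha {S1 : Finset (G → ℂ)} {τ1 : CFMap G}
    (hcoh : CoherentWith M S1 (FTDade0 M) τ1) (hS1 : ConjCSubset S1 (seqIndD ⁅M, M⁆ M ⁅M, M⁆ ⊥))
    (i : Irr W1) {j : Irr W2} (hj : j ≠ 1) (hζ : ζ ∈ S1)
    (hd : cfdot ⊤ (FTDade0 M (FT345bridge M W W1 W2 δ n ζ i j)) (τ1 ζ) = -n) :
    FTDade0 M (FT345bridge M W W1 W2 δ n ζ i j) =
      (δ : ℂ) • (cycEta ⊤ W W1 W2 i j - cycEta ⊤ W W1 W2 i 1) - (n : ℂ) • τ1 ζ := by
  classical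
  have s2 : ({ζ, cfConjC ζ} : Finset (G → ℂ)) ⊆ S1 :=
    Finset.insert_subset hζ (Finset.singleton_subset_iff.2 (hS1.2 _ hζ))
  have n1 : cfdot ⊤ (τ1 ζ) (τ1 ζ) = 1 := by
    rw [hcoh.isom _ (subset_zspan hζ) _ (subset_zspan hζ), hζirr.cfdot_self]
  rw [← FTtype345_bridge_coherence hG hM hP h2 hc hζirr hζS hζ1 i (subset_coherent_with hcoh s2)
    (X := FTDade0 M (FT345bridge M W W1 W2 δ n ζ i j) + (n : ℂ) • τ1 ζ) (Y := -((n : ℂ) • τ1 ζ))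
    (by abel) ⟨by rw [P10.core hG hM hP h2]; exact s2.trans hS1.1, by simp⟩
    (by simp [hζirr, hζirr.cfAut]) hj
    (neg_mem (natCast_smul_mem (subset_zspan (Finset.mem_image_of_mem _ (by simp))) n)) ?_ ?_,
    add_sub_cancel_right]
  · rw [cfdot_eq_zero_comm, cfdot_neg_right, cfdot_natCast_smul_right, cfdot_add_left, hd,
      cfdot_smul_left, n1]; ring
  · rw [cfnorm_neg, cfnorm_smul, cfnorm_eq_one_iff.2 n1, Complex.norm_natCast, mul_one]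

omit h2 hζirr hζS hζ1 in
theorem P10.sum_bridge (j : Irr W2) : ∑ i, FT345bridge M W W1 W2 δ n ζ i j =
    prTIred M W W1 W2 j - (d : ℂ) • ζ - (δ : ℂ) • (prTIred M W W1 W2 1 - ζ) := by
  simp only [FT345bridge, prTIred, Finset.sum_sub_distrib, ← Finset.smul_sum, Finset.sum_const,
    Finset.card_univ, (FT_cyclicTI_hyp hG hM.1 hP).card_irr_W1, P10.ratio hc,
    ← Nat.cast_smul_eq_nsmul ℂ]
  module

omit hc hζirr in
theorem P10.bridge0_on : prTIred M W W1 W2 1 - ζ ∈ CFon M (sharp ⁅M, M⁆) := by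
  have hT := FT_primeTI_hyp hG hM.1 hP
  refine mem_CFon_sharp.2 ⟨sub_mem (hT.prTIred_on 1) (seqInd_on hT.normal hζS), ?_⟩
  rw [Pi.sub_apply, hT.prTIred_1 1, hT.prTIirr00, hζ1]; simp

omit hc in
theorem P10.bridge0_facts : FTDade0 M (prTIred M W W1 W2 1 - ζ) ∈ ZIrr (⊤ : Subgroup G) ∧
    cfnorm ⊤ (FTDade0 M (prTIred M W W1 W2 1 - ζ)) = Nat.card W1 + 1 ∧
    cfdot ⊤ (FTDade0 M (prTIred M W W1 W2 1 - ζ)) (cycEta ⊤ W W1 W2 1 1) = 1 ∧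
    ∀ x ∈ cycTIset W W1 W2, FTDade0 M (prTIred M W W1 W2 1 - ζ) x = 0 := by
  have hD := P10.prDade hG hM hP h2
  have hT := hD.prTI
  have h1 := P10.bridge0_on hG hM hP h2 hζS hζ1
  have h3 := CFon_mono hD.A_subset h1
  refine ⟨Dade_vchar hD.dade (sub_mem (hT.prTIred_char 1).mem_ZIrr hζirr.mem_ZIrr)
    fun x hx => CFon_zero h3 hx, ?_, ?_, fun x hx => ?_⟩
  · rw [cfnorm_Dade hD.dade h3, cfnorm_sub_of_ortho (P10.ortho_red hT hζirr hζS 1),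
      hT.cfnorm_prTIred, hζirr.cfnorm]
  · rw [hD.cycTI.cycEta_one, cfdot_Dade_cf1 hD.dade h3, cfdot_sub_left,
      seqInd_ortho_1 hT.K_le le_rfl hζS, ← hT.prTIirr00, ← cfdot_conj, hT.cfdot_prTIirr_red]
    simp
  · rw [Dade_id hD.dade (CFon_CF h1) (hD.cycTIset_subset hx)]
    exact CFon_zero h1 fun h => (mem_cycTIset.1 hx).2.2 (hT.inf_K.le ⟨(mem_cycTIset.1 hx).1, h.1⟩)

omit hc in
/-- the projection on a column -/
theorem P10.bridge0_col (h : ∀ i j, cfdot ⊤ (FTDade0 M (prTIred M W W1 W2 1 - ζ))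
    (cycEta ⊤ W W1 W2 i j) = if j = 1 then 1 else 0) :
    ∃ χ, FTDade0 M (prTIred M W W1 W2 1 - ζ) = ∑ i : Irr W1, cycEta ⊤ W W1 W2 i 1 - χ ∧
      χ ∈ ZIrr (⊤ : Subgroup G) ∧ cfnorm ⊤ χ = 1 ∧
      ∀ (i : Irr W1) (j : Irr W2), cfdot ⊤ χ (cycEta ⊤ W W1 W2 i j) = 0 := by
  have hV := FT_cyclicTI_hyp hG hM.1 hP
  obtain ⟨h1, h3, -, -⟩ := P10.bridge0_facts hG hM hP h2 hζirr hζS hζ1
  set ψ := FTDade0 M (prTIred M W W1 W2 1 - ζ)
  have h4 : ∀ i j, cfdot ⊤ (∑ i : Irr W1, cycEta ⊤ W W1 W2 i 1 - ψ) (cycEta ⊤ W W1 W2 i j) = 0 :=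
    fun i j => by
      rw [cfdot_sub_left, h, ← cfdot_conj, P10.cfdot_sum_col hV]
      split_ifs <;> simp
  refine ⟨∑ i : Irr W1, cycEta ⊤ W W1 W2 i 1 - ψ, by abel,
    sub_mem (Submodule.sum_mem _ fun i _ => hV.cycEta_vchar i 1) h1, ?_, h4⟩
  have h5 := cfnorm_sub_of_ortho (L := ⊤) (φ := ∑ i : Irr W1, cycEta ⊤ W W1 W2 i 1)
    (ψ := ∑ i : Irr W1, cycEta ⊤ W W1 W2 i 1 - ψ) (by
      rw [cfdot_sum_left]; exact Finset.sum_eq_zero fun i _ => cfdot_symm_zero (h4 i 1))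
  rw [sub_sub_cancel, h3, hV.cfnorm_sum_cycEta_col] at h5
  linarith

omit hc in
/-- PF (10.9). -/
theorem FTtype345_Dade_bridge0 (hlt : Nat.card W1 < Nat.card W2) :
    ∃ χ, FTDade0 M (prTIred M W W1 W2 1 - ζ) = ∑ i : Irr W1, cycEta ⊤ W W1 W2 i 1 - χ ∧
      χ ∈ ZIrr (⊤ : Subgroup G) ∧ cfnorm ⊤ χ = 1 ∧
      ∀ (i : Irr W1) (j : Irr W2), cfdot ⊤ χ (cycEta ⊤ W W1 W2 i j) = 0 := by
  have hV := FT_cyclicTI_hyp hG hM.1 hP
  obtain ⟨h1, h3, h4, h5⟩ := P10.bridge0_facts hG hM hP h2 hζirr hζS hζ1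
  have h6 := hV.NC_norm h1
  rw [h3] at h6
  have h7 : cycNC ⊤ W W1 W2 (FTDade0 M (prTIred M W W1 W2 1 - ζ)) ≤ Nat.card W1 + 1 := by
    exact_mod_cast h6
  have := hV.three_le_W1
  rcases hV.small_cycTI_NC (ZIrr_mem_CF h1) h5 (by rw [min_eq_left hlt.le]; omega)
    (i0 := 1) (j0 := 1) (by rw [h4]; exact one_ne_zero) with h | h
  · rw [h4] at h
    exact P10.bridge0_col hG hM hP h2 hζirr hζS hζ1 h
  · exfalso
    have h8 := P9.bessel Finset.univ (fun j => cycEta ⊤ W W1 W2 1 j)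
      (fun j _ => by rw [hV.cfdot_cycEta, if_pos ⟨rfl, rfl⟩])
      (fun j _ k _ e => by rw [hV.cfdot_cycEta, if_neg fun h => e h.2])
      (FTDade0 M (prTIred M W W1 W2 1 - ζ))
    rw [h4] at h
    simp only [h, if_true, norm_one, one_pow, Finset.sum_const, Finset.card_univ,
      hV.card_irr_W2, nsmul_eq_mul, mul_one, h3] at h8
    have h9 : Nat.card W2 ≤ Nat.card W1 + 1 := by exact_mod_cast h8
    obtain ⟨a, ha⟩ := hV.odd_W1
    obtain ⟨b, hb⟩ := hV.odd_W2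
    omega

end bridge

end

end CfsgLib.FT.PG
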