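import Mathlib
import Cfsg.Agent.Lib.PG.PF10b
import Cfsg.Agent.Lib.FT.BG10T3
import Cfsg.Agent.Lib.FT.PF10

/-! Peterfalvi, section 10: maximal subgroups of types III, IV and V. -/

set_option autoImplicit false
set_option linter.unusedSectionVars false



namespace CfsgLib.FT.PG

open Cfsg Subgroup
open scoped commutatorElement ComplexConjugate

variable {G : Type*} [Group G] [PiCtx G] [Fintype G]

section
variable (hG : PGHyp G) {M : Subgroup G} (hM : Mx M)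
  {U W W1 W2 : Subgroup G} (hP : OfTypeP M U W W1 W2) (h2 : FTtype M ≠ 2)
include hG hM hP h2

/-- PF (10.8). -/
theorem FTtype345_noncoherence : ¬ Coherent M (seqIndD ⁅M, M⁆ M ⁅M, M⁆ ⊥) (FTDade0 M) := by
  rintro ⟨τ1, hτ1⟩
  obtain ⟨ζ, h3, h4, h5⟩ := FTtypeP_ref_irr hG hM hP
  obtain ⟨d, δ, n, hc⟩ := FTtype345_constants hG hM hP h2
  exact P10.noncoherence_main hG hM hP h2 hc h3 h4 h5 hτ1

variable {S1 : Finset (G → ℂ)} {τ1 : CFMap G} (hS : S1 ⊆ seqIndD ⁅M, M⁆ M ⁅M, M⁆ ⊥)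
  (hS1 : ∀ ψ ∈ S1, IsIrr M ψ ∧ ψ 1 = Nat.card W1) (hcoh : CoherentWith M S1 (FTDade0 M) τ1)
  {ζ : G → ℂ} (hζ : ζ ∈ S1)
include hS hS1 hcoh

omit hG hM hP h2 hS in
theorem P10.tau1_dot {ψ φ : G → ℂ} (hψ : ψ ∈ S1) (hφ : φ ∈ S1) :
    (cfdot ⊤ (τ1 ψ) (τ1 ψ) = 1) ∧ (ψ ≠ φ → cfdot ⊤ (τ1 ψ) (τ1 φ) = 0) := by
  rw [hcoh.isom _ (subset_zspan hψ) _ (subset_zspan hψ),
    hcoh.isom _ (subset_zspan hψ) _ (subset_zspan hφ)]
  exact ⟨(hS1 ψ hψ).1.cfdot_self, (hS1 ψ hψ).1.cfdot_ne (hS1 φ hφ).1⟩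

include hζ

open Classical in
theorem P10.bridge_S1 {d : ℕ} {δ : ℤ} {n : ℕ} (hc : FT345Const M W W1 W2 d δ n) (i : Irr W1)
    {j : Irr W2} (hj : j ≠ 1) : ∃ a : ℤ,
      cfdot ⊤ (FTDade0 M (FT345bridge M W W1 W2 δ n ζ i j)) (τ1 ζ) = (a - n : ℤ) ∧
      (∀ ψ ∈ S1.erase ζ, cfdot ⊤ (FTDade0 M (FT345bridge M W W1 W2 δ n ζ i j)) (τ1 ψ) = a) ∧
      (a - n) ^ 2 + (S1.card - 1) * a ^ 2 ≤ 2 + (n : ℤ) ^ 2 := by
  obtain ⟨h3, h4⟩ := hS1 ζ hζ
  obtain ⟨x, hx⟩ := ZIrr_cfdot_int (P10.Dade_bridge_vchar hG hM hP h2 hc h3 (hS hζ) h4 i hj)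
    (hcoh.virt _ (subset_zspan hζ))
  obtain ⟨a, rfl⟩ : ∃ a : ℤ, x = a - n := ⟨x + n, by ring⟩
  have h5 : ∀ ψ ∈ S1.erase ζ,
      cfdot ⊤ (FTDade0 M (FT345bridge M W W1 W2 δ n ζ i j)) (τ1 ψ) = a := fun ψ hψ => by
    obtain ⟨e, hψ⟩ := Finset.mem_erase.1 hψ
    have := P10.bridge_dot hG hM hP h2 hc h3 (hS hζ) h4 hS hcoh i hj (P9.sub_mem_zspan hψ hζ)
      (by rw [Pi.sub_apply, h4, (hS1 ψ hψ).2, sub_self])
    rw [map_sub, cfdot_sub_right, cfdot_sub_right, hx, P10.bridge_dot_irr hG hM hP i j h3 (hS hζ),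
      P10.bridge_dot_irr hG hM hP i j (hS1 ψ hψ).1 (hS hψ), h3.cfdot_self,
      h3.cfdot_ne (hS1 ψ hψ).1 e.symm] at this
    push_cast at this
    linear_combination this
  refine ⟨a, hx, h5, ?_⟩
  have b := P9.bessel S1 τ1 (fun ψ hψ => (P10.tau1_dot hS1 hcoh hψ hψ).1)
    (fun ψ hψ φ hφ => (P10.tau1_dot hS1 hcoh hψ hφ).2)
    (FTDade0 M (FT345bridge M W W1 W2 δ n ζ i j))
  rw [norm_FTtype345_bridge hG hM hP h2 hc h3 (hS hζ) h4 i hj, ← Finset.add_sum_erase _ _ hζ, hx,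
    Finset.sum_congr rfl fun ψ hψ => by rw [h5 ψ hψ], Finset.sum_const, nsmul_eq_mul,
    Complex.norm_intCast, Complex.norm_intCast, sq_abs, sq_abs, Finset.card_erase_of_mem hζ,
    Nat.cast_sub (Finset.card_pos.2 ⟨ζ, hζ⟩)] at b
  exact_mod_cast b

theorem P10.chi_dot (hSc : ∀ ψ ∈ S1, cfConjC ψ ∈ S1) {χ : G → ℂ}
    (hχ : FTDade0 M (prTIred M W W1 W2 1 - ζ) = ∑ i : Irr W1, cycEta ⊤ W W1 W2 i 1 - χ)
    {ψ : G → ℂ} (hψ : ψ ∈ S1) (hne : ζ ≠ ψ) : cfdot ⊤ χ (τ1 ζ) = cfdot ⊤ χ (τ1 ψ) + 1 := by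
  have hD := P10.prDade hG hM hP h2
  obtain ⟨h3, h4⟩ := hS1 ζ hζ
  have e : (ζ - ψ) 1 = 0 := by rw [Pi.sub_apply, h4, (hS1 ψ hψ).2, sub_self]
  have a1 := Dade_isometry hD.dade (CFon_mono hD.A_subset (P10.bridge0_on hG hM hP h2 (hS hζ) h4))
    (P10.zon hG hM hP h2 hS (P9.sub_mem_zspan hζ hψ) e)
  have a2 : ∀ φ ∈ S1, cfdot ⊤ (∑ i : Irr W1, cycEta ⊤ W W1 W2 i 1) (τ1 φ) = 0 := fun φ hφ => by
    rw [cfdot_sum_left]
    exact Finset.sum_eq_zero fun i _ => cfdot_symm_zero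
      (P10.ortho_eta hG hM hP h2 ⟨hS, hSc⟩ hcoh hφ (hS1 φ hφ).1 i 1)
  rw [← hcoh.agree _ (P9.sub_mem_zspan hζ hψ) e, hχ, map_sub, cfdot_sub_left, cfdot_sub_right,
    cfdot_sub_right, cfdot_sub_left, cfdot_sub_right, cfdot_sub_right, a2 _ hζ, a2 _ hψ,
    P10.ortho_red hD.prTI h3 (hS hζ), P10.ortho_red hD.prTI (hS1 ψ hψ).1 (hS hψ), h3.cfdot_self,
    h3.cfdot_ne (hS1 ψ hψ).1 hne] at a1
  linear_combination -a1

theorem P10.chi_cases (hSc : ∀ ψ ∈ S1, cfConjC ψ ∈ S1) {χ : G → ℂ}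
    (hχ : FTDade0 M (prTIred M W W1 W2 1 - ζ) = ∑ i : Irr W1, cycEta ⊤ W W1 W2 i 1 - χ)
    (hχv : χ ∈ ZIrr (⊤ : Subgroup G)) (hχn : cfnorm ⊤ χ = 1) :
    χ = τ1 ζ ∨ ∀ ψ ∈ S1, ζ ≠ ψ → χ = -τ1 ψ := by
  have hd := isDirr_of_cfnorm hχv hχn
  have hd' : ∀ ψ ∈ S1, IsDirr ⊤ (τ1 ψ) := fun ψ hψ =>
    hcoh.toZIsom.dirr (subset_zspan hψ) (hS1 ψ hψ).1
  rcases hd.cfdot_cases (hd' ζ hζ) with h | h | h
  · exact Or.inl h.1
  · refine Or.inr fun ψ hψ hne => ?_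
    have := P10.chi_dot hG hM hP h2 hS hS1 hcoh hζ hSc hχ hψ hne
    rw [h.2, h.1, cfdot_neg_left, (P10.tau1_dot hS1 hcoh hζ hψ).2 hne] at this
    norm_num at this
  · refine Or.inr fun ψ hψ hne => ?_
    have := P10.chi_dot hG hM hP h2 hS hS1 hcoh hζ hSc hχ hψ hne
    rw [h.2.2] at this
    rcases hd.cfdot_cases (hd' ψ hψ) with h | h | h
    · rw [h.2] at this; norm_num at this
    · exact h.1
    · rw [h.2.2] at this; norm_num at this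

end

section
variable (hG : PGHyp G)
include hG

theorem P10.type5_numerics {M U W W1 W2 : Subgroup G} (hM : Mx M) (hP : OfTypeP M U W W1 W2)
    (h5 : FTtype M = 5) : Nat.card ↥⁅M, M⁆ = Nat.card W2 ^ 3 ∧ ⁅⁅M, M⁆, ⁅M, M⁆⁆ = W2 ∧
      Nat.card W2 + 1 = 2 * Nat.card W1 := by
  have h2 : FTtype M ≠ 2 := by omega
  have hV := (FTtype_eq_five_iff hG hM hP).1 h5
  have hD := P10.prDade hG hM hP h2
  have hKH : fittingHallOf M = ⁅M, M⁆ := by rw [← P9.sup_HU hP, hV.U_eq, sup_bot_eq]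
  have hnil : Group.IsNilpotent ↥⁅M, M⁆ := hKH ▸ Fcore_nil M
  have hp2 := P9.W2_prime hG hM hP h2
  obtain ⟨R, hR⟩ := P10.subcoh hG hM hP h2
  have hnc := FTtype345_noncoherence hG hM hP h2
  obtain ⟨-, hb, p, hp, ⟨m, hm⟩, -, hdv⟩ := (non_coherent_chief (P10.solvable_der hP) hR
    ⟨P10.odd hG hM le_rfl, Subgroup.normalizer_eq_top (⊥ : Subgroup G) ▸ le_top, bot_le,
      NilQuo.of_isNilpotent hnil, by rw [sup_bot_eq]; exact P10.frobQuo hP⟩).resolve_left hnc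
  rw [relIndex_bot_left] at hm
  rw [sup_bot_eq, P9.relIndex_der hP] at hb
  rw [P9.relIndex_der hP] at hdv
  have hpe : ∀ r : ℕ, r.Prime → r ∣ Nat.card ↥⁅M, M⁆ → r = p := fun r hr h =>
    (Nat.prime_dvd_prime_iff_eq hr hp).1 (hr.dvd_of_dvd_pow (hm ▸ h))
  obtain rfl := (hpe _ hp2 (card_dvd_of_le hD.prTI.W2_le)).symm
  rcases hV.cases with h | ⟨r, hr, h1, h3⟩ | ⟨r, hr, h1, h3, h4⟩
  · rw [hKH] at h
    exact absurd ((Sibley_coherence (P10.odd hG hM le_rfl) hnil h (Or.inr ⟨W2, W, _, _, hp2,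
      hP.W2_le_der2, hD⟩)).congr_tau fun φ hφ h1 => (restr_Dade_Ind hD.dade hD.A_subset h
        (zcharD1_seqInd_on hD.prTI.normal hφ h1)).symm) hnc
  · rw [hKH] at h1
    exact absurd (hpe r hr h1 ▸ h3) hdv
  rw [hKH] at h1 h3
  obtain rfl := hpe r hr h1
  rw [le_antisymm (piCoreOf_le {Nat.card W2} _) (le_piCoreOf le_rfl le_normalizer hpe)] at h3
  have c1 := card_eq_relIndex_mul (P10.der2_lt hP).le
  obtain ⟨c, hc⟩ := card_dvd_of_le hP.W2_le_der2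
  have c2 : (⁅⁅M, M⁆, ⁅M, M⁆⁆ : Subgroup G).relIndex ⁅M, M⁆ * c = Nat.card W2 ^ 2 :=
    Nat.eq_of_mul_eq_mul_right hp2.pos (by rw [← pow_succ, ← h3, c1, hc]; ring)
  obtain ⟨k, hk, e⟩ := (Nat.dvd_prime_pow hp2).1 (Dvd.intro _ c2)
  have c3 := P10.index_bound hP (P10.odd hG hM le_rfl) (P10.der2_lt hP) le_rfl (P9.der_normal hP)
  have c4 := (P10.frobQuo hP).index_dvd (P10.der2_lt hP).le le_rfl (P9.der_normal hP)
  rw [P9.relIndex_der hP, e] at c4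
  rw [e] at c2 c3 hb
  have q3 := hD.cycTI.three_le_W1
  interval_cases k
  · rw [pow_zero] at c3; omega
  · rw [pow_one] at c4; exact absurd c4 hdv
  have c5 : c = 1 := Nat.eq_of_mul_eq_mul_left (pow_pos hp2.pos 2) (by rw [c2, mul_one])
  refine ⟨h3, (eq_of_le_of_card_le hP.W2_le_der2 (by rw [hc, c5, mul_one])).symm, ?_⟩
  obtain ⟨x, hx⟩ := h4
  obtain ⟨a, ha⟩ := hD.cycTI.odd_W1
  obtain ⟨b, hb'⟩ := hD.cycTI.odd_W2
  have c6 : Nat.card W2 < 2 * Nat.card W1 + 1 := lt_of_pow_lt_pow_left₀ 2 (by omega) (by nlinarith)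
  rcases x with _ | _ | _ | x
  · omega
  · omega
  · omega
  · have : Nat.card W1 * (x + 1 + 1 + 1) = Nat.card W1 * x + 3 * Nat.card W1 := by ring
    omega

/-- PF (10.10). -/
theorem FTtype5_exclusion {M : Subgroup G} (hM : Mx M) : FTtype M ≠ 5 := by
  classical
  intro h5
  have h2 : FTtype M ≠ 2 := by omega
  obtain ⟨U, W, W1, W2, hP⟩ := FTtypeP_witness hG hM (by omega)
  obtain ⟨hK3, hK', hpq⟩ := P10.type5_numerics hG hM hP h5
  have hD := P10.prDade hG hM hP h2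
  have hT := hD.prTI
  have hV := hD.cycTI
  have hp := P9.W2_prime hG hM hP h2
  obtain ⟨R, hR⟩ := P10.subcoh hG hM hP h2
  obtain ⟨d, δ, n, hc⟩ := FTtype345_constants hG hM hP h2
  obtain ⟨j, hj⟩ := P10.exists_irr_ne_one (L := W2) (by
    rw [hT.cycTI.card_irr_W2]; exact lt_of_lt_of_le (by norm_num) hT.cycTI.three_le_W2)
  set K : Subgroup G := ⁅M, M⁆ with hK
  have hi : W2.relIndex K = Nat.card W2 ^ 2 := Nat.eq_of_mul_eq_mul_right hp.pos (by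
    rw [← card_eq_relIndex_mul hT.W2_le, hK3, pow_succ])
  have hWn : M ≤ normalizer (W2 : Set G) := hK' ▸ P10.der2_normal hP
  -- the non linear characters of `K`
  have s := sum_Iirr_kerD_square hT.W2_le bot_le (hT.K_le.trans hWn)
    (Subgroup.normalizer_eq_top (⊥ : Subgroup G) ▸ le_top)
  set X := Finset.univ.filter fun θ : Irr K => ⊥ ≤ cfker K θ ∧ ¬ W2 ≤ cfker K θ with hX
  let f : Irr W2 → Irr K := fun k => ⟨_, hT.prTIres_irr k⟩
  have sY : (Finset.univ.erase 1).image f ⊆ X := fun θ hθ => by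
    obtain ⟨k, hk, rfl⟩ := Finset.mem_image.1 hθ
    refine Finset.mem_filter.2 ⟨Finset.mem_univ _, bot_le, fun h => (Finset.mem_erase.1 hk).1 ?_⟩
    exact (Irr.eq_one_iff k).2 ((inf_idem W2).ge.trans ((hT.le_cfker_prTIres hT.W2_le hWn k).1 h))
  have s1 : ∑ θ ∈ X, (θ 1).re ^ 2 = (Nat.card W2 : ℝ) ^ 2 * (Nat.card W2 - 1) := by
    rw [hi, relIndex_bot_left, Finset.sum_congr rfl fun θ _ => by rw [θ.isChar.one_eq_re]] at s
    exact_mod_cast s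
  have s2 : ∑ θ ∈ (Finset.univ.erase 1).image f, (θ 1).re ^ 2 = (Nat.card W2 - 1) * (d : ℝ) ^ 2 := by
    rw [Finset.sum_image (g := f) fun a _ b _ h => hT.prTIres_inj (congrArg Subtype.val h),
      Finset.sum_congr rfl (g := fun _ => (d : ℝ) ^ 2), Finset.sum_const, nsmul_eq_mul,
      Finset.card_erase_of_mem (Finset.mem_univ _), Finset.card_univ, hV.card_irr_W2,
      Nat.cast_sub hp.pos, Nat.cast_one]
    intro k hk
    show (prTIres M K W W1 W2 k 1).re ^ 2 = _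
    rw [hT.prTIres_1 1, hc.deg 1 k (Finset.mem_erase.1 hk).1, Complex.natCast_re]
  have p1 : (1 : ℝ) < Nat.card W2 := by exact_mod_cast hp.one_lt
  have hdp : d = Nat.card W2 := by
    have a1 := Finset.sum_le_sum_of_subset_of_nonneg sY (f := fun θ : Irr K => (θ 1).re ^ 2)
      fun _ _ _ => sq_nonneg _
    rw [s1, s2, mul_comm] at a1
    have a2 : d ^ 2 ≤ Nat.card W2 ^ 2 := by
      exact_mod_cast le_of_mul_le_mul_right a1 (sub_pos.2 p1)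
    have a3 := (Nat.pow_le_pow_iff_left two_ne_zero).1 a2
    have a4 := (hT.prTIres_irr j).degree_dvd_card ((hT.prTIres_1 1 j).trans (hc.deg 1 j hj))
    rw [hK3] at a4
    obtain ⟨k, -, e⟩ := (Nat.dvd_prime_pow hp).1 a4
    have a5 := hc.one_lt
    rcases k with _ | k
    · rw [pow_zero] at e; omega
    · exact le_antisymm a3 (e ▸ Nat.le_self_pow (by omega) _)
  have hXY : ∀ θ, IsIrr K θ → ¬ W2 ≤ cfker K θ → ∃ k, k ≠ 1 ∧ θ = prTIres M K W W1 W2 k := by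
    intro θ hθ h
    by_contra h'
    have a1 := Finset.sum_lt_sum_of_subset sY (f := fun θ : Irr K => (θ 1).re ^ 2) (i := ⟨θ, hθ⟩)
      (Finset.mem_filter.2 ⟨Finset.mem_univ _, bot_le, h⟩) (fun a => by
        obtain ⟨k, hk, e⟩ := Finset.mem_image.1 a
        exact h' ⟨k, (Finset.mem_erase.1 hk).1, (congrArg Subtype.val e).symm⟩)
      (pow_pos hθ.one_re_pos 2) fun _ _ _ => sq_nonneg _
    rw [s1, s2, hdp] at a1
    linarith
  have q3 := hV.three_le_W1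
  have hn : n = 2 := by
    have a1 := hc.ratio
    have a2 := (P10.n_even hG hM hP hc hj).2
    have a3 : (d : ℤ) + 1 = 2 * Nat.card W1 := by rw [hdp]; exact_mod_cast hpq
    by_contra h
    have a4 : (3 : ℤ) ≤ n := by omega
    have a5 : (3 : ℤ) ≤ Nat.card W1 := by exact_mod_cast q3
    rcases P10.sign_cases hc hj with h | h <;> nlinarith
  set S1 := seqIndD K M K ⁅K, K⁆ with hS1
  have cS1 : ConjCSubset S1 (seqIndD K M K ⊥) := seqInd_conjC_subset le_rfl bot_le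
  have fS1 : ∀ ψ ∈ S1, IsIrr M ψ ∧ ψ 1 = Nat.card W1 := fun ψ => P10.S1_facts hP hT
  have n8 : 8 ≤ S1.card := by
    have a1 := P10.card_seqInd hP hT le_rfl (P10.der2_lt hP).le (P10.der2_normal hP)
    rw [← hK, ← hS1, hK', hi] at a1
    by_contra! h
    have : Nat.card W1 * S1.card ≤ Nat.card W1 * 7 := Nat.mul_le_mul_left _ (by omega)
    nlinarith
  obtain ⟨τ1, hτ1⟩ := uniform_degree_coherence (subset_subcoherent hR cS1)
    fun χ hχ φ hφ => by rw [(fS1 _ hχ).2, (fS1 _ hφ).2]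
  obtain ⟨ζ, hζ⟩ := Finset.card_pos.1 (show 0 < S1.card by omega)
  obtain ⟨hζi, hζ1⟩ := fS1 ζ hζ
  have hα : ∀ i, FTDade0 M (FT345bridge M W W1 W2 δ n ζ i j) =
      (δ : ℂ) • (cycEta ⊤ W W1 W2 i j - cycEta ⊤ W W1 W2 i 1) - (n : ℂ) • τ1 ζ := fun i => by
    obtain ⟨a, a1, -, a3⟩ := P10.bridge_S1 hG hM hP h2 cS1.1 fS1 hτ1 hζ hc i hj
    have a4 : a = 0 := by
      by_contra h0
      have a4 : 1 ≤ a ^ 2 := (one_le_sq_iff_one_le_abs _).2 (Int.one_le_abs h0)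
      have a5 : (8 : ℤ) ≤ S1.card := by exact_mod_cast n8
      rw [hn] at a3
      push_cast at a3
      nlinarith [sq_nonneg (a - 2)]
    exact P10.def_tau_alpha hG hM hP h2 hc hζi (cS1.1 hζ) hζ1 hτ1 cS1 i hj hζ (by simp [a1, a4])
  obtain ⟨χ, hχ, hχv, hχn, -⟩ := FTtype345_Dade_bridge0 hG hM hP h2 hζi (cS1.1 hζ) hζ1 (by omega)
  obtain rfl : χ = τ1 ζ := by
    refine (P10.chi_cases hG hM hP h2 cS1.1 fS1 hτ1 hζ cS1.2 hχ hχv hχn).resolve_right fun h => ?_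
    obtain ⟨a, ha, b, hb, hab⟩ := Finset.one_lt_card.1 (show 1 < (S1.erase ζ).card by
      rw [Finset.card_erase_of_mem hζ]; omega)
    rw [Finset.mem_erase] at ha hb
    have := P10.tau1_dot fS1 hτ1 ha.2 hb.2
    rw [← neg_inj.1 ((h a ha.2 ha.1.symm).symm.trans (h b hb.2 hb.1.symm)), this.1] at this
    exact one_ne_zero (this.2 hab)
  obtain ⟨τ2, hτ2e, hτ2⟩ := hD.uniform_prTIred_coherent hj
  have cS2 : ConjCSubset (uniformPrTIred M W W1 W2 j) (seqIndD K M K ⊥) :=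
    ⟨fun φ hφ => by
      obtain ⟨k, hk, -, rfl⟩ := mem_uniformPrTIred.1 hφ
      exact P10.prTIred_mem hT hk, fun φ => hT.uniformPrTIred_conj⟩
  refine FTtype345_noncoherence hG hM hP h2 (subset_coherent (bridge_coherent hR cS2 hτ2 cS1 hτ1
    (Finset.disjoint_left.2 fun φ h1 h3 => ?_) (mem_uniformPrTIred.2 ⟨j, hj, rfl, rfl⟩)
    (natCast_smul_mem (subset_zspan hζ) d) (sub_eq_zero.1 (P10.red_sub_one hG hM hP hc hζ1 hj rfl)) ?_)
    fun φ hφ => ?_)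
  · obtain ⟨k, -, -, rfl⟩ := mem_uniformPrTIred.1 h1
    exact hT.prTIred_not_irr k (fS1 _ h3).1
  · rw [sub_eq_iff_eq_add.1 (P10.sum_bridge hG hM hP hc (ζ := ζ) j).symm, map_add, map_sum, map_smul,
      hχ, Finset.sum_congr rfl fun i _ => hα i, hτ2e, map_smul, hc.sign j hj,
      Finset.sum_sub_distrib, ← Finset.smul_sum, Finset.sum_sub_distrib, Finset.sum_const,
      Finset.card_univ, hV.card_irr_W1, P10.ratio hc, ← Nat.cast_smul_eq_nsmul ℂ]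
    module
  · obtain ⟨θ, hθ, h1, rfl⟩ := seqIndC1P.1 hφ
    by_cases h : W2 ≤ cfker K θ
    · exact Finset.mem_union_right _ (mem_seqIndD.2
        ⟨θ, hθ, hK' ▸ h, fun h => h1 (hθ.eq_cf1_iff.2 h), rfl⟩)
    · obtain ⟨k, hk, rfl⟩ := hXY θ hθ h
      refine Finset.mem_union_left _ (mem_uniformPrTIred.2 ⟨k, hk, ?_, hT.cfInd_prTIres k⟩)
      rw [hT.prTIred_1 1, hT.prTIred_1 1, hc.deg 1 j hj, hc.deg 1 k hk]

/-- PF (10.11), first assertion. -/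
theorem FTtypeP_pair_primes {S T W W1 W2 : Subgroup G} (h : TypePPair S T W W1 W2) :
    (Nat.card W1).Prime ∧ (Nat.card W2).Prime := by
  obtain ⟨U, hU⟩ := typeP_pairW hG h
  obtain ⟨V, hV⟩ := typeP_pairW hG h.symm
  exact ⟨(compl_of_typeII_IV hG h.maxS hU (FTtype5_exclusion hG h.maxS)).W1_prime,
    (compl_of_typeII_IV hG h.maxT hV (FTtype5_exclusion hG h.maxT)).W1_prime⟩

theorem FTtypeP_primes {M U W W1 W2 : Subgroup G} (hM : Mx M) (hP : OfTypeP M U W W1 W2) :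
    (Nat.card W1).Prime ∧ (Nat.card W2).Prime := by
  obtain ⟨T, hT, -⟩ := FTtypeP_pair_witness hG hM hP
  exact FTtypeP_pair_primes hG hT

/-- PF (10.11), remainder. -/
theorem FTtypeII_prime_facts {M U W W1 W2 : Subgroup G} (hM : Mx M)
    (hP : OfTypeP M U W W1 W2) (h2 : FTtype M = 2) :
    IsElementaryAbelian (Nat.card W2) (fittingHallOf M) ∧
      Nat.card (fittingHallOf M) = Nat.card W2 ^ Nat.card W1 ∧
      Coherent M (seqIndD ⁅M, M⁆ M (fittingHallOf M) ⊥) (FTDade0 M) := by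
  have h5 : FTtype M ≠ 5 := by omega
  obtain ⟨H0, h0⟩ := Ptype_Fcore_kernel_exists hG hM hP h5
  have hp := def_Ptype_factor_prime hG hM hP h5 h0 (FTtypeP_primes hG hM hP).2
  have hc := (typeII_core hG hM hP h5 h2).2
  obtain rfl : H0 = ⊥ := by
    have := card_mul_relIndex h0.lt.le
    rw [(P9.facts hP h0).2.2.2, hp, ← hc] at this
    exact card_eq_one.1 (Nat.eq_of_mul_eq_mul_right Nat.card_pos (this.trans (one_mul _).symm))
  obtain ⟨a1, a2⟩ := P9.abelem h0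
  refine ⟨⟨commutator_self_eq_bot_iff.1 (le_bot_iff.1 a1), fun a ha => hp ▸ mem_bot.1 (a2 a ha)⟩,
    hc, subset_coherent (Ptype_core_coherence hG hM hP h5 h0) (seqIndDS le_rfl ?_)⟩
  have := ((FTtype_eq_two_iff hG hM hP).1 h2).U_comm
  exact sup_le le_rfl ((commutator_mono P9.C_le P9.C_le).trans
    (commutator_self_eq_bot_iff.2 this).le)

end

end CfsgLib.FT.PG
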