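import Mathlib
import Cfsg.Agent.Lib.PG.PF10
import Cfsg.Agent.Lib.FT.PF11a

/-! Peterfalvi, section 11, first part: (11.3) to (11.7).
Here `C = C_U(H)`, `S(Y) = seqIndD HU M HU Y`, `p = |W2|`, `q = |W1|`. -/

set_option autoImplicit false
set_option linter.unusedSectionVars false

namespace CfsgLib.FT.PG.P11
export CfsgLib.FT.P11 (pow_big cent_le_der form_aux one_lt_u)
end CfsgLib.FT.PG.P11


namespace CfsgLib.FT.PG

open Cfsg Subgroup
open scoped commutatorElement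

variable {G : Type*} [Group G] [PiCtx G]

theorem P11.mem_of_sq_mem [Finite G] {S : Subgroup G} {u : G} (hodd : Odd (orderOf u))
    (h : u * u ∈ S) : u ∈ S := by
  obtain ⟨m, hm⟩ := hodd
  have := S.pow_mem h (m + 1)
  rwa [← sq, ← pow_mul, show 2 * (m + 1) = orderOf u + 1 by omega, pow_succ, pow_orderOf_eq_one,
    one_mul] at this

theorem P11.le_of_inverted [Finite G] {S U : Subgroup G} (hodd : Odd (Nat.card U)) {w : G}
    (hwo : Odd (orderOf w))
    (hw : w ∈ normalizer (U : Set G)) (h : ∀ u ∈ U, u * (w⁻¹ * u * w) ∈ S) : U ≤ S := by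
  have h0 : ∀ n : ℕ, ∀ u ∈ U, (w ^ n)⁻¹ * u * w ^ n ∈ U := fun n u hu => by
    simpa using conj_mem_of_mem_normalizer (inv_mem (pow_mem hw n)) hu
  have h1 : ∀ m : ℕ, ∀ u ∈ U, u⁻¹ * ((w ^ (2 * m))⁻¹ * u * w ^ (2 * m)) ∈ S := by
    intro m u hu
    induction m with
    | zero => simp
    | succ m ih =>
      have := S.mul_mem ih (S.mul_mem (h _ (U.inv_mem (h0 (2 * m) u hu)))
        (h _ (h0 (2 * m + 1) u hu)))
      convert this using 1
      group
  intro u hu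
  obtain ⟨m, hm⟩ := hwo
  have h2 := h1 (m + 1) u hu
  rw [show 2 * (m + 1) = orderOf w + 1 by omega, pow_succ, pow_orderOf_eq_one, one_mul] at h2
  refine P11.mem_of_sq_mem (hodd.of_dvd_nat (U.orderOf_dvd_natCard hu)) ?_
  convert S.mul_mem (h u hu) (S.inv_mem h2) using 1
  group

variable [Fintype G]
  (hG : PGHyp G) {M : Subgroup G} (hM : Mx M)
  {U W W1 W2 : Subgroup G} (hP : OfTypeP M U W W1 W2) (h2 : FTtype M ≠ 2)
  {H0 : Subgroup G} (h0 : PtypeKer M U H0)
include hG hM hP h2 h0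

theorem P11.prime : PtypePrime M H0 = Nat.card W2 :=
  typeIII_IV_core_prime hG hM hP (FTtype5_exclusion hG hM) h0 h2

theorem P11.U_cent_H0 : U ≤ centralizer (H0 : Set G) := by
  have h1 : H0 ⊓ W2 = ⊥ := by
    have := card_mul_relIndex (inf_le_right : H0 ⊓ W2 ≤ W2)
    rw [inf_relIndex_right, (P9.facts hP h0).2.2.1, P11.prime hG hM hP h2 h0] at this
    exact card_eq_one.1 (Nat.eq_of_mul_eq_mul_right Nat.card_pos (this.trans (one_mul _).symm))
  refine Frobenius_Wielandt_cent hP.nUW1 (P9.U_fpf hP) ((P9.U_le hP).trans h0.normal)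
    (hP.W1_le.trans h0.normal) (isSolvable_of_le P9.solvable_H h0.lt.le)
    (coprime_mono (P9.coprime_U_H hP) le_rfl h0.lt.le)
    (coprime_mono (P9.coprime_W1_H hP) le_rfl h0.lt.le) hP.W1_ne (le_bot_iff.1 ?_)
  rw [← h1, ← typeP_cent_core_compl hP]
  exact le_inf inf_le_left (inf_le_inf_right _ h0.lt.le)

theorem P11.ker_eq : FcomplKer M U H0 = U ⊓ centralizer (fittingHallOf M : Set G) := by
  refine le_antisymm (le_inf P9.C_le ?_) fun c hc => ⟨hc.1, h0.normal (P9.U_le hP hc.1),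
    fun h hh => ?_⟩
  · refine Cop.commutator_eq_bot_iff_le_centralizer'.1
      (Cop.commutator_eq_bot_of_le_of_centralizes (P9.commutator_H_C hP h0)
        (Cop.commutator_eq_bot_iff_le_centralizer'.2 (P9.C_le.trans (P11.U_cent_H0 hG hM hP h2 h0)))
        (coprime_mono (P9.coprime_U_H hP) P9.C_le h0.lt.le))
  · rw [← mem_centralizer_iff.1 hc.2 h hh]
    simpa using H0.one_mem

omit hM h2 h0 in
theorem P11.ne : Nat.card W2 ≠ Nat.card W1 := fun h => hP.W1_ne (card_eq_one.1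
  ((Nat.coprime_self _).1 (h ▸ coprime_mono hP.W1_hall (hP.W2_le_H.trans hP.H_le_der) le_rfl :)))

/-- PF (11.3). -/
theorem FTtype34_noncoherence : ¬ Coherent M
    (seqIndD ⁅M, M⁆ M ⁅M, M⁆ (H0 ⊔ (U ⊓ centralizer (fittingHallOf M : Set G)))) (FTDade0 M) := by
  intro hc
  rw [← P11.ker_eq hG hM hP h2 h0] at hc
  obtain ⟨R, hR⟩ := P10.subcoh hG hM hP h2
  obtain ⟨hq, hp⟩ := FTtypeP_primes hG hM hP
  refine FTtype345_noncoherence hG hM hP h2 (bounded_seqIndD_coherence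
    (H := fittingHallOf M ⊔ FcomplKer M U H0) (P9.der_le hP) (P9.der_normal hP)
    (P10.solvable_der hP) hR le_normalizer_bot
    (P9.normal_H_sup hP (P9.U_norm_C hP h0) (P9.W1_norm_C hP h0))
    (P9.normal_sup hP h0 le_rfl (P9.U_norm_C hP h0) (P9.W1_norm_C hP h0)) bot_le
    (sup_le_sup_right h0.lt.le _) (P9.HV_le hP P9.C_le) (NilQuo.of_isNilpotent ?_) hc ?_)
  · rw [P11.ker_eq hG hM hP h2 h0, typeP_fitting_eq hP]
    exact fittingOf_nil M
  · rw [P9.relIndex_der hP, P9.relIndex_H0V_HV hP h0 le_rfl (P9.U_norm_C hP h0)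
      (P9.W1_norm_C hP h0), P11.prime hG hM hP h2 h0]
    exact P11.pow_big hp hq (P10.odd hG hM (hP.W2_le_H.trans (Fcore_le M)))
      (P10.odd hG hM hP.defM.2.1) (P11.ne hG hP)

omit h0 in
/-- PF (11.5). -/
theorem FTtype34_der2 :
    ⁅⁅M, M⁆, ⁅M, M⁆⁆ = fittingHallOf M ⊔ (U ⊓ centralizer (fittingHallOf M : Set G)) := by
  obtain ⟨H0, h0⟩ := Ptype_Fcore_kernel_exists hG hM hP (FTtype5_exclusion hG hM)
  have hle : ⁅⁅M, M⁆, ⁅M, M⁆⁆ ≤ fittingHallOf M ⊔ (U ⊓ centralizer (fittingHallOf M : Set G)) :=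
    (typeP_fitting_eq hP).symm ▸ hP.der2_le
  refine hle.eq_or_lt.resolve_right fun hlt => ?_
  have hnc := FTtype34_noncoherence hG hM hP h2 h0
  rw [← P11.ker_eq hG hM hP h2 h0] at hnc hlt
  obtain ⟨R, hR⟩ := P10.subcoh hG hM hP h2
  have hT := FT_primeTI_hyp hG hM.1 hP
  have hn := P9.normal_H_sup hP (P9.U_norm_C hP h0) (P9.W1_norm_C hP h0)
  have hn0 := P9.normal_sup hP h0 le_rfl (P9.U_norm_C hP h0) (P9.W1_norm_C hP h0)
  have hb := P10.index_bound hP (P10.odd hG hM le_rfl) hlt (P9.HV_le hP P9.C_le) hn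
  have hu := P11.one_lt_u hP h0
  refine hnc ((coherent_seqIndD_bound (C := fittingHallOf M ⊔ FcomplKer M U H0)
    (P9.der_le hP) (P9.der_normal hP) (P10.solvable_der hP) hR (P10.der2_normal hP)
    (P10.der2_lt hP) le_rfl (P9.HV_le hP P9.C_le) ?_ ?_).resolve_right fun h => ?_)
  · exact P9.commutator_sup_sup_le ((Fcore_le M).trans hn0) ((P9.C_le.trans (P9.U_le hP)).trans hn0)
      ((P9.abelem h0).1.trans le_sup_left) ((P9.commutator_H_C hP h0).trans le_sup_left)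
      ((der_le _).trans le_sup_right)
  · refine uniform_degree_coherence (subset_subcoherent hR (seqInd_conjC_subset le_rfl bot_le))
      fun χ hχ φ hφ => ?_
    rw [(P10.S1_facts hP hT hχ).2, (P10.S1_facts hP hT hφ).2]
  · rw [relIndex_self, P9.relIndex_HV_M hP P9.C_le,
      ← relIndex_mul_relIndex _ _ _ hlt.le (P9.HV_le hP P9.C_le), P9.relIndex_HV_der hP P9.C_le] at h
    generalize (FcomplKer M U H0).relIndex U = u at *
    generalize (⁅⁅M, M⁆, ⁅M, M⁆⁆ : Subgroup G).relIndex _ = m at *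
    generalize Nat.card W1 = q at *
    have h1 : 2 * (q * u) + 2 ≤ m * u := by nlinarith
    have h2 : (2 * (q * u : ℕ) + 2 : ℝ) ≤ (m * u : ℕ) := by exact_mod_cast h1
    have h3 : (0 : ℝ) ≤ (q * u : ℕ) := Nat.cast_nonneg _
    rw [Nat.cast_one] at h
    nlinarith

omit h0 in
theorem P11.H_le_comm : fittingHallOf M ≤ ⁅fittingHallOf M, U⁆ := by
  have hU := P9.U_norm_H hP
  have h1 : ⁅fittingHallOf M, U⁆ ⊔ ⁅fittingHallOf M, fittingHallOf M⁆ ≤ fittingHallOf M :=
    sup_le (Cop.commutator_le_left_of_le_normalizer hU) (der_le _)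
  have h3 : U ≤ normalizer ((⁅fittingHallOf M, U⁆ ⊔ ⁅fittingHallOf M, fittingHallOf M⁆ :
      Subgroup G) : Set G) := P9.le_normalizer_sup' (Cop.le_normalizer_commutator hU le_normalizer)
    (Cop.le_normalizer_commutator hU hU)
  refine P9.le_of_le_sup_commutator (Fcore_nil M) (le_sup_left.trans h1) ?_
  have h4 := P9.inf_sup_eq_of_le h1 ((der_le U).trans h3)
  rw [le_bot_iff.1 ((inf_le_inf_left _ (der_le U)).trans hP.defHU.2.2.1.le), sup_bot_eq] at h4
  refine le_trans (le_inf le_rfl (le_trans ?_ (P9.commutator_sup_sup_le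
    (A := fittingHallOf M) (B := U) ?_ ?_ ?_ ?_ le_sup_right))) h4.le
  · rw [P9.sup_HU hP, FTtype34_der2 hG hM hP h2]
    exact le_sup_left
  · exact P9.le_normalizer_sup' (le_norm_of_der_le le_sup_right h1)
      ((le_centralizer_iff.1 (typeP_der_cent hP).1).trans (centralizer_le_normalizer _))
  · exact P9.le_normalizer_sup' h3 (le_norm_der U)
  · exact le_sup_right.trans le_sup_left
  · exact le_sup_left.trans le_sup_left

/-- PF (11.6). -/
theorem FTtype34_facts :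
    IsPGroup (Nat.card W2) (fittingHallOf M) ∧ U ≤ centralizer (H0 : Set G) ∧
      H0 = ⁅fittingHallOf M, fittingHallOf M⁆ ∧
      U ⊓ centralizer (fittingHallOf M : Set G) = ⁅U, U⁆ := by
  have hU := P11.U_cent_H0 hG hM hP h2 h0
  have h1 : H0 = ⁅fittingHallOf M, fittingHallOf M⁆ := le_antisymm
    ((le_inf h0.lt.le (le_centralizer_iff.1 hU)).trans (P11.cent_le_der (P9.U_norm_H hP)
      (P9.coprime_U_H hP) (P11.H_le_comm hG hM hP h2))) (P9.abelem h0).1
  refine ⟨?_, hU, h1, le_antisymm ?_ (le_inf (der_le U) (typeP_der_cent hP).1)⟩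
  · have : Fact (Nat.card W2).Prime := ⟨(FTtypeP_primes hG hM hP).2⟩
    refine (piCoreOf_isPGroup (fittingHallOf M)).to_le
      (P9.le_of_le_sup_commutator (Fcore_nil M) (piCoreOf_le _ _) ?_)
    refine (piCoreOf_sup_of_nil {Nat.card W2} (Fcore_nil M)).ge.trans (sup_le_sup_left ?_ _)
    rw [← h1]
    refine le_of_isPi_of_relIndex (piCoreOf_le _ _) ((Fcore_le M).trans h0.normal)
      (piCoreOf_isPi _ _) ?_
    rw [(P9.facts hP h0).2.2.2, P11.prime hG hM hP h2 h0, compl_compl]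
    exact fun r hr hd => (Nat.prime_dvd_prime_iff_eq hr this.out).1 (hr.dvd_of_dvd_pow hd)
  · have h3 := sup_inf_of_le' ((der_le U).trans (P9.U_norm_H hP)) (der_le U)
    rw [hP.defHU.2.2.1, bot_sup_eq] at h3
    refine le_trans (le_inf (le_trans ?_ (der_sup_le (P9.U_norm_H hP))) inf_le_left) h3.le
    rw [P9.sup_HU hP, FTtype34_der2 hG hM hP h2]
    exact le_sup_right

theorem P11.trivial_of_galois (hGal : TypePGalois M U H0) : H0 = ⊥ := by
  by_contra hne
  obtain ⟨-, hU, hd, -⟩ := FTtype34_facts hG hM hP h2 h0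
  have hn := (Fcore_le M).trans h0.normal
  have hlt := (NilQuo.of_isNilpotent (Fcore_nil M)).commutator_sup_lt (bot_lt_iff_ne_bot.2 hne)
    h0.lt.le le_normalizer_bot hn
  rw [sup_bot_eq] at hlt
  obtain ⟨x, hx, hxN⟩ := SetLike.exists_of_lt hlt
  obtain ⟨χ, hχ, hk, hxk⟩ := exists_irr_ker_not_mem (hlt.le.trans h0.lt.le)
    (Cop.le_normalizer_commutator hn le_normalizer) (h0.lt.le hx) hxN
  have hQ : fittingHallOf M ≤ normalizer ((H0 ⊓ cfker (fittingHallOf M) χ : Subgroup G) : Set G) :=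
    P9.le_normalizer_inf' hn (cfker_normal hχ.mem_CF)
  rw [commutator_comm] at hk hlt
  have hz : ∀ z ∈ H0, ‖χ z‖ = ‖χ 1‖ := fun z hz => hχ.norm_eq_of_center (h0.lt.le hz) fun y hy =>
    hk (commutator_mem_commutator hy hz)
  have hR := hGal (fittingHallOf M ⊓ centMod (fittingHallOf M) (H0 ⊓ cfker (fittingHallOf M) χ))
    (le_inf h0.lt.le ((P9.le_centMod_iff (h0.lt.le.trans hQ)).2 (le_inf hlt.le hk))) inf_le_left
    (P9.le_normalizer_inf' (P9.U_norm_H hP) (P9.le_normalizer_centMod (P9.U_norm_H hP)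
      ((hU.trans (centralizer_antitone inf_le_left)).trans (centralizer_le_normalizer _))))
  rcases hR with hR | hR
  swap
  · exact hxk (((P9.le_centMod_iff hQ).1 (hR.ge.trans inf_le_right) (hd.le hx)).2)
  have h0' : ∀ h ∈ fittingHallOf M, h ∉ (H0 : Set G) → χ h = 0 := fun h hh hh0 => by
    by_contra hχh
    refine hh0 (hR.le ⟨hh, hQ hh, fun y hy => ?_⟩)
    have hc : h * y * h⁻¹ * y⁻¹ ∈ H0 := hd.ge (commutator_mem_commutator hh hy)
    refine ⟨hc, hχ.isChar.mem_cfker.2 ⟨h0.lt.le hc, ?_⟩⟩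
    have h1 := hχ.isChar.mul_of_norm_eq (h0.lt.le hc) (hz _ hc) h⁻¹
    rw [show h⁻¹ * (h * y * h⁻¹ * y⁻¹) = y * h⁻¹ * y⁻¹ by group, CF_conj hχ.mem_CF hy,
      eq_comm, mul_eq_right₀ (by simpa [hχ.isChar.inv] using hχh),
      div_eq_one_iff_eq hχ.one_ne_zero] at h1
    exact h1
  obtain ⟨n, -, hn1⟩ := hχ.exists_nat_one
  have h1 := cfnorm_eq_sum_of_supp (A := (H0 : Set G)) (L := fittingHallOf M) h0.lt.le h0'
  rw [hχ.cfnorm, Finset.sum_congr rfl fun z hz' => by rw [hz z (mem_elems.1 hz')],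
    Finset.sum_const, card_elems, hn1, ← card_mul_relIndex h0.lt.le, (P9.facts hP h0).2.2.2,
    nsmul_eq_mul, Complex.norm_natCast] at h1
  have h3 : PtypePrime M H0 ^ Nat.card W1 = n ^ 2 := by
    have := card_pos_real H0
    have : (0 : ℝ) < PtypePrime M H0 := by exact_mod_cast (P9.prime h0).pos
    push_cast at h1
    field_simp at h1
    exact_mod_cast h1
  have h4 := congrArg (fun m => m.factorization (PtypePrime M H0)) h3
  simp only [Nat.factorization_pow, Finsupp.smul_apply, (P9.prime h0).factorization_self,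
    smul_eq_mul, mul_one] at h4
  exact (Nat.not_even_iff_odd.2 (P10.odd hG hM hP.defM.2.1)) ⟨_, h4.trans (two_mul _)⟩

theorem P11.trivial_of_nonGalois {H1 : Subgroup G} (h1 : NonGaloisData M U W1 H0 H1) : H0 = ⊥ := by
  by_contra hne
  obtain ⟨-, hU, hd, -⟩ := FTtype34_facts hG hM hP h2 h0
  have hn := (Fcore_le M).trans h0.normal
  have hlt := (NilQuo.of_isNilpotent (Fcore_nil M)).commutator_sup_lt (bot_lt_iff_ne_bot.2 hne)
    h0.lt.le le_normalizer_bot hn
  rw [sup_bot_eq] at hlt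
  have hN : M ≤ normalizer ((⁅H0, fittingHallOf M⁆ : Subgroup G) : Set G) :=
    Cop.le_normalizer_commutator h0.normal (Fcore_normal M)
  have hp := P9.prime h0
  obtain ⟨x, hx, hx0⟩ := SetLike.exists_of_lt (lt_of_le_of_ne h1.H0_le fun h => hp.ne_one (by
    rw [← h1.card, ← h, relIndex_self]))
  have hxH := h1.le_H hx
  have hH1 : H0 ⊔ zpowers x = H1 := (P9.eq_or_eq_of_relIndex_prime (h1.card ▸ hp) le_sup_left
    (sup_le h1.H0_le (zpowers_le.2 hx))).resolve_left fun h =>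
      hx0 (h.le (mem_sup_right (mem_zpowers x)))
  have key : ∀ T : Subgroup G, H0 ≤ T → (∀ w ∈ W1, w * x * w⁻¹ ∈ T) → fittingHallOf M ≤ T := by
    intro T hT hw
    rw [← h1.iSup_eq]
    refine iSup₂_le fun w hw' => ?_
    rw [← hH1, Subgroup.map_sup, map_conj_eq_of_mem_normalizer (h0.normal (hP.W1_le hw')),
      MonoidHom.map_zpowers]
    exact sup_le hT (zpowers_le.2 (hw w hw'))
  have hxw : ∀ w ∈ W1, w * x * w⁻¹ ∈ fittingHallOf M := fun w hw =>
    conj_mem_of_mem_normalizer (P9.W1_norm_H hP hw) hxH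
  obtain ⟨w, hw, hc⟩ : ∃ w ∈ W1, ⁅x, w * x * w⁻¹⁆ ∉ ⁅H0, fittingHallOf M⁆ := by
    by_contra! hc
    have k1 := key (CommCalc.relCent ⁅H0, fittingHallOf M⁆ {x})
      (fun z hz => ⟨hN (Fcore_le M (h0.lt.le hz)), fun t ht =>
        commutator_mem_commutator hz (ht ▸ hxH)⟩)
      (fun w hw => ⟨hN (Fcore_le M (hxw w hw)), fun t ht => by
        rw [ht, ← commutatorElement_inv]
        exact inv_mem (hc w hw)⟩)
    have k2 := key (centMod (fittingHallOf M) ⁅H0, fittingHallOf M⁆)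
      ((P9.le_centMod_iff ((h0.lt.le.trans (Fcore_le M)).trans hN)).2 (commutator_comm _ _).le)
      (fun w hw => P9.normalizer_le_centMod (P9.W1_norm_H hP hw) (hN (hP.W1_le hw))
        ⟨hN (Fcore_le M hxH), fun h hh => by
          rw [← commutatorElement_def, ← commutatorElement_inv]
          exact inv_mem ((k1 hh).2 x rfl)⟩)
    exact hlt.not_ge (hd.le.trans ((P9.le_centMod_iff ((Fcore_le M).trans hN)).1 k2))
  have hV : ∀ u ∈ U, ∃ z ∈ H0, ∃ k : ℤ, z * x ^ k = u * x * u⁻¹ := fun u hu => by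
    obtain ⟨z, hz, _, ⟨k, rfl⟩, he⟩ := mem_sup_norm (zpowers_le.2 (hn hxH))
      (hH1.ge (conj_mem_of_mem_normalizer (h1.normal hu) hx))
    exact ⟨z, hz, k, he⟩
  refine h1.one_lt.ne' (relIndex_eq_one.2 (P11.le_of_inverted (P10.odd hG hM (P9.U_le hP))
    (mFT_odd_orderOf hG hM.1 (hP.W1_le hw)) (hP.nUW1 hw) fun u hu => ?_))
  have hv : w⁻¹ * u * w ∈ U := by simpa using conj_mem_of_mem_normalizer (inv_mem (hP.nUW1 hw)) hu
  obtain ⟨z, hz, k, he⟩ := hV u hu
  obtain ⟨z', hz', l, he'⟩ := hV _ hv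
  have hcH : ⁅x, w * x * w⁻¹⁆ ∈ H0 := hd.ge (commutator_mem_commutator hxH (hxw w hw))
  have h3 := P11.form_aux ((Fcore_le M).trans hN) hlt.le h0.lt.le le_rfl hd.ge hxH (hxw w hw) hz
    (conj_mem_of_mem_normalizer (h0.normal (hP.W1_le hw)) hz') (k := k) (l := l) (by
      rw [he, show w * z' * w⁻¹ * (w * x * w⁻¹) ^ l = w * (z' * x ^ l) * w⁻¹ by
        rw [conj_zpow]; group, he', show ⁅u * x * u⁻¹, w * (w⁻¹ * u * w * x * (w⁻¹ * u * w)⁻¹) * w⁻¹⁆
        = u * ⁅x, w * x * w⁻¹⁆ * u⁻¹ by simp only [commutatorElement_def]; group,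
        ← mem_centralizer_iff.1 (hU hu) _ hcH, mul_inv_cancel_right]) hp ((P9.abelem h0).2 x hxH) hc
  have hg := h0.normal (P9.U_le hP (U.mul_mem hu hv))
  have h4 : H1 ≤ CommCalc.relCent H0 {u * (w⁻¹ * u * w)} := by
    rw [← hH1]
    refine sup_le (fun z hz => ⟨le_normalizer hz, fun t ht => ?_⟩)
      (zpowers_le.2 ⟨hn hxH, fun t ht => ?_⟩)
    · rw [ht, commutatorElement_def, mul_assoc, mul_assoc, ← mul_assoc _ z⁻¹]
      exact H0.mul_mem hz (conj_mem_of_mem_normalizer hg (H0.inv_mem hz))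
    · rw [ht, ← commutatorElement_inv]
      refine inv_mem ?_
      convert H0.mul_mem (conj_mem_of_mem_normalizer (h0.normal (P9.U_le hP hu)) hz') h3 using 1
      rw [he, conj_zpow, commutatorElement_def, eq_mul_inv_of_mul_eq he']
      group
  refine ⟨hg, fun h hh => ?_⟩
  rw [← commutatorElement_def, ← commutatorElement_inv]
  exact inv_mem ((h4 hh).2 _ rfl)

theorem P11.H0_eq : H0 = ⊥ := by
  by_cases hGal : TypePGalois M U H0
  · exact P11.trivial_of_galois hG hM hP h2 h0 hGal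
  · obtain ⟨H1, h1⟩ := P9.nonGalois hP h0 (FTtypeP_primes hG hM hP).1 hGal
    exact P11.trivial_of_nonGalois hG hM hP h2 h0 h1

/-- PF (11.7). -/
theorem FTtype34_Fcore_kernel_trivial :
    IsElementaryAbelian (Nat.card W2) (fittingHallOf M) ∧
      Nat.card (fittingHallOf M) = Nat.card W2 ^ Nat.card W1 ∧ H0 = ⊥ := by
  have hp := P11.prime hG hM hP h2 h0
  obtain rfl := P11.H0_eq hG hM hP h2 h0
  obtain ⟨a1, a2⟩ := P9.abelem h0
  refine ⟨⟨commutator_self_eq_bot_iff.1 (le_bot_iff.1 a1), fun a ha => hp ▸ mem_bot.1 (a2 a ha)⟩,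
    ?_, rfl⟩
  rw [← hp, ← (P9.facts hP h0).2.2.2, relIndex_bot_left]

end CfsgLib.FT.PG
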