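import Mathlib
import Cfsg.Agent.Lib.PG.PF11a
import Cfsg.Agent.Lib.FT.PF11b

/-! Peterfalvi, section 11, second part: (11.8). -/

set_option autoImplicit false
set_option linter.unusedSectionVars false



namespace CfsgLib.FT.PG

open Cfsg Subgroup
open scoped commutatorElement ComplexConjugate

variable {G : Type*} [Group G] [PiCtx G] [Fintype G]
  (hG : PGHyp G) {M : Subgroup G} (hM : Mx M)
  {U W W1 W2 : Subgroup G} (hP : OfTypeP M U W W1 W2) (h2 : FTtype M ≠ 2)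
  (h0 : PtypeKer M U ⊥)
include hG hM hP h2 h0

theorem P11.der2_eq : ⁅⁅M, M⁆, ⁅M, M⁆⁆ = fittingHallOf M ⊔ FcomplKer M U ⊥ := by
  rw [P11.ker_eq hG hM hP h2 h0, FTtype34_der2 hG hM hP h2]

omit h2 in
theorem P11.red_mem {j : Irr W2} (hj : j ≠ 1) :
    prTIred M W W1 W2 j 1 = (Nat.card W1 * (FcomplKer M U ⊥).relIndex U : ℕ) ∧
      prTIred M W W1 W2 j ∈ seqIndD ⁅M, M⁆ M (fittingHallOf M) (⊥ ⊔ FcomplKer M U ⊥) := by
  have hT := FT_primeTI_hyp hG hM.1 hP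
  obtain ⟨⟨h1, h3, -⟩, -⟩ := P9.red_cases hP h0 hT
    (P9.prTIred_mem hP h0 hT hj (inf_le_left.trans bot_le)) (hT.prTIred_not_irr j)
  exact ⟨h1, h3⟩

theorem P11.disj : Disjoint (seqIndD ⁅M, M⁆ M (fittingHallOf M) (⊥ ⊔ FcomplKer M U ⊥))
    (seqIndD ⁅M, M⁆ M ⁅M, M⁆ ⁅⁅M, M⁆, ⁅M, M⁆⁆) := Finset.disjoint_left.2 fun φ h1 h3 => by
  rw [mem_seqIndD_iff_cfker (P9.der_le hP) (Fcore_normal M)
    (P9.normal_sup hP h0 le_rfl (P9.U_norm_C hP h0) (P9.W1_norm_C hP h0))] at h1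
  rw [mem_seqIndD_iff_cfker (P9.der_le hP) (P9.der_normal hP) (P10.der2_normal hP),
    P11.der2_eq hG hM hP h2 h0] at h3
  exact h1.2.2 (le_sup_left.trans h3.2.1)

omit h2 in
theorem P11.coh2 : ∃ τ2, CoherentWith M (seqIndD ⁅M, M⁆ M (fittingHallOf M)
    (⊥ ⊔ FcomplKer M U ⊥)) (FTDade0 M) τ2 :=
  subset_coherent (Ptype_core_coherence hG hM hP (FTtype5_exclusion hG hM) h0)
    (seqIndDS le_rfl (sup_le_sup_left (der_le _) _))

variable {d : ℕ} {δ : ℤ} {n : ℕ} (hc : FT345Const M W W1 W2 d δ n)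
include hc

theorem P11.const {j : Irr W2} (hj : j ≠ 1) : d = (FcomplKer M U ⊥).relIndex U ∧ δ = 1 ∧
    n = (seqIndD ⁅M, M⁆ M ⁅M, M⁆ ⁅⁅M, M⁆, ⁅M, M⁆⁆).card := by
  have hT := FT_primeTI_hyp hG hM.1 hP
  have h1 := (P11.red_mem hG hM hP h0 hj).1
  rw [hT.prTIred_1 1, hc.deg 1 j hj] at h1
  have hd : d = (FcomplKer M U ⊥).relIndex U :=
    Nat.eq_of_mul_eq_mul_left Nat.card_pos (by exact_mod_cast h1)
  have h3 := P10.card_seqInd hP hT le_rfl (P10.der2_lt hP).le (P10.der2_normal hP)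
  generalize (seqIndD ⁅M, M⁆ M ⁅M, M⁆ ⁅⁅M, M⁆, ⁅M, M⁆⁆).card = s at *
  rw [P11.der2_eq hG hM hP h2 h0, P9.relIndex_HV_der hP P9.C_le, ← hd] at h3
  have h4 := hc.ratio
  have h5 : (3 : ℤ) ≤ Nat.card W1 := by exact_mod_cast hT.cycTI.three_le_W1
  have h6 : (Nat.card W1 : ℤ) * s + 1 = d := by exact_mod_cast h3
  have h7 : δ = 1 := (P10.sign_cases hc hj).resolve_right fun h => by
    have h8 : (Nat.card W1 : ℤ) ∣ 2 := ⟨n - s, by linear_combination h4 + h6 + h⟩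
    have := Int.le_of_dvd (by norm_num) h8
    omega
  refine ⟨hd, h7, ?_⟩
  have h8 : (n : ℤ) * Nat.card W1 = s * Nat.card W1 := by linear_combination -h4 - h6 - h7
  exact_mod_cast mul_right_cancel₀ (by omega) h8

variable {τ1 : CFMap G}
  (hτ1 : CoherentWith M (seqIndD ⁅M, M⁆ M ⁅M, M⁆ ⁅⁅M, M⁆, ⁅M, M⁆⁆) (FTDade0 M) τ1) {ζ : G → ℂ}
  (hζ : ζ ∈ seqIndD ⁅M, M⁆ M ⁅M, M⁆ ⁅⁅M, M⁆, ⁅M, M⁆⁆)
  (hχ : FTDade0 M (prTIred M W W1 W2 1 - ζ) = ∑ i : Irr W1, cycEta ⊤ W W1 W2 i 1 - τ1 ζ)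
include hτ1 hζ

omit h0 in
theorem P11.sum_odd {j : Irr W2} (hj : j ≠ 1) : ∃ s : ℤ, Even (s + δ) ∧
    cfdot ⊤ (FTDade0 M (FT345bridge M W W1 W2 δ n ζ 1 j)) (∑ i, cycEta ⊤ W W1 W2 i 1) = s := by
  have hD := P10.prDade hG hM hP h2
  have hT := hD.prTI
  have hV := hD.cycTI
  have cS1 : ConjCSubset (seqIndD ⁅M, M⁆ M ⁅M, M⁆ ⁅⁅M, M⁆, ⁅M, M⁆⁆) (seqIndD ⁅M, M⁆ M ⁅M, M⁆ ⊥) :=
    seqInd_conjC_subset le_rfl bot_le
  obtain ⟨hi, h1⟩ := P10.S1_facts hP hT hζ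
  have hv := P10.Dade_bridge_vchar hG hM hP h2 hc hi (cS1.1 hζ) h1 1 hj
  choose f hf using fun i => ZIrr_cfdot_int hv (hV.cycEta_vchar i 1)
  have hj' : j.conj ≠ 1 := fun h => hj ((Irr.aut_eq_one _).1 h)
  have e : cfAut (starRingEnd ℂ) (FT345bridge M W W1 W2 δ n ζ 1 j) = FT345bridge M W W1 W2 δ n ζ 1 j +
      (prTIirr M W W1 W2 1 j.conj - prTIirr M W W1 W2 1 j) + (n : ℂ) • (ζ - cfConjC ζ) := by
    have a1 := hT.prTIirr_aut (starRingEnd ℂ) 1 j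
    have a2 := hT.prTIirr_aut (starRingEnd ℂ) 1 1
    simp only [Irr.aut_one] at a1 a2
    rw [FT345bridge, cfAut_sub, cfAut_sub, cfAut_smul, cfAut_smul, ← a1, ← a2, map_intCast,
      map_natCast]
    module
  have hpar := P10.sum_conj_parity hV.odd_W1 f fun i => by
    have a1 := cfdot_cfAut_ZIrr (starRingEnd ℂ) hv (hV.cycEta_vchar i 1)
    have a2 := hV.cycEta_aut (starRingEnd ℂ) i 1
    rw [Irr.aut_one] at a2
    rw [← a2, ← Dade_aut, e, map_add, map_add, map_smul, hD.prDade_sub_TIirr hj' hj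
      (by rw [hc.deg 1 _ hj, hc.deg 1 _ hj']), ← hτ1.agree _ (P9.sub_mem_zspan hζ (cS1.2 _ hζ))
      (sub_eq_zero.2 hi.isChar.conj_one.symm), map_sub, cfdot_add_left, cfdot_add_left,
      cfdot_smul_left, cfdot_smul_left, cfdot_sub_left, cfdot_sub_left, hV.cfdot_cycEta,
      hV.cfdot_cycEta, if_neg fun h => hj' h.2, if_neg fun h => hj h.2,
      P10.ortho_eta hG hM hP h2 cS1 hτ1 hζ hi,
      P10.ortho_eta hG hM hP h2 cS1 hτ1 (cS1.2 _ hζ) (hi.cfAut _), hf, hf] at a1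
    exact_mod_cast (by simpa using a1 : (f i.conj : ℂ) = f i)
  have a3 : f 1 = -δ := by
    have := hf 1
    rw [hV.cycEta_one, cfdot_Dade_cf1 hD.dade
      (supp_FTtype345_bridge hG hM hP h2 hc hi (cS1.1 hζ) h1 1 hj), FT345bridge, cfdot_sub_left,
      cfdot_sub_left, cfdot_smul_left, cfdot_smul_left, seqInd_ortho_1 hT.K_le le_rfl hζ,
      ← hT.prTIirr00, hT.cfdot_prTIirr, hT.cfdot_prTIirr, if_neg fun h => hj h.2,
      if_pos ⟨rfl, rfl⟩] at this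
    exact_mod_cast (by simpa using this.symm : (f 1 : ℂ) = -δ)
  refine ⟨∑ i, f i, by rwa [a3, sub_neg_eq_add] at hpar, ?_⟩
  rw [cfdot_sum_right, Int.cast_sum]
  exact Finset.sum_congr rfl fun i _ => hf i

include hχ

theorem P11.bridge_dot0 {j : Irr W2} (hj : j ≠ 1) :
    cfdot ⊤ (FTDade0 M (FT345bridge M W W1 W2 δ n ζ 1 j)) (τ1 ζ) = -n := by
  classical
  have hD := P10.prDade hG hM hP h2
  have hT := hD.prTI
  have hV := hD.cycTI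
  obtain ⟨-, rfl, hn⟩ := P11.const hG hM hP h2 h0 hc hj
  set S1 := seqIndD ⁅M, M⁆ M ⁅M, M⁆ ⁅⁅M, M⁆, ⁅M, M⁆⁆ with hS1
  have cS1 : ConjCSubset S1 (seqIndD ⁅M, M⁆ M ⁅M, M⁆ ⊥) := seqInd_conjC_subset le_rfl bot_le
  have fS1 : ∀ ψ ∈ S1, IsIrr M ψ ∧ ψ 1 = Nat.card W1 := fun ψ => P10.S1_facts hP hT
  obtain ⟨hi, h1⟩ := fS1 ζ hζ
  obtain ⟨a, a1, a2, a3⟩ := P10.bridge_S1 hG hM hP h2 cS1.1 fS1 hτ1 hζ hc 1 hj
  obtain ⟨s, s1, s2⟩ := P11.sum_odd hG hM hP h2 hc hτ1 hζ hj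
  have b1 := Dade_isometry hD.dade (supp_FTtype345_bridge hG hM hP h2 hc hi (cS1.1 hζ) h1 1 hj)
    (CFon_mono hD.A_subset (P10.bridge0_on hG hM hP h2 (cS1.1 hζ) h1))
  rw [hχ, cfdot_sub_right, s2, a1, cfdot_sub_right, P10.bridge_dot_irr hG hM hP 1 j hi (cS1.1 hζ),
    hi.cfdot_self, FT345bridge, cfdot_sub_left, cfdot_sub_left, cfdot_smul_left, cfdot_smul_left,
    hT.cfdot_prTIirr_red, hT.cfdot_prTIirr_red, if_neg hj, if_pos rfl,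
    cfdot_symm_zero (P10.ortho_red hT hi (cS1.1 hζ) 1)] at b1
  have b2 : s + 1 = a := by
    have : ((s + 1 : ℤ) : ℂ) = a := by push_cast at b1 ⊢; linear_combination b1
    exact_mod_cast this
  rw [b2] at s1
  suffices a = 0 by simp [a1, this]
  by_contra ha
  have n2 : (2 : ℤ) ≤ n := by exact_mod_cast (P10.n_even hG hM hP hc hj).2
  rw [← hn] at a3
  obtain rfl : a = 2 := by
    obtain ⟨b, rfl⟩ := s1
    have : b * (b - 1) ≤ 0 := by nlinarith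
    have : b ≠ 0 := by omega
    have : 0 ≤ b := by nlinarith
    have : b ≤ 1 := by nlinarith
    omega
  have o1 : ∀ ψ ∈ S1, cfdot ⊤ (τ1 ψ) (τ1 ψ) = 1 := fun ψ hψ => (P10.tau1_dot fS1 hτ1 hψ hψ).1
  have o2 : ∀ ψ ∈ S1, ∀ φ ∈ S1, ψ ≠ φ → cfdot ⊤ (τ1 ψ) (τ1 φ) = 0 := fun ψ hψ φ hφ =>
    (P10.tau1_dot fS1 hτ1 hψ hφ).2
  set β := FTDade0 M (FT345bridge M W W1 W2 1 n ζ 1 j) with hβ
  have hX := FTtype345_bridge_coherence hG hM hP h2 hc hi (cS1.1 hζ) h1 1 hτ1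
    (sub_add_cancel β (∑ ψ ∈ S1, cfdot ⊤ β (τ1 ψ) • τ1 ψ)).symm
    (by rw [P10.core hG hM hP h2]; exact cS1) (fun ψ hψ => (fS1 ψ hψ).1) hj
    (Submodule.sum_mem _ fun ψ hψ => by
      obtain ⟨c, hc⟩ := ZIrr_cfdot_int (P10.Dade_bridge_vchar hG hM hP h2 hc hi (cS1.1 hζ) h1 1 hj)
        (hτ1.virt _ (subset_zspan hψ))
      rw [hc]
      exact intCast_smul_mem (subset_zspan (Finset.mem_image_of_mem _ hψ)) c)
    (by
      rw [cfdot_sum_left]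
      exact Finset.sum_eq_zero fun ψ hψ => by
        rw [cfdot_smul_left, cfdot_symm_zero (P9.cfdot_sub_proj S1 τ1 o1 o2 β hψ), mul_zero])
    (by
      rw [P9.cfnorm_sum_smul S1 τ1 o1 o2, ← Finset.add_sum_erase _ _ hζ, a1,
        Finset.sum_congr rfl fun ψ hψ => by rw [a2 ψ hψ], Finset.sum_const, nsmul_eq_mul,
        Complex.norm_intCast, Complex.norm_intCast, sq_abs, sq_abs, Finset.card_erase_of_mem hζ,
        Nat.cast_sub (Finset.card_pos.2 ⟨ζ, hζ⟩), ← hn]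
      push_cast
      ring)
  rw [sub_eq_iff_eq_add.1 hX, cfdot_add_left, cfdot_smul_left, cfdot_sub_left,
    P10.cfdot_sum_col hV, P10.cfdot_sum_col hV, if_neg hj, if_pos rfl, cfdot_sum_left,
    Finset.sum_eq_zero fun ψ hψ => by
      rw [cfdot_smul_left, cfdot_sum_right, Finset.sum_eq_zero fun i _ =>
        P10.ortho_eta hG hM hP h2 cS1 hτ1 hψ (fS1 ψ hψ).1 i 1, mul_zero]] at s2
  have : s = -1 := by exact_mod_cast (by simpa using s2.symm : (s : ℂ) = -1)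
  omega

theorem P11.tau_red {j : Irr W2} (hj : j ≠ 1) :
    FTDade0 M (prTIred M W W1 W2 j - (d : ℂ) • ζ) =
      ∑ i, cycEta ⊤ W W1 W2 i j - (d : ℂ) • τ1 ζ := by
  have hD := P10.prDade hG hM hP h2
  have hT := hD.prTI
  have hV := hD.cycTI
  have cS1 : ConjCSubset (seqIndD ⁅M, M⁆ M ⁅M, M⁆ ⁅⁅M, M⁆, ⁅M, M⁆⁆) (seqIndD ⁅M, M⁆ M ⁅M, M⁆ ⊥) :=
    seqInd_conjC_subset le_rfl bot_le
  obtain ⟨hi, h1⟩ := P10.S1_facts hP hT hζ
  have b0 := P11.bridge_dot0 hG hM hP h2 h0 hc hτ1 hζ hχ hj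
  obtain ⟨-, rfl, -⟩ := P11.const hG hM hP h2 h0 hc hj
  have hα : ∀ i, FTDade0 M (FT345bridge M W W1 W2 1 n ζ i j) =
      ((1 : ℤ) : ℂ) • (cycEta ⊤ W W1 W2 i j - cycEta ⊤ W W1 W2 i 1) - (n : ℂ) • τ1 ζ := fun i => by
    refine P10.def_tau_alpha hG hM hP h2 hc hi (cS1.1 hζ) h1 hτ1 cS1 i hj hζ ?_
    have e : FT345bridge M W W1 W2 1 n ζ i j = FT345bridge M W W1 W2 1 n ζ 1 j +
        ((prTIsign M W W1 W2 j : ℂ) • prTIirr M W W1 W2 i j -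
        (prTIsign M W W1 W2 j : ℂ) • prTIirr M W W1 W2 1 j - prTIirr M W W1 W2 i 1 +
        prTIirr M W W1 W2 1 1) := by
      rw [hc.sign j hj, FT345bridge, FT345bridge]
      module
    have o := fun i j => cfdot_symm_zero (P10.ortho_eta hG hM hP h2 cS1 hτ1 hζ hi i j)
    rw [e, map_add, hD.prDade_sub2_TIirr, cfdot_add_left, b0, cfdot_add_left, cfdot_sub_left,
      cfdot_sub_left, o, o, o, o]
    ring
  rw [sub_eq_iff_eq_add.1 (P10.sum_bridge hG hM hP hc (ζ := ζ) j).symm, map_add, map_sum, map_smul,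
    hχ, Finset.sum_congr rfl fun i _ => hα i,
    Finset.sum_sub_distrib, ← Finset.smul_sum, Finset.sum_sub_distrib, Finset.sum_const,
    Finset.card_univ, hV.card_irr_W1, P10.ratio hc, ← Nat.cast_smul_eq_nsmul ℂ]
  module

theorem P11.not_col_aux : False := by
  classical
  have hD := P10.prDade hG hM hP h2
  have hT := hD.prTI
  have hV := hD.cycTI
  obtain ⟨R, hR⟩ := P10.subcoh hG hM hP h2
  obtain ⟨j, hj⟩ := P10.exists_irr_ne_one (L := W2) (by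
    rw [hV.card_irr_W2]; exact lt_of_lt_of_le (by norm_num) hV.three_le_W2)
  have cS1 : ConjCSubset (seqIndD ⁅M, M⁆ M ⁅M, M⁆ ⁅⁅M, M⁆, ⁅M, M⁆⁆) (seqIndD ⁅M, M⁆ M ⁅M, M⁆ ⊥) :=
    seqInd_conjC_subset le_rfl bot_le
  obtain ⟨hi, h1⟩ := P10.S1_facts hP hT hζ
  have b0 := P11.tau_red hG hM hP h2 h0 hc hτ1 hζ hχ hj
  obtain ⟨-, rfl, -⟩ := P11.const hG hM hP h2 h0 hc hj
  have hμ := (P11.red_mem hG hM hP h0 hj).2
  have hdis := P11.disj hG hM hP h2 h0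
  set S2 := seqIndD ⁅M, M⁆ M (fittingHallOf M) (⊥ ⊔ FcomplKer M U ⊥) with hS2
  have cS2 : ConjCSubset S2 (seqIndD ⁅M, M⁆ M ⁅M, M⁆ ⊥) := seqInd_conjC_subset hP.H_le_der bot_le
  have d1 := P10.red_sub_one hG hM hP hc h1 hj (ψ := ζ) rfl
  obtain ⟨τ2, hτ2, he⟩ : ∃ τ2, CoherentWith M S2 (FTDade0 M) τ2 ∧
      τ2 (prTIred M W W1 W2 j) = ∑ i, cycEta ⊤ W W1 W2 i j := by
    by_cases hirr : ∃ ψ ∈ S2, IsIrr M ψ
    · obtain ⟨ψ, hψ, hψi⟩ := hirr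
      obtain ⟨τ2, hτ2⟩ := P11.coh2 hG hM hP h0
      refine ⟨τ2, hτ2, ?_⟩
      rcases FTtypeP_coherent_TIred hG hM hP (by rw [P10.core hG hM hP h2]; exact cS2) hτ2 hψ hψi
        hμ (k := j.conj) rfl with h | ⟨h, -⟩
      · rw [h, hc.sign j hj, Int.cast_one, one_smul]
      exfalso
      obtain ⟨m, hm0, hm⟩ := dvd_index_seqInd1 hT.K_le hψ
      have z1 := sub_mem (natCast_smul_mem (subset_zspan hμ) m) (natCast_smul_mem (subset_zspan hψ) d)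
      have z2 : ((m : ℂ) • prTIred M W W1 W2 j - (d : ℂ) • ψ) 1 = 0 := by
        rw [Pi.sub_apply, Pi.smul_apply, Pi.smul_apply, hm, hT.prTIred_1 1, hc.deg 1 j hj,
          hT.relIndex, smul_eq_mul, smul_eq_mul]
        ring
      have a1 := Dade_isometry hD.dade (P10.zon hG hM hP h2 subset_rfl (sub_mem
        (subset_zspan (cS2.1 hμ)) (natCast_smul_mem (subset_zspan (cS1.1 hζ)) d)) d1)
        (P10.zon hG hM hP h2 hS2.subset z1 z2)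
      rw [b0, ← hτ2.agree _ z1 z2, cfdot_sub_left, cfdot_smul_left,
        coherent_ortho hR cS1 hτ1 cS2 hτ2 hdis.symm (subset_zspan hζ) z1, map_sub, map_smul,
        map_smul, cfdot_sub_right, cfdot_natCast_smul_right, cfdot_natCast_smul_right, h,
        cfdot_neg_right, cfdot_intCast_smul_right, cfdot_sum_left, cfdot_sum_left,
        Finset.sum_eq_zero fun i _ => by
          rw [P10.cfdot_sum_col hV, if_neg fun h => hj ((Irr.conj_eq_self hV.odd_W2 j).1 h.symm)],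
        Finset.sum_eq_zero fun i _ => cfdot_symm_zero (P10.ortho_eta hG hM hP h2 cS2 hτ2 hψ hψi i j),
        cfdot_sub_left, cfdot_smul_left, cfdot_sub_right, cfdot_sub_right,
        cfdot_natCast_smul_right, cfdot_natCast_smul_right, cfdot_natCast_smul_right,
        cfdot_natCast_smul_right, hT.cfdot_prTIred, if_pos rfl, P10.ortho_red hT hψi hψ,
        cfdot_symm_zero (P10.ortho_red hT hi hζ j),
        hi.cfdot_ne hψi fun h => Finset.disjoint_left.1 hdis hψ (h ▸ hζ)] at a1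
      have : (m : ℂ) * Nat.card W1 = 0 := by linear_combination -a1
      exact mul_ne_zero (Nat.cast_ne_zero.2 hm0.ne') (card_ne_zero W1) this
    · obtain ⟨τ2, hτ2e, hτ2⟩ := hD.uniform_prTIred_coherent hj
      refine ⟨τ2, subset_coherent_with hτ2 fun ψ hψ => ?_, by
        rw [hτ2e, hc.sign j hj, Int.cast_one, one_smul]⟩
      obtain ⟨-, k, hk, -, rfl⟩ := P9.red_cases hP h0 hT (seqIndDS le_rfl bot_le hψ)
        fun h => hirr ⟨ψ, hψ, h⟩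
      exact mem_uniformPrTIred.2 ⟨k, hk, by
        rw [hT.prTIred_1 1, hT.prTIred_1 1, hc.deg 1 j hj, hc.deg 1 k hk], rfl⟩
  refine FTtype34_noncoherence hG hM hP h2 h0 (subset_coherent (bridge_coherent hR cS2 hτ2 cS1 hτ1
    hdis hμ (natCast_smul_mem (subset_zspan hζ) d) (sub_eq_zero.1 d1)
    (by rw [b0, he, map_smul])) fun φ hφ => ?_)
  rw [← P11.ker_eq hG hM hP h2 h0] at hφ
  obtain ⟨θ, hθ, h3, h4, rfl⟩ := mem_seqIndD.1 hφ
  by_cases h : fittingHallOf M ≤ cfker ⁅M, M⁆ θ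
  · refine Finset.mem_union_right _ (mem_seqIndD.2 ⟨θ, hθ, ?_, h4, rfl⟩)
    rw [P11.der2_eq hG hM hP h2 h0]
    exact sup_le h (le_sup_right.trans h3)
  · exact Finset.mem_union_left _ (mem_seqIndD.2 ⟨θ, hθ, h3, h, rfl⟩)

omit hc hτ1 hχ in
/-- PF (11.8). -/
theorem P11.not_col : ¬ ∀ i j, cfdot ⊤ (FTDade0 M (prTIred M W W1 W2 1 - ζ))
    (cycEta ⊤ W W1 W2 i j) = if j = 1 then 1 else 0 := by
  classical
  intro h
  have hT := FT_primeTI_hyp hG hM.1 hP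
  obtain ⟨R, hR⟩ := P10.subcoh hG hM hP h2
  obtain ⟨d, δ, n, hc⟩ := FTtype345_constants hG hM hP h2
  set S1 := seqIndD ⁅M, M⁆ M ⁅M, M⁆ ⁅⁅M, M⁆, ⁅M, M⁆⁆ with hS1
  have cS1 : ConjCSubset S1 (seqIndD ⁅M, M⁆ M ⁅M, M⁆ ⊥) := seqInd_conjC_subset le_rfl bot_le
  have fS1 : ∀ ψ ∈ S1, IsIrr M ψ ∧ ψ 1 = Nat.card W1 := fun ψ => P10.S1_facts hP hT
  obtain ⟨hi, h1⟩ := fS1 ζ hζ
  obtain ⟨τ1, hτ1⟩ := uniform_degree_coherence (subset_subcoherent hR cS1)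
    fun χ hχ φ hφ => by rw [(fS1 _ hχ).2, (fS1 _ hφ).2]
  obtain ⟨χ, hχ, hχv, hχn, -⟩ := P10.bridge0_col hG hM hP h2 hi (cS1.1 hζ) h1 h
  rcases P10.chi_cases hG hM hP h2 cS1.1 fS1 hτ1 hζ cS1.2 hχ hχv hχn with rfl | h3
  · exact P11.not_col_aux hG hM hP h2 h0 hc hτ1 hζ hχ
  have h4 : S1.card ≤ 2 := by
    by_contra! h4
    obtain ⟨a, ha, b, hb, hab⟩ := Finset.one_lt_card.1 (show 1 < (S1.erase ζ).card by
      rw [Finset.card_erase_of_mem hζ]; omega)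
    rw [Finset.mem_erase] at ha hb
    have := P10.tau1_dot fS1 hτ1 ha.2 hb.2
    rw [← neg_inj.1 ((h3 a ha.2 ha.1.symm).symm.trans (h3 b hb.2 hb.1.symm)), this.1] at this
    exact one_ne_zero (this.2 hab)
  refine P11.not_col_aux hG hM hP h2 h0 hc (dual_coherence (subset_subcoherent hR cS1) hτ1 h4) hζ ?_
  rw [dualIso_apply hi.mem_ZIrr, hχ, h3 _ (cS1.2 _ hζ)
    (seqInd_conjC_neq hT.K_le hT.normal le_rfl (P10.odd hG hM le_rfl) hζ).symm]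

end CfsgLib.FT.PG
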