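import Mathlib
import Cfsg.Agent.Lib.PG.PF11
import Cfsg.Agent.Lib.FT.PF12a

/-! Peterfalvi, section 12, (12.2) to (12.6). -/

set_option autoImplicit false
set_option linter.unusedSectionVars false

namespace CfsgLib.FT.PG.P12
export CfsgLib.FT.P12 (der_le_self der_normal' relIndex_dvd_right le_norm_bot conjC_Dade conjC_sub)
export CfsgLib.FT.P12 (conjC_add conjC_neg conjC_conjC conjC_sum subcoh_dirr subcoh_dot)
export CfsgLib.FT.P12 (subcoh_sub_ortho irrNK mem_irrNK sum_irrNK cst mem_cst)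
export CfsgLib.FT.P12 (sum_cst not_cst_of_ortho const_off_der dirr_of_cfdot_sub dirr_ortho_of_irr exists_seqInd_over)
export CfsgLib.FT.P12 (conjSub_symm conjSub_refl conjSub_trans)
end CfsgLib.FT.PG.P12


namespace CfsgLib.FT.PG

open Cfsg Subgroup
open scoped ComplexConjugate commutatorElement Classical

variable {G : Type*} [Group G] [PiCtx G] [Fintype G]

namespace P12

section general
variable {L H : Subgroup G} {S : Finset (G → ℂ)} {τ : CFMap G} {R : (G → ℂ) → Finset (G → ℂ)}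
  {φ ψ χ α : G → ℂ}

end general

section typeI
variable (hG : PGHyp G) {L : Subgroup G} (hL : Mx L) (h1 : FTtype L = 1)
include hG hL h1

omit hG hL in
theorem irrNK_on {φ : G → ℂ} (hφ : φ ∈ irrNK L (fittingHallOf L)) :
    φ ∈ CFon L (insert 1 (FTsupp L)) := by
  obtain ⟨hirr, hk⟩ := mem_irrNK.mp hφ
  refine ⟨hirr.mem_CF, fun g hg => ?_⟩
  by_cases hgL : g ∈ L
  · refine irr_reg_off_ker_0 hirr (Fcore_le L) (Fcore_normal L) hk ?_
    rw [eq_bot_iff]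
    rintro x ⟨hx, hxg⟩
    by_contra hx1
    simp only [Set.mem_insert_iff, not_or] at hg
    refine hg.2 ⟨by rwa [FTder_type1 h1], hg.1, x, ?_, ?_⟩
    · rw [FTsupp1, FTcore_type1 h1]; exact mem_sharp.mpr ⟨hx, hx1⟩
    · exact mem_centralizer_iff.mp hxg g rfl
  · exact CF_zero hirr.mem_CF hgL

theorem irrNK_subcoherent : ∃ R, Subcoherent L (irrNK L (fittingHallOf L)) (FTDade L) R := by
  refine irr_subcoherent (fun χ h => (mem_irrNK.mp h).1) (fun χ h => ?_) (fun χ h e => ?_) ?_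
  · obtain ⟨a, b⟩ := mem_irrNK.mp h
    exact mem_irrNK.mpr ⟨a.cfAut _, by rwa [cfker_cfAut]⟩
  · obtain ⟨a, b⟩ := mem_irrNK.mp h
    rw [odd_eq_conj_irr1 (mFT_odd hG hL.1) a] at e
    exact b (by rw [e, cfker_cf1]; exact Fcore_le L)
  · exact Dade_ZIsom1 (FT_Dade_hyp hG hL) (fun ξ h => (mem_irrNK.mp h).1.mem_ZIrr)
      fun ξ h => irrNK_on h1 h

/-- PF (12.2)(a). -/
theorem seqInd_facts {χ : G → ℂ} (hχ : χ ∈ seqIndD (fittingHallOf L) L (fittingHallOf L) ⊥) :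
    χ = ∑ φ ∈ cst L χ, φ ∧ cst L χ ⊆ irrNK L (fittingHallOf L) ∧
      ∀ φ ∈ cst L χ, ∀ φ' ∈ cst L χ, ∀ x ∈ fittingHallOf L, φ x = φ' x := by
  obtain ⟨U, hU, -⟩ := (FTtype_eq_one_iff hG hL).mp h1
  obtain ⟨U1, hU1⟩ := hU.inertia
  obtain ⟨θ, hθ, hθ1, rfl⟩ := seqIndC1P.mp hχ
  set H := fittingHallOf L with hH
  have hHL : H ≤ L := Fcore_le L
  have hn : L ≤ normalizer (H : Set G) := Fcore_normal L
  have hI : U ⊓ inertia θ ≤ U1 := typeF_inertia hU hU1 ⟨θ, hθ⟩ fun e => hθ1 (congrArg Subtype.val e)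
  have hHI : H ≤ inertia θ := le_inertia hθ.mem_CF
  have hdec : ∀ t ∈ L ⊓ inertia θ, ∃ h ∈ H, ∃ u ∈ U1, t = h * u := by
    rintro t ⟨ht, hti⟩
    obtain ⟨h, hh, u, hu, rfl⟩ := hU.compl.2.2.2 t ht
    refine ⟨h, hh, u, hI ⟨hu, ?_⟩, rfl⟩
    simpa using mul_mem (inv_mem (hHI hh)) hti
  have hab : ⁅L ⊓ inertia θ, L ⊓ inertia θ⁆ ≤ H := by
    rw [commutator_le]
    intro s hs t ht
    obtain ⟨h, hh, u, hu, rfl⟩ := hdec s hs
    obtain ⟨k, hk, v, hv, rfl⟩ := hdec t ht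
    have huv : u * v = v * u := congrArg Subtype.val (hU1.comm.is_comm.comm ⟨u, hu⟩ ⟨v, hv⟩)
    have huL : u ∈ L := hU.compl.2.1 (hU1.le hu)
    have hvL : v ∈ L := hU.compl.2.1 (hU1.le hv)
    have e : ⁅h * u, k * v⁆ = h * (u * k * u⁻¹) * (v * h⁻¹ * v⁻¹) * k⁻¹ := by
      rw [commutatorElement_def]
      have : u * k * u⁻¹ * (v * h⁻¹ * v⁻¹) = u * k * (u⁻¹ * v) * h⁻¹ * v⁻¹ := by group
      have h2 : u⁻¹ * v = v * u⁻¹ := by
        rw [inv_mul_eq_iff_eq_mul, ← mul_assoc, huv]; simp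
      rw [mul_assoc h (u * k * u⁻¹), this, h2]; group
    rw [e]
    exact mul_mem (mul_mem (mul_mem hh (conj_mem_of_mem_normalizer (hn huL) hk))
      (conj_mem_of_mem_normalizer (hn hvL) (inv_mem hh))) (inv_mem hk)
  have hcop : (Nat.card H).Coprime (H.relIndex (L ⊓ inertia θ)) :=
    (Fcore_hall L).coprime_dvd_right (relIndex_dvd_right (le_inf hHL hHI) inf_le_left)
  obtain ⟨hsum, -, -⟩ := cfInd_Hall_central_Inertia hHL hn hθ rfl hab hcop
  have hsum' : cfInd H L θ = ∑ φ ∈ cst L (cfInd H L θ), φ := by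
    rw [sum_cst (fun φ => φ)]; exact hsum
  have hone : ∀ φ ∈ cst L (cfInd H L θ), cfdot H φ θ = 1 := by
    intro φ hφ
    have hirr := (mem_cst.mp hφ).1
    rw [← cfdot_cfInd_right hHL hirr.mem_CF, hsum', cfdot_sum_right, Finset.sum_eq_single φ,
      hirr.cfdot_self]
    · intro φ' hφ' hne
      exact hirr.cfdot_ne (mem_cst.mp hφ').1 hne.symm
    · exact fun h => absurd hφ h
  refine ⟨hsum', fun φ hφ => ?_, fun φ hφ φ' hφ' x hx => ?_⟩
  · have hirr := (mem_cst.mp hφ).1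
    refine mem_irrNK.mpr ⟨hirr, fun hk => hθ1 ?_⟩
    rw [← sub_cfker_constt_irr hHL le_rfl hn hirr hθ (by rw [hone φ hφ]; exact one_ne_zero)] at hk
    exact hθ.eq_cf1_iff.mpr hk
  · have a := clifford_cfRes hHL hn (mem_cst.mp hφ).1 hθ (by rw [hone φ hφ]; exact one_ne_zero)
    have b := clifford_cfRes hHL hn (mem_cst.mp hφ').1 hθ (by rw [hone φ' hφ']; exact one_ne_zero)
    rw [hone φ hφ] at a
    rw [hone φ' hφ', ← a] at b
    have := congrFun b x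
    rw [cfRes_apply hx, cfRes_apply hx] at this
    exact this.symm

/-- PF (12.2)(b). -/
theorem type1_subcoherent {R1 : (G → ℂ) → Finset (G → ℂ)}
    (hR1 : Subcoherent L (irrNK L (fittingHallOf L)) (FTDade L) R1) :
    Subcoherent L (seqIndD (fittingHallOf L) L (fittingHallOf L) ⊥) (FTDade L)
      fun χ => (cst L χ).biUnion R1 := by
  set H := fittingHallOf L with hH
  have hHL : H ≤ L := Fcore_le L
  have hn : L ≤ normalizer (H : Set G) := Fcore_normal L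
  have hodd := mFT_odd hG hL.1
  have hchar : ∀ χ ∈ seqIndD H L H ⊥, IsChar L χ := fun χ h => seqInd_char hHL h
  have hconj : ∀ χ ∈ seqIndD H L H ⊥, cfConjC χ ∈ seqIndD H L H ⊥ := fun χ h => cfAut_seqInd _ h
  have hX : ∀ χ ∈ seqIndD H L H ⊥, ∀ φ ∈ cst L χ, φ ∈ irrNK L H :=
    fun χ h φ hφ => (seqInd_facts hG hL h1 h).2.1 hφ
  have hcc : ∀ χ φ, φ ∈ cst L χ → cfConjC φ ∈ cst L (cfConjC χ) := by
    intro χ φ hφ
    obtain ⟨a, b⟩ := mem_cst.mp hφ
    exact mem_cst.mpr ⟨a.cfAut _, by rw [cfdot_cfConjC]; simpa using b⟩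
  -- orthogonality of the `R1 φ`
  have hO : ∀ χ ∈ seqIndD H L H ⊥, ∀ ξ ∈ seqIndD H L H ⊥, cfdot L ξ (cfConjC χ) = 0 →
      ∀ φ ∈ cst L χ, ∀ φ' ∈ cst L ξ, φ' ≠ φ → ∀ α ∈ R1 φ', ∀ β ∈ R1 φ, cfdot ⊤ α β = 0 := by
    intro χ hχ ξ hξ ho φ hφ φ' hφ' hne
    obtain ⟨a, b⟩ := mem_cst.mp hφ
    obtain ⟨a', b'⟩ := mem_cst.mp hφ'
    refine hR1.R_ortho φ (hX χ hχ φ hφ) φ' (hX ξ hξ φ' hφ') (a'.cfdot_ne a hne)
      (a'.cfdot_ne (a.cfAut _) ?_)
    rintro rfl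
    exact (mem_cst.mp (hcc χ φ hφ)).2
      (not_cst_of_ortho (hchar ξ hξ) (hchar _ (hconj χ hχ)) ho a' b')
  have hself : ∀ χ ∈ seqIndD H L H ⊥, cfdot L χ (cfConjC χ) = 0 :=
    fun χ h => seqInd_conjC_ortho hHL hn le_rfl hodd h
  refine ⟨hchar, fun χ h => seqInd_conjC_neq hHL hn le_rfl hodd h, hconj, ?_,
    fun χ h φ h' hne => seqInd_ortho hHL hn h h' hne, fun χ h α hα => ?_, fun χ h => ?_,
    fun χ h => ?_, fun χ hχ ξ hξ o1 o2 α hα β hβ => ?_⟩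
  · refine hR1.isom.mono fun χ h => ?_
    rw [(seqInd_facts hG hL h1 h).1]
    exact Submodule.sum_mem _ fun φ hφ => subset_zspan (hX χ h φ hφ)
  · obtain ⟨φ, hφ, hα⟩ := Finset.mem_biUnion.mp hα
    exact hR1.R_virt φ (hX χ h φ hφ) α hα
  · refine orthonormal'_iff.mpr ⟨fun α hα => ?_, fun α hα β hβ hne => ?_⟩
    · obtain ⟨φ, hφ, hα⟩ := Finset.mem_biUnion.mp hα
      exact (hR1.R_orthonormal φ (hX χ h φ hφ)).self hα
    · obtain ⟨φ', hφ', hα⟩ := Finset.mem_biUnion.mp hα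
      obtain ⟨φ, hφ, hβ⟩ := Finset.mem_biUnion.mp hβ
      by_cases e : φ' = φ
      · subst e
        exact (hR1.R_orthonormal φ' (hX χ h φ' hφ)).ne hα hβ hne
      · exact hO χ h χ h (hself χ h) φ hφ φ' hφ' e α hα β hβ
  · rw [Finset.sum_biUnion]
    · have e := (seqInd_facts hG hL h1 h).1
      have e2 : χ - cfConjC χ = ∑ φ ∈ cst L χ, (φ - cfConjC φ) := by
        rw [Finset.sum_sub_distrib, ← e, sub_right_inj]
        conv_lhs => rw [e]
        exact cfAut_sum _ _ _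
      rw [e2, map_sum]
      exact Finset.sum_congr rfl fun φ hφ => hR1.R_sum φ (hX χ h φ hφ)
    · intro φ hφ φ' hφ' hne
      refine Finset.disjoint_left.mpr fun α hα hα' => ?_
      have a := hO χ h χ h (hself χ h) φ' hφ' φ hφ hne α hα α hα'
      rw [(hR1.R_orthonormal φ (hX χ h φ hφ)).self hα] at a
      exact one_ne_zero a
  · obtain ⟨φ', hφ', hα⟩ := Finset.mem_biUnion.mp hα
    obtain ⟨φ, hφ, hβ⟩ := Finset.mem_biUnion.mp hβ
    refine hO χ hχ ξ hξ o2 φ hφ φ' hφ' ?_ α hα β hβ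
    rintro rfl
    exact (mem_cst.mp hφ).2 (not_cst_of_ortho (hchar ξ hξ) (hchar χ hχ) o1 (mem_cst.mp hφ).1
      (mem_cst.mp hφ').2)

end typeI

/-- `ψ` is orthogonal to all the sets `R(χ)` of PF (12.2). -/
def OrthoR (L : Subgroup G) (ψ : G → ℂ) : Prop :=
  ∀ φ ∈ irrNK L (fittingHallOf L), ∀ μ, IsIrr ⊤ μ →
    cfdot ⊤ (FTDade L (φ - cfConjC φ)) μ ≠ 0 → cfdot ⊤ ψ μ = 0

theorem OrthoR.ortho {L : Subgroup G} {ψ : G → ℂ} (h : OrthoR L ψ)
    {R1 : (G → ℂ) → Finset (G → ℂ)}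
    (hR1 : Subcoherent L (irrNK L (fittingHallOf L)) (FTDade L) R1) {φ : G → ℂ}
    (hφ : φ ∈ irrNK L (fittingHallOf L)) {α : G → ℂ} (hα : α ∈ R1 φ) : cfdot ⊤ α ψ = 0 := by
  have hd := subcoh_dirr hR1 hφ hα
  refine dirr_ortho_of_irr hd fun μ hμ hne => h φ hφ μ hμ ?_
  have e := subcoh_dot hR1 hφ hα
  rcases hd.eq_or_neg_of_cfdot_ne hμ.isDirr hne with rfl | rfl
  · rw [e]; exact one_ne_zero
  · rw [cfdot_neg_right] at e
    intro e'; rw [e'] at e; simp at e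

section two
variable (hG : PGHyp G)
include hG

theorem ortho_aux {L1 L2 : Subgroup G} (hL1 : Mx L1) (h1 : FTtype L1 = 1)
    (hL2 : Mx L2) (h2 : FTtype L2 = 1)
    (hd : Disjoint (FTtilde L2 (FTsupp1 L2)) (FTtilde L1 (FTsupp L1))) {φ1 φ2 μ : G → ℂ}
    (hφ1 : φ1 ∈ irrNK L1 (fittingHallOf L1)) (hφ2 : φ2 ∈ irrNK L2 (fittingHallOf L2))
    (hμ : IsIrr ⊤ μ) (o1 : cfdot ⊤ (FTDade L1 (φ1 - cfConjC φ1)) μ ≠ 0) :
    cfdot ⊤ (FTDade L2 (φ2 - cfConjC φ2)) μ = 0 := by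
  by_contra o2
  obtain ⟨R1, hR1⟩ := irrNK_subcoherent hG hL2 h2
  have hR := type1_subcoherent hG hL2 h2 hR1
  obtain ⟨χ, hχ, hφχ⟩ := exists_seqInd_over (Fcore_le L2) (Fcore_normal L2) hφ2
  obtain ⟨ν, hν, eν⟩ := Dade_irr_sub_conjC (FT_Dade_hyp hG hL1) (mem_irrNK.mp hφ1).1
    (irrNK_on h1 hφ1)
  set B := FTDade L2 (χ - cfConjC χ) with hB
  have hon : χ - cfConjC χ ∈ CFon L2 (FTsupp1 L2) := by
    rw [FTsupp1, FTcore_type1 h2]
    obtain ⟨a, b⟩ := hR.sub_conj_mem hR.conjCSubset hχ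
    exact zcharD1_seqInd_on (Fcore_normal L2) a b
  have hB1 : B = FTDade1 L2 (χ - cfConjC χ) :=
    (restr_DadeE (FT_Dade_hyp hG hL2) (FTsupp1_sub hG hL2) hon).symm
  have hAB : cfdot ⊤ B (ν - cfConjC ν) = 0 := by
    rw [hB1, ← eν]; exact disjoint_Dade_ortho hd
  have hBc : cfConjC B = -B := by
    rw [hB, conjC_Dade, conjC_sub, ← map_neg, conjC_conjC, neg_sub]
  have hBZ : B ∈ ZIrr (⊤ : Subgroup G) := by
    obtain ⟨a, b⟩ := hR.sub_conj_mem hR.conjCSubset hχ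
    exact hR.isom.virt _ a b
  obtain ⟨n, hn⟩ := ZIrr_cfdot_int hBZ hν.mem_ZIrr
  have hc : cfdot ⊤ B (cfConjC ν) = -n := by
    rw [cfdot_cfConjC_right, hBc, cfdot_neg_left, hn]; simp
  have hn0 : (n : ℂ) = 0 := by
    rw [cfdot_sub_right, hn, hc] at hAB
    linear_combination hAB / 2
  have hBμ : cfdot ⊤ B μ = 0 := by
    rw [eν, cfdot_sub_left] at o1
    by_cases e : ν = μ
    · rw [← e, hn, hn0]
    · rw [hν.cfdot_ne hμ e] at o1
      have := (hν.cfAut (starRingEnd ℂ)).eq_of_cfdot_ne hμ fun e => o1 (by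
        rw [show cfdot ⊤ (cfConjC ν) μ = 0 from e]; simp)
      rw [← this, show cfdot ⊤ B (cfAut (starRingEnd ℂ) ν) = -n from hc, hn0, neg_zero]
  rw [hR1.R_sum φ2 hφ2, cfdot_sum_left] at o2
  obtain ⟨α, hα, hne⟩ := Finset.exists_ne_zero_of_sum_ne_zero o2
  have e := subcoh_dot hR hχ (Finset.mem_biUnion.mpr ⟨φ2, hφχ, hα⟩)
  rcases (subcoh_dirr hR1 hφ2 hα).eq_or_neg_of_cfdot_ne hμ.isDirr hne with rfl | rfl
  · rw [hBμ] at e; exact zero_ne_one e
  · rw [cfdot_neg_right, hBμ] at e; simp at e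

/-- PF (12.3). -/
theorem type1_ortho {L1 L2 : Subgroup G} (hL1 : Mx L1) (h1 : FTtype L1 = 1)
    (hL2 : Mx L2) (h2 : FTtype L2 = 1) (hnc : ¬ ConjSub L1 L2) {φ1 φ2 μ : G → ℂ}
    (hφ1 : φ1 ∈ irrNK L1 (fittingHallOf L1)) (hφ2 : φ2 ∈ irrNK L2 (fittingHallOf L2))
    (hμ : IsIrr ⊤ μ) (o1 : cfdot ⊤ (FTDade L1 (φ1 - cfConjC φ1)) μ ≠ 0) :
    cfdot ⊤ (FTDade L2 (φ2 - cfConjC φ2)) μ = 0 := by
  rcases (FT_Dade_support_disjoint hG hL1 hL2 hnc).2.2.2 with hd | hd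
  · by_contra o2
    exact o1 (ortho_aux hG hL2 h2 hL1 h1 hd hφ2 hφ1 hμ o2)
  · exact ortho_aux hG hL1 h1 hL2 h2 hd hφ1 hφ2 hμ o1

/-- The image of an irreducible character under a coherent extension for `L1` is orthogonal to
the `R(χ)` of `L2`. -/
theorem orthoR_of_coherent {L1 L2 : Subgroup G} (hL1 : Mx L1) (h1 : FTtype L1 = 1)
    (hL2 : Mx L2) (h2 : FTtype L2 = 1) (hnc : ¬ ConjSub L1 L2) {τ1 : CFMap G}
    (hcoh : CoherentWith L1 (seqIndD (fittingHallOf L1) L1 (fittingHallOf L1) ⊥) (FTDade L1) τ1)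
    {χ : G → ℂ} (hχ : χ ∈ seqIndD (fittingHallOf L1) L1 (fittingHallOf L1) ⊥) (hirr : IsIrr L1 χ) :
    OrthoR L2 (τ1 χ) := by
  intro φ hφ μ hμ hne
  by_contra o
  have hn := Fcore_normal L1
  have hX : χ ∈ irrNK L1 (fittingHallOf L1) := mem_irrNK.mpr ⟨hirr,
    ((mem_seqIndD_iff_cfker (Fcore_le L1) hn (le_norm_bot _)).mp hχ).2.2⟩
  refine hne (type1_ortho hG hL1 h1 hL2 h2 hnc hX hφ hμ ?_)
  have hc : cfConjC χ ∈ seqIndD (fittingHallOf L1) L1 (fittingHallOf L1) ⊥ := cfAut_seqInd _ hχ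
  have hd := hcoh.toZIsom.dirr (subset_zspan hχ) hirr
  have e : cfdot ⊤ (FTDade L1 (χ - cfConjC χ)) (τ1 χ) = 1 := by
    rw [← hcoh.agree _ (sub_mem (subset_zspan hχ) (subset_zspan hc))
      (by simp [hirr.isChar.conj_one]), hcoh.isom _ (sub_mem (subset_zspan hχ) (subset_zspan hc)) _
      (subset_zspan hχ), cfdot_sub_left, hirr.cfdot_self,
      cfdot_symm_zero (seqInd_conjC_ortho (Fcore_le L1) hn le_rfl (mFT_odd hG hL1.1) hχ), sub_zero]
  rcases hd.eq_or_neg_of_cfdot_ne hμ.isDirr o with e' | e'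
  · rw [← e', e]; exact one_ne_zero
  · rw [e', cfdot_neg_right] at e
    intro e2; rw [e2] at e; simp at e

variable {L : Subgroup G} (hL : Mx L) (h1 : FTtype L = 1)
include hL h1

/-- PF (12.4). -/
theorem orthoR_const {ψ : G → ℂ} (hψ : ψ ∈ CF (⊤ : Subgroup G)) (ho : OrthoR L ψ) {x : G}
    (hx : x ∈ L) (hxH : x ∉ fittingHallOf L) {h : G} (hh : h ∈ fittingHallOf L) :
    ψ (x * h) = ψ x := by
  obtain ⟨R1, hR1⟩ := irrNK_subcoherent hG hL h1
  obtain ⟨U, hU, -⟩ := (FTtype_eq_one_iff hG hL).mp h1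
  set H := fittingHallOf L with hH
  have hHL : H ≤ L := Fcore_le L
  have hn : L ≤ normalizer (H : Set G) := Fcore_normal L
  set S := seqIndD H L H ⊥ with hS
  -- the coefficients are constant on the constituents of each `χ`
  have hco : ∀ χ ∈ S, ∀ φ ∈ cst L χ, ∀ φ' ∈ cst L χ, cfdot L ψ φ = cfdot L ψ φ' := by
    intro χ hχ φ hφ φ' hφ'
    by_cases e : φ = φ'
    · rw [e]
    obtain ⟨-, hX, hres⟩ := seqInd_facts hG hL h1 hχ
    have hon : φ - φ' ∈ CFon L (FTsupp L \ FTsupp1 L) := by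
      refine ⟨sub_mem (mem_cst.mp hφ).1.mem_CF (mem_cst.mp hφ').1.mem_CF, fun g hg => ?_⟩
      by_cases hgH : g ∈ H
      · rw [Pi.sub_apply, hres φ hφ φ' hφ' g hgH, sub_self]
      · have hg' : g ∉ insert 1 (FTsupp L) := by
          rintro (rfl | hg')
          · exact hgH (one_mem _)
          · refine hg ⟨hg', fun h' => hgH ?_⟩
            rw [FTsupp1, FTcore_type1 h1] at h'
            exact h'.1
        rw [Pi.sub_apply, CFon_zero (irrNK_on h1 (hX hφ)) hg', CFon_zero (irrNK_on h1 (hX hφ')) hg',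
          sub_self]
    have hne : (FTsupp L \ FTsupp1 L).Nonempty := by
      by_contra h0
      rw [Set.not_nonempty_iff_eq_empty] at h0
      rw [h0] at hon
      exact e (sub_eq_zero.mp (funext fun g => CFon_zero hon (Set.notMem_empty g)))
    have hTI := (FTtypeI_II_facts hG hL (U := U) (by omega)
      (by rw [FTder_type1 h1]; exact hU.compl)).2.2 hne
    have a := subcoh_sub_ortho hR1 (hX hφ) (hX hφ') (hres φ hφ φ' hφ' 1 (one_mem _))
      (fun α hα => ho.ortho hR1 (hX hφ) hα) (fun α hα => ho.ortho hR1 (hX hφ') hα)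
    rw [restr_Dade_Ind (FT_Dade_hyp hG hL) Set.sdiff_subset hTI hon, cfdot_cfInd_left le_top hψ] at a
    have b := cfdot_symm_zero a
    rwa [cfdot_sub_right, sub_eq_zero] at b
  have hf : cfRes L ψ ∈ CF L := cfRes_mem_CF le_top hψ
  have hexp := cfun_sum_cfdot hf
  have hxh : x * h ∈ L := mul_mem hx (hHL hh)
  have hxhH : x * h ∉ H := fun e => hxH (by simpa using mul_mem e (inv_mem hh))
  -- the part on `irrNK` vanishes off `H`
  have hβ : ∀ y, y ∉ H → ∑ φ ∈ irrNK L H, cfdot L ψ φ * φ y = 0 := by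
    intro y hy
    have e : irrNK L H = S.biUnion (cst L) := by
      ext φ
      rw [Finset.mem_biUnion]
      exact ⟨exists_seqInd_over hHL hn, fun ⟨χ, hχ, hφ⟩ => (seqInd_facts hG hL h1 hχ).2.1 hφ⟩
    rw [e, Finset.sum_biUnion]
    · refine Finset.sum_eq_zero fun χ hχ => ?_
      rcases (cst L χ).eq_empty_or_nonempty with h0 | ⟨φ0, hφ0⟩
      · rw [h0, Finset.sum_empty]
      · rw [Finset.sum_congr rfl fun φ hφ => by rw [hco χ hχ φ hφ φ0 hφ0], ← Finset.mul_sum,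
          ← Finset.sum_apply, ← (seqInd_facts hG hL h1 hχ).1, CFon_zero (seqInd_on hn hχ) hy,
          mul_zero]
    · intro χ hχ ξ hξ hne
      refine Finset.disjoint_left.mpr fun φ hφ hφ' => (mem_cst.mp hφ').2 ?_
      exact not_cst_of_ortho (seqInd_char hHL hχ) (seqInd_char hHL hξ)
        (seqInd_ortho hHL hn hχ hξ hne) (mem_cst.mp hφ).1 (mem_cst.mp hφ).2
  have hval : ∀ y ∈ L, y ∉ H → ψ y = ∑ φ ∈ Finset.univ.filter (fun φ : Irr L => H ≤ cfker L φ),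
      cfdot L ψ φ * φ y := by
    intro y hy hyH
    have a := congrFun hexp y
    rw [cfRes_apply hy, Finset.sum_apply,
      ← Finset.sum_filter_add_sum_filter_not _ (fun φ : Irr L => H ≤ cfker L φ)] at a
    have b := hβ y hyH
    rw [sum_irrNK (fun φ => cfdot L ψ φ * φ y)] at b
    simp only [Pi.smul_apply, smul_eq_mul, cfdot_cfRes_left] at a
    rw [a, b, add_zero]
  rw [hval _ hxh hxhH, hval x hx hxH]
  refine Finset.sum_congr rfl fun φ hφ => ?_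
  rw [cfker_mul_right φ.mem_CF ((Finset.mem_filter.mp hφ).2 hh)]

/-- PF (12.5). -/
theorem orthoR_invDade_const {ψ : G → ℂ} (hψ : ψ ∈ CF (⊤ : Subgroup G)) (ho : OrthoR L ψ)
    {x y : G} (hx : x ∈ fittingHallOf L) (hx' : x ∉ ⁅fittingHallOf L, fittingHallOf L⁆)
    (hy : y ∈ fittingHallOf L) (hy' : y ∉ ⁅fittingHallOf L, fittingHallOf L⁆) :
    invDade (sharp (fittingHallOf L)) (supportR L) ψ x =
      invDade (sharp (fittingHallOf L)) (supportR L) ψ y := by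
  obtain ⟨R1, hR1⟩ := irrNK_subcoherent hG hL h1
  have hR := type1_subcoherent hG hL h1 hR1
  set H := fittingHallOf L with hH
  have hHL : H ≤ L := Fcore_le L
  have hn : L ≤ normalizer (H : Set G) := Fcore_normal L
  have hD := FT_DadeF_hyp hG hL
  set ρ := invDade (sharp H) (supportR L) ψ with hρ
  have hρon : ρ ∈ CFon L (sharp H) := invDade_on hD hψ
  have := const_off_der (cfRes_mem_CF hHL hρon.1) ?_ hx hx' hy hy'
  · rwa [cfRes_apply hx, cfRes_apply hy] at this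
  intro θ θ' hθ hθ' e e' he
  have m : cfInd H L θ ∈ seqIndD H L H ⊥ := seqIndC1P.mpr ⟨θ, hθ, e, rfl⟩
  have m' : cfInd H L θ' ∈ seqIndD H L H ⊥ := seqIndC1P.mpr ⟨θ', hθ', e', rfl⟩
  have hd : cfInd H L θ 1 = cfInd H L θ' 1 := by rw [cfInd_one hHL, cfInd_one hHL, he]
  have hO : ∀ χ ∈ seqIndD H L H ⊥, ∀ α ∈ (cst L χ).biUnion R1, cfdot ⊤ α ψ = 0 := by
    intro χ hχ α hα
    obtain ⟨φ, hφ, hα⟩ := Finset.mem_biUnion.mp hα
    exact ho.ortho hR1 ((seqInd_facts hG hL h1 hχ).2.1 hφ) hα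
  have a := subcoh_sub_ortho hR m m' hd (hO _ m) (hO _ m')
  have hon : cfInd H L θ - cfInd H L θ' ∈ CFon L (sharp H) :=
    zcharD1_seqInd_on hn (sub_mem (subset_zspan m) (subset_zspan m')) (by simp [hd])
  rw [← restr_DadeE (FT_Dade_hyp hG hL) ((Fcore_sub_FTsupp1 hG hL).trans (FTsupp1_sub hG hL)) hon,
    invDade_reciprocity hD hon hψ, cfdot_sub_left, cfdot_cfInd_left hHL hρon.1,
    cfdot_cfInd_left hHL hρon.1, sub_eq_zero] at a
  rw [cfdot_cfRes_left, cfdot_cfRes_left, ← cfdot_conj, a, cfdot_conj]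

end two

end P12

open P12

variable (hG : PGHyp G)
include hG

theorem FTtype1_ref_irr {L : Subgroup G} (hL : Mx L) :
    ∃ φ ∈ seqIndD (fittingHallOf L) L (fittingHallOf L) ⊥,
      φ 1 = ((fittingHallOf L).relIndex L : ℕ) :=
  exists_linInd (Fcore_le L) (haveI := Fcore_nil L; IsNilpotent.to_isSolvable)
    (bot_lt_iff_ne_bot.mpr (mmax_Fcore_ne_bot hG hL)) (le_norm_bot _)

/-- PF (12.6). -/
theorem FT_Frobenius_coherence {L : Subgroup G} (hL : Mx L)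
    (hF : FrobKer L (fittingHallOf L)) :
    (∀ χ ∈ seqIndD (fittingHallOf L) L (fittingHallOf L) ⊥, IsIrr L χ) ∧
      Coherent L (seqIndD (fittingHallOf L) L (fittingHallOf L) ⊥) (FTDade L) ∧
      Coherent L (seqIndD (fittingHallOf L) L (fittingHallOf L) ⊥) (FTDadeF L) := by
  have h1 := FT_Frobenius_type1 hG hL hF
  have hA := FTsupp_Frobenius hG hL hF
  obtain ⟨R1, hR1⟩ := irrNK_subcoherent hG hL h1
  have hR := type1_subcoherent hG hL h1 hR1
  obtain ⟨U, hU, hc⟩ := (FTtype_eq_one_iff hG hL).mp h1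
  set H := fittingHallOf L with hH
  have hHL : H ≤ L := Fcore_le L
  have hn : L ≤ normalizer (H : Set G) := Fcore_normal L
  have hFU := hF.frobIn hU.compl
  have main : Coherent L (seqIndD H L H ⊥) (FTDade L) := by
    rcases hc with hTI | ⟨hab, -⟩ | hexp
    · refine (Sibley_coherence (mFT_odd hG hL.1) (Fcore_nil L) hTI (Or.inl hFU)).congr_tau
        fun φ hφ h0 => ?_
      refine (restr_Dade_Ind (FT_Dade_hyp hG hL) hA.ge hTI (zcharD1_seqInd_on hn hφ h0)).symm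
    · refine uniform_degree_coherence hR fun χ hχ φ hφ => ?_
      obtain ⟨θ, hθ, -, rfl⟩ := seqIndC1P.mp hχ
      obtain ⟨θ', hθ', -, rfl⟩ := seqIndC1P.mp hφ
      rw [cfInd_one hHL, cfInd_one hHL, hθ.isLin_of_isMulCommutative.one,
        hθ'.isLin_of_isMulCommutative.one]
    · rcases non_coherent_chief (haveI := Fcore_nil L; IsNilpotent.to_isSolvable) hR
        (oddFrobQuo_of_frobKer (mFT_odd hG hL.1) hF (Fcore_nil L)) with h | ⟨-, -, p, hp, ⟨n, hn⟩, -, hd⟩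
      · exact h
      · exfalso
        rw [relIndex_bot_left] at hn
        have hn0 : n ≠ 0 := by
          rintro rfl
          exact hF.ker_ne (Subgroup.card_eq_one.mp (by simpa using hn))
        have hU0 : IsTypeFCompl L U U := ⟨le_rfl, rfl, by
          rw [← hH, P9.complIn_sup hU.compl]; exact hFU⟩
        refine hd ?_
        rw [IsComplIn_relIndex hU.compl, typeF_compl_card hG (hL.loc hU.compl.2.1) hU0]
        exact hexp p hp (by rw [hn]; exact dvd_pow_self p hn0)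
  refine ⟨fun χ hχ => ?_, main, ?_⟩
  · obtain ⟨θ, hθ, h, rfl⟩ := seqIndC1P.mp hχ
    exact hF.cfInd_irr hθ h
  · rw [FTDadeF, ← hH, ← hA]; exact main

end CfsgLib.FT.PG
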