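import Mathlib
import Cfsg.Agent.Lib.PG.PF12a
import Cfsg.Agent.Lib.PG.PF12G
import Cfsg.Agent.Lib.FT.PF12b

/-! Peterfalvi, section 12, (12.8) to (12.12). -/

set_option autoImplicit false
set_option linter.unusedSectionVars false

namespace CfsgLib.FT.PG.P12
export CfsgLib.FT.P12 (centMod_bot FcomplKer_bot comm_of_isMulCommutative der_eq_bot_of_comm mem_of_rank2 FrobIn.reg)
export CfsgLib.FT.P12 (exists_orderOf_eq typeF_exists_fpf)
end CfsgLib.FT.PG.P12

set_option linter.unusedSectionVars false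

namespace CfsgLib.FT.PG

open Cfsg Subgroup
open scoped ComplexConjugate commutatorElement Classical

variable {G : Type*} [Group G] [PiCtx G] [Fintype G]

namespace P12

theorem frob_of_sylow_cyclic (hG : PGHyp G) {M U : Subgroup G} (hM : Loc M) (h : OfTypeF M U)
    (hc : ∀ q : ℕ, q.Prime → ∀ S, IsSylowIn q S U → IsCyclic S) : FrobIn M (fittingHallOf M) U := by
  refine (typeF_frob_iff hG hM h).mpr ⟨fun q hq P => ?_⟩
  have := Fact.mk hq
  have := hc q hq _ (IsSylowIn.of_sylow_subgroup P)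
  exact isCyclic_of_surjective _
    ((P : Subgroup U).equivMapOfInjective U.subtype U.subtype_injective).symm.surjective

/-- PF (12.8), (12.9). -/
structure Hyp (p : ℕ) (M L P0 A : Subgroup G) (x : G) : Prop where
  maxM : Mx M
  type1 : FTtype M = 1
  sylP0 : IsSylowIn p P0 M
  notK : ¬ p ∣ Nat.card (fittingHallOf M)
  A_le : A ≤ P0
  A_elem : IsElementaryAbelian p A
  A_card : Nat.card A = p ^ 2
  P0_comm : IsMulCommutative P0
  P0_rank : PRankLE p 2 P0
  maxL : Mx L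
  P0_le : P0 ≤ FTcore L
  x_mem : x ∈ A
  x_ne : x ≠ 1
  centK : ¬ fittingHallOf M ⊓ centralizer ({x} : Set G) ≤ ⁅fittingHallOf M, fittingHallOf M⁆
  uniq : UniqMax (centralizer ({x} : Set G)) M

variable (hG : PGHyp G) {p : ℕ} [hp : Fact p.Prime]
include hG

theorem exists_conj_le_FTcore (hϖ : p ∈ ϖ[G]) {P : Subgroup G} (hP : IsPGroup p P) (h1 : P ≠ ⊥) :
    ∃ L, Mx L ∧ P ≤ FTcore L := by
  have hd := pgroup_dvd hP h1
  obtain ⟨L0, hL0, hd0⟩ := exists_FTcore_of_prime hG hp.out hϖ (hd.trans (card_subgroup_dvd_card P))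
  obtain ⟨S, hS⟩ := IsSylowIn.exists_in (p := p) (FTcore L0)
  have hS' := sylow_trans hS le_top (by
    rw [relIndex_top_right]; exact not_dvd_of_coprime hp.out (FTcore_facts hG hL0).2.1 hd0)
  obtain ⟨g, -, hg⟩ := hS'.exists_conj_le hP le_top
  refine ⟨_, isCoatom_map_conj hL0 g⁻¹, ?_⟩
  rw [FTcore_map_conj, ← map_conj_inv_map_conj g P]
  exact map_mono (hg.trans hS.le)

/-- PF (12.9). -/
theorem exists_hyp {M U P0 : Subgroup G} (hM : Mx M) (h1 : FTtype M = 1)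
    (hU : IsComplIn (fittingHallOf M) U M) (hP : IsSylowIn p P0 U) (hc : ¬ IsCyclic P0) :
    ∃ L A x, Hyp p M L P0 A x := by
  have hP1 : P0 ≠ ⊥ := by rintro rfl; exact hc inferInstance
  have hpU : p ∣ Nat.card U := (pgroup_dvd hP.isPGroup hP1).trans (card_dvd_of_le hP.le)
  have hK : ¬ p ∣ Nat.card (fittingHallOf M) := fun h =>
    not_dvd_of_coprime hp.out (Fcore_hall M) h (by rwa [IsComplIn_relIndex hU])
  have hp2 : p ≠ 2 := mFT_prime_ne_two' hG (hM.loc hU.2.1) hpU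
  obtain ⟨hsyl, huniq, -⟩ := FTtypeI_II_facts hG hM (U := U) (by omega) (by rwa [FTder_type1 h1])
  obtain ⟨hcomm, hrank⟩ := hsyl p P0 hp.out hP
  obtain ⟨A, hAP, hA, hA2⟩ := not_pRankLE_iff.mp
    (mt (odd_pgroup_rank1_cyclic hp2 hP.isPGroup).mp hc)
  obtain ⟨L, hL, hPL⟩ := exists_conj_le_FTcore hG (mem_pi_of_not_cyclic hG
    (hM.loc (hP.le.trans hU.2.1)) hP.isPGroup hc) hP.isPGroup hP1
  have hAM : A ≤ M := hAP.trans (hP.le.trans hU.2.1)
  have : ∃ x ∈ A, x ≠ 1 ∧ ¬ fittingHallOf M ⊓ centralizer ({x} : Set G) ≤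
      ⁅fittingHallOf M, fittingHallOf M⁆ := by
    by_contra h
    push Not at h
    exact mmax_Fcore_ne_bot hG hM (eq_bot_of_le_commutator_of_isNilpotent (Fcore_nil M) le_rfl
      (Cop.le_of_centralizer_le_of_not_isCyclic hA.1 (not_isCyclic_of_p2Elem_le le_rfl hA hA2.ge)
        (hAM.trans (Fcore_normal M)) (pgroup_coprime (elemAb_isPGroup hA) hK) h))
  obtain ⟨x, hx, hx1, hxK⟩ := this
  refine ⟨L, A, x, hM, h1, sylow_trans hP hU.2.1 (by
    rwa [IsComplIn_relIndex (IsComplIn_symm hU)]), hK, hAP, hA, hA2, hcomm, hrank, hL, hPL, hx,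
    hx1, hxK, huniq {x} (Set.singleton_nonempty x) ?_ fun h => hxK (h ▸ bot_le)⟩
  rintro _ rfl
  exact mem_sharp.mpr ⟨hP.le (hAP hx), hx1⟩

variable {M L P0 A : Subgroup G} {x : G} (h : Hyp p M L P0 A x)
include h

omit hG hp [Fintype G] in
theorem Hyp.x_M : x ∈ M := h.sylP0.le (h.A_le h.x_mem)

omit hG [Fintype G] in
theorem Hyp.orderOf_x : orderOf x = p := orderOf_eq_prime (h.A_elem.2 x h.x_mem) h.x_ne

omit hG in
theorem Hyp.x_notMem : x ∉ fittingHallOf M := fun hx =>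
  h.notK (h.orderOf_x ▸ orderOf_dvd_natCard _ hx)

omit hG in
theorem Hyp.p_dvd : p ∣ Nat.card (FTcore L) :=
  h.orderOf_x ▸ orderOf_dvd_natCard _ (h.P0_le (h.A_le h.x_mem))

theorem Hyp.mem_pi : p ∈ ϖ[G] :=
  mem_pi_of_p2Elem hG h.maxM.1 (A := A) ⟨h.A_le.trans h.sylP0.le, h.A_elem, h.A_card⟩

theorem Hyp.p_ne_two : p ≠ 2 := ne_two_of_mem_pi hG (h.mem_pi hG)

theorem Hyp.norm_le : normalizer ((zpowers x : Subgroup G) : Set G) ≤ M := by
  obtain ⟨N, hN, hle⟩ := mmax_exists (mFT_norm_proper hG (H := zpowers x)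
    (by simpa using h.x_ne) (isPi_of_isPGroup
      ((elemAb_isPGroup h.A_elem).to_le (zpowers_le.mpr h.x_mem)) (h.mem_pi hG)))
  rwa [h.uniq.2 N hN ((cent1_le_norm_zpowers x).trans hle)] at hle

omit hG in
theorem Hyp.notConj : ¬ ConjSub L M := by
  rintro ⟨g, hg⟩
  refine h.notK ?_
  rw [← FTcore_type1 h.type1, hg, FTcore_map_conj, card_map_conj]
  exact h.p_dvd

omit hG in
theorem Hyp.notCent : ¬ centralizer ({x} : Set G) ≤ L := fun hc =>
  h.notConj (by rw [h.uniq.2 L h.maxL hc]; exact conjSub_refl M)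

omit hG hp [Fintype G] in
theorem Hyp.x_supp1 : x ∈ FTsupp1 L := mem_sharp.mpr ⟨h.P0_le (h.A_le h.x_mem), h.x_ne⟩

omit hG in
theorem Hyp.notTI {B : Set G} (hB : NormedTI B ⊤ L) (hx : x ∈ B) : False :=
  h.notCent (by simpa using hB.cent_le hx)

theorem Hyp.L_type1 : FTtype L = 1 := by
  by_contra h1
  have h2 : FTtype L ≠ 2 := fun h2 => h.notTI (FTtypeII_ker_TI hG h.maxL h2).2.2 h.x_supp1
  have h5 := FTtype5_exclusion hG h.maxL
  obtain ⟨U, W, W1, W2, hP⟩ := FTtypeP_witness hG h.maxL h1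
  obtain ⟨H0, h0⟩ := Ptype_Fcore_kernel_exists hG h.maxL hP h5
  obtain ⟨-, -, h3, hGal⟩ := FTtype34_structure hG h.maxL hP h2 h0
  have h3' := (FTtype_eq_three_iff hG h.maxL hP).mp h3
  obtain ⟨-, -, -, hC⟩ := FTtype34_facts hG h.maxL hP h2 h0
  obtain ⟨-, ⟨g, -, hg⟩, -⟩ := typeP_Galois_P hG h.maxL hP h5 h0 hGal
  obtain ⟨-, -, rfl⟩ := FTtype34_Fcore_kernel_trivial hG h.maxL hP h2 h0
  rw [FcomplKer_bot, hC, der_eq_bot_of_comm h3'.U_comm, sup_bot_eq] at hg
  have hPL := h.P0_le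
  rw [FTcore_type_gt2 (by omega)] at hPL
  by_cases hd : p ∣ Nat.card (fittingHallOf L)
  · have : P0 ≤ fittingHallOf L := le_of_coprime_relIndex (Fcore_normal L)
      (hPL.trans (der_le_self L))
      (pgroup_coprime h.sylP0.isPGroup (not_dvd_of_coprime hp.out (Fcore_hall L) hd))
    exact h.notTI h3'.F_TI (mem_sharp.mpr ⟨Fcore_le_fitting L (this (h.A_le h.x_mem)), h.x_ne⟩)
  · obtain ⟨S, hS⟩ := IsSylowIn.exists_in (p := p) U
    have hS' := sylow_trans hS hP.U_le_der (by rwa [IsComplIn_relIndex (IsComplIn_symm hP.defHU)])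
    obtain ⟨y, -, hy⟩ := hS'.exists_conj_le (elemAb_isPGroup h.A_elem) (h.A_le.trans hPL)
    refine not_isCyclic_of_p2Elem_le (hy.trans hS.le) (elemAb_map h.A_elem _)
      (by rw [card_map_conj, h.A_card]) ?_
    rw [← hg]; infer_instance

theorem Hyp.P0_le_H : P0 ≤ fittingHallOf L := FTcore_type1 (h.L_type1 hG) ▸ h.P0_le

theorem Hyp.x_H : x ∈ sharp (fittingHallOf L) :=
  mem_sharp.mpr ⟨h.P0_le_H hG (h.A_le h.x_mem), h.x_ne⟩

/-- PF (12.10). -/
theorem Hyp.L_frob (IH : ∀ q < p, q.Prime → ∀ M U S : Subgroup G, Mx M → FTtype M = 1 →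
    IsComplIn (fittingHallOf M) U M → IsSylowIn q S U → IsCyclic S) :
    FrobKer L (fittingHallOf L) := by
  have h1 := h.L_type1 hG
  obtain ⟨U, hU, hc⟩ := (FTtype_eq_one_iff hG h.maxL).mp h1
  refine (frob_of_sylow_cyclic hG h.maxL.1 hU fun q hq S hS => ?_).frobKer
  by_cases hS1 : S = ⊥
  · rw [hS1]; infer_instance
  have := Fact.mk hq
  have hqU : q ∣ Nat.card U := (pgroup_dvd hS.isPGroup hS1).trans (card_dvd_of_le hS.le)
  refine IH q ?_ hq L U S h.maxL h1 hU.compl hS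
  have hp2 := hp.out.two_le
  have hAH := h.A_le.trans (h.P0_le_H hG)
  rcases hc with hTI | ⟨hab, hr, -⟩ | hexp
  · exact (h.notTI hTI (h.x_H hG)).elim
  · obtain ⟨y, hy, hoy, hreg⟩ := typeF_exists_fpf hU hq hqU
    have hyA : y ∈ normalizer (A : Set G) := mem_normalizer_of_conj_mem fun a ha =>
      mem_of_rank2 hAH hab (hr p hp.out) h.A_elem h.A_card
        (conj_mem_of_mem_normalizer (Fcore_normal L (hU.compl.2.1 hy)) (hAH ha))
        (by rw [conj_pow, h.A_elem.2 a ha]; simp)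
    have hd := semiregular_card_dvd (zpowers_le.mpr hyA) fun z hz hz1 => by
      rw [eq_bot_iff, ← hreg z hz hz1]; exact inf_le_inf_right _ hAH
    rw [Nat.card_zpowers, hoy, h.A_card, show p ^ 2 - 1 = (p + 1) * (p - 1) by
      simpa using Nat.sq_sub_sq p 1] at hd
    rcases (Nat.Prime.dvd_mul hq).mp hd with hd | hd
    · have hq2 : Odd q := hq.odd_of_ne_two (mFT_prime_ne_two' hG (h.maxL.loc hU.compl.2.1) hqU)
      have := Nat.le_of_dvd (by omega) (Nat.Coprime.mul_dvd_of_dvd_of_dvd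
        (Nat.coprime_two_left.2 hq2) (hp.out.odd_of_ne_two (h.p_ne_two hG)).add_one.two_dvd hd)
      omega
    · have := Nat.le_of_dvd (by omega) hd
      omega
  · obtain ⟨u, hu, hou⟩ := exists_orderOf_eq hq hqU
    have hd : q ∣ p - 1 := by
      refine dvd_trans ?_ (hexp p hp.out (FTcore_type1 h1 ▸ h.p_dvd))
      rw [← hou, ← orderOf_mk u hu]; exact Monoid.order_dvd_exponent _
    have := Nat.le_of_dvd (by omega) hd
    omega

theorem Hyp.support : supportR L x = fittingHallOf M ⊓ centralizer ({x} : Set G) ∧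
    IsComplIn (fittingHallOf M) (L ⊓ M) M := by
  obtain ⟨-, N, hN, hu, a, b, -⟩ := FTsupport_facts hG h.maxL (FTsupp1_sub0 hG h.maxL h.x_supp1)
    h.notCent
  obtain rfl := h.uniq.2 N hN hu.1
  exact ⟨a, b⟩

theorem Hyp.sylow_inf {S : Subgroup G} (hS : IsSylowIn p S (fittingHallOf L)) : S ⊓ M = P0 :=
  h.sylP0.eq_of_le (hS.isPGroup.to_le inf_le_left)
    (le_inf (nil_sylow_le hS (Fcore_nil L) h.sylP0.isPGroup (h.P0_le_H hG)) h.sylP0.le) inf_le_right

/-- PF (12.11). -/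
theorem Hyp.inf_le (hF : FrobKer L (fittingHallOf L)) : L ⊓ M ≤ fittingHallOf L := by
  intro g hg
  by_contra hgH
  obtain ⟨E, hE⟩ := id hF
  obtain ⟨U, hU, -⟩ := (FTtype_eq_one_iff hG h.maxM).mp h.type1
  have hcompl := (h.support hG).2
  have hV := compl_of_typeF hcompl hU
  obtain ⟨U1, hU1⟩ := hV.inertia
  have hPH := h.P0_le_H hG
  have hPV : P0 ≤ L ⊓ M := le_inf (hPH.trans (Fcore_le L)) h.sylP0.le
  -- the order of `g` is prime to `|H|`
  obtain ⟨k, -, hk⟩ := hE.exists_conj_mem hg.1 hgH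
  have hog : (orderOf g).Coprime (Nat.card (fittingHallOf L)) := by
    have := hF.coprime.symm
    rw [IsComplIn_relIndex hE.compl] at this
    refine this.coprime_dvd_left ?_
    rw [← orderOf_conj' k g]; exact orderOf_dvd_natCard E hk
  have hz : ∀ z ∈ zpowers g, z ≠ 1 → ∀ y ∈ fittingHallOf L, z * y = y * z → y = 1 := by
    intro z hz hz1 y hy hc
    by_contra hy1
    have hzH : z ∈ fittingHallOf L :=
      hF.cent_le hy hy1 ⟨zpowers_le.mpr hg.1 hz, mem_cent1.mpr hc.symm⟩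
    exact hz1 (orderOf_eq_one_iff.mp (Nat.eq_one_of_dvd_coprimes hog (orderOf_dvd_of_mem_zpowers hz)
      (orderOf_dvd_natCard _ hzH)))
  have hg1 : g ≠ 1 := fun e => hgH (e ▸ one_mem _)
  obtain ⟨S, hS⟩ := IsSylowIn.exists_in (p := p) (fittingHallOf L)
  have hgP : g ∈ normalizer (P0 : Set G) := by
    rw [← h.sylow_inf hG hS]
    exact le_normalizer_inf (zpowers_le.mpr (nil_sylow_norm hS (Fcore_nil L) (Fcore_normal L hg.1)))
      (zpowers_le.mpr (le_normalizer hg.2)) (mem_zpowers g)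
  have hcV : (Nat.card ↥(L ⊓ M)).Coprime (Nat.card (fittingHallOf M)) := by
    rw [← IsComplIn_relIndex hcompl]; exact (Fcore_hall M).symm
  by_cases hC : fittingHallOf M ⊓ centralizer ((zpowers g : Subgroup G) : Set G) = ⊥
  · have hcent := Frobenius_Wielandt_cent (zpowers_le.mpr hgP)
      (fun z hzg hz1 => semiregular_of_fpf fun y hy hc => hz z hzg hz1 y (hPH hy) hc)
      (h.sylP0.le.trans (Fcore_normal M)) (zpowers_le.mpr (Fcore_normal M hg.2))
      (haveI := Fcore_nil M; IsNilpotent.to_isSolvable)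
      (hcV.coprime_dvd_left (card_dvd_of_le hPV))
      (hcV.coprime_dvd_left (card_dvd_of_le (zpowers_le.mpr hg))) (by simpa using hg1) hC
    obtain ⟨y, hy, hoy, hreg⟩ := typeF_exists_fpf hV hp.out
      ((h.orderOf_x ▸ orderOf_dvd_natCard _ (h.A_le h.x_mem)).trans (card_dvd_of_le hPV))
    obtain ⟨m, hm, hle⟩ := h.sylP0.exists_conj_le (isPGroup_zpowers_iff.mpr ⟨1, by simpa⟩)
      (zpowers_le.mpr hy.2)
    refine mmax_Fcore_ne_bot hG h.maxM ?_
    rw [← hreg y (mem_zpowers y) (by rintro rfl; simp at hoy; exact hp.out.ne_one hoy.symm),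
      eq_comm, inf_eq_left]
    intro c hc
    have := hcent (hle (conj_mem_map_conj (mem_zpowers y))) _
      (conj_mem_of_mem_normalizer (Fcore_normal M hm) hc)
    rw [mem_cent1]
    have e : m * (c * y) * m⁻¹ = m * (y * c) * m⁻¹ := by
      calc _ = m * c * m⁻¹ * (m * y * m⁻¹) := by group
        _ = _ := by rw [this]; group
    simpa using e.symm
  · obtain ⟨c, ⟨hc, hcg⟩, hc1⟩ := exists_ne_one hC
    have hgU1 : g ∈ U1 := hU1.cent c hc hc1
      ⟨hg, mem_cent1.mpr (hcg g (mem_zpowers g)).symm⟩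
    have : fittingHallOf M ⊓ centralizer ({x} : Set G) ≠ ⊥ := fun e => h.centK (e ▸ bot_le)
    obtain ⟨d, ⟨hd, hdx⟩, hd1⟩ := exists_ne_one this
    have hxU1 : x ∈ U1 := hU1.cent d hd hd1
      ⟨hPV (h.A_le h.x_mem), mem_cent1.mpr (mem_cent1.mp hdx).symm⟩
    exact h.x_ne (hz g (mem_zpowers g) hg1 x (h.x_H hG).1
      (comm_of_isMulCommutative hU1.comm hgU1 hxU1))

/-- PF (12.12). -/
theorem Hyp.index_le (hF : FrobKer L (fittingHallOf L)) :
    2 * (fittingHallOf L).relIndex L ≤ p + 1 := by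
  obtain ⟨E, hE⟩ := id hF
  rw [IsComplIn_relIndex hE.compl]
  obtain ⟨S, hS⟩ := IsSylowIn.exists_in (p := p) (fittingHallOf L)
  have hES : E ≤ normalizer (S : Set G) :=
    (hE.compl.2.1.trans hE.normal).trans (nil_sylow_norm hS (Fcore_nil L))
  have hPS : P0 ≤ S := (h.sylow_inf hG hS).ge.trans inf_le_left
  have hxS : x ∈ S := hPS (h.A_le h.x_mem)
  set T := omegaOne p (S ⊓ centralizer (S : Set G)) with hT
  have hET : E ≤ normalizer (T : Set G) :=
    (Cop.le_normalizer_inf_centralizer hES hES).trans (normalizer_le_normalizer_omegaOne _)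
  have hS1 : S ≠ ⊥ := fun e => h.x_ne (by rwa [e] at hxS)
  have hT1 : T ≠ ⊥ := omegaOne_ne_bot (pgroup_dvd (hS.isPGroup.to_le inf_le_left)
    (inf_centralizer_ne_bot_of_isNilpotent hS.isPGroup.isNilpotent le_rfl le_normalizer hS1))
  have hTA : T ≤ A := omegaOne_le_iff.mpr fun z hz hzp =>
    mem_of_rank2 h.A_le h.P0_comm h.P0_rank h.A_elem h.A_card
      ((h.sylow_inf hG hS).le ⟨hz.1, h.uniq.1 (mem_cent1.mpr (hz.2 x hxS))⟩) hzp
  have hAH := h.A_le.trans (h.P0_le_H hG)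
  have hreg : ∀ a ∈ E, a ≠ 1 → T ⊓ centralizer ({a} : Set G) = ⊥ := fun a ha h1 => by
    rw [eq_bot_iff, ← FrobIn.reg hE a ha h1]; exact inf_le_inf_right _ (hTA.trans hAH)
  have hd := card_dvd_of_le hTA
  rw [h.A_card, Nat.dvd_prime_pow hp.out] at hd
  obtain ⟨i, hi, hTi⟩ := hd
  interval_cases i
  · exact absurd (card_eq_one.mp (by simpa using hTi)) hT1
  · have := odd_semiregular_card_lt hET hreg hT1 (h.maxL.odd hG ((hTA.trans hAH).trans hF.le))
      (h.maxL.odd hG hE.compl.2.1)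
    rw [hTi] at this
    rw [pow_one] at this; omega
  · have e := eq_of_le_of_card_le hTA (by rw [hTi, h.A_card])
    rw [e] at hET hreg
    refine two_mul_card_le_succ (h.p_ne_two hG) h.A_elem h.A_card hET (h.maxL.odd hG hE.compl.2.1) hreg h.x_mem
      fun a ha hN => ?_
    have : a ∈ fittingHallOf L ⊓ E := ⟨h.inf_le hG hF ⟨hE.compl.2.1 ha, h.norm_le hG hN⟩, ha⟩
    rwa [hE.compl.2.2.1] at this

end P12

end CfsgLib.FT.PG
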