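import Mathlib
import Cfsg.Agent.Lib.PG.PF12b
import Cfsg.Agent.Lib.FT.PF12

/-! Peterfalvi, section 12: maximal subgroups of type I. -/

set_option autoImplicit false
set_option linter.unusedSectionVars false

namespace CfsgLib.FT.PG.P12
export CfsgLib.FT.P12 (invDade_eq_of_cfdot cfnorm_invDade_add_le pow_notMem_of_coprime)
end CfsgLib.FT.PG.P12

set_option linter.unusedSectionVars false

namespace CfsgLib.FT.PG

open Cfsg Subgroup
open scoped ComplexConjugate commutatorElement Classical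

variable {G : Type*} [Group G] [PiCtx G] [Fintype G]

namespace P12

variable (hG : PGHyp G) {p : ℕ} [hp : Fact p.Prime]
  {M L P0 A : Subgroup G} {x : G} (h : Hyp p M L P0 A x) (hF : FrobKer L (fittingHallOf L))
include hG h hF

/-- PF (12.13) to (12.16). -/
theorem Hyp.elim : False := by
  obtain ⟨hirr, -, τ1, hcoh⟩ := FT_Frobenius_coherence hG h.maxL hF
  obtain ⟨χ, hχ, hχ1⟩ := FTtype1_ref_irr hG h.maxL
  have hcoh' : CoherentWith L (seqIndD (fittingHallOf L) L (fittingHallOf L) ⊥) (FTDade L) τ1 := by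
    rw [FTDade, FTsupp_Frobenius hG h.maxL hF]; exact hcoh
  have hL1 := h.L_type1 hG
  have hi := hirr χ hχ
  have hO : ∀ N, Mx N → FTtype N = 1 → ¬ ConjSub L N → OrthoR N (τ1 χ) :=
    fun N hN h1 hnc => orthoR_of_coherent hG h.maxL hL1 hN h1 hnc hcoh' hχ hi
  have hψZ : τ1 χ ∈ ZIrr (⊤ : Subgroup G) := hcoh.virt _ (subset_zspan hχ)
  have hψ := ZIrr_mem_CF hψZ
  have hD := FT_DadeF_hyp hG h.maxL
  have he2 := h.index_le hG hF
  have hp3 : 3 ≤ p := by have := hp.out.two_le; have := h.p_ne_two hG; omega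
  set H := fittingHallOf L with hH
  set K := fittingHallOf M with hK
  set e := H.relIndex L with he
  have he3 : 3 ≤ e := by
    have h1 : 1 < e := hF.one_lt_index
    have h2 : Odd e := (mFT_odd hG h.maxL.1).of_dvd_nat (relIndex_dvd_card H L)
    obtain ⟨k, hk⟩ := h2; omega
  have hS2 := seqInd_nontrivial hF.le hF.normal le_rfl (mFT_odd hG h.maxL.1) hχ
  obtain ⟨a, Γ, hΓ, -, hβ, -, hnΓ, hbd⟩ := Dade_Ind1_sub_lin hD hcoh hS2 hi hχ hχ1
  have hfro := odd_Frobenius_index_ler hF (mFT_odd hG h.maxL.1)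
  have hh : p ^ 2 ≤ Nat.card H := h.A_card ▸ card_le_of_le (h.A_le.trans (h.P0_le_H hG))
  have ha : a = 0 := by
    by_contra ha
    have h0 : (0 : ℝ) ≤ e - 1 - (a : ℝ) ^ 2 * (Nat.card H - 1) / e + 2 * a := hnΓ ▸ cfnorm_nonneg
    have he0 : (0 : ℝ) < e := by exact_mod_cast (by omega : 0 < e)
    have h1 : 2 * ((p : ℝ) - 1) ≤ (Nat.card H - 1) / e := by
      rw [le_div_iff₀ he0]
      have a1 : (2 * e : ℝ) ≤ p + 1 := by exact_mod_cast he2
      have a2 : ((p : ℝ)) ^ 2 ≤ Nat.card H := by exact_mod_cast hh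
      have a3 : (3 : ℝ) ≤ p := by exact_mod_cast hp3
      nlinarith
    have a1 : (2 * e : ℝ) ≤ p + 1 := by exact_mod_cast he2
    have a3 : (3 : ℝ) ≤ p := by exact_mod_cast hp3
    have a4 : (1 : ℝ) ≤ (a : ℝ) ^ 2 := by exact_mod_cast (one_le_sq_iff_one_le_abs a).mpr (Int.one_le_abs ha)
    have a5 : (a : ℝ) ≤ (a : ℝ) ^ 2 := by exact_mod_cast Int.le_self_sq a
    rw [mul_div_assoc] at h0
    nlinarith
  have hβψ : cfdot ⊤ (Dade (sharp H) (supportR L) (cfInd H L (cf1 H) - χ)) (τ1 χ) = -1 := by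
    rw [hβ, ha, cfdot_add_left, hΓ χ hχ, cfdot_add_left, cfdot_sub_left,
      cfdot_symm_zero ((Dade_Ind1_sub_lin_a1 hD hcoh hS2 hi hχ hχ1).1 χ hχ),
      hcoh.isom _ (subset_zspan hχ) _ (subset_zspan hχ), hi.cfdot_self]
    simp
  -- (12.14)
  have hxK : ∀ g ∈ K, τ1 χ (x * g) = τ1 χ x := fun g hg =>
    orthoR_const hG h.maxM h.type1 hψ (hO M h.maxM h.type1 h.notConj) h.x_M h.x_notMem hg
  have hψx : τ1 χ x = χ x := by
    rw [← invDade_eq_of_cfdot hD hcoh hi hχ hχ1 hβψ (h.x_H hG),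
      invDade_of_const (h.x_H hG) fun r hr => hxK r (by rw [(h.support hG).1] at hr; exact hr.1)]
  -- (12.15)
  have hρ : ∀ g ∈ sharp K, invDade (sharp K) (supportR M) (τ1 χ) g = τ1 χ g := by
    intro g hg
    refine invDade_of_const hg fun r hr => ?_
    by_cases hC : centralizer ({g} : Set G) ≤ M
    · rw [supportR_of_cent_le hC] at hr
      rw [mem_bot.mp hr, mul_one]
    obtain ⟨-, N, hN, -, hR, -, -, -, ⟨hgN, hgN1⟩, hN2, hN2'⟩ := FTsupport_facts hG h.maxM
      (FTsupp1_sub0 hG h.maxM (Fcore_sub_FTsupp1 hG h.maxM hg)) hC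
    have hN1 : FTtype N = 1 := by
      have := (FTtype_range N).1
      by_contra hne
      obtain ⟨E, hE⟩ := hN2' (by omega)
      have hPM := h.sylP0.le
      refine not_isCyclic_of_p2Elem_le h.A_le h.A_elem h.A_card.ge
        (odd_regular_pgroup_cyclic (h.p_ne_two hG) h.sylP0.isPGroup hE.ker_ne
          (hPM.trans hE.normal) fun y hy hy1 => semiregular_of_fpf fun k hk hc => ?_)
      by_contra hk1
      have hyK : y ∈ K := hE.frobKer.cent_le hk hk1 ⟨hPM hy, mem_cent1.mpr hc.symm⟩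
      exact hy1 (orderOf_eq_one_iff.mp (Nat.eq_one_of_dvd_coprimes
        (pgroup_coprime h.sylP0.isPGroup h.notK) (orderOf_dvd_natCard _ hy)
        (orderOf_dvd_natCard _ hyK)))
    have hnc : ¬ ConjSub L N := by
      rintro ⟨y, rfl⟩
      have e1 : g = y * (y⁻¹ * g * y) * y⁻¹ := by group
      rw [e1, conj_mem_FTsupp_iff, FTsupp_Frobenius hG h.maxL hF] at hgN
      rw [e1, conj_mem_FTsupp1_iff] at hgN1
      exact hgN1 (Fcore_sub_FTsupp1 hG h.maxL hgN)
    rw [hR] at hr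
    exact orthoR_const hG hN hN1 hψ (hO N hN hN1 hnc) (FTsupp_sub N hgN).1
      (fun hgH => hgN1 (Fcore_sub_FTsupp1 hG hN (mem_sharp.mpr ⟨hgH, hg.2⟩))) hr.1
  have hsh : ∀ g ∈ K, g ∉ ⁅K, K⁆ → g ∈ sharp K := fun g hg hg' =>
    mem_sharp.mpr ⟨hg, fun e => hg' (e ▸ one_mem _)⟩
  have hconst : ∀ g ∈ K, g ∉ ⁅K, K⁆ → ∀ g' ∈ K, g' ∉ ⁅K, K⁆ → τ1 χ g = τ1 χ g' := by
    intro g hg hg' k hk hk'
    rw [← hρ g (hsh g hg hg'), ← hρ k (hsh k hk hk')]
    exact orthoR_invDade_const hG h.maxM h.type1 hψ (hO M h.maxM h.type1 h.notConj) hg hg' hk hk'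
  -- (12.16)
  obtain ⟨g, ⟨hg, hgx⟩, hg'⟩ := SetLike.not_le_iff_exists.mp h.centK
  obtain ⟨n, hn⟩ := ZIrr_int_of_pow_eq hψZ (x := g) fun k hk =>
    hconst _ (pow_mem hg k) (pow_notMem_of_coprime hg' hk) g hg hg'
  have hε := Complex.isPrimitiveRoot_exp p hp.out.ne_zero
  have c1 := vchar_ker_mod_prim hε hψZ (mem_top x) h.orderOf_x (mem_cent1.mp hgx)
  have c2 := vchar_ker_mod_prim hε hi.mem_ZIrr (hF.le (h.x_H hG).1) h.orderOf_x (y := 1) (by simp)
  rw [hxK g hg, hψx, hn] at c1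
  rw [mul_one, hχ1] at c2
  have c3 : (p : ℤ) ∣ n - e := int_eqAmod_prime_prim hε hp.out (by
    push_cast; exact eqAmod_sub_zero.mpr (c1.symm.trans c2))
  have hn2 : ((e : ℝ) - 1) ^ 2 ≤ (n : ℝ) ^ 2 := by
    obtain ⟨k, hk⟩ := c3
    have : ((e : ℤ) - 1) ^ 2 ≤ n ^ 2 := by
      have a1 : (2 * e : ℤ) ≤ p + 1 := by exact_mod_cast he2
      have a2 : (3 : ℤ) ≤ e := by exact_mod_cast he3
      rcases le_or_gt 0 k with h0 | h0
      · have : (e : ℤ) ≤ n := by nlinarith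
        nlinarith
      · have : n ≤ -((e : ℤ) - 1) := by nlinarith
        nlinarith
    exact_mod_cast this
  have hKK : ⁅K, K⁆ ≤ K := der_le_self K
  have hDM := FT_DadeF_hyp hG h.maxM
  have hnorm : (Nat.card M : ℝ)⁻¹ * ((Nat.card K - Nat.card ↥⁅K, K⁆) * (n : ℝ) ^ 2) ≤
      cfnorm M (invDade (sharp K) (supportR M) (τ1 χ)) := by
    rw [cfnormE_invDade hDM]
    refine mul_le_mul_of_nonneg_left ?_ (by positivity)
    have hsub : elems ((⁅K, K⁆ : Subgroup G) : Set G) ⊆ elems (K : Set G) := fun y hy =>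
      mem_elems.mpr (hKK (mem_elems.mp hy))
    calc _ = ∑ y ∈ elems (K : Set G) \ elems ((⁅K, K⁆ : Subgroup G) : Set G),
          ‖invDade (sharp K) (supportR M) (τ1 χ) y‖ ^ 2 := by
          rw [Finset.sum_congr rfl (g := fun _ => (n : ℝ) ^ 2), Finset.sum_const,
            Finset.card_sdiff_of_subset hsub, card_elems, card_elems, nsmul_eq_mul,
            Nat.cast_sub (card_le_of_le hKK)]
          intro y hy
          simp only [Finset.mem_sdiff, mem_elems, SetLike.mem_coe] at hy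
          rw [hρ y (hsh y hy.1 hy.2), hconst y hy.1 hy.2 g hg hg', hn]; simp
      _ ≤ _ := Finset.sum_le_sum_of_subset_of_nonneg (fun y hy => by
          simp only [Finset.mem_sdiff, mem_elems, SetLike.mem_coe] at hy
          exact mem_elems.mpr (hsh y hy.1 hy.2)) fun _ _ _ => by positivity
  have hdis := (FT_Dade1_support_disjoint hG h.maxL h.maxM h.notConj).mono
    (dadeSupp_mono (Fcore_sub_FTsupp1 hG h.maxL)) (dadeSupp_mono (Fcore_sub_FTsupp1 hG h.maxM))
  have hsum := cfnorm_invDade_add_le hD hDM hdis hψ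
  rw [hcoh.toZIsom.cfnorm (subset_zspan hχ), hi.cfnorm] at hsum
  have hlow := (hbd hfro).1
  -- the index of the derived subgroup
  obtain ⟨U, hU, -⟩ := (FTtype_eq_one_iff hG h.maxM).mp h.type1
  obtain ⟨U0, h0⟩ := hU.complement
  have hKlt : ⁅K, K⁆ < K := lt_of_le_of_ne hKK fun e => hg' (e ▸ hg)
  have hi5 : 5 ≤ (⁅K, K⁆ : Subgroup G).relIndex K := by
    have f := h0.frob.frobKer
    have d : K.relIndex (K ⊔ U0) ∣ (⁅K, K⁆ : Subgroup G).relIndex K - 1 :=
      (f.frobQuo hKlt (der_normal' f.normal)).index_dvd hKK le_rfl f.normal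
    have o1 : Odd (K.relIndex (K ⊔ U0)) := (h.maxM.odd hG (sup_le (Fcore_le M)
      (h0.le.trans hU.compl.2.1))).of_dvd_nat (relIndex_dvd_card _ _)
    have o2 : Odd ((⁅K, K⁆ : Subgroup G).relIndex K) :=
      (h.maxM.odd hG (Fcore_le M)).of_dvd_nat (relIndex_dvd_card _ _)
    have l1 : 1 < K.relIndex (K ⊔ U0) := f.one_lt_index
    have l2 : (⁅K, K⁆ : Subgroup G).relIndex K ≠ 1 := fun e =>
      hKlt.not_ge (relIndex_eq_one.mp e)
    obtain ⟨s, hs⟩ := o1
    obtain ⟨t, ht⟩ := o2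
    have := Nat.le_of_dvd (by omega) d
    omega
  have hc1 := card_mul_relIndex hKK
  have hc2 := IsComplIn_card (h.support hG).2
  have hc3 := card_le_of_le (h.inf_le hG hF)
  rw [← hK] at hc2
  rw [← hH] at hc3
  have b1 : (5 * Nat.card ↥⁅K, K⁆ : ℝ) ≤ Nat.card K := by
    have : 5 * Nat.card ↥⁅K, K⁆ ≤ Nat.card K := by nlinarith
    exact_mod_cast this
  have b2 : (Nat.card M : ℝ) ≤ Nat.card K * Nat.card H := by
    have : Nat.card M ≤ Nat.card K * Nat.card H := by rw [hc2]; gcongr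
    exact_mod_cast this
  have b3 := card_pos_real M
  have b4 := card_pos_real H
  have b5 := card_pos_real K
  have b6 : (3 : ℝ) ≤ e := by exact_mod_cast he3
  have b7 : (Nat.card M : ℝ)⁻¹ * ((Nat.card K - Nat.card ↥⁅K, K⁆) * (n : ℝ) ^ 2) ≤
      e / Nat.card H := by linarith
  rw [inv_mul_le_iff₀ b3, mul_div_assoc', le_div_iff₀ b4] at b7
  have b8 : (4 / 5 * Nat.card K * ((e : ℝ) - 1) ^ 2) * Nat.card H ≤
      (Nat.card K * Nat.card H) * e := by
    refine le_trans ?_ (b7.trans (mul_le_mul_of_nonneg_right b2 (by linarith)))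
    refine mul_le_mul_of_nonneg_right (mul_le_mul (by linarith) hn2 (by positivity) ?_) b4.le
    linarith
  have b9 : 4 / 5 * ((e : ℝ) - 1) ^ 2 ≤ e := by
    by_contra hlt
    push Not at hlt
    nlinarith [mul_pos b4 b5]
  nlinarith

end P12

open P12

variable (hG : PGHyp G)
include hG

/-- PF (12.7). -/
theorem FTtype1_Frobenius {M : Subgroup G} (hM : Mx M) (h1 : FTtype M = 1) :
    FrobKer M (fittingHallOf M) := by
  have key : ∀ p : ℕ, p.Prime → ∀ M U S : Subgroup G, Mx M → FTtype M = 1 →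
      IsComplIn (fittingHallOf M) U M → IsSylowIn p S U → IsCyclic S := by
    intro p
    induction p using Nat.strong_induction_on with
    | _ p IH =>
      intro hp M U S hM h1 hU hS
      by_contra hc
      have := Fact.mk hp
      obtain ⟨L, A, x, h⟩ := exists_hyp hG hM h1 hU hS hc
      exact h.elim hG (h.L_frob hG IH)
  obtain ⟨U, hU, -⟩ := (FTtype_eq_one_iff hG hM).mp h1
  exact (frob_of_sylow_cyclic hG hM.1 hU fun q hq S hS => key q hq M U S hM h1 hU.compl hS).frobKer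

end CfsgLib.FT.PG
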