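import Mathlib
import Cfsg.Agent.Lib.PG.PF12
import Cfsg.Agent.Lib.FT.PF13a

/-! Peterfalvi, section 13, (13.2) and (13.3).
Here `P = S_F`, `p = |W2|`, `q = |W1|`, `C = C_U(P)`, `H = P C`, `u = |U : C|`. -/

set_option autoImplicit false
set_option linter.unusedSectionVars false

namespace CfsgLib.FT.PG.P13
export CfsgLib.FT.P13 (calS fitH calS1 geom_eq geom_mul pow_le_geom)
export CfsgLib.FT.P13 (Ctx.mem_C Ctx.C_le Ctx.card_U Ctx.u_pos HasLam exists_irr_ne_one)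
end CfsgLib.FT.PG.P13

set_option linter.unusedSectionVars false

namespace CfsgLib.FT.PG

open Cfsg Subgroup P12
open scoped ComplexConjugate commutatorElement Classical

variable {G : Type*} [Group G] [PiCtx G] [Fintype G]

namespace P13

/-- The standing hypotheses. -/
structure Ctx (S U W W1 W2 : Subgroup G) : Prop where
  hG : PGHyp G
  hS : Mx S
  hP : OfTypeP S U W W1 W2

variable {S U W W1 W2 : Subgroup G} (c : Ctx S U W W1 W2)
include c

local notation "P" => fittingHallOf S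
local notation "C" => FcomplKer S U ⊥
local notation "H" => fitH S U
local notation "p" => Nat.card W2
local notation "q" => Nat.card W1
local notation "u" => relIndex (FcomplKer S U ⊥) U
local notation "μ" => prTIred S W W1 W2
local notation "η" => cycEta ⊤ W W1 W2

namespace Ctx

theorem q_prime : (q).Prime := (FTtypeP_primes c.hG c.hS c.hP).1
theorem p_prime : (p).Prime := (FTtypeP_primes c.hG c.hS c.hP).2
theorem ne5 : FTtype S ≠ 5 := FTtype5_exclusion c.hG c.hS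
theorem ne1 : FTtype S ≠ 1 := FTtypeP_ne_one c.hG c.hS c.hP
theorem cyc : CycTI ⊤ W W1 W2 := FT_cyclicTI_hyp c.hG c.hS.1 c.hP
theorem prTI : PrimeTI S ⁅S, S⁆ W W1 W2 := FT_primeTI_hyp c.hG c.hS.1 c.hP
theorem prDade : PrimeDade S ⁅S, S⁆ P (FTsupp S) (FTsupp0 S) (supportR S) W W1 W2 :=
  FT_prDade_hypF c.hG c.hS c.hP
theorem q3 : 3 ≤ q := c.cyc.three_le_W1
theorem p3 : 3 ≤ p := c.cyc.three_le_W2
theorem p_ne_q : p ≠ q := fun h => by
  have := c.cyc.coprime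
  rw [h, Nat.coprime_self] at this
  have := c.q3; omega
theorem frobUW : FrobIn (U ⊔ W1) U W1 := Ptype_compl_Frobenius c.hG c.hS c.hP c.ne5

theorem type23 : FTtype S = 2 ∨ (FTtype S = 3 ∧ p < q) := by
  by_cases h2 : FTtype S = 2
  · exact Or.inl h2
  · obtain ⟨H0, h0⟩ := Ptype_Fcore_kernel_exists c.hG c.hS c.hP c.ne5
    obtain ⟨-, h, h3, -⟩ := FTtype34_structure c.hG c.hS c.hP h2 h0
    exact Or.inr ⟨h3, h⟩

theorem type2_of_lt (h : q < p) : FTtype S = 2 := c.type23.elim id fun h' => by omega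

theorem U_comm : IsMulCommutative U := by
  rcases c.type23 with h | ⟨h, -⟩
  · exact ((FTtype_eq_two_iff c.hG c.hS c.hP).mp h).U_comm
  · exact ((FTtype_eq_three_iff c.hG c.hS c.hP).mp h).U_comm

theorem P_facts : IsElementaryAbelian p P ∧ Nat.card P = p ^ q := by
  by_cases h2 : FTtype S = 2
  · obtain ⟨a, b, -⟩ := FTtypeII_prime_facts c.hG c.hS c.hP h2
    exact ⟨a, b⟩
  · obtain ⟨H0, h0⟩ := Ptype_Fcore_kernel_exists c.hG c.hS c.hP c.ne5
    obtain ⟨a, b, -⟩ := FTtype34_Fcore_kernel_trivial c.hG c.hS c.hP h2 h0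
    exact ⟨a, b⟩

theorem P_elem : IsElementaryAbelian p P := c.P_facts.1
theorem card_P : Nat.card P = p ^ q := c.P_facts.2
theorem P_ne : P ≠ ⊥ := mmax_Fcore_ne_bot c.hG c.hS

theorem ker : PtypeKer S U ⊥ := by
  obtain ⟨H0, h0⟩ := Ptype_Fcore_kernel_exists c.hG c.hS c.hP c.ne5
  have h1 := (Ptype_Fcore_factor_facts c.hG c.hS c.hP c.ne5 h0).2.2.2
  rw [def_Ptype_factor_prime c.hG c.hS c.hP c.ne5 h0 c.p_prime, ← c.card_P] at h1
  have h2 := card_mul_relIndex h0.lt.le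
  rw [h1] at h2
  have : H0 = ⊥ := card_eq_one.mp ((mul_eq_right₀ Nat.card_pos.ne').mp h2)
  rwa [this] at h0

theorem prime_eq : PtypePrime S ⊥ = p :=
  def_Ptype_factor_prime c.hG c.hS c.hP c.ne5 c.ker c.p_prime

theorem C_lt : C < U := lt_of_le_of_ne C_le fun h => c.ker.not_cent (h.ge.trans inf_le_right)

theorem C_normal : S ≤ normalizer (C : Set G) := by
  have := (Ptype_Fcore_extensions_normal c.hG c.hS c.hP c.ne5 c.ker).1
  rwa [bot_sup_eq] at this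

theorem H_normal : S ≤ normalizer (H : Set G) :=
  (Ptype_Fcore_extensions_normal c.hG c.hS c.hP c.ne5 c.ker).2.1

theorem H_le_der : H ≤ ⁅S, S⁆ := sup_le c.hP.H_le_der (C_le.trans c.hP.U_le_der)
theorem H_le : H ≤ S := c.H_le_der.trans (der_le_self S)
theorem H_eq : H = fittingOf S := by rw [fitH, FcomplKer_bot]; exact typeP_fitting_eq c.hP

theorem mem_H {x : G} : x ∈ H ↔ ∃ a ∈ P, ∃ b ∈ C, a * b = x :=
  mem_sup_iff_of_le_normalizer' (C_le.trans (P9.U_norm_H c.hP))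

theorem H_cent_P {x : G} (hx : x ∈ H) {y : G} (hy : y ∈ P) : x * y = y * x := by
  obtain ⟨a, ha, b, hb, rfl⟩ := c.mem_H.mp hx
  rw [mul_assoc, ← (mem_C.mp hb).2 y hy, ← mul_assoc, P12.comm_of_isMulCommutative c.P_elem.1 ha hy,
    mul_assoc]

theorem H_comm : ∀ x ∈ H, ∀ y ∈ H, x * y = y * x := by
  intro x hx y hy
  obtain ⟨a, ha, b, hb, rfl⟩ := c.mem_H.mp hy
  have h1 : x * b = b * x := by
    obtain ⟨a', ha', b', hb', rfl⟩ := c.mem_H.mp hx
    rw [mul_assoc, P12.comm_of_isMulCommutative c.U_comm (C_le hb') (C_le hb), ← mul_assoc,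
      (mem_C.mp hb).2 a' ha', mul_assoc]
  rw [← mul_assoc, c.H_cent_P hx ha, mul_assoc, h1, mul_assoc]

theorem card_H : Nat.card H = p ^ q * Nat.card C := by
  rw [fitH, sup_comm, card_sup_of_disjoint (C_le.trans (P9.U_norm_H c.hP)), c.card_P, mul_comm]
  exact eq_bot_iff.mpr fun x hx => c.hP.defHU.2.2.1.le ⟨hx.2, C_le hx.1⟩

theorem card_der : Nat.card ↥⁅S, S⁆ = p ^ q * Nat.card U := by rw [P9.card_der c.hP, c.card_P]

theorem card_S : Nat.card S = Nat.card ↥⁅S, S⁆ * q := IsComplIn_card c.hP.defM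

theorem index_H : (H).relIndex S = q * u := by
  have h := card_mul_relIndex c.H_le
  rw [c.card_S, c.card_der, card_U (S := S) (U := U), c.card_H] at h
  refine Nat.eq_of_mul_eq_mul_left (Nat.mul_pos (pow_pos c.p_prime.pos q) (Nat.card_pos (α := C))) ?_
  rw [h]; ring

theorem q_dvd : q ∣ u - 1 := by
  have f := c.frobUW.frobKer
  have := (f.frobQuo c.C_lt ((P9.UW1_le c.hP).trans c.C_normal)).index_dvd C_le le_rfl f.normal
  rwa [IsComplIn_relIndex c.frobUW.compl] at this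

theorem nonGalois_dvd (h : ¬ TypePGalois S U ⊥) :
    ∃ a, 1 < a ∧ a ∣ p - 1 ∧ a ∣ Nat.card U ∧ u ∣ a ^ (q - 1) := by
  obtain ⟨H1, h1⟩ := typeP_Galois_Pn c.hG c.hS c.hP c.ne5 c.ker h
  refine ⟨_, h1.one_lt, c.prime_eq ▸ h1.dvd, relIndex_dvd_card _ _, ?_⟩
  obtain ⟨f, hf⟩ := h1.embed
  have : NeZero ((centMod H1 ⊥).relIndex U) := ⟨relIndex_ne_zero' _ _⟩
  have e : u = f.ker.index := by rw [hf]; rfl
  rw [e, index_ker]
  refine (card_subgroup_dvd_card _).trans ?_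
  rw [Nat.card_congr Multiplicative.toAdd, Nat.card_fun, Nat.card_zmod, Nat.card_fin]

theorem Galois_dvd (h : TypePGalois S U ⊥) : u ∣ (p ^ q - 1) / (p - 1) :=
  c.prime_eq ▸ (typeP_Galois_P c.hG c.hS c.hP c.ne5 c.ker h).2.2.2

/-- PF (13.2)(c). -/
theorem u_le : u ≤ (p ^ q - 1) / (p - 1) := by
  have h := pow_le_geom c.p_prime.two_le c.q_prime.one_le
  by_cases hGal : TypePGalois S U ⊥
  · exact Nat.le_of_dvd (lt_of_lt_of_le (pow_pos c.p_prime.pos _) h) (c.Galois_dvd hGal)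
  · obtain ⟨a, h1, h2, -, h3⟩ := c.nonGalois_dvd hGal
    have := Nat.le_of_dvd (by have := c.p3; omega) h2
    exact (Nat.le_of_dvd (by positivity) h3).trans ((Nat.pow_le_pow_left (by omega) _).trans h)

theorem two_u_le : 2 * u + 1 ≤ p ^ q := by
  have h1 := c.u_le
  have h2 := geom_mul p q
  have h3 := c.p3
  have h4 : 0 < p ^ q := pow_pos c.p_prime.pos _
  have : u * 2 ≤ (p ^ q - 1) / (p - 1) * (p - 1) := Nat.mul_le_mul h1 (by omega)
  omega

/-- PF (13.2)(d). -/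
theorem coherent : Coherent S (calS S) (FTDade0 S) := by
  have := Ptype_core_coherence c.hG c.hS c.hP c.ne5 c.ker
  rwa [bot_sup_eq, show ⁅C, C⁆ = ⊥ from le_bot_iff.mp
    ((commutator_mono C_le C_le).trans (der_eq_bot_of_comm c.U_comm).le)] at this

theorem H_supp : sharp H ⊆ FTsupp0 S := by
  rw [c.H_eq]; exact (Fitting_sub_FTsupp c.hG c.hS).trans (FTsupp_sub0 S)

theorem exists_P : ∃ x ∈ P, x ≠ 1 := exists_ne_one c.P_ne

/-- PF (13.2)(e). -/
theorem TI0 : NormedTI (FTsupp0 S) ⊤ S := by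
  refine (Dade_normedTI_P (FT_Dade0_hyp c.hG c.hS)).mpr ⟨?_, fun a ha => supportR_of_cent_le ?_⟩
  · obtain ⟨x, hx, h1⟩ := c.exists_P
    exact ⟨x, c.H_supp (mem_sharp.mpr ⟨mem_sup_left hx, h1⟩)⟩
  · by_contra hC
    obtain ⟨-, L, hL, -, -, -, -, -, ⟨h1, h2⟩, h3, h4⟩ := FTsupport_facts c.hG c.hS ha hC
    have := (FTtype_range L).1
    by_cases hL2 : FTtype L = 2
    · exact c.ne1 (FT_Frobenius_type1 c.hG c.hS (h4 hL2))
    · rw [FTsupp_Frobenius c.hG hL (FTtype1_Frobenius c.hG hL (by omega))] at h1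
      exact h2 (Fcore_sub_FTsupp1 c.hG hL h1)

theorem Dade_eq {φ : G → ℂ} (hφ : φ ∈ CFon S (FTsupp0 S)) : FTDade0 S φ = cfInd S ⊤ φ :=
  Dade_Ind (FT_Dade0_hyp c.hG c.hS) c.TI0 hφ

theorem TIH : NormedTI (sharp H) ⊤ S := by
  rw [c.H_eq]; exact (compl_of_typeII_IV c.hG c.hS c.hP c.ne5).F_TI

theorem TIP : NormedTI (sharp P) ⊤ S := by
  obtain ⟨x, hx, h1⟩ := c.exists_P
  exact c.TIH.mono (sharp_mono le_sup_left) ⟨x, mem_sharp.mpr ⟨hx, h1⟩⟩
    (sharp_conj (Fcore_normal S))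

theorem S_conj : ConjCSubset (calS S) (calS S) := ConjCSubset.refl fun _ h => cfAut_seqInd _ h

theorem S_not_real : ∀ χ ∈ calS S, cfConjC χ ≠ χ := fun _ h =>
  seqInd_conjC_neq (der_le_self S) (P9.der_normal c.hP) c.hP.H_le_der (mFT_odd c.hG c.hS.1) h

theorem S_ortho {φ ψ : G → ℂ} (h : φ ∈ calS S) (h' : ψ ∈ calS S) (hne : φ ≠ ψ) :
    cfdot S φ ψ = 0 := seqInd_ortho (der_le_self S) (P9.der_normal c.hP) h h' hne

theorem mu_mem {j : Irr W2} (hj : j ≠ 1) : μ j ∈ calS S :=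
  mem_seqIndD.mpr ⟨_, c.prTI.prTIres_irr j, bot_le, c.prDade.cfker_prTIres hj,
    (c.prTI.cfInd_prTIres j).symm⟩

theorem red_cases {ζ : G → ℂ} (h : ζ ∈ calS S) : IsIrr S ζ ∨ ∃ j, j ≠ 1 ∧ ζ = μ j :=
  (em _).imp id fun hi => ((typeP_reducible_core_Ind c.hG c.hS c.hP c.ne5 c.ker).2 ζ h hi).2

theorem mem_S1 {ζ ξ : G → ℂ} (h : ζ ∈ calS S) (hξ : IsLin H ξ) (e : ζ = cfInd H S ξ) :
    ζ ∈ calS1 S U :=
  (mem_seqIndD_iff_cfker c.H_le (Fcore_normal S) (le_norm_bot S)).mpr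
    ⟨mem_seqIndT.mpr ⟨ξ, hξ.isIrr, e⟩, bot_le,
      ((mem_seqIndD_iff_cfker (der_le_self S) (Fcore_normal S) (le_norm_bot S)).mp h).2.2⟩

/-- PF (13.3)(a). -/
theorem mu_mem1 {j : Irr W2} (hj : j ≠ 1) : μ j ∈ calS1 S U := by
  obtain ⟨⟨-, -, ξ, hξ, e⟩, -⟩ := (typeP_reducible_core_Ind c.hG c.hS c.hP c.ne5 c.ker).2 _
    (c.mu_mem hj) (c.prTI.prTIred_not_irr j)
  exact c.mem_S1 (c.mu_mem hj) hξ e

theorem S1_one {ζ : G → ℂ} (h : ζ ∈ calS1 S U) : ζ 1 = q * u := by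
  obtain ⟨θ, hθ, -, -, rfl⟩ := mem_seqIndD.mp h
  rw [cfInd_one c.H_le, (hθ.isLin_of_comm c.H_comm).one, c.index_H]; simp

theorem mu0_one (i : Irr W1) {j : Irr W2} (hj : j ≠ 1) : prTIirr S W W1 W2 i j 1 = u := by
  have := c.S1_one (c.mu_mem1 hj)
  rw [c.prTI.prTIred_1 i j] at this
  exact mul_left_cancel₀ (card_ne_zero W1) this

/-- PF (13.3)(c). -/
theorem sign (j : Irr W2) : prTIsign S W W1 W2 j = 1 := by
  by_cases hj : j = 1
  · rw [hj]; exact c.prTI.prTIsign0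
  obtain ⟨n, hn⟩ := c.prTI.prTIirr1_mod 1 j
  rw [c.mu0_one 1 hj] at hn
  refine (prTIsign_cases j).resolve_right fun h => ?_
  rw [h] at hn
  have hn' : (u : ℤ) = -1 + n * q := by exact_mod_cast hn
  obtain ⟨k, hk⟩ := c.q_dvd
  have h1 := u_pos (S := S) (U := U)
  have hk' : (u : ℤ) = 1 + q * k := by
    have : u = 1 + q * k := by omega
    exact_mod_cast this
  have : (q : ℤ) ∣ 2 := ⟨n - k, by linarith⟩
  have := Int.le_of_dvd (by norm_num) this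
  have := c.q3
  omega

theorem S1_sub {ζ : G → ℂ} (h : ζ ∈ calS1 S U) : ζ ∈ zspan (calS S) := by
  obtain ⟨θ, hθ, -, hk, rfl⟩ := mem_seqIndD.mp h
  have hc := hθ.isChar.cfInd c.H_le_der
  rw [← cfInd_cfInd c.H_le_der (der_le_self S), cfun_sum_constt hc.mem_CF, map_sum]
  refine Submodule.sum_mem _ fun φ hφ => ?_
  obtain ⟨n, hn⟩ := hc.cfdot_nat φ.isChar
  rw [map_smul, hn]
  refine natCast_smul_mem (subset_zspan (mem_seqIndD.mpr ⟨φ, φ.irr, bot_le, fun hφk => hk ?_, rfl⟩)) n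
  refine (sub_cfker_constt_irr c.H_le_der le_sup_left ((der_le_self S).trans (Fcore_normal S))
    φ.irr hθ ?_).mpr hφk
  have := mem_irrConstt.mp hφ
  rw [cfdot_cfInd_left c.H_le_der φ.mem_CF] at this
  exact fun e => this (cfdot_symm_zero e)

end Ctx

/-- PF (13.3)(b). -/
theorem Ctx.lam_cases : (∃ l, HasLam S U l) ∨
    (TypePGalois S U ⊥ ∧ C = ⊥ ∧ u = (p ^ q - 1) / (p - 1)) := by
  rcases typeP_reducible_core_cases c.hG c.hS c.hP c.ne5 c.ker with ⟨ζ, h1, h2, -, ξ, h3, h4⟩ |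
    ⟨h1, h2, -, h3, -⟩
  · have := seqIndDS le_rfl bot_le h2
    exact Or.inl ⟨ζ, h1, this, c.mem_S1 this h3 h4⟩
  · have hC : C = ⊥ := by
      rw [eq_bot_iff]
      intro v hv
      by_contra hv1
      obtain ⟨x, hx, hx1⟩ := c.exists_P
      exact hx1 (h2 v hv.1 hv1 x hx (hv.2.2 x hx))
    refine Or.inr ⟨h1, hC, ?_⟩
    rw [hC, relIndex_bot_left, h3, c.prime_eq]

omit c in
/-- The coherent extension of PF (13.3)(c). -/
structure RedCoh (S W W1 W2 : Subgroup G) (τ1 : CFMap G) (ε : ℤ) (π : Irr W2 → Irr W2) : Prop where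
  coh : CoherentWith S (calS S) (FTDade0 S) τ1
  sign : ε = 1 ∨ ε = -1
  invol : ∀ j, π (π j) = j
  one : π 1 = 1
  red : ∀ j, j ≠ 1 → τ1 (prTIred S W W1 W2 j) = (ε : ℂ) • ∑ i, cycEta ⊤ W W1 W2 i (π j)

theorem Ctx.mu_one {j : Irr W2} (hj : j ≠ 1) : μ j 1 = q * u := c.S1_one (c.mu_mem1 hj)

theorem Ctx.exists_redCoh : ∃ τ1 ε π, RedCoh S W W1 W2 τ1 ε π := by
  obtain ⟨k, hk⟩ := exists_irr_ne_one c.hP.W2_ne c.hP.W2_cyclic
  by_cases hirr : ∃ χ ∈ calS S, IsIrr S χ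
  · obtain ⟨τ1, hτ⟩ := c.coherent
    have key : ∀ j, j ≠ 1 → τ1 (μ j) = τ1 (μ k) + (∑ i, η i j - ∑ i, η i k) := by
      intro j hj
      have e : μ j 1 = μ k 1 := by rw [c.mu_one hj, c.mu_one hk]
      have := c.prDade.prDade_sub_TIred hj hk e
      rw [c.sign, ← hτ.agree _ (sub_mem (subset_zspan (c.mu_mem hj)) (subset_zspan (c.mu_mem hk)))
        (by simp [e]), map_sub] at this
      simp only [Int.cast_one, one_smul] at this
      rw [← this]; abel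
    rcases coherent_prDade_TIred c.prDade c.S_conj c.S_not_real hirr (c.mu_mem hk) hτ with
      h | ⟨h, h'⟩
    · refine ⟨τ1, 1, id, hτ, Or.inl rfl, fun _ => rfl, rfl, fun j hj => ?_⟩
      rw [key j hj, h, c.sign]; simp
    · refine ⟨τ1, -1, Irr.conj, hτ, Or.inr rfl, Irr.conj_conj, Irr.aut_one _, fun j hj => ?_⟩
      rcases h' j (c.mu_mem hj) (by rw [c.mu_one hj, c.mu_one hk]) with rfl | rfl
      · rw [h, c.sign]; simp
      · rw [key _ hj, h, c.sign, Irr.conj_conj]; simp; abel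
  · obtain ⟨τ1, h1, h2⟩ := c.prDade.uniform_prTIred_coherent hk
    refine ⟨τ1, 1, id, subset_coherent_with h2 fun ζ hζ => ?_, Or.inl rfl, fun _ => rfl, rfl,
      fun j _ => by rw [h1, c.sign]; rfl⟩
    obtain ⟨j, hj, rfl⟩ := (c.red_cases hζ).resolve_left fun h => hirr ⟨ζ, hζ, h⟩
    exact mem_uniformPrTIred.mpr ⟨j, hj, by rw [c.mu_one hj, c.mu_one hk], rfl⟩

variable {τ1 : CFMap G} {ε : ℤ} {π : Irr W2 → Irr W2} (r : RedCoh S W W1 W2 τ1 ε π)
include r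

omit c in
theorem RedCoh.inj {j k : Irr W2} : π j = π k ↔ j = k :=
  ⟨fun h => by rw [← r.invol j, h, r.invol], fun h => by rw [h]⟩

omit c in
theorem RedCoh.ne_one {j : Irr W2} (hj : j ≠ 1) : π j ≠ 1 := by rwa [← r.one, Ne, r.inj]

omit c in
theorem RedCoh.sq : (ε : ℂ) * ε = 1 := by rcases r.sign with h | h <;> simp [h]

theorem RedCoh.irr_ortho {χ : G → ℂ} (hχ : χ ∈ calS S) (hi : IsIrr S χ) (i : Irr W1) (j : Irr W2) :
    cfdot ⊤ (τ1 χ) (η i j) = 0 :=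
  prDade_coherent_ortho_cycEta c.prDade c.S_conj c.S_not_real r.coh hχ hi i j

theorem RedCoh.dot_red {j : Irr W2} (hj : j ≠ 1) (i : Irr W1) (k : Irr W2) :
    cfdot ⊤ (τ1 (μ j)) (η i k) = if π j = k then (ε : ℂ) else 0 := by
  rw [r.red j hj, cfdot_smul_left, cfdot_sum_left, Finset.sum_eq_single i, c.cyc.cfdot_cycEta]
  · simp
  · intro i' _ h; rw [c.cyc.cfdot_cycEta, if_neg fun e => h e.1]
  · simp

theorem RedCoh.dot_zero {φ : G → ℂ} (hφ : φ ∈ zspan (calS S)) (i : Irr W1) :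
    cfdot ⊤ (τ1 φ) (η i 1) = 0 := by
  obtain ⟨a, rfl⟩ := mem_zspan_iff.mp hφ
  rw [map_sum, cfdot_sum_left]
  refine Finset.sum_eq_zero fun ξ hξ => ?_
  rw [map_smul, cfdot_smul_left]
  rcases c.red_cases hξ with h | ⟨j, hj, rfl⟩
  · rw [r.irr_ortho c hξ h, mul_zero]
  · rw [r.dot_red c hj, if_neg (r.ne_one hj), mul_zero]

theorem RedCoh.dot_eta {φ : G → ℂ} (hφ : φ ∈ zspan (calS S)) (i : Irr W1) {j : Irr W2}
    (hj : j ≠ 1) : cfdot ⊤ (τ1 φ) (η i (π j)) = ε * cfdot S φ (μ j) / q := by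
  obtain ⟨a, rfl⟩ := mem_zspan_iff.mp hφ
  rw [map_sum, cfdot_sum_left, cfdot_sum_left, Finset.mul_sum, Finset.sum_div]
  refine Finset.sum_congr rfl fun ξ hξ => ?_
  rw [map_smul, cfdot_smul_left, cfdot_smul_left]
  rcases c.red_cases hξ with h | ⟨l, hl, rfl⟩
  · rw [r.irr_ortho c hξ h, c.S_ortho hξ (c.mu_mem hj) fun e => c.prTI.prTIred_not_irr j (e ▸ h)]
    simp
  · rw [r.dot_red c hl, c.prTI.cfdot_prTIred]
    by_cases e : l = j
    · rw [if_pos (r.inj.mpr e), if_pos e]; field_simp [card_ne_zero W1]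
    · rw [if_neg (mt r.inj.mp e), if_neg e]; simp

end P13

end CfsgLib.FT.PG
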