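import Mathlib
import Cfsg.Agent.Lib.PG.PF13b
import Cfsg.Agent.Lib.FT.PF13N
import Cfsg.Agent.Lib.FT.PF13c

/-! Peterfalvi, section 13, (13.4) and (13.10) to (13.17). -/

set_option autoImplicit false
set_option linter.unusedSectionVars false

namespace CfsgLib.FT.PG.P13
export CfsgLib.FT.P13 (Ineq cube_le m7 m8 Ineq.not_big sq_lt_three_pow)
export CfsgLib.FT.P13 (Ineq.three le_two_pow Ineq.not_small geom_odd geom_modEq prime_dvd_geom)
export CfsgLib.FT.P13 (dvd_geom_modEq coprime_geom sum_split one_notMem_cs cs_of_mem_zpowers card_sharp)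
export CfsgLib.FT.P13 (sum_cs sum_top_eq dirr_one_le)
end CfsgLib.FT.PG.P13

set_option linter.unusedSectionVars false

namespace CfsgLib.FT.PG

open Cfsg Subgroup P12
open scoped ComplexConjugate commutatorElement Classical

variable {G : Type*} [Group G] [PiCtx G] [Fintype G]

namespace P13

variable {S U W W1 W2 : Subgroup G} (c : Ctx S U W W1 W2)
include c

local notation "P" => fittingHallOf S
local notation "C" => FcomplKer S U ⊥
local notation "H" => fitH S U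
local notation "p" => Nat.card W2
local notation "q" => Nat.card W1
local notation "u" => relIndex (FcomplKer S U ⊥) U
local notation "μ" => prTIred S W W1 W2
local notation "η" => cycEta ⊤ W W1 W2

theorem Ctx.exists_pair : ∃ T V, Ctx T V W W2 W1 ∧ TypePPair S T W W1 W2 := by
  obtain ⟨T, h, V, hV⟩ := FTtypeP_pair_witness c.hG c.hS c.hP
  exact ⟨T, V, ⟨c.hG, h.maxT, hV⟩, h⟩

theorem Ctx.not_dvd {T V : Subgroup G} (d : Ctx T V W W2 W1) : ¬ p ^ 2 ∣ Nat.card T := by
  rw [d.card_S, d.card_der, sq]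
  intro h
  have h1 := Nat.dvd_of_mul_dvd_mul_right c.p_prime.pos h
  rcases (Nat.Prime.dvd_mul c.p_prime).mp h1 with h2 | h2
  · exact c.p_ne_q ((Nat.prime_dvd_prime_iff_eq c.p_prime c.q_prime).mp
      (c.p_prime.dvd_of_dvd_pow h2))
  · exact not_dvd_of_coprime c.p_prime (P9.coprime_W1_U d.hP) dvd_rfl h2

theorem Ctx.disjoint_cs {T V : Subgroup G} (d : Ctx T V W W2 W1) :
    Disjoint (classSupport (sharp H) ⊤) (classSupport (sharp (fitH T V)) ⊤) := by
  rw [Set.disjoint_left]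
  rintro _ ⟨x, hx, g, -, rfl⟩ ⟨y, hy, k, -, e⟩
  suffices hle : (P).map (MulAut.conj (k⁻¹ * g)).toMonoidHom ≤ T by
    refine c.not_dvd d (dvd_trans ?_ (card_dvd_of_le hle))
    rw [card_map_conj, c.card_P]; exact pow_dvd_pow _ c.q_prime.two_le
  refine le_trans ?_ (d.TIH.cent_le hy)
  · rintro _ ⟨z, hz, rfl⟩
    refine ⟨mem_top _, mem_cent1.mpr ?_⟩
    have e' : y = k⁻¹ * g * x * (k⁻¹ * g)⁻¹ := by
      rw [mul_assoc k⁻¹, mul_inv_rev, inv_inv, ← mul_assoc, mul_assoc k⁻¹, e]; group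
    have := c.H_cent_P hx.1 hz
    rw [e']
    simp only [MulEquiv.toMonoidHom_eq_coe, MonoidHom.coe_coe, MulAut.conj_apply]
    calc _ = k⁻¹ * g * (x * z) * (k⁻¹ * g)⁻¹ := by group
      _ = _ := by rw [this]; group

/-- PF (13.4). -/
theorem Ctx.not_both {T V : Subgroup G} (d : Ctx T V W W2 W1) {l m : G → ℂ} (hl : HasLam S U l)
    (hm : HasLam T V m) : False := by
  obtain ⟨τ1, ε, π, r⟩ := c.exists_redCoh
  obtain ⟨τ2, ε', π', r'⟩ := d.exists_redCoh
  have key : ∀ φ ∈ calS1 S U, ∀ ψ ∈ calS1 S U, ∀ φ' ∈ calS1 T V, ∀ ψ' ∈ calS1 T V,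
      cfdot ⊤ (τ1 φ - τ1 ψ) (τ2 φ' - τ2 ψ') = 0 := by
    intro φ hφ ψ hψ φ' hφ' ψ' hψ'
    rw [r.sub_eq c hφ hψ, r'.sub_eq d hφ' hψ']
    refine cfdot_eq_zero_of_supp fun x _ => ?_
    by_cases hx : x ∈ classSupport (sharp H) ⊤
    · exact Or.inr (CFon_zero (cfInd_mem_CFon_classSupport (d.S1_sub_on hφ' hψ').2)
        (Set.disjoint_left.mp (c.disjoint_cs d) hx))
    · exact Or.inl (CFon_zero (cfInd_mem_CFon_classSupport (c.S1_sub_on hφ hψ).2) hx)
  obtain ⟨R, hR, -⟩ := prDade_subcoherent c.prDade c.S_conj c.S_not_real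
  obtain ⟨R', hR', -⟩ := prDade_subcoherent d.prDade d.S_conj d.S_not_real
  obtain ⟨a1, a2, a3, a4⟩ := coherent_seqInd_conjCirr hR r.coh hl.2.1 hl.1
  obtain ⟨b1, b2, b3, b4⟩ := coherent_seqInd_conjCirr hR' r'.coh hm.2.1 hm.1
  have o := orthonormal_vchar_diff_ortho a1 a2 b1 b2 a3 b3
    (key _ hl.2.2 _ (cfAut_seqInd _ hl.2.2) _ hm.2.2 _ (cfAut_seqInd _ hm.2.2)) a4 b4
  obtain ⟨j, hj⟩ := exists_irr_ne_one c.hP.W2_ne c.hP.W2_cyclic
  obtain ⟨i, hi⟩ := exists_irr_ne_one c.hP.W1_ne c.hP.W1_cyclic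
  have e := key _ hl.2.2 _ (c.mu_mem1 hj) _ hm.2.2 _ (d.mu_mem1 hi)
  have e1 : cfdot ⊤ (τ1 l) (τ2 (prTIred T W W2 W1 i)) = 0 := by
    rw [r'.red i hi, cfdot_intCast_smul_right, cfdot_sum_right, Finset.sum_eq_zero, mul_zero]
    intro k _
    rw [c.cyc.cycEta_comm]; exact r.irr_ortho c hl.2.1 hl.1 _ _
  have e2 : cfdot ⊤ (τ1 (μ j)) (τ2 m) = 0 := by
    rw [r.red j hj, cfdot_smul_left, cfdot_sum_left, Finset.sum_eq_zero, mul_zero]
    intro k _
    rw [← c.cyc.cycEta_comm]; exact cfdot_symm_zero (r'.irr_ortho d hm.2.1 hm.1 _ _)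
  have e3 : cfdot ⊤ (τ1 (μ j)) (τ2 (prTIred T W W2 W1 i)) = ε' * ε := by
    rw [r'.red i hi, cfdot_intCast_smul_right, cfdot_sum_right, Finset.sum_eq_single (π j),
      c.cyc.cycEta_comm, r.dot_red c hj, if_pos rfl]
    · intro k _ hk
      rw [c.cyc.cycEta_comm, r.dot_red c hj, if_neg hk.symm]
    · simp
  rw [cfdot_sub_left, cfdot_sub_right, cfdot_sub_right, o, e1, e2, e3] at e
  rcases r.sign with h | h <;> rcases r'.sign with h' | h' <;> simp [h, h'] at e

/-- PF (13.10). -/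
theorem Ctx.ineq {l : G → ℂ} (hl : HasLam S U l) : Ineq p q u (Nat.card C) := by
  obtain ⟨T, V, d, -⟩ := c.exists_pair
  obtain ⟨τ1, ε, π, r⟩ := c.exists_redCoh
  obtain ⟨-, hD, hv⟩ := d.lam_cases.resolve_left fun ⟨m, hm⟩ => c.not_both d hl hm
  obtain ⟨i, hi⟩ := exists_irr_ne_one c.hP.W1_ne c.hP.W1_cyclic
  set v := (FcomplKer T V ⊥).relIndex V with hvd
  have hA := one_notMem_cs (K := H) (L := ⊤)
  have hB := one_notMem_cs (K := fitH T V) (L := ⊤)
  have hd := c.disjoint_cs d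
  set G0 := (insert 1 (classSupport (sharp H) ⊤ ∪ classSupport (sharp (fitH T V)) ⊤))ᶜ with hG0
  have h9 := r.card_le_sum c hl hi (G0 := G0) (fun x hx y hy => by
    have hx1 : x ≠ 1 := fun e => hx (Or.inl e)
    have hxy : x ∈ zpowers y := hy ▸ mem_zpowers x
    rintro (rfl | h | h)
    · exact hx1 (by simpa using hxy)
    · exact hx (Or.inr (Or.inl (cs_of_mem_zpowers h hxy hx1)))
    · exact hx (Or.inr (Or.inr (cs_of_mem_zpowers h hxy hx1)))) fun x hx h => hx (Or.inr (Or.inl h))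
  have hZ := r.coh.virt _ (subset_zspan hl.2.1)
  have s1 := sum_split hA hB hd fun x => ‖τ1 l x‖ ^ 2
  have s2 := sum_split hA hB hd fun x => ‖η i 1 x‖ ^ 2
  have s3 := sum_split hA hB hd fun x => ‖cf1 (⊤ : Subgroup G) x‖ ^ 2
  rw [sum_top_eq (by rw [r.coh.toZIsom.cfnorm (subset_zspan hl.2.1), hl.1.cfnorm]),
    sum_cs c.TIH (ZIrr_mem_CF hZ), ← hG0] at s1
  rw [sum_top_eq (c.cyc.cfnorm_cycEta i 1), sum_cs c.TIH (c.cyc.cycEta_mem_CF i 1),
    sum_cs d.TIH (c.cyc.cycEta_mem_CF i 1), ← hG0] at s2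
  rw [sum_top_eq (isIrr_cf1 ⊤).cfnorm, sum_cs c.TIH cf1_mem_CF, sum_cs d.TIH cf1_mem_CF, ← hG0,
    cf1_top] at s3
  simp only [Pi.one_apply, norm_one, one_pow, Finset.sum_const, card_elems_set, nsmul_eq_mul,
    mul_one, card_sharp] at s3
  have b1 := r.sum_lam c hl
  have b2 := c.sum_eta10 (i := i)
  have b3 := d.sum_eta01 hi
  rw [c.cyc.cycEta_comm, ← hvd] at b3
  have b4 := dirr_one_le (c.cyc.cycEta_dirr i 1)
  have b5 : 0 ≤ ∑ x ∈ elems (classSupport (sharp (fitH T V)) ⊤), ‖τ1 l x‖ ^ 2 := by positivity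
  have b6 : 0 ≤ ‖τ1 l 1‖ ^ 2 := by positivity
  have iS : (S.index : ℝ) * Nat.card S = Nat.card G := by exact_mod_cast S.index_mul_card
  have iT : (T.index : ℝ) * Nat.card T = Nat.card G := by exact_mod_cast T.index_mul_card
  have iS0 : (0 : ℝ) < S.index := by exact_mod_cast Nat.pos_of_ne_zero S.index_ne_zero_of_finite
  have iT0 : (0 : ℝ) < T.index := by exact_mod_cast Nat.pos_of_ne_zero T.index_ne_zero_of_finite
  have main : (T.index : ℝ) * (Nat.card ↥⁅T, T⁆ - v ^ 2 - Nat.card (fitH T V) + 1) ≤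
      S.index * (q * u) ^ 2 := by
    nlinarith [mul_le_mul_of_nonneg_left b1 iS0.le, mul_le_mul_of_nonneg_left b2 iS0.le,
      mul_le_mul_of_nonneg_left b3 iT0.le]
  have hvq : (v : ℝ) * (q - 1) = q ^ p - 1 := by
    have := geom_mul q p
    rw [← hv] at this
    have h2 := congrArg (Nat.cast : ℕ → ℝ) this
    push_cast [Nat.cast_sub c.q_prime.one_le, Nat.cast_sub (Nat.one_le_pow p q c.q_prime.pos)] at h2
    exact h2
  refine ⟨v, hvq, ?_⟩
  have cV : Nat.card V = v := by rw [Ctx.card_U (S := T) (U := V), hD, card_bot, one_mul, ← hD]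
  have cT : (Nat.card T : ℝ) = q ^ p * v * p := by rw [d.card_S, d.card_der, cV]; push_cast; ring
  have cT' : (Nat.card ↥⁅T, T⁆ : ℝ) = q ^ p * v := by rw [d.card_der, cV]; push_cast; ring
  have cK : (Nat.card (fitH T V) : ℝ) = q ^ p := by rw [d.card_H, hD, card_bot]; simp
  have cS : (Nat.card S : ℝ) = p ^ (q - 1) * p * (Nat.card C * u) * q := by
    rw [c.card_S, c.card_der, Ctx.card_U (S := S) (U := U), ← pow_succ,
      Nat.sub_add_cancel c.q_prime.one_le]; push_cast; ring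
  rw [cT', cK] at main
  have hv0 : (0 : ℝ) < v := by exact_mod_cast Ctx.u_pos (S := T) (U := V)
  have hu0 : (0 : ℝ) < u := by exact_mod_cast Ctx.u_pos (S := S) (U := U)
  have hp0 := card_pos_real W2
  have hq0 := card_pos_real W1
  have e : (q : ℝ) ^ p * v - v ^ 2 - q ^ p + 1 = v * (q ^ p - v - q + 1) := by linear_combination hvq
  rw [e] at main
  have m2 := mul_le_mul_of_nonneg_left main (card_pos_real S).le
  rw [← mul_assoc (Nat.card S : ℝ) S.index, mul_comm _ (S.index : ℝ), iS, ← iT, cT, cS] at m2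
  refine le_of_mul_le_mul_left (a := (T.index : ℝ) * v * p * u * q) ?_
    (mul_pos (mul_pos (mul_pos (mul_pos iT0 hv0) hp0) hu0) hq0)
  nlinarith

theorem Ctx.odd_p : Odd p := c.hS.odd c.hG (c.hP.W2_le_H.trans (Fcore_le S))

theorem Ctx.odd_q : Odd q := c.hS.odd c.hG (le_sup_right.trans (P9.UW1_le c.hP))

theorem Ctx.five_le (h : q = 3) : 5 ≤ p := by
  have := c.p_ne_q; have := c.p3; obtain ⟨k, hk⟩ := c.odd_p; omega

theorem Ctx.q_cases : q = 3 ∨ 5 ≤ q := by
  have := c.q3; obtain ⟨k, hk⟩ := c.odd_q; omega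

theorem Ctx.p_coprime_U : (p).Coprime (Nat.card U) := by
  have := P9.coprime_U_H c.hP
  rw [c.card_P] at this
  exact (this.coprime_dvd_right (dvd_pow_self _ c.q_prime.ne_zero)).symm

/-- PF (13.12). -/
theorem Ctx.C_eq : C = ⊥ := by
  by_contra hC
  obtain ⟨l, hl⟩ := c.lam_cases.resolve_right fun h => hC h.2.1
  have hI := c.ineq hl
  have h1 := odd_semiregular_card_lt (P9.W1_norm_C c.hP c.ker) (fun x hx hx1 =>
    eq_bot_iff.mpr fun y hy => (P9.U_fpf c.hP x hx hx1).le ⟨Ctx.C_le hy.1, hy.2⟩) hC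
    (c.hS.odd c.hG (Ctx.C_le.trans (le_sup_left.trans (P9.UW1_le c.hP)))) c.odd_q
  have h2 := c.u_le
  have h3 := geom_mul p q
  rcases c.q_cases with hq | hq
  · have h5 := c.five_le hq
    rw [hq] at hI h1 h2
    have h4 := hI.three h5 Nat.card_pos
    rw [geom_eq c.p_prime.two_le] at h2
    simp only [Finset.sum_range_succ, Finset.range_zero, Finset.sum_empty] at h2
    obtain ⟨k, hk⟩ : ∃ k, p ^ 2 = k + 1 := ⟨p ^ 2 - 1, by have := Nat.one_le_pow 2 p (by omega); omega⟩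
    rw [hk, Nat.add_sub_cancel] at h4
    have hp7 : p ≤ 7 := by nlinarith
    have hcp : (p).Coprime (Nat.card C) := c.p_coprime_U.coprime_dvd_right (card_dvd_of_le Ctx.C_le)
    have hp5 : p = 5 := by
      by_contra h
      have h7 : p = 7 := by obtain ⟨m, hm⟩ := c.odd_p; omega
      rw [h7] at hk h2 hcp
      obtain rfl : k = 48 := by omega
      have : Nat.card C = 7 := by omega
      rw [this] at hcp; norm_num at hcp
    rw [hp5] at hk h2
    obtain rfl : k = 24 := by omega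
    have hc7 : Nat.card C = 7 := by omega
    have hu : u = 31 := by
      by_cases hGal : TypePGalois S U ⊥
      · have := c.Galois_dvd hGal
        rw [hp5, hq] at this
        have := (Nat.dvd_prime (by norm_num : Nat.Prime 31)).mp this
        omega
      · obtain ⟨a, -, h6, -, h7⟩ := c.nonGalois_dvd hGal
        rw [hp5] at h6
        rw [hq] at h7
        have h8 := Nat.le_of_dvd (by norm_num) h6
        have := Nat.le_of_dvd (by have := Nat.pos_of_dvd_of_pos h6 (by norm_num); positivity) h7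
        have := Nat.pow_le_pow_left h8 (3 - 1)
        omega
    have hle := Fcore_max c.H_le c.H_normal (c.H_eq ▸ fittingOf_isNilpotent' S) (by
      rw [c.card_H, c.index_H, hp5, hq, hc7, hu]; norm_num)
    exact hC (eq_bot_iff.mpr fun x hx => c.hP.defHU.2.2.1.le ⟨hle (mem_sup_right hx), hx.1⟩)
  · refine hI.not_big c.p3 hq c.odd_p c.odd_q Nat.card_pos ?_
    rw [← h3, mul_assoc]
    exact Nat.mul_le_mul (by omega) (Nat.mul_le_mul_right _ h2)

theorem Ctx.reg : U ⊓ centralizer (P : Set G) = ⊥ := by rw [← FcomplKer_bot]; exact c.C_eq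

theorem Ctx.u_eq : u = Nat.card U := by rw [c.C_eq, relIndex_bot_left]

theorem Ctx.H_eq_P : H = P := by rw [fitH, c.C_eq, sup_bot_eq]

theorem Ctx.ineq1 {l : G → ℂ} (hl : HasLam S U l) : Ineq p q (Nat.card U) 1 := by
  have := c.ineq hl
  rwa [c.u_eq, c.C_eq, card_bot] at this

/-- PF (13.13). -/
theorem Ctx.nonGalois (h : ¬ TypePGalois S U ⊥) : q = 3 ∧ Nat.card U = ((p - 1) / 2) ^ 2 := by
  obtain ⟨l, hl⟩ := c.lam_cases.resolve_right fun h' => h h'.1
  have hI := c.ineq1 hl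
  obtain ⟨a, -, h1, h2, h3⟩ := c.nonGalois_dvd h
  rw [c.u_eq] at h3
  obtain ⟨b, hb⟩ := c.odd_p
  have hp3 := c.p3
  rw [show p - 1 = 2 * b by omega] at h1 ⊢
  have h4 : a ∣ b := (Nat.coprime_two_right.mpr ((c.hS.odd c.hG
    (le_sup_left.trans (P9.UW1_le c.hP))).of_dvd_nat h2)).dvd_of_dvd_mul_left h1
  have h5 := h3.trans (pow_dvd_pow_of_dvd h4 _)
  have hb0 : 0 < b := by omega
  rcases c.q_cases with hq | hq
  · refine ⟨hq, ?_⟩
    rw [hq] at hI h5
    have h6 := hI.three (c.five_le hq) one_pos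
    obtain ⟨k, hk⟩ := h5
    rw [Nat.mul_div_cancel_left _ two_pos, show b ^ 2 = b ^ (3 - 1) from rfl, hk]
    have h7 : p ^ 2 - 1 = 4 * b ^ (3 - 1) + 4 * b := by
      rw [hb]; simp only [Nat.add_one_sub_one]; ring_nf; omega
    rw [h7, hk] at h6
    rcases k with _ | _ | k
    · simp at hk; omega
    · simp
    · nlinarith [Nat.card_pos (α := U)]
  · exact (hI.not_small hp3 hq (b := b) (by omega) (Nat.le_of_dvd (by positivity) h5)).elim

theorem Ctx.q_dvd' : q ∣ Nat.card U - 1 := c.u_eq ▸ c.q_dvd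

/-- PF (13.15). -/
theorem Ctx.Galois_card (h : TypePGalois S U ⊥) :
    (p ≡ 1 [MOD q] ∧ Nat.card U * q = (p ^ q - 1) / (p - 1)) ∨
      (¬ p ≡ 1 [MOD q] ∧ Nat.card U = (p ^ q - 1) / (p - 1)) := by
  obtain ⟨x, hx⟩ := c.Galois_dvd h
  rw [c.u_eq] at hx
  have hx' := hx
  rw [geom_eq c.p_prime.two_le] at hx'
  have hodd : Odd x := (geom_odd c.odd_p c.odd_q).of_dvd_nat (Dvd.intro_left _ hx'.symm)
  have hq3 := c.q3
  have key : ¬ 2 * q + 1 ≤ x := by
    intro hle
    have hu := Nat.card_pos (α := U)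
    obtain ⟨l, hl⟩ := c.lam_cases.resolve_right fun h' => by
      have := h'.2.2
      rw [c.u_eq, hx] at this
      nlinarith
    have hI := c.ineq1 hl
    rcases c.q_cases with hq | hq
    · have h5 := c.five_le hq
      rw [hq] at hI hx' hle
      have h4 := hI.three h5 one_pos
      simp only [Finset.sum_range_succ, Finset.range_zero, Finset.sum_empty] at hx'
      obtain ⟨k, hk⟩ : ∃ k, p ^ 2 = k + 1 :=
        ⟨p ^ 2 - 1, by have := Nat.one_le_pow 2 p (by omega); omega⟩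
      rw [hk, Nat.add_sub_cancel] at h4
      have hp7 : p ≤ 7 := by nlinarith
      have : p = 5 ∨ p = 7 := by obtain ⟨m, hm⟩ := c.odd_p; omega
      rcases this with hp | hp <;> rw [hp] at hk hx'
      · have : Nat.card U ≤ 4 := by nlinarith
        omega
      · have : Nat.card U ≤ 8 := by nlinarith
        omega
    · refine hI.not_big c.p3 hq c.odd_p c.odd_q one_pos ?_
      rw [one_mul, ← geom_mul p q, hx]
      exact Nat.mul_le_mul_right _ (by nlinarith)
  by_cases h1 : p ≡ 1 [MOD q]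
  · refine Or.inl ⟨h1, ?_⟩
    have h2 : q ∣ Nat.card U * x := by
      rw [← hx']
      exact Nat.modEq_zero_iff_dvd.mp ((geom_modEq h1).trans (Nat.modEq_zero_iff_dvd.mpr dvd_rfl))
    obtain ⟨y, rfl⟩ := (P9.coprime_W1_U c.hP).dvd_of_dvd_mul_left h2
    obtain ⟨k, rfl⟩ := hodd.of_dvd_nat (Dvd.intro_left _ rfl)
    rcases k with _ | k
    · simpa using hx.symm
    · exact absurd (by nlinarith) key
  · refine Or.inr ⟨h1, ?_⟩
    have h2 := dvd_geom_modEq c.p_prime.two_le c.q_prime h1 (Dvd.intro_left _ hx'.symm)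
    have h3 := Nat.Coprime.mul_dvd_of_dvd_of_dvd (Nat.coprime_two_left.mpr c.odd_q)
      (by obtain ⟨k, rfl⟩ := hodd; simp) ((Nat.modEq_iff_dvd' hodd.pos).mp h2.symm)
    have := Nat.eq_zero_of_dvd_of_lt h3 (by omega)
    have : x = 1 := by have := hodd.pos; omega
    rw [hx, this, mul_one]

end P13

end CfsgLib.FT.PG
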