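import Mathlib
import Cfsg.Agent.Lib.PG.PF13d
import Cfsg.Agent.Lib.PG.Iface

/-! The end of the local analysis: each prime of `ϖ` divides the order of a cell, or we are in
the two-prime configuration. -/

set_option autoImplicit false
set_option linter.unusedSectionVars false

namespace CfsgLib.FT.PG

open Cfsg Subgroup BGN PGI
open scoped commutatorElement Classical

variable {G : Type*} [Group G] [PiCtx G] [Fintype G]

namespace P13

variable {S U W W1 W2 : Subgroup G} (c : Ctx S U W W1 W2)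
include c

local notation "P" => fittingHallOf S
local notation "p" => Nat.card W2
local notation "q" => Nat.card W1

theorem Ctx.P_eq_fit : P = fittingOf S := c.H_eq_P.symm.trans c.H_eq

theorem Ctx.P_pi : IsPiSubgroup ϖ[G] P := c.P_eq_fit ▸ pi_fitting c.hG c.hS

theorem Ctx.U_le_cent {x : G} (hx : x ∈ U) : U ≤ 𝐂[x] :=
  (le_centralizer_of_isMulCommutative c.U_comm).trans (cent_le_cent1 hx)

theorem Ctx.cent_P_le : S ⊓ 𝐂(P) ≤ P := (le_sup_right.trans c.hP.defF.le).trans c.P_eq_fit.ge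

theorem Ctx.pgroup_comm (h2 : FTtype S = 2) {r : ℕ} [Fact r.Prime] (hr : r ∈ tau2 S)
    {R : Subgroup G} (hR : IsPGroup r R) : IsMulCommutative R := by
  by_contra hna
  obtain ⟨E, hE⟩ := Hall.exists_isPiHallOf (mFT_sol c.hG c.hS.1) (sigma S)ᶜ
  obtain ⟨A, hA⟩ := ex_tau2Elem c.hG c.hS hE hr
  have h1 := (nonabelian_tau2 c.hG c.hS hE hr hA hR hna).2.1.1
  have hσ := U4.B14.fcore_eq_of_le_two c.hG c.hS h2.le
  have h3 : A ⊓ 𝐂(sigmaCore S) ≤ sigmaCore S := by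
    rw [← hσ]
    exact (inf_le_inf_right _ (hA.1.trans hE.1)).trans c.cent_P_le
  exact hr.2.1 (hall_isPi (Msigma_Hall c.hG c.hS) r Fact.out (h1.symm.dvd.trans (card_dvd_of_le h3)))

/-- `U` acts semiregularly on `P`. -/
theorem Ctx.semiReg : SemiReg P U := by
  intro x₀ hx₀ hx₀1
  by_contra hne₀
  obtain ⟨r, hr, hd⟩ := exists_prime_dvd_card (zpowers_ne_bot.2 hx₀1)
  have := Fact.mk hr
  obtain ⟨X, hX, hXr⟩ := exists_card_prime_le hd
  obtain ⟨x, hxX, hx1⟩ := exists_mem_ne_one (ne_bot_of_card_prime hXr)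
  have hx : x ∈ U := zpowers_le.2 hx₀ (hX hxX)
  have hne : P ⊓ 𝐂[x] ≠ ⊥ := fun h => hne₀ (eq_bot_iff.2 (h ▸ inf_le_inf_left _
    (cent_zpowers x₀ ▸ cent_le_cent1 (hX hxX))))
  have hXp := isPGroup_of_card_prime hXr
  have hox : orderOf x = r := ((Nat.dvd_prime hr).1 (hXr ▸ X.orderOf_dvd_natCard hxX)).resolve_left
    (by simpa using hx1)
  have hU := c.U_le_cent hx
  by_cases hGal : TypePGalois S U ⊥
  · rcases hGal (P ⊓ 𝐂[x]) bot_le inf_le_left
      (le_normalizer_inf (P9.U_norm_H c.hP) (hU.trans le_normalizer)) with h | h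
    · exact hne h
    · exact hx1 (mem_bot.1 (c.reg.le ⟨hx, mem_centralizer_iff.2 fun y hy =>
        mem_centralizer_singleton_iff.1 (h.ge hy).2⟩))
  obtain ⟨hq, hu⟩ := c.nonGalois hGal
  have hp3 := c.p3
  have h2 : FTtype S = 2 := c.type23.resolve_right fun h => by omega
  have hUϖ := pi_of_le (pi_cent1 c.hG hx1 (piNum_of_inf_cent1 c.hG c.P_pi hne)) hU
  obtain ⟨T, V, d, hp⟩ := c.exists_pair
  obtain ⟨L, hL, hUL⟩ := mmax_exists (loc_norm c.U_ne hUϖ)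
  obtain ⟨hF, hUH, hcases⟩ := c.support_facts d hp h2 hUϖ hL hUL
  have hσ := U4.B14.fcore_eq_of_le_two c.hG c.hS h2.le
  have hxA : x ∈ FTsupp S := (U4.B14.mem_FTsupp c.hG c.hS).2
    ⟨U4.B14.der_le_FTder S (c.hP.defHU.2.1 hx), hx1, hσ ▸ hne⟩
  have hrσ : r ∉ sigma S := fun h => by
    have h1 := U4.B14.mem_Ms c.hG c.hS (P9.U_le c.hP hx) (hox ▸ isPiNum_prime hr h)
    exact hx1 (mem_bot.1 (c.hP.defHU.2.2.1.le ⟨hσ ▸ h1, hx⟩))
  have hτ : r ∈ tau2 S := (U4.B14.FTsupp_sigma' c.hG c.hS hxA (mem_zpowers x) hx1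
    (hox ▸ isPiNum_prime hr hrσ)).1 r hr hox.symm.dvd
  have hXH : X ≤ fittingHallOf L := (hX.trans (zpowers_le.2 hx₀)).trans hUH
  have hHX : fittingHallOf L ≤ 𝐂(X) := le_of_forall_sylow fun s _ _ => by
    by_cases e : s = r
    · subst e
      obtain ⟨R, h1, h3⟩ := IsSylowIn.exists_ge hXp hXH
      exact ⟨R, h3, (le_centralizer_of_isMulCommutative
        (c.pgroup_comm h2 hτ h3.isPGroup)).trans (centralizer_antitone h1)⟩
    · obtain ⟨R, -, h3⟩ := IsSylowIn.exists_ge (show IsPGroup s (⊥ : Subgroup G) from IsPGroup.of_bot)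
        (bot_le : _ ≤ fittingHallOf L)
      exact ⟨R, h3, le_cent_of_nil (U4.fcore_nil L) h3.le hXH
        (coprime_of_isPGroup_ne h3.isPGroup hXp e)⟩
  have hHS : fittingHallOf L ≤ S := (hHX.trans (cent_le_cent1 hxX)).trans
    ((le_inf le_top le_rfl).trans (c.TI0.cent_le (FTsupp_sub0 S hxA)))
  have hqH : (Nat.card (fittingHallOf L)).Coprime q := hF.coprime.coprime_dvd_right (by
    rcases hcases with h | h
    · exact h.1.symm.dvd
    · exact h.1 ▸ dvd_mul_right _ _)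
  have hpH := c.coprime_of_not_conj hL (c.not_conj_S h2 hUϖ hUL)
  have h3 : fittingHallOf L ≤ ⁅S, S⁆ := P12.le_of_coprime_relIndex (P9.der_normal c.hP) hHS
    (by rwa [P9.relIndex_der c.hP])
  have h4 : fittingHallOf L = U := by
    refine (eq_of_le_of_card_ge hUH (Nat.le_of_dvd Nat.card_pos ?_)).symm
    exact (hpH.symm.pow_right q).dvd_of_dvd_mul_left (c.card_der ▸ card_dvd_of_le h3)
  have h5 := (hcases.resolve_left fun h => h.2 h4).1
  have h6 : p ∣ ((p - 1) / 2) ^ 2 - 1 := by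
    have := hF.index_dvd
    rw [h5, h4, hu] at this
    exact (dvd_mul_left _ _).trans this
  obtain ⟨a, ha⟩ := c.odd_p
  have h7 : (p - 1) / 2 = a := by omega
  obtain ⟨b, rfl⟩ : ∃ b, a = b + 1 := ⟨a - 1, by omega⟩
  rw [h7, show (b + 1) ^ 2 - 1 = b * (b + 2) by ring_nf; omega] at h6
  have h8 := c.p_ne_q
  rcases (Nat.Prime.dvd_mul c.p_prime).1 h6 with h | h
  · have := Nat.le_of_dvd (by omega) h
    omega
  · have := Nat.le_of_dvd (by omega) h
    omega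

theorem Ctx.U_cyclic : IsCyclic U := by
  refine cyclic_of_nil_of_rank1 (c.hS.odd c.hG (P9.U_le c.hP)) c.hP.U_nilpotent fun r hr => ?_
  have := Fact.mk hr
  by_contra h
  obtain ⟨A, hA⟩ := exists_p2Elem h
  obtain ⟨X, hX, hXr, h1⟩ := hA.exists_cent_ne_bot (hA.1.trans (P9.U_norm_H c.hP))
    ((P9.coprime_U_H c.hP).coprime_dvd_left (card_dvd_of_le hA.1)) c.P_ne
  exact h1 (U4.SemiReg.cent_eq c.semiReg (hX.trans hA.1) (ne_bot_of_card_prime hXr))

theorem Ctx.norm_P : 𝐍(P) = S := mmax_normal c.hG c.hS (U4.fcore_le S) (U4.fcore_normal S) c.P_ne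

theorem Ctx.half : Half p q P U W1 W2 where
  p_prime := c.p_prime
  q_prime := c.q_prime
  ne := c.p_ne_q
  elem := c.P_elem
  card_P := c.card_P
  not_dvd_index := (Nat.Prime.coprime_iff_not_dvd c.p_prime).1
    ((FTcore_facts c.hG c.hS).1.coprime_dvd_left (card_dvd_of_le c.hP.W2_le_H))
  U_cyclic := c.U_cyclic
  U_ne := c.U_ne
  U_cop := c.p_coprime_U.symm.mul_right (P9.coprime_W1_U c.hP).symm
  norm_eq := by rw [c.norm_P, P9.sup_HU c.hP, P9.sup_M c.hP]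
  W₁_norm := c.hP.nUW1
  card_W₁ := rfl
  card_W₂ := rfl
  reg := c.semiReg
  reg' := P9.U_cent_W1 c.hP
  cent := typeP_cent_core_compl c.hP
  ti := fun X hX h1 g hg => by
    obtain ⟨x, hx, hx1⟩ := exists_mem_ne_one h1
    rw [c.norm_P]
    exact c.TIP.ti g (mem_top _) x ⟨hX hx, hx1⟩
      ⟨hX ((norm_conj_mem hg).mpr hx), U4.conj_ne_one_iff.mpr hx1⟩
  irr := fun K hK hn => c.ker.chief K bot_le hK (P9.le_of_HUW c.hP
    (((elemAb_le_centralizer c.P_elem).trans (centralizer_antitone hK)).trans (cent_le_norm K))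
    (le_sup_left.trans hn) (le_sup_right.trans hn))

theorem Ctx.norm_W : 𝐍(W1 ⊔ W2) = W1 ⊔ W2 := by
  obtain ⟨T, V, d, hp⟩ := c.exists_pair
  have hc : IsCyclic (W1 ⊔ W2 : Subgroup G) := c.hP.defW ▸ c.cyc.cyclic
  refine le_antisymm ?_ le_normalizer
  refine (le_inf ((norm_le_norm_of_cyclic hc le_sup_right).trans (c.norm_W2.le.trans ?_))
    ((norm_le_norm_of_cyclic hc le_sup_left).trans (d.norm_W2.le.trans ?_))).trans
      (hp.inf_eq.trans c.hP.defW.symm).le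
  · exact sup_le (U4.fcore_le S) c.hP.defM.2.1
  · exact sup_le (U4.fcore_le T) d.hP.defM.2.1

theorem Ctx.cell_U (h3 : FTtype S = 3) : Cell U where
  ne_bot := c.U_ne
  nil := c.hP.U_nilpotent
  cent := fun h hh h1 g hg => by
    have hA : h ∈ FTsupp0 S := FTsupp1_sub0 c.hG c.hS
      ⟨(FTcore_type_gt2 (by omega)).ge (c.hP.defHU.2.1 hh), h1⟩
    have hs := Ptype_Fcore_sdprod c.hP
    obtain ⟨a, ha, b, hb, rfl⟩ := hs.2.2.2 g (c.TI0.cent_le hA ⟨mem_top _, hg⟩)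
    have e := mem_centralizer_singleton_iff.1 hg
    have h2 : a⁻¹ * (h * a * h⁻¹) = b * h * b⁻¹ * h⁻¹ := by
      calc _ = a⁻¹ * (h * (a * b)) * b⁻¹ * h⁻¹ := by group
        _ = _ := by rw [← e]; group
    have hh' : h ∈ U ⊔ W1 := mem_sup_left hh
    have h4 : a⁻¹ * (h * a * h⁻¹) = 1 := mem_bot.1 (hs.2.2.1.le (mem_inf.2 ⟨mul_mem (inv_mem ha)
      ((norm_conj_mem (P9.U_norm_H c.hP hh)).2 ha), h2 ▸ mul_mem (mul_mem (mul_mem hb
        hh') (inv_mem hb)) (inv_mem hh')⟩))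
    have h5 : a = 1 := mem_bot.1 ((c.semiReg h hh h1).le ⟨ha, mem_centralizer_singleton_iff.2 (by
      rw [inv_mul_eq_one, eq_mul_inv_iff_mul_eq] at h4; exact h4)⟩)
    rw [h5, one_mul] at hg ⊢
    exact c.frobUW.frobKer.cent_le hh h1 ⟨hb, hg⟩

end P13

theorem cell_of_type1 (hG : PGHyp G) {M : Subgroup G} (hM : Mx M) (h1 : FTtype M = 1) :
    Cell (fittingHallOf M) where
  ne_bot := mmax_Fcore_ne_bot hG hM
  nil := U4.fcore_nil M
  cent := fun x hx hx1 => by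
    refine (le_inf ?_ le_rfl).trans ((FTtype1_Frobenius hG hM h1).cent_le hx hx1)
    by_contra hC
    obtain ⟨-, L, hL, -, -, -, -, -, ⟨h2, h3⟩, h4, -⟩ := FTsupport_facts hG hM
      (FTsupp1_sub0 hG hM (Fcore_sub_FTsupp1 hG hM ⟨hx, hx1⟩)) hC
    by_cases h5 : FTtype L = 1
    · rw [FTsupp_Frobenius hG hL (FTtype1_Frobenius hG hL h5)] at h2
      exact h3 (Fcore_sub_FTsupp1 hG hL h2)
    obtain ⟨U, W, W1, W2, hP⟩ := FTtypeP_witness hG hL h5
    have c : P13.Ctx L U W W1 W2 := ⟨hG, hL, hP⟩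
    obtain ⟨h6, h7, y, hy, e⟩ := h2
    have h8 : FTtype L = 2 := by have := FTtype_range L; omega
    rw [FTder_typeP h5] at h6
    rw [FTsupp1, FTcore_type2 h8] at hy h3
    obtain ⟨a, ha, b, hb, rfl⟩ := hP.defHU.2.2.2 x h6
    have h9 : a * y = y * a := (mem_centralizer_iff.1 (elemAb_le_centralizer c.P_elem ha) y hy.1).symm
    refine hy.2 (mem_bot.1 ((c.semiReg b hb fun e1 => h3 ⟨by rwa [e1, mul_one], h7⟩).le
      ⟨hy.1, mem_centralizer_singleton_iff.2 (mul_left_cancel (a := a) ?_)⟩))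
    rw [← mul_assoc, h9, mul_assoc, ← e, mul_assoc]

theorem cell_or_half (hG : PGHyp G) {p : ℕ} (hp : p.Prime) (hϖ : p ∈ ϖ[G])
    (hpG : p ∣ Nat.card G) : (∃ H : Subgroup G, Cell H ∧ p ∣ Nat.card H) ∨
      ∃ (q : ℕ) (P U W₁ Q V W₂ : Subgroup G), Half p q P U W₁ W₂ ∧ Half q p Q V W₂ W₁ ∧
        𝐍(W₁ ⊔ W₂) = W₁ ⊔ W₂ := by
  obtain ⟨M, hM, hd⟩ := exists_FTcore_of_prime hG hp hϖ hpG
  by_cases h1 : FTtype M = 1
  · exact Or.inl ⟨_, cell_of_type1 hG hM h1, FTcore_type1 h1 ▸ hd⟩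
  obtain ⟨U, W, W1, W2, hP⟩ := FTtypeP_witness hG hM h1
  have c : P13.Ctx M U W W1 W2 := ⟨hG, hM, hP⟩
  have key : p ∣ Nat.card W2 ^ Nat.card W1 → (∃ H : Subgroup G, Cell H ∧ p ∣ Nat.card H) ∨
      ∃ (q : ℕ) (P U W₁ Q V W₂ : Subgroup G), Half p q P U W₁ W₂ ∧ Half q p Q V W₂ W₁ ∧
        𝐍(W₁ ⊔ W₂) = W₁ ⊔ W₂ := fun h => by
    obtain rfl := (Nat.prime_dvd_prime_iff_eq hp c.p_prime).1 (hp.dvd_of_dvd_pow h)
    obtain ⟨T, V, d, -⟩ := c.exists_pair
    exact Or.inr ⟨_, _, U, W1, _, V, W2, c.half, d.half, c.norm_W⟩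
  rcases c.type23 with h | h
  · rw [FTcore_type2 h, c.card_P] at hd
    exact key hd
  · rw [FTcore_type_gt2 (by omega), c.card_der] at hd
    exact ((Nat.Prime.dvd_mul hp).1 hd).elim key fun h' => Or.inl ⟨U, c.cell_U h.1, h'⟩

end CfsgLib.FT.PG
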