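import Mathlib
import Cfsg.Agent.Lib.FT.PF7

/-! Part OUTCHAR of the prime graph project, steps (iv) and (v): two Frobenius TI-subgroups with
normalizers of odd order in a simple group of even order. -/

set_option autoImplicit false
set_option linter.style.haveILetI false

namespace CfsgLib.FT.PGI

open Subgroup Cfsg
open scoped ComplexConjugate

variable {G : Type*} [Group G] [Fintype G]

theorem irr_sum_conj_mul {L : Subgroup G} {χ : G → ℂ} (h : IsIrr L χ) {t : G} (ht : t ∈ L)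
    (y : G) : ∑ x ∈ elems (L : Set G), χ (x * t * x⁻¹ * y) = Nat.card L * χ t / χ 1 * χ y := by
  classical
  set f : G → ℂ := fun g => ∑ x ∈ elems (L : Set G), if x * t * x⁻¹ = g then 1 else 0 with hf
  have key : ∀ F : G → ℂ, ∑ g ∈ elems (L : Set G), f g * F g =
      ∑ x ∈ elems (L : Set G), F (x * t * x⁻¹) := fun F => by
    simp only [hf, Finset.sum_mul]
    rw [Finset.sum_comm]
    refine Finset.sum_congr rfl fun x hx => ?_
    have hx' : x ∈ L := mem_elems.1 hx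
    rw [Finset.sum_eq_single (x * t * x⁻¹)]
    · simp
    · intro b _ hb
      rw [if_neg (Ne.symm hb), zero_mul]
    · intro hn
      exact absurd (mem_elems.2 (L.mul_mem (L.mul_mem hx' ht) (L.inv_mem hx'))) hn
  have hfCF : f ∈ CF L := by
    refine ⟨fun g hg => Finset.sum_eq_zero fun x hx => if_neg fun e => hg ?_, fun z hz g => ?_⟩
    · have hx' : x ∈ L := mem_elems.1 hx
      exact e ▸ L.mul_mem (L.mul_mem hx' ht) (L.inv_mem hx')
    · simp only [hf]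
      rw [← sum_elems_mul_left hz]
      refine Finset.sum_congr rfl fun x _ => if_congr ⟨fun e => ?_, fun e => ?_⟩ rfl rfl
      · calc x * t * x⁻¹ = z⁻¹ * (z * x * t * (z * x)⁻¹) * z := by group
          _ = g := by rw [e]; group
      · rw [← e]; group
  have h1 := h.sum_CF_mul hfCF y
  rw [key (fun g => χ (g * y)), key χ, Finset.sum_congr rfl fun x hx =>
    CF_conj h.mem_CF (mem_elems.1 hx) t, sum_elems_const, nsmul_eq_mul] at h1
  exact h1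

theorem dirr_sum_conj_mul {L : Subgroup G} {χ : G → ℂ} (h : IsDirr L χ) {t : G} (ht : t ∈ L) :
    ∑ x ∈ elems (L : Set G), χ (x * t * x⁻¹ * t) = Nat.card L * χ t ^ 2 / χ 1 := by
  rcases h with h | h
  · rw [irr_sum_conj_mul h ht]; ring
  · have h1 := irr_sum_conj_mul h ht t
    simp only [Pi.neg_apply, Finset.sum_neg_distrib] at h1
    rw [div_neg] at h1
    linear_combination -h1

theorem not_real_of_TI {K M : Subgroup G} (hTI : NormedTI (sharp K) ⊤ M) (hKM : K ≤ M)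
    (hM : Odd (Nat.card M)) {g u : G} (hu : u * g⁻¹ * u⁻¹ = g) :
    g ∉ dadeSupp (sharp K) fun _ => ⊥ := by
  rw [dadeSupp_of_bot fun _ _ => rfl]
  rintro ⟨a, ha, y, -, rfl⟩
  have h1 : (y⁻¹ * u * y) * a⁻¹ * (y⁻¹ * u * y)⁻¹ = a := by
    calc _ = y⁻¹ * (u * (y * a * y⁻¹)⁻¹ * u⁻¹) * y := by group
      _ = a := by rw [hu]; group
  have h2 : y⁻¹ * u * y ∈ M :=
    hTI.ti _ (mem_top _) a⁻¹ ⟨K.inv_mem ha.1, fun e => ha.2 (inv_eq_one.1 e)⟩ (by rw [h1]; exact ha)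
  exact ha.2 (eq_one_of_conj_eq_inv hM (hKM ha.1) h2 h1)

theorem exists_lin_of_nilpotent {H : Subgroup G} (hn : Group.IsNilpotent H) (h : H ≠ ⊥) :
    ∃ θ, IsLin H θ ∧ θ ≠ cf1 H := by
  have h1 : ⁅H, H⁆ < H := by
    haveI : Nontrivial H := (nontrivial_iff_ne_bot _).2 h
    have := (map_lt_map_iff_of_injective H.subtype_injective).2
      (Group.IsSolvable.commutator_lt_top_of_nontrivial H)
    rwa [commutator_def, map_commutator, ← MonoidHom.range_eq_map, range_subtype] at this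
  obtain ⟨θ, h2, h3, -⟩ := exists_lin_ne_one h1 le_rfl
  exact ⟨θ, h2, h3⟩

theorem two_frob_false [IsSimpleGroup G] {L H E M K D : Subgroup G}
    (hHnil : Group.IsNilpotent H) (hKnil : Group.IsNilpotent K)
    (hF : FrobIn L H E) (hF' : FrobIn M K D)
    (hTI : NormedTI (sharp H) ⊤ L) (hTI' : NormedTI (sharp K) ⊤ M)
    (hL : Odd (Nat.card L)) (hM : Odd (Nat.card M)) (hcop : (Nat.card H).Coprime (Nat.card K))
    (hle : Nat.card E * (Nat.card D - 1) ≤ Nat.card H - 1) {t : G} (ht : orderOf t = 2)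
    {χ lam : G → ℂ} (hχ : IsIrr ⊤ χ) (hlam : IsLin H lam)
    (h1 : cfdot H χ (lam - cfConjC lam) ≠ 0) {k : G} (hk : k ∈ sharp K) (hχk : χ k ≠ 0) :
    False := by
  have hHL := hF.frobKer.le
  have hn := hF.normal
  have hKM := hF'.frobKer.le
  have hn' := hF'.normal
  have hD : DadeHypothesis (sharp H) L fun _ => ⊥ := normedTI_Dade hTI one_notMem_sharp
  have hD' : DadeHypothesis (sharp K) M fun _ => ⊥ := normedTI_Dade hTI' one_notMem_sharp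
  have hd : Disjoint (dadeSupp (sharp K) fun _ => ⊥) (dadeSupp (sharp H) fun _ => ⊥) := by
    rw [dadeSupp_of_bot fun _ _ => rfl, dadeSupp_of_bot fun _ _ => rfl, Set.disjoint_left]
    rintro _ ⟨a, ha, y, -, rfl⟩ ⟨b, hb, z, -, e⟩
    have h1 : orderOf a = orderOf b := by
      rw [← (MulAut.conj y).orderOf_eq, ← (MulAut.conj z).orderOf_eq b, MulAut.conj_apply, e,
        MulAut.conj_apply]
    exact ha.2 (orderOf_eq_one_iff.1 (Nat.eq_one_of_dvd_coprimes hcop.symm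
      (orderOf_dvd_card_of_mem ha.1) (h1 ▸ orderOf_dvd_card_of_mem hb.1)))
  obtain ⟨ν, hν⟩ : Coherent L (seqIndD H L H ⊥) (Dade (sharp H) fun _ => ⊥) :=
    (Sibley_coherence hL hHnil hTI (Or.inl hF)).congr_tau fun φ hφ h1 =>
      (Dade_Ind hD hTI (zcharD1_seqInd_on hn hφ h1)).symm
  obtain ⟨ν', hν'⟩ : Coherent M (seqIndD K M K ⊥) (Dade (sharp K) fun _ => ⊥) :=
    (Sibley_coherence hM hKnil hTI' (Or.inl hF')).congr_tau fun φ hφ h1 =>
      (Dade_Ind hD' hTI' (zcharD1_seqInd_on hn' hφ h1)).symm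
  have hirr : ∀ ξ ∈ seqIndD H L H ⊥, IsIrr L ξ := fun ξ hξ => by
    obtain ⟨θ, h1, h2, rfl⟩ := seqIndC1P.1 hξ
    exact hF.frobKer.cfInd_irr h1 h2
  have hirr' : ∀ ξ ∈ seqIndD K M K ⊥, IsIrr M ξ := fun ξ hξ => by
    obtain ⟨θ, h1, h2, rfl⟩ := seqIndC1P.1 hξ
    exact hF'.frobKer.cfInd_irr h1 h2
  have hortho : ∀ φ ∈ seqIndD H L H ⊥, ∀ ξ ∈ seqIndD K M K ⊥, cfdot ⊤ (ν φ) (ν' ξ) = 0 :=
    fun φ hφ ξ hξ => disjoint_coherent_ortho' hD hD' hd.symm hν hν' (hirr φ hφ) hφ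
      (cfAut_seqInd _ hφ) (seqInd_conjC_neq hHL hn le_rfl hL hφ) (hirr' ξ hξ) hξ
      (cfAut_seqInd _ hξ) (seqInd_conjC_neq hKM hn' le_rfl hM hξ)
  -- `χ` is exceptional for `H`
  obtain ⟨ζ, hζ, hζ1, hχζ⟩ : ∃ ζ ∈ seqIndD H L H ⊥, ζ 1 = H.relIndex L ∧
      cfdot ⊤ χ (ν ζ) ≠ 0 := by
    have hl1 : lam ≠ cf1 H := fun e => h1 (by
      rw [e, cf1_eq_cfInd1, cfConjC, cfAut_cfInd1, sub_self]; simp [cfdot])
    have hz : cfInd H L lam ∈ seqIndD H L H ⊥ := seqIndC1P.2 ⟨lam, hlam.isIrr, hl1, rfl⟩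
    have hz1 : cfInd H L lam 1 = H.relIndex L := by rw [cfInd_one hHL, hlam.one, mul_one]
    have hz' : cfConjC (cfInd H L lam) ∈ seqIndD H L H ⊥ := cfAut_seqInd _ hz
    have hz1' : cfConjC (cfInd H L lam) 1 = H.relIndex L := by
      rw [cfConjC, ZIrr_cfAut_one (seqInd_vcharW hHL hz), hz1]
    by_contra hc
    push Not at hc
    have h0 : (cfInd H L lam - cfConjC (cfInd H L lam)) 1 = 0 := by
      rw [Pi.sub_apply, hz1, hz1', sub_self]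
    have h2 : cfdot ⊤ χ (ν (cfInd H L lam - cfConjC (cfInd H L lam))) = 0 := by
      rw [map_sub, cfdot_sub_right, hc _ hz hz1, hc _ hz' hz1', sub_self]
    rw [hν.agree _ (sub_mem_zspan hz hz') h0,
      Dade_Ind hD hTI (zcharD1_seqInd_on hn (sub_mem_zspan hz hz') h0), cfConjC, cfInd_cfAut,
      ← map_sub, cfInd_cfInd hHL le_top, cfdot_cfInd_right le_top hχ.mem_CF] at h2
    exact h1 h2
  have hS : 1 < (seqIndD H L H ⊥).card := seqInd_nontrivial hHL hn le_rfl hL hζ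
  have ho1 := (Dade_Ind1_sub_lin_a1 hD hν hS (hirr _ hζ) hζ hζ1).1
  set ψ := ν ζ with hψ
  have hψZ : ψ ∈ ZIrr (⊤ : Subgroup G) := hν.virt _ (subset_zspan hζ)
  have hψd : IsDirr ⊤ ψ := hν.dirr (subset_zspan hζ) (hirr _ hζ)
  have hχψ := hχ.isDirr.eq_or_neg_of_cfdot_ne hψd hχζ
  have hψk : ψ k ≠ 0 := fun e => hχk (by rcases hχψ with h | h <;> simp [h, e])
  have hψt : ψ t ≠ ψ 1 := fun e => by
    have h2 : χ t = χ 1 := by rcases hχψ with h | h <;> simp [h, e]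
    have h3 : t ∈ cfker ⊤ χ := hχ.isChar.mem_cfker.2 ⟨mem_top _, h2⟩
    haveI : (cfker ⊤ χ).Normal := normalizer_eq_top_iff.1 (top_le_iff.1 (cfker_normal hχ.mem_CF))
    rcases (inferInstance : (cfker ⊤ χ).Normal).eq_bot_or_eq_top with h4 | h4
    · rw [h4, mem_bot] at h3
      rw [h3, orderOf_one] at ht
      omega
    · have h5 := hχ.eq_cf1_iff.2 h4.ge
      exact hχζ (by rw [h5]; exact cfdot_symm_zero (ho1 _ hζ))
  -- the virtual character `β`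
  obtain ⟨θ, hθ, hθ1⟩ := exists_lin_of_nilpotent hKnil hF'.ker_ne
  have hξ0 : cfInd K M θ ∈ seqIndD K M K ⊥ := seqIndC1P.2 ⟨θ, hθ.isIrr, hθ1, rfl⟩
  have hξ01 : cfInd K M θ 1 = K.relIndex M := by rw [cfInd_one hKM, hθ.one, mul_one]
  set ξ0 := cfInd K M θ with hξ0d
  have hS' : 1 < (seqIndD K M K ⊥).card := seqInd_nontrivial hKM hn' le_rfl hM hξ0
  obtain ⟨ho1', b1, bZ, bn⟩ := Dade_Ind1_sub_lin_a1 hD' hν' hS' (hirr' _ hξ0) hξ0 hξ01
  obtain ⟨a, Γ, g1, g2, g3, -, -, g4⟩ := Dade_Ind1_sub_lin hD' hν' hS' (hirr' _ hξ0) hξ0 hξ01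
  obtain ⟨-, g5⟩ := g4 (odd_Frobenius_index_ler hF'.frobKer hM)
  have hβk := (Dade_Ind1_sub_lin_c hD' hν' hξ0 hξ01 hψZ fun ξ hξ => hortho _ hζ ξ hξ).1 k hk
  rw [invDade_of_const hk fun r hr => by rw [mem_bot.1 hr, mul_one]] at hβk
  set β := Dade (sharp K) (fun _ => ⊥) (cfInd K M (cf1 K) - ξ0) with hβ
  obtain ⟨c, hc⟩ := ZIrr_cfdot_int bZ hψZ
  have hc0 : c ≠ 0 := fun e => hψk (by rw [hβk, hc, e, Int.cast_zero])
  set s := ∑ ξ ∈ seqIndD H L H ⊥, (ξ 1 / H.relIndex L / cfnorm L ξ) • ν ξ with hs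
  set s' := ∑ ξ ∈ seqIndD K M K ⊥, (ξ 1 / K.relIndex M / cfnorm M ξ) • ν' ξ with hs'
  have hss : ∀ φ ∈ seqIndD H L H ⊥, cfdot ⊤ s' (ν φ) = 0 := fun φ hφ => by
    rw [hs', cfdot_sum_left]
    exact Finset.sum_eq_zero fun ξ hξ => by
      rw [cfdot_smul_left, cfdot_symm_zero (hortho φ hφ ξ hξ), mul_zero]
  obtain ⟨s1, s2⟩ := sum_nu_facts hHL hn hν.toZIsom
  rw [← hs] at s1 s2
  have hΓ : ∀ ξ ∈ seqIndD H L H ⊥, cfdot ⊤ Γ (ν ξ) = cfdot ⊤ ((c : ℂ) • s) (ν ξ) := fun ξ hξ => by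
    have h3 : cfdot ⊤ β (ν ξ - (ξ 1 / ζ 1) • ν ζ) = 0 := by
      rw [← nu_sub_lin hD hν hζ hζ1 hξ]
      exact disjoint_Dade_ortho hd
    rw [cfdot_sub_right, cfdot_smul_right, ← hψ, hc, sub_eq_zero, map_div₀,
      (seqInd_char hHL hξ).conj_one, hζ1, Complex.conj_natCast, g3,
      cfdot_add_left, cfdot_add_left, cfdot_sub_left, cfdot_smul_left,
      hss ξ hξ, cfdot_symm_zero (hortho ξ hξ _ hξ0), cfdot_symm_zero (ho1 ξ hξ)] at h3
    rw [cfdot_smul_left, s1 ξ hξ]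
    linear_combination h3
  have hΓs : cfdot ⊤ Γ ((c : ℂ) • s) = cfdot ⊤ ((c : ℂ) • s) ((c : ℂ) • s) := by
    rw [cfdot_smul_right, cfdot_smul_right (φ := (c : ℂ) • s)]
    congr 1
    conv_lhs => rw [hs, cfdot_sum_right]
    conv_rhs => rw [show cfdot ⊤ ((c : ℂ) • s) s = cfdot ⊤ ((c : ℂ) • s) (∑ ξ ∈ seqIndD H L H ⊥,
      (ξ 1 / H.relIndex L / cfnorm L ξ) • ν ξ) from rfl, cfdot_sum_right]
    exact Finset.sum_congr rfl fun ξ hξ => by rw [cfdot_smul_right, cfdot_smul_right, hΓ ξ hξ]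
  have hnn := cfnorm_nonneg (L := ⊤) (φ := Γ - (c : ℂ) • s)
  have hnorm : cfnorm ⊤ (Γ - (c : ℂ) • s) = cfnorm ⊤ Γ - (c : ℝ) ^ 2 * cfnorm ⊤ s := by
    rw [cfnorm_sub, hΓs, cfdot_self, Complex.ofReal_re, cfnorm_intCast_smul]; ring
  have he := relIndex_pos_real H L
  have hDM : (1 : ℝ) < K.relIndex M := by exact_mod_cast hF'.frobKer.one_lt_index
  have hle' : (K.relIndex M : ℝ) - 1 ≤ cfnorm ⊤ s := by
    rw [s2, le_div_iff₀ he, IsComplIn_relIndex hF.compl, IsComplIn_relIndex hF'.compl]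
    have h2 : ((Nat.card E * (Nat.card D - 1) : ℕ) : ℝ) ≤ (Nat.card H - 1 : ℕ) := by
      exact_mod_cast hle
    rw [Nat.cast_mul, Nat.cast_sub Nat.card_pos, Nat.cast_sub Nat.card_pos] at h2
    push_cast at h2
    linarith
  have hc1 : (1 : ℝ) ≤ (c : ℝ) ^ 2 := by
    exact_mod_cast (one_le_sq_iff_one_le_abs _).2 (Int.one_le_abs hc0)
  have hcs : cfnorm ⊤ s ≤ (c : ℝ) ^ 2 * cfnorm ⊤ s := le_mul_of_one_le_left cfnorm_nonneg hc1
  have hΓeq : Γ = (c : ℂ) • s := sub_eq_zero.1 (eq_zero_of_cfnorm_top (by linarith))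
  have hΓn : cfnorm ⊤ Γ = K.relIndex M - 1 := by linarith
  -- the degrees
  have hdeg : ∀ ξ ∈ seqIndD H L H ⊥, ∃ n : ℕ, 0 < n ∧ ξ 1 / H.relIndex L / cfnorm L ξ = n ∧
      ξ 1 / ζ 1 = n := fun ξ hξ => by
    obtain ⟨n, h2, h3⟩ := dvd_index_seqInd1 hHL hξ
    have := relIndex_cast_ne_zero H L
    refine ⟨n, h2, ?_, ?_⟩
    · rw [(hirr ξ hξ).cfnorm, h3]; field_simp; simp
    · rw [h3, hζ1]; field_simp
  choose! d hd0 hd1 hd2 using hdeg
  have hsd : s = ∑ ξ ∈ seqIndD H L H ⊥, (d ξ : ℂ) • ν ξ :=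
    Finset.sum_congr rfl fun ξ hξ => by rw [hd1 ξ hξ]
  have hsZ : s ∈ ZIrr (⊤ : Subgroup G) := hsd ▸ Submodule.sum_mem _ fun ξ hξ =>
    natCast_smul_mem (hν.virt _ (subset_zspan hξ)) _
  have hΔZ : β - cf1 ⊤ - Γ ∈ ZIrr (⊤ : Subgroup G) :=
    sub_mem (sub_mem bZ cf1_mem_ZIrr) (hΓeq ▸ intCast_smul_mem hsZ c)
  have hβΓ : cfdot ⊤ β Γ = cfdot ⊤ Γ Γ := by
    have h2 : cfdot ⊤ s' Γ = 0 := by
      rw [hs', cfdot_sum_left]
      exact Finset.sum_eq_zero fun ξ hξ => by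
        rw [cfdot_smul_left, cfdot_symm_zero (g1 ξ hξ), mul_zero]
    rw [g3, cfdot_add_left, cfdot_add_left, cfdot_sub_left, cfdot_smul_left, h2,
      cfdot_symm_zero g2, cfdot_symm_zero (g1 _ hξ0)]
    ring
  have hΔ : IsDirr ⊤ (β - cf1 ⊤ - Γ) := isDirr_of_cfnorm hΔZ (by
    rw [cfnorm_sub, cfnorm_sub, cfdot_sub_left, hβΓ, cfdot_symm_zero g2, b1, bn, cfdot_self,
      (isIrr_cf1 ⊤).cfnorm, sub_zero, Complex.ofReal_re, Complex.one_re, hΓn]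
    ring)
  have htt : t⁻¹ = t := by
    rw [inv_eq_iff_mul_eq_one, ← sq, ← ht, pow_orderOf_eq_one]
  have hval : ∀ g u : G, u * g⁻¹ * u⁻¹ = g → ∀ ξ ∈ seqIndD H L H ⊥, ν ξ g = d ξ * ψ g :=
    fun g u hu ξ hξ => by
      have h2 := congrFun (nu_sub_lin hD hν hζ hζ1 hξ) g
      rw [Dade_apply_of_notMem (not_real_of_TI hTI hHL hL hu), hd2 ξ hξ] at h2
      simp only [Pi.sub_apply, Pi.smul_apply, smul_eq_mul] at h2
      linear_combination -h2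
  set m : ℕ := ∑ ξ ∈ seqIndD H L H ⊥, d ξ ^ 2 with hm
  have hm0 : (m : ℂ) ≠ 0 := by
    have : 0 < m := Finset.sum_pos (fun ξ hξ => pow_pos (hd0 ξ hξ) 2) ⟨ζ, hζ⟩
    exact_mod_cast this.ne'
  have hsval : ∀ g u : G, u * g⁻¹ * u⁻¹ = g → s g = m * ψ g := fun g u hu => by
    rw [hsd, hm, Finset.sum_apply, Nat.cast_sum, Finset.sum_mul]
    refine Finset.sum_congr rfl fun ξ hξ => ?_
    rw [Pi.smul_apply, smul_eq_mul, hval g u hu ξ hξ]
    push_cast; ring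
  have hΔval : ∀ g u : G, u * g⁻¹ * u⁻¹ = g → (β - cf1 ⊤ - Γ : G → ℂ) g = -(1 + c * m * ψ g) :=
    fun g u hu => by
      rw [Pi.sub_apply, Pi.sub_apply, hβ, Dade_apply_of_notMem (not_real_of_TI hTI' hKM hM hu),
        cf1_apply (mem_top g), hΓeq, Pi.smul_apply, hsval g u hu, smul_eq_mul]
      ring
  have e1 : (1 : G) * (1 : G)⁻¹ * (1 : G)⁻¹ = 1 := by simp
  have et : (1 : G) * t⁻¹ * (1 : G)⁻¹ = t := by simp [htt]
  have hΔ1 := hΔ.one_ne_zero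
  have hsum := dirr_sum_conj_mul hΔ (mem_top t)
  rw [hΔval t 1 et, hΔval 1 1 e1] at hsum
  rw [hΔval 1 1 e1] at hΔ1
  have hψ1 := hψd.one_ne_zero
  have hsum2 : ∑ x ∈ elems ((⊤ : Subgroup G) : Set G), (β - cf1 ⊤ - Γ : G → ℂ) (x * t * x⁻¹ * t) =
      -(Nat.card (⊤ : Subgroup G) * (1 + c * m * ψ t ^ 2 / ψ 1)) := by
    have h2 : ∀ x : G, (β - cf1 ⊤ - Γ : G → ℂ) (x * t * x⁻¹ * t) =
        -(1 + c * ∑ ξ ∈ seqIndD H L H ⊥, d ξ * ν ξ (x * t * x⁻¹ * t)) := fun x => by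
      have hu : t * (x * t * x⁻¹ * t)⁻¹ * t⁻¹ = x * t * x⁻¹ * t := by
        calc _ = x * t⁻¹ * x⁻¹ * t⁻¹ := by group
          _ = _ := by rw [htt]
      rw [Pi.sub_apply, Pi.sub_apply, hβ, Dade_apply_of_notMem (not_real_of_TI hTI' hKM hM hu),
        cf1_apply (mem_top _), hΓeq, Pi.smul_apply, hsd, Finset.sum_apply, smul_eq_mul]
      simp only [Pi.smul_apply, smul_eq_mul]
      ring
    rw [Finset.sum_congr rfl fun x _ => h2 x, Finset.sum_neg_distrib, Finset.sum_add_distrib,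
      sum_elems_const, ← Finset.mul_sum, Finset.sum_comm]
    have h3 : ∀ ξ ∈ seqIndD H L H ⊥, ∑ x ∈ elems ((⊤ : Subgroup G) : Set G),
        d ξ * ν ξ (x * t * x⁻¹ * t) =
        (d ξ : ℂ) ^ 2 * (Nat.card (⊤ : Subgroup G) * ψ t ^ 2 / ψ 1) := fun ξ hξ => by
      have h4 : (d ξ : ℂ) ≠ 0 := by exact_mod_cast (hd0 ξ hξ).ne'
      rw [← Finset.mul_sum, dirr_sum_conj_mul (hν.dirr (subset_zspan hξ) (hirr ξ hξ)) (mem_top t),
        hval t 1 et ξ hξ, hval 1 1 e1 ξ hξ]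
      field_simp
    rw [Finset.sum_congr rfl h3, ← Finset.sum_mul, hm]
    push_cast
    ring
  rw [hsum2] at hsum
  have hG := card_ne_zero (⊤ : Subgroup G)
  have hΔ1' : 1 + c * m * ψ 1 ≠ 0 := fun e => hΔ1 (by rw [e, neg_zero])
  have hfin : (c : ℂ) * m * (ψ t - ψ 1) ^ 2 = 0 := by
    field_simp at hsum
    linear_combination -hsum
  have hcc : (c : ℂ) ≠ 0 := by exact_mod_cast hc0
  exact hψt (sub_eq_zero.1 (pow_eq_zero_iff two_ne_zero |>.1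
    ((mul_eq_zero.1 hfin).resolve_left (mul_ne_zero hcc hm0))))

end CfsgLib.FT.PGI
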