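import Mathlib
import Cfsg.Agent.Lib.PG.OutCharB

/-! Part OUTCHAR of the prime graph project, steps (i) to (iii): preliminary lemmas. -/

set_option autoImplicit false
set_option linter.style.haveILetI false

namespace CfsgLib.FT.PGI

open Subgroup Cfsg
open scoped ComplexConjugate

variable {G : Type*} [Group G] [Fintype G]

theorem avg_mem_ZIrr {L N : Subgroup G} (hNL : N ≤ L) (hn : L ≤ normalizer (N : Set G))
    {Ψ : G → ℂ} (h : Ψ ∈ ZIrr L) :
    (fun g => (Nat.card N : ℂ)⁻¹ * ∑ a ∈ elems (N : Set G), Ψ (a * g)) ∈ ZIrr L := by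
  induction h using Submodule.span_induction with
  | mem χ hχ =>
    by_cases hk : N ≤ cfker L χ
    · have : (fun g => (Nat.card N : ℂ)⁻¹ * ∑ a ∈ elems (N : Set G), χ (a * g)) = χ := by
        funext g
        rw [Finset.sum_congr rfl fun a ha => cfker_mul_left (hk (mem_elems.1 ha)) g,
          sum_elems_const, nsmul_eq_mul, ← mul_assoc, inv_mul_cancel₀ (card_ne_zero N), one_mul]
      rw [this]; exact IsIrr.mem_ZIrr hχ
    · have : (fun g => (Nat.card N : ℂ)⁻¹ * ∑ a ∈ elems (N : Set G), χ (a * g)) = 0 := by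
        funext g
        rw [IsIrr.sum_eq_zero_of_not_le hχ hNL hn hk g, mul_zero]; rfl
      rw [this]; exact zero_mem _
  | zero => convert zero_mem (ZIrr L) using 1; funext g; simp
  | add φ ψ _ _ h1 h2 =>
    convert add_mem h1 h2 using 1; funext g; simp [Finset.sum_add_distrib, mul_add]
  | smul n φ _ h1 =>
    convert Submodule.smul_mem _ n h1 using 1; funext g
    simp only [Pi.smul_apply, zsmul_eq_mul, ← Finset.mul_sum]
    ring

/-- The congruence argument on a coset of a normal subgroup of prime index. -/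
theorem lemmaL {r : ℕ} (hr : r.Prime) {x : G} (hx : orderOf x = r) {A B : Subgroup G}
    (hAB : A ≤ B) (hn : B ≤ normalizer (A : Set G)) (hxB : x ∈ B) {ω : ℂ}
    (hω : IsPrimitiveRoot ω r) {ψ φ μ : G → ℂ} (hψ : ψ ∈ ZIrr (⊤ : Subgroup G)) (hφ : IsLin B φ)
    (hμ : IsLin B μ) (hne : cfdot A φ μ = 0) {b : ℂ} (hb : EqAmod (1 - ω) b 1)
    (h : ∀ a ∈ A, (1 - b) * ψ (a * x) = φ (a * x) * (ω - 1)) : cfdot A ψ (φ - μ) ≠ 0 := by
  intro h0
  have hΨ : cfRes B ψ * cfConjC (φ - μ) ∈ ZIrr B :=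
    ZIrr_mul (ZIrr_cfRes le_top hψ) (ZIrr_cfAut (sub_mem hφ.isChar.mem_ZIrr hμ.isChar.mem_ZIrr) _)
  obtain ⟨z, hz, e⟩ := vchar_ker_mod_prim hω (avg_mem_ZIrr hAB hn hΨ) hxB hx
    (y := 1) (by rw [mul_one, one_mul])
  have e1 : (Nat.card A : ℂ)⁻¹ * ∑ a ∈ elems (A : Set G),
      (cfRes B ψ * cfConjC (φ - μ) : G → ℂ) (a * 1) = 0 := by
    rw [← h0, cfdot]
    congr 1
    refine Finset.sum_congr rfl fun a ha => ?_
    rw [mul_one, Pi.mul_apply, cfRes_apply (hAB (mem_elems.1 ha))]; rfl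
  have e2 : (1 - b) * ((Nat.card A : ℂ)⁻¹ * ∑ a ∈ elems (A : Set G),
      (cfRes B ψ * cfConjC (φ - μ) : G → ℂ) (a * (x * 1))) = ω - 1 := by
    have h2 : ∀ a ∈ elems (A : Set G), (1 - b) * (cfRes B ψ * cfConjC (φ - μ) : G → ℂ)
        (a * (x * 1)) = (ω - 1) * (1 - φ x * conj (μ x) * (φ a * conj (μ a))) := fun a ha => by
      have ha' : a ∈ A := mem_elems.1 ha
      have hax : a * x ∈ B := B.mul_mem (hAB ha') hxB
      rw [mul_one, Pi.mul_apply, cfRes_apply hax, ← mul_assoc, h a ha']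
      change φ (a * x) * (ω - 1) * conj (φ (a * x) - μ (a * x)) = _
      have h3 := hφ.mul_conj hax
      rw [map_sub, hμ.map_mul (hAB ha') hxB, map_mul]
      rw [hφ.map_mul (hAB ha') hxB] at h3 ⊢
      linear_combination (ω - 1) * h3
    rw [mul_left_comm, Finset.mul_sum, Finset.sum_congr rfl h2, ← Finset.mul_sum,
      Finset.sum_sub_distrib, sum_elems_const, ← Finset.mul_sum]
    rw [cfdot] at hne
    have h3 := card_ne_zero A
    rw [(mul_eq_zero.1 hne).resolve_left (inv_ne_zero h3)]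
    field_simp
    simp [mul_comm]
  rw [e1, sub_zero] at e
  rw [e] at e2
  obtain ⟨z', hz', e'⟩ := hb
  have hω1 : 1 - ω ≠ 0 := sub_ne_zero.2 (hω.ne_one hr.one_lt).symm
  have e3 : (1 - ω) * (z' * z) = 1 := by
    have : (1 - ω) * ((1 - ω) * (z' * z) - 1) = 0 := by
      linear_combination -e2 - (1 - ω) * z * e'
    exact sub_eq_zero.1 ((mul_eq_zero.1 this).resolve_left hω1)
  have h4 : (r : ℤ) ∣ 1 := int_eqAmod_prime_prim hω hr ⟨z' * z, hz'.mul hz, by simp [e3]⟩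
  exact hr.one_lt.ne' (by exact_mod_cast Int.eq_one_of_dvd_one (by positivity) h4)

theorem prod_elems_mul_right {L : Subgroup G} {n : G} (hn : n ∈ L) (f : G → ℂ) :
    ∏ x ∈ elems (L : Set G), f (x * n) = ∏ x ∈ elems (L : Set G), f x :=
  sum_elems_mul_right (M := Additive ℂ) hn f

/-- The product of the conjugates of a linear character. -/
theorem normLin {H Y : Subgroup G} (hY : Y ≤ normalizer (H : Set G)) {μ : G → ℂ}
    (hμ : IsLin H μ) : IsLin H (fun h => ∏ g ∈ elems (Y : Set G), μ (g * h * g⁻¹)) ∧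
      Y ≤ inertia fun h => ∏ g ∈ elems (Y : Set G), μ (g * h * g⁻¹) := by
  refine ⟨isLin_of_mul (fun h hh => ?_) ?_ fun a ha b hb => ?_, fun y hy h => ?_⟩
  · refine Finset.prod_eq_zero (mem_elems.2 Y.one_mem) ?_
    simpa using CF_zero hμ.mem_CF hh
  · exact Finset.prod_eq_one fun g _ => by simpa using hμ.one
  · rw [← Finset.prod_mul_distrib]
    refine Finset.prod_congr rfl fun g hg => ?_
    have hg' := hY (mem_elems.1 hg)
    rw [← hμ.map_mul ((norm_conj_mem hg').2 ha) ((norm_conj_mem hg').2 hb)]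
    congr 1; group
  · beta_reduce
    rw [← prod_elems_mul_right hy (fun g => μ (g * h * g⁻¹))]
    refine Finset.prod_congr rfl fun g _ => ?_
    congr 1; group

theorem exists_norm_lin {L H E X : Subgroup G} (hF : FrobIn L H E) (hnil : Group.IsNilpotent H)
    (hXH : X ≤ normalizer (H : Set G)) (hXE : X ≤ normalizer (E : Set G))
    (hCE : ∀ g ∈ X, g ≠ 1 → ∀ e ∈ E, e * g = g * e → e = 1) :
    ∃ μ, IsLin H μ ∧ ∃ h ∈ H, ∏ g ∈ elems (X : Set G), μ (g * h * g⁻¹) ≠ 1 := by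
  classical
  by_contra hc
  push Not at hc
  obtain ⟨μ, hμ, hμ1⟩ := exists_lin_of_nilpotent hnil hF.ker_ne
  have hEH : E ≤ normalizer (H : Set G) := hF.compl.2.1.trans hF.normal
  obtain ⟨ρ1, ρ2⟩ := normLin hEH hμ
  have hρ : ∀ h ∈ H, ∏ e ∈ elems (E : Set G), μ (e * h * e⁻¹) = 1 := fun h hh => by
    by_cases e : (fun h => ∏ g ∈ elems (E : Set G), μ (g * h * g⁻¹)) = cf1 H
    · exact (congrFun e h).trans (cf1_apply hh)
    · have h1 := hF.frobKer.inertia_le ρ1.isIrr e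
      exact absurd (eq_bot_iff.2 fun y hy => hF.compl.2.2.1 ▸
        mem_inf.2 ⟨h1 (mem_inf.2 ⟨hF.compl.2.1 hy, ρ2 hy⟩), hy⟩) hF.compl_ne
  refine hμ1 (funext fun h => ?_)
  by_cases hh : h ∈ H
  swap
  · rw [CF_zero hμ.mem_CF hh, cf1_apply_of_notMem hh]
  rw [cf1_apply hh]
  have h1 : ∀ e ∈ elems (E : Set G),
      ∏ g ∈ elems (X : Set G), μ (e * g * e⁻¹ * h * (e * g * e⁻¹)⁻¹) = 1 := fun e he => by
    have he' := hEH (mem_elems.1 he)
    rw [← hc _ (hμ.cfConjg (inv_mem he')) (e⁻¹ * h * e) ((norm_conj_mem' he').2 hh)]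
    refine Finset.prod_congr rfl fun g _ => ?_
    change μ _ = μ _
    congr 1; group
  have h2 := Finset.prod_eq_one h1
  rw [Finset.prod_comm, Finset.prod_eq_single 1] at h2
  · simp only [mul_one, mul_inv_cancel, one_mul, inv_one, Finset.prod_const, card_elems] at h2
    have h3 : μ h ^ Nat.card H = 1 := by
      rw [← hμ.map_pow hh, pow_card_eq_one_of_mem hh, hμ.one]
    have h4 := hF.frobKer.coprime
    rw [IsComplIn_relIndex hF.compl] at h4
    have h5 := pow_gcd_eq_one.2 ⟨h3, h2⟩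
    rwa [h4, pow_one] at h5
  · intro g hg hg1
    have hg' : g ∈ X := mem_elems.1 hg
    have hinj : Set.InjOn (fun e => e * g * e⁻¹ * g⁻¹) (elems (E : Set G)) := by
      intro a ha b hb e
      have ha' : a ∈ E := mem_elems.1 ha
      have hb' : b ∈ E := mem_elems.1 hb
      have e' : a * g * a⁻¹ = b * g * b⁻¹ := mul_right_cancel e
      have := hCE g hg' hg1 (b⁻¹ * a) (E.mul_mem (E.inv_mem hb') ha') (by
        calc b⁻¹ * a * g = b⁻¹ * (a * g * a⁻¹) * a := by group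
          _ = _ := by rw [e']; group)
      exact (inv_mul_eq_one.1 this).symm
    have him : (elems (E : Set G)).image (fun e => e * g * e⁻¹ * g⁻¹) = elems (E : Set G) := by
      refine Finset.eq_of_subset_of_card_le (fun y hy => ?_) (Finset.card_image_of_injOn hinj).ge
      obtain ⟨a, ha, rfl⟩ := Finset.mem_image.1 hy
      have ha' : a ∈ E := mem_elems.1 ha
      have := E.mul_mem ha' ((norm_conj_mem (hXE hg')).2 (E.inv_mem ha'))
      exact mem_elems.2 (by simpa only [mul_assoc, SetLike.mem_coe] using this)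
    rw [← hρ (g * h * g⁻¹) ((norm_conj_mem (hXH hg')).2 hh)]
    conv_rhs => rw [← him, Finset.prod_image hinj]
    refine Finset.prod_congr rfl fun e _ => ?_
    congr 1; group
  · intro hn
    exact absurd (mem_elems.2 X.one_mem) hn

theorem lin_pow_coset {H : Subgroup G} {μ : G → ℂ} (hμ : IsLin H μ) {g h : G}
    (hg : g ∈ normalizer (H : Set G)) (hh : h ∈ H) (n : ℕ) :
    (h * g) ^ n * (g ^ n)⁻¹ ∈ H ∧
      μ ((h * g) ^ n * (g ^ n)⁻¹) = ∏ i ∈ Finset.range n, μ (g ^ i * h * (g ^ i)⁻¹) := by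
  induction n with
  | zero => simpa using hμ.one
  | succ n ih =>
    have e : (h * g) ^ (n + 1) * (g ^ (n + 1))⁻¹ =
        (h * g) ^ n * (g ^ n)⁻¹ * (g ^ n * h * (g ^ n)⁻¹) := by
      rw [pow_succ, pow_succ']; group
    have h2 := (norm_conj_mem (pow_mem hg n)).2 hh
    rw [e, Finset.prod_range_succ, hμ.map_mul ih.1 h2, ih.2]
    exact ⟨H.mul_mem ih.1 h2, rfl⟩

theorem prod_elems_zpowers (g : G) (f : G → ℂ) :
    ∏ y ∈ elems (zpowers g : Set G), f y = ∏ i ∈ Finset.range (orderOf g), f (g ^ i) := by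
  classical
  symm
  refine Finset.prod_bij (fun i _ => g ^ i) (fun i _ => mem_elems.2 (pow_mem (mem_zpowers g) i))
    (fun i hi j hj e => pow_injOn_Iio_orderOf (Finset.mem_range.1 hi) (Finset.mem_range.1 hj) e)
    (fun y hy => ?_) fun _ _ => rfl
  obtain ⟨i, hi, e⟩ := Finset.mem_image.1 (mem_zpowers_iff_mem_range_orderOf.1 (mem_elems.1 hy))
  exact ⟨i, hi, e⟩

theorem zpowers_eq_of_prime {x g : G} (hx : (orderOf x).Prime) (hg : g ∈ zpowers x) (h1 : g ≠ 1) :
    zpowers g = zpowers x := by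
  rcases eq_bot_or_eq_of_prime (by rwa [Nat.card_zpowers]) (zpowers_le.2 hg) with h | h
  · exact absurd (zpowers_eq_bot.1 h) h1
  · exact h

theorem exists_chi (S : Subgroup G) [hSn : S.Normal] {r : ℕ} (hr : r.Prime) (hi : S.index = r)
    {L H E K : Subgroup G} (hKS : K ≤ S) (hHnil : Group.IsNilpotent H)
    (hTI : NormedTI (sharp H) S L) (hF : FrobIn L H E) (hH : Odd (Nat.card H))
    (hcop : (Nat.card H).Coprime (Nat.card K)) {x : G} (hxS : x ∉ S) (hxr : orderOf x = r)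
    (hxH : x ∈ normalizer (H : Set G)) (hxE : x ∈ normalizer (E : Set G))
    (hCE : ∀ e ∈ E, e * x = x * e → e = 1) {k : G} (hk : k ∈ K) (hk1 : k ≠ 1)
    (hkx : k * x = x * k) : ∃ χ lam : G → ℂ, IsIrr S χ ∧ IsLin H lam ∧
      cfdot H χ (lam - cfConjC lam) ≠ 0 ∧ ∃ k ∈ sharp K, χ k ≠ 0 := by
  classical
  have hxp : (orderOf x).Prime := hxr ▸ hr
  set X := zpowers x with hX
  have hXc : Nat.card X = r := by rw [hX, Nat.card_zpowers, hxr]
  have hHL := hF.frobKer.le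
  have hLS := hTI.le
  have hHS := hHL.trans hLS
  have hES : E ≤ S := hF.compl.2.1.trans hLS
  have hXS : ∀ g ∈ X, g ∈ S → g = 1 := fun g hg hgS => by
    by_contra h1
    exact hxS (zpowers_le.2 hgS (zpowers_eq_of_prime hxp hg h1 ▸ mem_zpowers x))
  have hXH : X ≤ normalizer (H : Set G) := zpowers_le.2 hxH
  have hXE : X ≤ normalizer (E : Set G) := zpowers_le.2 hxE
  have hCE' : ∀ g ∈ X, g ≠ 1 → ∀ e ∈ E, e * g = g * e → e = 1 := fun g hg h1 e he hc => by
    have h2 : x ∈ zpowers g := zpowers_eq_of_prime hxp hg h1 ▸ mem_zpowers x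
    obtain ⟨n, hn⟩ := mem_zpowers_iff.1 h2
    exact hCE e he (by rw [← hn]; exact ((show Commute e g from hc).zpow_right n).eq)
  have hSN : (⊤ : Subgroup G) ≤ normalizer (S : Set G) := (normalizer_eq_top S).ge
  have hSr : (S.relIndex ⊤).Prime := by rw [relIndex_top_right, hi]; exact hr
  have hSX : S ⊔ X = ⊤ := by
    rcases eq_or_eq_of_prime_relIndex hSr (le_sup_left : S ≤ S ⊔ X) le_top with h | h
    · exact absurd (h ▸ mem_sup_right (mem_zpowers x)) hxS
    · exact h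
  -- the linear characters `κ`, `lam` and `lh`
  obtain ⟨κ, hκ, hκS, hκx⟩ := exists_lin_ker_not_mem le_top
    (commutator_le_of_prime_relIndex hSN hSr) (mem_top x) hxS
  have hκ1 : ∀ s ∈ S, κ s = 1 := fun s hs => (cfker_apply (hκS hs)).trans hκ.one
  have hω : IsPrimitiveRoot (κ x) r := by
    have h1 := hκ.pow_orderOf (mem_top x)
    rw [hxr] at h1
    haveI := Fact.mk hr
    have h2 := orderOf_eq_prime h1 hκx
    exact h2 ▸ IsPrimitiveRoot.orderOf (κ x)
  obtain ⟨μ, hμ, h0, hh0, hμ0⟩ := exists_norm_lin hF hHnil hXH hXE hCE'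
  obtain ⟨hlam, hlamX⟩ := normLin hXH hμ
  set lam : G → ℂ := fun h => ∏ g ∈ elems (X : Set G), μ (g * h * g⁻¹) with hlamd
  have hlam1 : lam ≠ cf1 H := fun e => hμ0 ((congrFun e h0).trans (cf1_apply hh0))
  set T := H ⊔ X with hT
  have hHX : H ⊓ X = ⊥ := eq_bot_iff.2 fun g hg => hXS g hg.2 (hHS hg.1)
  have hc : IsComplIn H X T := isComplIn_of_sup rfl hHX hXH
  have hTn : T ≤ normalizer (H : Set G) := sup_le le_normalizer hXH
  have hxT : x ∈ T := mem_sup_right (mem_zpowers x)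
  have hTS : ∀ y ∈ T, y ∈ S → y ∈ H := fun y hy hyS => by
    obtain ⟨h, hh, g, hg, rfl⟩ := hc.2.2.2 y hy
    rw [hXS g hg ((S.mul_mem_cancel_left (hHS hh)).1 hyS), mul_one]; exact hh
  obtain ⟨lh, hlh, hlhX, hlhH⟩ := extend_lin_sdprod hc hTn hlam
    (sup_le (le_inertia hlam.mem_CF) hlamX)
  have hlhH' : ∀ h ∈ H, lh h = lam h := fun h hh => by rw [← hlhH, cfRes_apply hh]
  have hpow : ∀ y ∈ T, y ∉ H → y ^ r ∈ H ∧ μ (y ^ r) = lh y := fun y hy hyH => by
    obtain ⟨h, hh, g, hg, rfl⟩ := hc.2.2.2 y hy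
    have hg1 : g ≠ 1 := fun e => hyH (by rw [e, mul_one]; exact hh)
    have hz := zpowers_eq_of_prime hxp hg hg1
    have ho : orderOf g = r := by rw [← Nat.card_zpowers, hz, hXc]
    have h1 := lin_pow_coset hμ (hXH hg) hh r
    rw [← ho, pow_orderOf_eq_one, inv_one, mul_one,
      ← prod_elems_zpowers g fun y => μ (y * h * y⁻¹), hz, ho] at h1
    refine ⟨h1.1, ?_⟩
    rw [h1.2, cfker_mul_right hlh.mem_CF (hlhX hg), hlhH' h hh]
  -- the TI-set `A`
  set A : Set G := {y | y ∈ T ∧ y ∉ H ∧ y ^ r ≠ 1} with hA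
  have hAc : ∀ g ∈ T, ∀ a ∈ A, g * a * g⁻¹ ∈ A := fun g hg a ha =>
    ⟨(conj_mem_iff hg).2 ha.1, fun h => ha.2.1 ((norm_conj_mem (hTn hg)).1 h), fun h => ha.2.2 (by
      rw [conj_pow] at h
      simpa using h)⟩
  have hxH' : ∀ h ∈ H, h * x ∉ H := fun h hh e => hxS (hHS ((H.mul_mem_cancel_left hh).1 e))
  have hATI : NormedTI A ⊤ T := by
    refine ⟨⟨h0 * x, T.mul_mem (hc.1 hh0) hxT, hxH' h0 hh0, fun e => hμ0 ?_⟩, le_top, hAc, ?_⟩
    · have h1 := (hpow _ (T.mul_mem (hc.1 hh0) hxT) (hxH' h0 hh0)).2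
      rw [e, hμ.one, cfker_mul_right hlh.mem_CF (hlhX (mem_zpowers x)), hlhH' h0 hh0] at h1
      exact h1.symm
    · intro g _ a ha hga
      obtain ⟨s, hs, y, hy, rfl⟩ := exists_mul_of_mem_sup (H := S) (K := X) (le_top.trans hSN)
        (hSX ▸ mem_top g)
      have ha' := hAc y (hc.2.1 hy) a ha
      set b := y * a * y⁻¹ with hb
      have hsb : s * b * s⁻¹ ∈ A := by convert hga using 1; rw [hb]; group
      have hsL : s ∈ L := hTI.ti s hs (b ^ r) ⟨(hpow b ha'.1 ha'.2.1).1, ha'.2.2⟩ (by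
        rw [← conj_pow]; exact ⟨(hpow _ hsb.1 hsb.2.1).1, hsb.2.2⟩)
      obtain ⟨h, hh, e, he, rfl⟩ := hF.compl.2.2.2 s hsL
      obtain ⟨h1, hh1, g1, hg1, e1⟩ := hc.2.2.2 b ha'.1
      have hg11 : g1 ≠ 1 := fun e => ha'.2.1 (by rw [e1, e, mul_one]; exact hh1)
      have h2 : e * g1 * e⁻¹ * g1⁻¹ ∈ T := by
        have h3 : e * h1 * e⁻¹ ∈ H := (norm_conj_mem (hF.normal (hF.compl.2.1 he))).2 hh1
        have h4 := T.mul_mem (T.mul_mem (T.inv_mem (hc.1 h3)) (T.mul_mem (T.mul_mem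
          (T.inv_mem (hc.1 hh)) hsb.1) (hc.1 hh))) (T.inv_mem (hc.2.1 hg1))
        convert h4 using 1
        rw [e1]; group
      have h3 : e * g1 * e⁻¹ * g1⁻¹ ∈ E := by
        have := E.mul_mem he ((norm_conj_mem (hXE hg1)).2 (E.inv_mem he))
        simpa only [mul_assoc] using this
      have h4 : e * g1 * e⁻¹ * g1⁻¹ = 1 :=
        mem_bot.1 (hF.compl.2.2.1 ▸ mem_inf.2 ⟨hTS _ h2 (hES h3), h3⟩)
      rw [hCE' g1 hg1 hg11 e he (by
        calc e * g1 = e * g1 * e⁻¹ * g1⁻¹ * (g1 * e) := by group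
          _ = _ := by rw [h4, one_mul]), mul_one]
      exact T.mul_mem (hc.1 hh) (hc.2.1 hy)
  -- the virtual character `f`
  have hκT := hκ.cfRes (le_top : T ≤ ⊤)
  set κ' := cfRes T κ with hκ'
  have hκ'H : ∀ h ∈ H, κ' h = 1 := fun h hh => by rw [hκ', cfRes_apply (hc.1 hh), hκ1 h (hHS hh)]
  have hκ'x : κ' x = κ x := cfRes_apply hxT
  have hlhx : lh x = 1 := (cfker_apply (hlhX (mem_zpowers x))).trans hlh.one
  have hl0 : lh h0 ≠ 1 := by rw [hlhH' h0 hh0]; exact hμ0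
  have hlk := hlh.mul hκT
  have n1 : cf1 T ≠ lh := fun e => hl0 (by rw [← e, cf1_apply (hc.1 hh0)])
  have n2 : cf1 T ≠ κ' := fun e => hκx (by rw [← hκ'x, ← e, cf1_apply hxT])
  have n3 : cf1 T ≠ lh * κ' := fun e => hκx (by
    have := congrFun e x
    rw [cf1_apply hxT, Pi.mul_apply, hlhx, one_mul, hκ'x] at this; exact this.symm)
  have n4 : lh ≠ κ' := fun e => hl0 (by rw [e, hκ'H h0 hh0])
  have n5 : lh ≠ lh * κ' := fun e => hκx (by
    have := congrFun e x
    rw [Pi.mul_apply, hlhx, one_mul, hκ'x] at this; exact this.symm)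
  have n6 : κ' ≠ lh * κ' := fun e => hl0 (by
    have := congrFun e h0
    rw [Pi.mul_apply, hκ'H h0 hh0, mul_one] at this; exact this.symm)
  have i1 := isIrr_cf1 T
  have i2 := hlh.isIrr
  have i3 := hκT.isIrr
  have i4 := hlk.isIrr
  set f : G → ℂ := cf1 T - lh - κ' + lh * κ' with hf
  have hfZ : f ∈ ZIrr T := add_mem (sub_mem (sub_mem i1.mem_ZIrr i2.mem_ZIrr) i3.mem_ZIrr)
    i4.mem_ZIrr
  have hfv : ∀ y ∈ T, f y = (1 - lh y) * (1 - κ y) := fun y hy => by
    simp only [hf, Pi.add_apply, Pi.sub_apply, Pi.mul_apply, cf1_apply hy, hκ', cfRes_apply hy]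
    ring
  have hf0 : ∀ y, y ∉ A → f y = 0 := fun y hy => by
    by_cases hyT : y ∈ T
    swap
    · exact CF_zero (ZIrr_mem_CF hfZ) hyT
    rw [hfv y hyT]
    by_cases hyH : y ∈ H
    · rw [hκ1 y (hHS hyH), sub_self, mul_zero]
    · have h1 : y ^ r = 1 := by
        by_contra h1
        exact hy ⟨hyT, hyH, h1⟩
      rw [← (hpow y hyT hyH).2, h1, hμ.one, sub_self, zero_mul]
  have hfA : f ∈ CFon T A := mem_CFon.2 ⟨ZIrr_mem_CF hfZ, hf0⟩
  have d1 : cfdot T f (cf1 T) = 1 := by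
    rw [hf, cfdot_add_left, cfdot_sub_left, cfdot_sub_left, i1.cfdot_self, i2.cfdot_ne i1 n1.symm,
      i3.cfdot_ne i1 n2.symm, i4.cfdot_ne i1 n3.symm]; ring
  have d2 : cfdot T f lh = -1 := by
    rw [hf, cfdot_add_left, cfdot_sub_left, cfdot_sub_left, i2.cfdot_self, i1.cfdot_ne i2 n1,
      i3.cfdot_ne i2 n4.symm, i4.cfdot_ne i2 n5.symm]; ring
  have d3 : cfdot T f κ' = -1 := by
    rw [hf, cfdot_add_left, cfdot_sub_left, cfdot_sub_left, i3.cfdot_self, i1.cfdot_ne i3 n2,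
      i2.cfdot_ne i3 n4, i4.cfdot_ne i3 n6.symm]; ring
  have d4 : cfdot T f (lh * κ') = 1 := by
    rw [hf, cfdot_add_left, cfdot_sub_left, cfdot_sub_left, i4.cfdot_self, i1.cfdot_ne i4 n3,
      i2.cfdot_ne i4 n5, i3.cfdot_ne i4 n6]; ring
  have d5 : cfdot T f f = 4 := by
    conv_lhs => rw [show cfdot T f f = cfdot T f (cf1 T - lh - κ' + lh * κ') from rfl]
    rw [cfdot_add_right, cfdot_sub_right, cfdot_sub_right, d1, d2, d3, d4]; ring
  set F := cfInd T ⊤ f with hFd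
  have hFZ : F ∈ ZIrr (⊤ : Subgroup G) := ZIrr_cfInd le_top hfZ
  have D5 : cfdot ⊤ F F = 4 := (normedTI_isometry hATI hfA hfA).trans d5
  have D1 : cfdot ⊤ F (cf1 ⊤) = 1 := by
    rw [hFd, cfdot_cfInd_cfRes le_top cf1_mem_CF, cfRes_cf1 le_top, d1]
  have D3 : cfdot ⊤ F κ = -1 := by rw [hFd, cfdot_cfInd_cfRes le_top hκ.mem_CF, d3]
  have n7 : cf1 (⊤ : Subgroup G) ≠ κ := fun e => hκx (by rw [← e, cf1_apply (mem_top x)])
  have hFS : ∀ s ∈ S, F s = 0 := fun s hs => cfInd_eq_zero fun g _ hg =>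
    hf0 _ fun h => h.2.1 (hTS _ hg (hSn.conj_mem s hs g))
  have hρZ : F - cf1 ⊤ + κ ∈ ZIrr (⊤ : Subgroup G) :=
    add_mem (sub_mem hFZ cf1_mem_ZIrr) hκ.isChar.mem_ZIrr
  have hρS : ∀ s ∈ S, (F - cf1 ⊤ + κ : G → ℂ) s = 0 := fun s hs => by
    rw [Pi.add_apply, Pi.sub_apply, hFS s hs, cf1_apply (mem_top s), hκ1 s hs]; ring
  obtain ⟨ψ1, ψ2, hψ1, hψ2, hne, hρ⟩ := vchar_norm2 hρZ (hρS 1 S.one_mem)
    (cfnorm_eq_of_cfdot_eq (by
      have j1 := isIrr_cf1 (⊤ : Subgroup G)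
      have j2 := hκ.isIrr
      simp only [cfdot_add_left, cfdot_add_right, cfdot_sub_left, cfdot_sub_right]
      rw [D5, D1, D3, ← cfdot_conj (φ := F) (ψ := cf1 ⊤), ← cfdot_conj (φ := F) (ψ := κ), D1, D3,
        j1.cfdot_self, j2.cfdot_self, j1.cfdot_ne j2 n7, j2.cfdot_ne j1 n7.symm]
      simp only [map_one, map_neg]
      push_cast
      ring))
  have hres : cfRes S ψ1 = cfRes S ψ2 := cfRes_congr fun s hs => by
    have := hρS s hs
    rw [hρ, Pi.sub_apply] at this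
    exact sub_eq_zero.1 this
  have hχ : IsIrr S (cfRes S ψ1) := by
    rcases cfRes_prime_irr_cases le_top hSN hSr hψ1 with h | ⟨θ1, -, h1⟩
    · exact h
    rcases cfRes_prime_irr_cases le_top hSN hSr hψ2 with h | ⟨θ2, -, h2⟩
    · exact hres ▸ h
    refine absurd (funext fun g => ?_) hne
    by_cases hg : g ∈ S
    · rw [← cfRes_apply (φ := ψ1) hg, hres, cfRes_apply hg]
    · rw [← h1, ← h2, CFon_zero (cfInd_normal_mem_CFon hSN) hg,
        CFon_zero (cfInd_normal_mem_CFon hSN) hg]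
  obtain ⟨β, hβ, hβS, hβe⟩ := gallagher_surj le_top hSN hψ1.isChar hχ hψ2 (by
    rw [← cfdot_cfRes_left, ← cfdot_cfRes_right, ← hres, hχ.cfdot_self]; exact one_ne_zero)
  have hβl : IsLin ⊤ β :=
    hβ.isLin_of_commutator_le ((commutator_le_of_prime_relIndex hSN hSr).trans hβS)
  have hβx : EqAmod (1 - κ x) (β x) 1 := by
    have := vchar_ker_mod_prim hω hβ.mem_ZIrr (mem_top x) hxr (y := 1) (by rw [mul_one, one_mul])
    rwa [mul_one, hβl.one] at this
  have hval : ∀ a ∈ S, (1 - β x) * ψ1 (a * x) = F (a * x) - 1 + κ x := fun a ha => by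
    have := congrFun hρ (a * x)
    rw [Pi.add_apply, Pi.sub_apply, Pi.sub_apply, cf1_apply (mem_top _), hβe, Pi.mul_apply,
      cfker_mul_left (hβS ha), cfker_mul_left (hκS ha)] at this
    linear_combination -this
  refine ⟨cfRes S ψ1, lam, hχ, hlam, ?_, ?_⟩
  · have hcl : cfConjC lam ≠ lam := fun e => hlam1 ((odd_eq_conj_irr1 hH hlam.isIrr).1 e)
    have h1 := lemmaL hr hxr hc.1 hTn hxT hω hψ1.mem_ZIrr hlh (hlh.cfAut (starRingEnd ℂ))
      (by
        rw [← hlam.isIrr.cfdot_ne (hlam.isIrr.cfAut (starRingEnd ℂ)) hcl.symm]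
        exact cfdot_congr hlhH' fun h hh => by simp only [cfAut, hlhH' h hh]) hβx
      (fun a ha => by
        have haT := T.mul_mem (hc.1 ha) hxT
        have h2 : F (a * x) = f (a * x) := by
          by_cases h3 : a * x ∈ A
          · exact normedTI_Ind_id hATI hfA h3 (mem_top _)
          · rw [hf0 _ h3]
            refine cfInd_eq_zero fun g _ hg => hf0 _ fun h4 => h3 ⟨haT, hxH' a ha, fun h5 => ?_⟩
            exact h4.2.2 (by rw [conj_pow, h5]; group)
        rw [hval a (hHS ha), h2, hfv _ haT, cfker_mul_left (hκS (hHS ha))]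
        ring)
    refine fun e => h1 (e ▸ cfdot_congr (fun h hh => (cfRes_apply (hHS hh)).symm) fun h hh => ?_)
    simp only [Pi.sub_apply, cfAut, hlhH' h hh]
  · set A0 := zpowers k with hA0
    have hA0K : A0 ≤ K := zpowers_le.2 hk
    have hcomm : ∀ a ∈ A0, ∀ g ∈ X, a * g = g * a := fun a ha g hg => by
      obtain ⟨n, rfl⟩ := mem_zpowers_iff.1 ha
      obtain ⟨m, rfl⟩ := mem_zpowers_iff.1 hg
      exact ((show Commute k x from hkx).zpow_zpow n m).eq
    have hdp : DProdIn A0 X (A0 ⊔ X) := dprodIn_of_sup rfl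
      (eq_bot_iff.2 fun g hg => hXS g hg.2 (hKS (hA0K hg.1))) hcomm
    obtain ⟨ν, hν, hν1⟩ := exists_lin_of_nilpotent (H := A0)
      (@CommGroup.isNilpotent _ { (inferInstance : Group A0) with
        mul_comm := fun a b => Subtype.ext (comm_of_isCyclic (isCyclic_zpowers k) a a.2 b b.2) })
      (fun e => hk1 (zpowers_eq_bot.1 e))
    have hνi : X ≤ inertia ν := fun g hg y => by
      by_cases hy : y ∈ A0
      · rw [← hcomm y hy g hg, mul_inv_cancel_right]
      · rw [CF_zero hν.mem_CF hy, CF_zero hν.mem_CF fun h =>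
          hy ((norm_conj_mem (hdp.normal_left (mem_sup_right hg))).1 h)]
    obtain ⟨νh, hνh, -, hνA⟩ := extend_lin_sdprod hdp.compl hdp.normal_left hν
      (sup_le (le_inertia hν.mem_CF) hνi)
    have hxB : x ∈ A0 ⊔ X := mem_sup_right (mem_zpowers x)
    have h1 := lemmaL hr hxr le_sup_left hdp.normal_left hxB hω hψ1.mem_ZIrr isLin_cf1 hνh
      (by
        rw [← (isIrr_cf1 A0).cfdot_ne hν.isIrr hν1.symm, ← hνA, cfdot_cfRes_right]
        exact cfdot_congr (fun a ha => by rw [cf1_apply ha, cf1_apply (mem_sup_left ha)])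
          fun _ _ => rfl) hβx
      (fun a ha => by
        have h2 : F (a * x) = 0 := cfInd_eq_zero fun g _ hg => hf0 _ fun h4 => by
          have h5 := (hpow _ h4.1 h4.2.1).1
          have h6 : (a * x) ^ r = a ^ r := by
            rw [(show Commute a x from hcomm a ha x (mem_zpowers x)).mul_pow, ← hxr,
              pow_orderOf_eq_one, mul_one]
          have h7 : orderOf ((g * (a * x) * g⁻¹) ^ r) = orderOf (a ^ r) := by
            rw [conj_pow, h6, ← (MulAut.conj g).orderOf_eq (a ^ r), MulAut.conj_apply]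
          exact h4.2.2 (orderOf_eq_one_iff.1 (Nat.eq_one_of_dvd_coprimes hcop
            (orderOf_dvd_card_of_mem h5) (h7 ▸ orderOf_dvd_card_of_mem (K.pow_mem (hA0K ha) r))))
        rw [hval a (hKS (hA0K ha)), h2, cf1_apply ((A0 ⊔ X).mul_mem (mem_sup_left ha) hxB)]
        ring)
    by_contra hcon
    push Not at hcon
    refine h1 (cfdot_eq_zero_of_supp fun a ha => ?_)
    by_cases ha1 : a = 1
    · right
      rw [ha1, Pi.sub_apply, hνh.one, cf1_apply (one_mem _), sub_self]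
    · left
      rw [← hcon a ⟨hA0K ha, ha1⟩, cfRes_apply (hKS (hA0K ha))]

end CfsgLib.FT.PGI
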