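import Mathlib
import Cfsg.Agent.Lib.PG.Iface
import Cfsg.Agent.Lib.PG.OutCharA

/-! Part OUTCHAR of the prime graph project: the character theoretic step (O4) of OUT. -/

set_option autoImplicit false
set_option linter.style.haveILetI false
set_option linter.unusedVariables false

namespace CfsgLib.FT.PGI

open Subgroup Cfsg BGN

namespace OutChar

variable {G : Type*} [Group G]

theorem normedTI_of_cent [Finite G] {S H : Subgroup G} (hHS : H ≤ S) (hnil : Group.IsNilpotent H)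
    (hne : H ≠ ⊥) (hc : ∀ h ∈ H, h ≠ 1 → S ⊓ 𝐂[h] ≤ H) : NormedTI (sharp H) S (S ⊓ 𝐍(H)) := by
  haveI := Fintype.ofFinite G
  haveI : Nontrivial H := (nontrivial_iff_ne_bot _).2 hne
  obtain ⟨⟨z, hz⟩, hz1⟩ := (ne_bot_iff_exists_ne_one).1 (Group.IsNilpotent.center_ne_bot H)
  have hz1' : (z : G) ≠ 1 := fun e => hz1 (Subtype.ext (Subtype.ext e))
  have hzc : ∀ h ∈ H, h * z = z * h := fun h hh =>
    congrArg Subtype.val (mem_center_iff.1 hz ⟨h, hh⟩)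
  refine ⟨⟨z, z.2, hz1'⟩, inf_le_left, sharp_conj inf_le_right, fun g hg a ha hga => ?_⟩
  have h1 : g * z * g⁻¹ ∈ H := hc _ hga.1 hga.2 (mem_inf.2
    ⟨S.mul_mem (S.mul_mem hg (hHS z.2)) (S.inv_mem hg), U4.mem_cent1.2 (by
      calc g * z * g⁻¹ * (g * a * g⁻¹) = g * (z * a) * g⁻¹ := by group
        _ = _ := by rw [← hzc a ha.1]; group)⟩)
  refine mem_inf.2 ⟨hg, mem_normalizer_fintype fun h hh => hc _ h1 (by simpa using hz1')
    (mem_inf.2 ⟨S.mul_mem (S.mul_mem hg (hHS hh)) (S.inv_mem hg), U4.mem_cent1.2 ?_⟩)⟩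
  calc g * h * g⁻¹ * (g * z * g⁻¹) = g * (h * z) * g⁻¹ := by group
    _ = _ := by rw [hzc h hh]; group

theorem normedTI_sub {S H L : Subgroup G} (hHS : H ≤ S) (h : NormedTI (sharp H) S L) :
    NormedTI (sharp (H.subgroupOf S)) ⊤ (L.subgroupOf S) := by
  have key : ∀ a : S, a ∈ sharp (H.subgroupOf S) ↔ (a : G) ∈ sharp H := fun a => by
    rw [mem_sharp, mem_sharp, mem_subgroupOf, Ne, Ne, OneMemClass.coe_eq_one]
  obtain ⟨a, ha⟩ := h.nonempty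
  exact ⟨⟨⟨a, hHS ha.1⟩, (key _).2 ha⟩, le_top,
    fun x hx a ha => (key _).2 (h.conj_mem _ hx _ ((key _).1 ha)),
    fun g _ a ha hg => h.ti _ g.2 _ ((key _).1 ha) ((key _).1 hg)⟩

theorem frobIn_sub [Finite G] {S L H E : Subgroup G} (hLS : L ≤ S) (h : FrobIn L H E) :
    FrobIn (L.subgroupOf S) (H.subgroupOf S) (E.subgroupOf S) := by
  haveI := Fintype.ofFinite G
  haveI := Fintype.ofFinite S
  have hne : ∀ X ≤ L, X ≠ ⊥ → X.subgroupOf S ≠ ⊥ := fun X hX h1 e => h1 (by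
    rw [← map_subgroupOf_eq_of_le (hX.trans hLS), e, Subgroup.map_bot])
  refine ⟨⟨fun _ hx => h.compl.1 hx, fun _ hx => h.compl.2.1 hx, ?_, fun m hm => ?_⟩,
    le_normalizer_of_conj fun x hx a ha => (norm_conj_mem (h.normal hx)).2 ha,
    hne _ h.compl.1 h.ker_ne, hne _ h.compl.2.1 h.compl_ne, fun e he he1 k hk hc =>
      Subtype.ext (h.fpf e he (fun e' => he1 (Subtype.ext e')) k hk (congrArg Subtype.val hc))⟩
  · exact eq_bot_iff.2 fun x hx => mem_bot.2 (Subtype.ext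
      (mem_bot.1 (h.compl.2.2.1 ▸ mem_inf.2 ⟨hx.1, hx.2⟩)))
  · obtain ⟨a, ha, b, hb, e⟩ := h.compl.2.2.2 m hm
    exact ⟨⟨a, hLS (h.compl.1 ha)⟩, ha, ⟨b, hLS (h.compl.2.1 hb)⟩, hb, Subtype.ext e⟩

theorem cfdot_sub [Fintype G] {S H : Subgroup G} [Fintype S] (hHS : H ≤ S) (φ ψ : G → ℂ) :
    cfdot (H.subgroupOf S) (fun x => φ x) (fun x => ψ x) = cfdot H φ ψ := by
  rw [cfdot, cfdot, card_subgroupOf hHS]
  congr 1
  exact Finset.sum_bij (fun x _ => (x : G)) (fun x hx => by simpa [mem_subgroupOf] using hx)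
    (fun a _ b _ e => Subtype.ext e)
    (fun y hy => ⟨⟨y, hHS (mem_elems.1 hy)⟩, by simpa [mem_subgroupOf] using hy, rfl⟩) fun _ _ => rfl

end OutChar

open OutChar in
theorem out_char {G : Type*} [Group G] [Finite G] (S : Subgroup G) [S.Normal] [IsSimpleGroup S]
    (hna : ¬ IsMulCommutative S) {r : ℕ} (hr : r.Prime) (hr2 : r ≠ 2) (hi : S.index = r)
    {H E K D : Subgroup G} (hHS : H ≤ S) (hKS : K ≤ S)
    (hHnil : Group.IsNilpotent H) (hKnil : Group.IsNilpotent K)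
    (hHc : ∀ h ∈ H, h ≠ 1 → S ⊓ 𝐂[h] ≤ H) (hKc : ∀ k ∈ K, k ≠ 1 → S ⊓ 𝐂[k] ≤ K)
    (hHE : FrobIn (S ⊓ 𝐍(H)) H E) (hKD : FrobIn (S ⊓ 𝐍(K)) K D)
    (hHo : Odd (Nat.card (S ⊓ 𝐍(H) : Subgroup G))) (hKo : Odd (Nat.card (S ⊓ 𝐍(K) : Subgroup G)))
    (hcop : (Nat.card H).Coprime (Nat.card K))
    {x : G} (hxS : x ∉ S) (hxr : orderOf x = r) (hxH : x ∈ 𝐍(H)) (hxE : x ∈ 𝐍(E))
    (hxK : x ∈ 𝐍(K)) (hCE : E ⊓ 𝐂[x] = ⊥) (hCK : K ⊓ 𝐂[x] ≠ ⊥)
    (hle : Nat.card E * (Nat.card D - 1) ≤ Nat.card H - 1) : False := by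
  haveI := Fintype.ofFinite G
  haveI := Fintype.ofFinite S
  have hTI := normedTI_of_cent hHS hHnil hHE.ker_ne hHc
  have hTI' := normedTI_of_cent hKS hKnil hKD.ker_ne hKc
  obtain ⟨⟨k, hk⟩, hk1⟩ := ne_bot_iff_exists_ne_one.1 hCK
  obtain ⟨χ, lam, hχ, hlam, h1, k', hk', hχk⟩ := exists_chi S hr hi hKS hHnil hTI hHE
    (odd_card_of_le hHE.compl.1 hHo) hcop hxS hxr hxH hxE
    (fun e he hc => mem_bot.1 (hCE ▸ mem_inf.2 ⟨he, U4.mem_cent1.2 hc⟩)) hk.1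
    (fun e => hk1 (Subtype.ext e)) (U4.mem_cent1.1 hk.2)
  have h2 : 2 ∣ Nat.card S := by
    by_contra h2
    haveI := feit_thompson (G := S) (Nat.odd_iff.2 (Nat.two_dvd_ne_zero.1 h2))
    exact hna ⟨⟨IsSimpleGroup.comm_iff_isSolvable.2 this⟩⟩
  obtain ⟨t, ht⟩ := exists_prime_orderOf_dvd_card' (G := S) 2 h2
  have hES : E ≤ S := hHE.compl.2.1.trans inf_le_left
  have hDS : D ≤ S := hKD.compl.2.1.trans inf_le_left
  refine two_frob_false (G := S) (χ := fun s => χ s) (lam := fun s => lam s)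
    (k := ⟨k', hKS hk'.1⟩) (Group.nilpotent_of_mulEquiv (subgroupOfEquivOfLe hHS).symm)
    (Group.nilpotent_of_mulEquiv (subgroupOfEquivOfLe hKS).symm) (frobIn_sub inf_le_left hHE)
    (frobIn_sub inf_le_left hKD) (normedTI_sub hHS hTI) (normedTI_sub hKS hTI')
    (by rwa [card_subgroupOf inf_le_left]) (by rwa [card_subgroupOf inf_le_left])
    (by rwa [card_subgroupOf hHS, card_subgroupOf hKS])
    (by rwa [card_subgroupOf hHS, card_subgroupOf hES, card_subgroupOf hDS]) ht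
    (isIrr_top.2 hχ.1) (isLin_of_mul (fun s hs => CF_zero hlam.mem_CF hs) hlam.one
      fun a ha b hb => hlam.map_mul ha hb) (fun e => h1 ((cfdot_sub hHS _ _).symm.trans e))
    ⟨hk'.1, fun e => hk'.2 (congrArg Subtype.val e)⟩ hχk

end CfsgLib.FT.PGI
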