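import Mathlib
import Cfsg.Agent.Lib.PG.Iface

/-! Part (O1) of OUT in the prime graph project: the two-prime configuration cannot occur in a
normal subgroup of prime index `r ∈ π`. -/

set_option autoImplicit false

namespace CfsgLib.FT.PGI

open Subgroup Cfsg BGN CfsgLib.H9 Module
open scoped commutatorElement

namespace OutB

variable {G : Type*} [Group G]

/-- A group normalizing `P` and acting faithfully on a cyclic group that is semiregular on the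
elementary abelian group `P` has order at most the rank of `P`. -/
theorem card_le_of_semiReg [Finite G] {p n : ℕ} [hp : Fact p.Prime] {P U Z : Subgroup G}
    (hP : IsElementaryAbelian p P) (hc : Nat.card P = p ^ n) (hn : n ≠ 0) (hU : IsCyclic U)
    (hUP : U ≤ 𝐍(P)) (hZP : Z ≤ 𝐍(P)) (hZU : Z ≤ 𝐍(U)) (hreg : SemiReg P U)
    (hZ : Z ⊓ 𝐂(U) = ⊥) : Nat.card Z ≤ n := by
  classical
  have hcomm : ⁅P, P⁆ ≤ ⊥ := le_of_eq (comm_eq_bot_iff.2 (le_cent_of_comm hP.1 le_rfl le_rfl))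
  obtain ⟨W, _, _, _, ρ, ι, S⟩ := exists_secRep p (𝐍(P)).subtype P ⊥ bot_le (fun g => g.2)
    (fun g => by rw [normalizer_eq_top]; trivial) hcomm (fun a ha => mem_bot.2 (hP.2 a ha))
  have hfr : finrank (AlgebraicClosure (ZMod p)) W = n := by
    have h1 := S.pow_finrank
    rw [relIndex_bot_left, hc] at h1
    exact Nat.pow_right_injective hp.out.two_le h1
  haveI : Nontrivial W := Module.nontrivial_of_finrank_pos (R := AlgebraicClosure (ZMod p))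
    (by omega)
  obtain ⟨u, rfl⟩ := (Subgroup.isCyclic_iff_exists_zpowers_eq_top U).1 hU
  set u' : 𝐍(P) := ⟨u, hUP (mem_zpowers u)⟩ with hu'
  obtain ⟨c, hcv⟩ := Module.End.exists_eigenvalue (ρ u')
  obtain ⟨v, hv⟩ := hcv.exists_hasEigenvector
  have hk : ∀ z : Z, ∃ k : ℕ, u ^ k = (z : G)⁻¹ * u * z := fun z => by
    have := conj_mem_of_mem_normalizer' (hZU z.2) (mem_zpowers u)
    rwa [← mem_powers_iff_mem_zpowers] at this
  choose k hk using hk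
  let e : Z → 𝐍(P) := fun z => ⟨z, hZP z.2⟩
  have hk' : ∀ z : Z, u' ^ k z = (e z)⁻¹ * u' * e z := fun z => Subtype.ext (by simpa using hk z)
  have hpow : ∀ m : ℕ, ρ (u' ^ m) v = c ^ m • v := fun m => by
    rw [map_pow]; exact hv.pow_apply m
  have hinj : ∀ g : 𝐍(P), ∀ w : W, ρ g w = 0 → w = 0 := fun g w h => by
    have : ρ g⁻¹ (ρ g w) = w := by
      rw [← Module.End.mul_apply, ← map_mul, inv_mul_cancel, map_one]; rfl
    rw [← this, h, map_zero]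
  have heig : ∀ z : Z, (ρ u').HasEigenvector (c ^ k z) (ρ (e z) v) := fun z => by
    refine ⟨Module.End.mem_eigenspace_iff.2 ?_, fun h => hv.2 (hinj _ _ h)⟩
    rw [← map_smul, ← hpow, hk', ← Module.End.mul_apply, ← Module.End.mul_apply, ← map_mul,
      ← map_mul]
    congr 2
    group
  have hμ : Function.Injective fun z : Z => c ^ k z := fun z z' h => by
    have h1 : ρ ((u' ^ k z)⁻¹ * u' ^ k z') v = v := by
      rw [map_mul, Module.End.mul_apply, hpow, ← show c ^ k z = c ^ k z' from h, ← hpow,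
        ← Module.End.mul_apply, ← map_mul, inv_mul_cancel, map_one]; rfl
    have h2 : (u ^ k z)⁻¹ * u ^ k z' = 1 := by
      by_contra hne
      have hmem : (u ^ k z)⁻¹ * u ^ k z' ∈ zpowers u :=
        mul_mem (inv_mem (pow_mem (mem_zpowers u) _)) (pow_mem (mem_zpowers u) _)
      have hs := S.surjective_sub_one ((u' ^ k z)⁻¹ * u' ^ k z') fun a ha hc => by
        rw [← hreg _ hmem hne]
        refine mem_inf.2 ⟨ha, U4.mem_cent1'.2 ?_⟩
        have := commutatorElement_eq_one_iff_mul_comm.1 (mem_bot.1 hc)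
        simpa using this
      have hi := LinearMap.injective_iff_surjective.2 hs
      refine hv.2 (hi ?_)
      rw [map_zero, LinearMap.sub_apply, h1]; simp
    have h3 : (z' : G) * (z : G)⁻¹ ∈ Z ⊓ 𝐂(zpowers u) := by
      refine mem_inf.2 ⟨mul_mem z'.2 (inv_mem z.2), ?_⟩
      rw [U4.cent_zpowers, U4.mem_cent1']
      rw [inv_mul_eq_one, hk, hk] at h2
      calc u * (z' * (z : G)⁻¹) = z' * ((z' : G)⁻¹ * u * z') * (z : G)⁻¹ := by group
        _ = z' * ((z : G)⁻¹ * u * z) * (z : G)⁻¹ := by rw [h2]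
        _ = _ := by group
    rw [hZ, mem_bot, mul_inv_eq_one] at h3
    exact Subtype.ext h3.symm
  have hli := Module.End.eigenvectors_linearIndependent' (ρ u') _ hμ _ heig
  letI := Fintype.ofFinite Z
  rw [Nat.card_eq_fintype_card, ← hfr]
  exact hli.fintype_card_le_finrank

/-- `Half` for subgroups of the ambient group. -/
structure HalfIn (S : Subgroup G) (p q : ℕ) (P U W₁ W₂ : Subgroup G) : Prop where
  p_prime : p.Prime
  q_prime : q.Prime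
  ne : p ≠ q
  P_le : P ≤ S
  elem : IsElementaryAbelian p P
  card_P : Nat.card P = p ^ q
  not_dvd_index : ¬ p ∣ P.relIndex S
  U_cyclic : IsCyclic U
  U_ne : U ≠ ⊥
  U_cop : (Nat.card U).Coprime (p * q)
  norm_eq : S ⊓ 𝐍(P) = P ⊔ U ⊔ W₁
  W₁_norm : W₁ ≤ 𝐍(U)
  card_W₁ : Nat.card W₁ = q
  reg : SemiReg P U
  reg' : U ⊓ 𝐂(W₁) = ⊥
  cent : P ⊓ 𝐂(W₁) = W₂
  card_W₂ : Nat.card W₂ = p
  irr : ∀ K ≤ P, U ⊔ W₁ ≤ 𝐍(K) → K = ⊥ ∨ K = P
  ti : ∀ X ≤ P, X ≠ ⊥ → S ⊓ 𝐍(X) ≤ 𝐍(P)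

theorem mem_norm_map {S : Subgroup G} {X : Subgroup S} {x : S} :
    (x : G) ∈ 𝐍(X.map S.subtype) ↔ x ∈ 𝐍(X) := by
  rw [← map_conj_eq_iff_mem_normalizer, ← map_conj_eq_iff_mem_normalizer,
    ← (map_injective S.subtype_injective).eq_iff, map_map, map_map]
  rfl

theorem mem_cent_map {S : Subgroup G} {X : Subgroup S} {x : S} :
    (x : G) ∈ 𝐂(X.map S.subtype) ↔ x ∈ 𝐂(X) := by
  rw [U4.mem_cent, U4.mem_cent]
  refine ⟨fun h y hy => Subtype.ext (h y ⟨y, hy, rfl⟩), ?_⟩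
  rintro h _ ⟨y, hy, rfl⟩
  exact congrArg Subtype.val (h y hy)

theorem inf_norm_map {S : Subgroup G} (X : Subgroup S) :
    S ⊓ 𝐍(X.map S.subtype) = (𝐍(X)).map S.subtype := by
  ext x
  refine ⟨fun h => ⟨⟨x, (mem_inf.1 h).1⟩, mem_norm_map.1 (mem_inf.1 h).2, rfl⟩, ?_⟩
  rintro ⟨y, hy, rfl⟩
  exact mem_inf.2 ⟨y.2, mem_norm_map.2 hy⟩

theorem inf_cent_map {S : Subgroup G} (Y X : Subgroup S) :
    Y.map S.subtype ⊓ 𝐂(X.map S.subtype) = (Y ⊓ 𝐂(X)).map S.subtype := by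
  ext x
  constructor
  · intro h
    obtain ⟨⟨y, hy, rfl⟩, h2⟩ := mem_inf.1 h
    exact ⟨y, mem_inf.2 ⟨hy, mem_cent_map.1 h2⟩, rfl⟩
  · rintro ⟨y, hy, rfl⟩
    exact mem_inf.2 ⟨⟨y, (mem_inf.1 hy).1, rfl⟩, mem_cent_map.2 (mem_inf.1 hy).2⟩

theorem halfIn_of_half {S : Subgroup G} {p q : ℕ} {P U W₁ W₂ : Subgroup S}
    (h : Half p q P U W₁ W₂) :
    HalfIn S p q (P.map S.subtype) (U.map S.subtype) (W₁.map S.subtype) (W₂.map S.subtype) where
  p_prime := h.p_prime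
  q_prime := h.q_prime
  ne := h.ne
  P_le := map_subtype_le _
  elem := by
    haveI := h.elem.1
    refine ⟨inferInstance, ?_⟩
    rintro _ ⟨y, hy, rfl⟩
    rw [← map_pow, h.elem.2 y hy, map_one]
  card_P := by rw [card_map_subtype, h.card_P]
  not_dvd_index := by
    rw [relIndex, map_subtype_sgOf]; exact h.not_dvd_index
  U_cyclic := by
    haveI := h.U_cyclic
    exact isCyclic_of_surjective _ (equivMapOfInjective U _ S.subtype_injective).surjective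
  U_ne := fun e => h.U_ne ((map_eq_bot_iff_of_injective _ S.subtype_injective).1 e)
  U_cop := by rw [card_map_subtype]; exact h.U_cop
  norm_eq := by rw [inf_norm_map, h.norm_eq, Subgroup.map_sup, Subgroup.map_sup]
  W₁_norm := by
    rintro _ ⟨y, hy, rfl⟩
    exact mem_norm_map.2 (h.W₁_norm hy)
  card_W₁ := by rw [card_map_subtype, h.card_W₁]
  reg := by
    rintro _ ⟨y, hy, rfl⟩ h1
    have := h.reg y hy fun e => h1 (by rw [e, map_one])
    rw [← U4.cent_zpowers, ← MonoidHom.map_zpowers, inf_cent_map, U4.cent_zpowers, this, Subgroup.map_bot]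
  reg' := by rw [inf_cent_map, h.reg', Subgroup.map_bot]
  cent := by rw [inf_cent_map, h.cent]
  card_W₂ := by rw [card_map_subtype, h.card_W₂]
  irr := fun K hK hn => by
    have hKS : K ≤ S := hK.trans (map_subtype_le _)
    obtain ⟨K', rfl⟩ : ∃ K' : Subgroup S, K'.map S.subtype = K :=
      ⟨K.subgroupOf S, map_subgroupOf_eq_of_le hKS⟩
    rw [map_le_map_iff_of_injective S.subtype_injective] at hK
    rcases h.irr K' hK (fun y hy => mem_norm_map.1 (hn (by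
      rw [← Subgroup.map_sup]; exact ⟨y, hy, rfl⟩))) with e | e
    · left; rw [e, Subgroup.map_bot]
    · right; rw [e]
  ti := fun K hK hn => by
    have hKS : K ≤ S := hK.trans (map_subtype_le _)
    obtain ⟨K', rfl⟩ : ∃ K' : Subgroup S, K'.map S.subtype = K :=
      ⟨K.subgroupOf S, map_subgroupOf_eq_of_le hKS⟩
    rw [map_le_map_iff_of_injective S.subtype_injective] at hK
    rw [inf_norm_map]
    rintro _ ⟨y, hy, rfl⟩
    exact mem_norm_map.2 (h.ti K' hK (fun e => hn (by rw [e, Subgroup.map_bot])) hy)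

namespace HalfIn

variable {S : Subgroup G} {p q : ℕ} {P U W₁ W₂ : Subgroup G}

theorem U_le (h : HalfIn S p q P U W₁ W₂) : U ≤ S ⊓ 𝐍(P) :=
  h.norm_eq ▸ le_sup_right.trans le_sup_left

theorem W_le (h : HalfIn S p q P U W₁ W₂) : W₁ ≤ S ⊓ 𝐍(P) := h.norm_eq ▸ le_sup_right

theorem cop_p (h : HalfIn S p q P U W₁ W₂) : (Nat.card U).Coprime p :=
  h.U_cop.coprime_dvd_right (dvd_mul_right _ _)

theorem cop_q (h : HalfIn S p q P U W₁ W₂) : (Nat.card U).Coprime q :=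
  h.U_cop.coprime_dvd_right (dvd_mul_left _ _)

theorem PU_bot (h : HalfIn S p q P U W₁ W₂) : P ⊓ U = ⊥ :=
  inf_eq_bot_of_cop (by rw [h.card_P]; exact h.cop_p.symm.pow_left _)

theorem UW_bot (h : HalfIn S p q P U W₁ W₂) : U ⊓ W₁ = ⊥ :=
  inf_eq_bot_of_cop (by rw [h.card_W₁]; exact h.cop_q)

theorem W_norm_PU (h : HalfIn S p q P U W₁ W₂) : W₁ ≤ 𝐍(P ⊔ U) := fun w hw => by
  rw [← map_conj_eq_iff_mem_normalizer, cj_sup,
    CfsgLib.map_conj_eq_of_mem_normalizer (mem_inf.1 (h.W_le hw)).2,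
    CfsgLib.map_conj_eq_of_mem_normalizer (h.W₁_norm hw)]

theorem card_PU_dvd (h : HalfIn S p q P U W₁ W₂) :
    Nat.card (P ⊔ U : Subgroup G) ∣ Nat.card U * p ^ q := by
  rw [sup_comm, ← h.card_P]
  exact card_sup_dvd_mul (h.U_le.trans inf_le_right)

theorem card_dvd (h : HalfIn S p q P U W₁ W₂) :
    Nat.card (S ⊓ 𝐍(P) : Subgroup G) ∣ q * (Nat.card U * p ^ q) := by
  rw [h.norm_eq, sup_comm]
  refine (card_sup_dvd_mul h.W_norm_PU).trans ?_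
  rw [h.card_W₁]
  exact Nat.mul_dvd_mul_left _ h.card_PU_dvd

theorem solv [Finite G] (h : HalfIn S p q P U W₁ W₂) : Group.IsSolvable (S ⊓ 𝐍(P) : Subgroup G) := by
  haveI := Fact.mk h.p_prime
  haveI := Fact.mk h.q_prime
  rw [h.norm_eq, sup_comm]
  refine isSolvable_sup h.W_norm_PU (isSolvable_of_isPGroup (isPGroup_of_card_prime h.card_W₁)) ?_
  rw [sup_comm]
  haveI := h.U_cyclic
  haveI := h.elem.1
  exact isSolvable_sup (h.U_le.trans inf_le_right) (isSolvable_of_isMulCommutative)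
    isSolvable_of_isMulCommutative

theorem hall_U [Finite G] (h : HalfIn S p q P U W₁ W₂) :
    IsPiHallOf {p, q}ᶜ U (S ⊓ 𝐍(P)) := by
  refine ⟨h.U_le, fun s hs hd hm => ?_, fun s hs hm hd => hm ?_⟩
  · rcases hm with rfl | rfl
    · exact hs.one_lt.ne' (Nat.eq_one_of_dvd_coprimes h.cop_p hd dvd_rfl)
    · exact hs.one_lt.ne' (Nat.eq_one_of_dvd_coprimes h.cop_q hd dvd_rfl)
  · have h1 := h.card_dvd
    rw [← card_mul_relIndex h.U_le, mul_left_comm] at h1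
    have h2 := hd.trans (Nat.dvd_of_mul_dvd_mul_left Nat.card_pos h1)
    rcases (Nat.Prime.dvd_mul hs).1 h2 with h3 | h3
    · exact Or.inr ((Nat.prime_dvd_prime_iff_eq hs h.q_prime).1 h3)
    · exact Or.inl ((Nat.prime_dvd_prime_iff_eq hs h.p_prime).1 (hs.dvd_of_dvd_pow h3))

theorem sylow_W [Finite G] (h : HalfIn S p q P U W₁ W₂) : IsSylowIn q W₁ (S ⊓ 𝐍(P)) := by
  refine ⟨h.W_le, isPGroup_of_card_prime h.card_W₁, fun hd => ?_⟩
  have h1 := h.card_dvd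
  rw [← card_mul_relIndex h.W_le, h.card_W₁] at h1
  have h2 := hd.trans (Nat.dvd_of_mul_dvd_mul_left h.q_prime.pos h1)
  rcases (Nat.Prime.dvd_mul h.q_prime).1 h2 with h3 | h3
  · exact h.q_prime.one_lt.ne' (Nat.eq_one_of_dvd_coprimes h.cop_q h3 dvd_rfl)
  · exact h.ne ((Nat.prime_dvd_prime_iff_eq h.q_prime h.p_prime).1
      (h.q_prime.dvd_of_dvd_pow h3)).symm

theorem W_cent_U_bot (h : HalfIn S p q P U W₁ W₂) : W₁ ⊓ 𝐂(U) = ⊥ := by
  haveI := Fact.mk h.q_prime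
  refine (le_or_inf_eq_bot h.card_W₁ _).resolve_left fun hle => h.U_ne ?_
  rw [← h.reg', eq_comm, inf_eq_left]
  exact le_centralizer_iff.1 hle

theorem mem_W (h : HalfIn S p q P U W₁ W₂) {x : G} (h1 : x ∈ S) (h2 : x ∈ 𝐍(P)) (h3 : x ∈ 𝐍(U))
    (h4 : x ∈ 𝐍(W₁)) : x ∈ W₁ := by
  have hx : x ∈ P ⊔ U ⊔ W₁ := h.norm_eq ▸ mem_inf.2 ⟨h1, h2⟩
  obtain ⟨y, hy, w, hw, rfl⟩ := mem_sup_norm h.W_norm_PU hx
  obtain ⟨a, ha, u, hu, rfl⟩ := mem_sup_norm (h.U_le.trans inf_le_right) hy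
  have haU : a ∈ 𝐍(U) := by
    have := mul_mem (mul_mem h3 (inv_mem (h.W₁_norm hw))) (inv_mem (le_normalizer hu))
    simpa using this
  obtain ⟨u₀, hu₀, hu₁⟩ := exists_mem_ne_one h.U_ne
  have ha1 : a = 1 := by
    rw [← mem_bot, ← h.reg u₀ hu₀ hu₁]
    refine mem_inf.2 ⟨ha, U4.mem_cent1.2 ?_⟩
    rw [← commutatorElement_eq_one_iff_mul_comm, ← mem_bot, ← h.PU_bot, commutatorElement_def]
    refine mem_inf.2 ⟨?_, mul_mem (conj_mem_of_mem_normalizer haU hu₀) (inv_mem hu₀)⟩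
    have := mul_mem ha (conj_mem_of_mem_normalizer (mem_inf.1 (h.U_le hu₀)).2 (inv_mem ha))
    simpa [mul_assoc] using this
  subst ha1
  have huW : u ∈ 𝐍(W₁) := by
    have := mul_mem h4 (inv_mem (le_normalizer hw))
    simpa using this
  have hu1 : u = 1 := by
    rw [← mem_bot, ← h.reg']
    refine mem_inf.2 ⟨hu, U4.mem_cent.2 fun w' hw' => ?_⟩
    rw [← commutatorElement_eq_one_iff_mul_comm, ← mem_bot, ← h.UW_bot, commutatorElement_def]
    refine mem_inf.2 ⟨mul_mem (conj_mem_of_mem_normalizer (h.W₁_norm hw') hu) (inv_mem hu), ?_⟩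
    have := mul_mem hw' (conj_mem_of_mem_normalizer huW (inv_mem hw'))
    simpa [mul_assoc] using this
  subst hu1
  simpa using hw

theorem exists_norm [Finite G] [S.Normal] (h : HalfIn S p q P U W₁ W₂) (g : G) :
    ∃ s ∈ S, s * g ∈ 𝐍(P) ⊓ 𝐍(U) ⊓ 𝐍(W₁) := by
  haveI := Fact.mk h.p_prime
  haveI := Fact.mk h.q_prime
  have hS : ∀ x : G, x ∈ 𝐍(S) := fun x => by rw [normalizer_eq_top]; trivial
  have hP : IsSylowIn p P S :=
    ⟨h.P_le, isPGroup_of_isElementaryAbelian h.elem, h.not_dvd_index⟩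
  obtain ⟨s₁, hs₁, h1⟩ := hP.frattini_elem (hS g)
  have hL : ∀ x ∈ 𝐍(P), x ∈ 𝐍(S ⊓ 𝐍(P)) := fun x hx => by
    rw [← map_conj_eq_iff_mem_normalizer, map_conj_inf, map_conj_eq_of_normal, cj_eq_of_mem hx]
  obtain ⟨s₂, hs₂, h2⟩ := Hall.conj_hallOf h.solv
    (Hall.isPiHallOf_map_conj h.hall_U (hL _ h1)) h.hall_U
  rw [cj_cj, eq_comm, map_conj_eq_iff_mem_normalizer] at h2
  have h2' : s₂ * (s₁ * g) ∈ 𝐍(P) := mul_mem (mem_inf.1 hs₂).2 h1
  have hW : IsSylowIn q W₁ (S ⊓ 𝐍(P) ⊓ 𝐍(U)) :=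
    h.sylow_W.mono (le_inf h.W_le h.W₁_norm) inf_le_left
  obtain ⟨s₃, hs₃, h3⟩ := hW.frattini_elem (g := s₂ * (s₁ * g)) (by
    rw [← map_conj_eq_iff_mem_normalizer, map_conj_inf, CfsgLib.map_conj_eq_of_mem_normalizer (hL _ h2'),
      cj_eq_of_mem h2])
  refine ⟨s₃ * s₂ * s₁, mul_mem (mul_mem (mem_inf.1 (mem_inf.1 hs₃).1).1 (mem_inf.1 hs₂).1) hs₁, ?_⟩
  rw [mul_assoc, mul_assoc]
  exact mem_inf.2 ⟨mem_inf.2 ⟨mul_mem (mem_inf.1 (mem_inf.1 hs₃).1).2 h2',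
    mul_mem (mem_inf.1 hs₃).2 h2⟩, h3⟩

theorem exists_cent [Finite G] [S.Normal] (h : HalfIn S p q P U W₁ W₂) (hS : S ≠ ⊤) :
    ∃ a : G, a ∉ S ∧ a ∈ 𝐍(P) ∧ a ∈ 𝐂(U) ∧ a ∈ 𝐂(W₁) := by
  haveI := Fact.mk h.p_prime
  set Z := 𝐍(P) ⊓ 𝐍(U) ⊓ 𝐍(W₁) with hZ
  have hWZ : W₁ < Z := by
    refine lt_of_le_of_ne (le_inf (le_inf (h.W_le.trans inf_le_right) h.W₁_norm) le_normalizer)
      fun e => hS (eq_top_iff.2 fun g _ => ?_)
    obtain ⟨s, hs, h1⟩ := h.exists_norm g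
    rw [← hZ, ← e] at h1
    exact (mul_mem_cancel_left hs).1 (mem_inf.1 (h.W_le h1)).1
  have hne : Z ⊓ 𝐂(U) ≠ ⊥ := fun e => by
    have h1 : Nat.card Z ≤ q := card_le_of_semiReg h.elem h.card_P h.q_prime.ne_zero h.U_cyclic
      (h.U_le.trans inf_le_right) (inf_le_left.trans inf_le_left) (inf_le_left.trans inf_le_right)
      h.reg e
    have h2 := card_lt_card_of_lt hWZ
    rw [h.card_W₁] at h2
    omega
  obtain ⟨a, ha, ha1⟩ := exists_mem_ne_one hne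
  obtain ⟨haZ, haU⟩ := mem_inf.1 ha
  obtain ⟨haPU, haW⟩ := mem_inf.1 haZ
  obtain ⟨haP, haU'⟩ := mem_inf.1 haPU
  refine ⟨a, fun haS => ha1 ?_, haP, haU, U4.mem_cent.2 fun w hw => ?_⟩
  · rw [← mem_bot, ← h.W_cent_U_bot]
    exact mem_inf.2 ⟨h.mem_W haS haP haU' haW, haU⟩
  · rw [← commutatorElement_eq_one_iff_mul_comm, ← mem_bot, ← h.W_cent_U_bot,
      commutatorElement_def]
    refine mem_inf.2 ⟨?_, mul_mem ?_ (inv_mem haU)⟩
    · have := mul_mem hw (conj_mem_of_mem_normalizer haW (inv_mem hw))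
      simpa [mul_assoc] using this
    · have h1 : w •ᶜ 𝐂(U) = 𝐂(U) := by
        rw [← centralizer_map_conj, CfsgLib.map_conj_eq_of_mem_normalizer (h.W₁_norm hw)]
      rw [← h1]
      exact conj_mem_map_conj haU

/-- An element centralizing `U`, `W₁`, `W₂` and normalizing `P` centralizes `P`. -/
theorem cent_P (h : HalfIn S p q P U W₁ W₂) {a : G} (h1 : a ∈ 𝐂(U)) (h2 : a ∈ 𝐂(W₁))
    (h3 : a ∈ 𝐂(W₂)) : a ∈ 𝐂(P) := by
  haveI := Fact.mk h.p_prime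
  have hn : U ⊔ W₁ ≤ 𝐍(P ⊓ 𝐂[a]) := fun x hx => by
    have hx1 : x ∈ 𝐍(P) := (sup_le (h.U_le.trans inf_le_right) (h.W_le.trans inf_le_right)) hx
    have hx2 : a ∈ 𝐂(U ⊔ W₁) := by rw [cent_sup]; exact mem_inf.2 ⟨h1, h2⟩
    have hx3 : x ∈ 𝐂[a] := U4.mem_cent1.2 (U4.mem_cent.1 hx2 x hx)
    rw [← map_conj_eq_iff_mem_normalizer, map_conj_inf, CfsgLib.map_conj_eq_of_mem_normalizer hx1,
      cj_eq_of_mem hx3]
  rcases h.irr _ inf_le_left hn with e | e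
  · refine absurd (le_bot_iff.1 ?_) (ne_bot_of_card_prime h.card_W₂)
    rw [← e]
    exact le_inf (h.cent ▸ inf_le_left) fun w hw => U4.mem_cent1.2 (U4.mem_cent.1 h3 w hw)
  · exact U4.mem_cent.2 fun x hx => U4.mem_cent1.1 (mem_inf.1 (e.ge hx)).2

theorem card_dvd_of_pCore [Finite G] (h : HalfIn S p q P U W₁ W₂) {J Q : Subgroup G} (hJ : J ≤ S)
    (hP : P ≤ J) (hne : piCoreOf {p} J ≠ ⊥) (hQ : IsPGroup q Q) (hQJ : Q ≤ J) : Nat.card Q ∣ q := by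
  haveI := Fact.mk h.p_prime
  haveI := Fact.mk h.q_prime
  have hS : IsSylowIn p P S :=
    ⟨h.P_le, isPGroup_of_isElementaryAbelian h.elem, h.not_dvd_index⟩
  have h1 : piCoreOf {p} J ≤ P := le_sylow_of_norm' hS (piCoreOf_isPGroup J)
    ((piCoreOf_le _ _).trans hJ) (hP.trans (le_norm_piCoreOf _ _))
  have h2 : J ≤ S ⊓ 𝐍(P) := le_inf hJ ((le_inf hJ (le_norm_piCoreOf _ _)).trans (h.ti _ h1 hne))
  rw [← h.card_W₁]
  exact h.sylow_W.card_dvd hQ (hQJ.trans h2)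

theorem not_solv [Finite G] {Q V : Subgroup G} (hP : HalfIn S p q P U W₁ W₂)
    (hQ : HalfIn S q p Q V W₂ W₁) {M : Subgroup G} (hM : M ≤ S) (hs : Group.IsSolvable M)
    (hPM : P ≤ M) (hQM : Q ≤ M) : False := by
  haveI := Fact.mk hP.p_prime
  haveI := Fact.mk hP.q_prime
  have hPp := isPGroup_of_isElementaryAbelian hP.elem
  have hQq := isPGroup_of_isElementaryAbelian hQ.elem
  obtain ⟨J, hJ, hPJ⟩ := Hall.exists_hallOf_ge (π := {p, q}) hs
    (isPi_of_isPGroup hPp (Or.inl rfl)) hPM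
  obtain ⟨g, hg, hQJ⟩ := Hall.exists_conj_le_hallOf hs (isPi_of_isPGroup hQq (Or.inr rfl)) hQM hJ
  have hP1 : P ≠ ⊥ := ne_bot_of_dvd_card (p := p)
    (by rw [hP.card_P]; exact dvd_pow_self _ hP.q_prime.ne_zero)
  have key : ∀ {a b : ℕ}, a.Prime → b.Prime → ¬ a ^ b ∣ a := fun {a b} ha hb hd => by
    have := (Nat.pow_dvd_pow_iff_le_right ha.one_lt).1 (hd.trans (dvd_of_eq (pow_one a).symm))
    exact absurd hb.one_lt (by omega)
  obtain ⟨t, ht, hne⟩ := exists_pCore_ne_bot' (isSolvable_of_le hs hJ.1)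
    (fun e => hP1 (le_bot_iff.1 (hPJ.trans e.le)))
  have htm : t ∈ ({p, q} : Set ℕ) := hJ.2.1 t ht.out
    ((dvd_card_of_isPGroup (piCoreOf_isPGroup J) hne).trans (card_dvd_of_le (piCoreOf_le _ _)))
  rcases htm with rfl | rfl
  · have := hP.card_dvd_of_pCore (hJ.1.trans hM) hPJ hne (hQq.map _) hQJ
    rw [card_map_conj, hQ.card_P] at this
    exact key hP.q_prime hP.p_prime this
  · have := hQ.card_dvd_of_pCore (J := g⁻¹ •ᶜ J) (Q := g⁻¹ •ᶜ P)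
      (cj_le_of_norm (hJ.1.trans hM) (le_normalizer (hM (inv_mem hg)))) (cj_le_iff.1 hQJ)
      (by rw [piCoreOf_cj]; exact fun e => hne (cj_eq_bot_iff.1 e)) (hPp.map _) (map_mono hPJ)
    rw [card_map_conj, hP.card_P] at this
    exact key hP.p_prime hP.q_prime this

end HalfIn

theorem exists_mul_of_index_prime {S : Subgroup G} [S.Normal] {r : ℕ} (hr : r.Prime)
    (hi : S.index = r) {a : G} (ha : a ∉ S) (b : G) : ∃ s ∈ S, ∃ c ∈ zpowers a, s * c = b := by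
  have h1 : (S ⊔ zpowers a).index ∣ r := hi ▸ index_dvd_of_le le_sup_left
  have h2 : S ⊔ zpowers a = ⊤ := by
    rcases (Nat.dvd_prime hr).1 h1 with e | e
    · exact index_eq_one.1 e
    · exfalso
      have h3 := relIndex_mul_index (le_sup_left : S ≤ S ⊔ zpowers a)
      rw [e, hi] at h3
      have h4 : S.relIndex (S ⊔ zpowers a) = 1 :=
        Nat.eq_of_mul_eq_mul_right hr.pos (by rw [h3, one_mul])
      exact ha (relIndex_eq_one.1 h4 (mem_sup_right (mem_zpowers a)))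
  exact mem_sup_norm (by rw [normalizer_eq_top]; exact le_top) (h2.ge (mem_top b))

/-- Every element outside `S` has a centralizer of odd order. -/
theorem solv_cent [Finite G] {S : Subgroup G} [S.Normal] {r : ℕ} (hr : r.Prime) (hi : S.index = r)
    {π : Set ℕ} (hπ : Isolated π G) (h2 : 2 ∉ π) (hrπ : r ∈ π) {z : G} (hz : z ∉ S) :
    Group.IsSolvable (𝐂[z]) := by
  obtain ⟨u, hu, v, hv, e, -, h3, h4⟩ := exists_pi_part π z
  have hvS : v ∈ S := mem_of_coprime_index (by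
    rw [hi]; exact ((isPiNum_prime hr hrπ).coprime_compl h4).symm)
  have hu1 : u ≠ 1 := fun h => hz (by rw [e, h, one_mul]; exact hvS)
  have h5 := hπ u hu1 h3
  refine isSolvable_of_le (feit_thompson ?_) (U4.cent1_le_cent1 hu)
  rw [← Nat.not_even_iff_odd, even_iff_two_dvd]
  exact fun hd => h2 (h5 2 Nat.prime_two hd)

theorem halfIn_false [Finite G] {S : Subgroup G} [S.Normal] {r : ℕ} (hr : r.Prime)
    (hi : S.index = r) (hsol : ∀ z ∉ S, Group.IsSolvable (𝐂[z])) {p q : ℕ}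
    {P U W₁ Q V W₂ : Subgroup G} (hP : HalfIn S p q P U W₁ W₂) (hQ : HalfIn S q p Q V W₂ W₁)
    (hW : S ⊓ 𝐍(W₁ ⊔ W₂) = W₁ ⊔ W₂) : False := by
  haveI := Fact.mk hP.p_prime
  haveI := Fact.mk hP.q_prime
  have hS : S ≠ ⊤ := fun e => hr.one_lt.ne' (by rw [← hi, e, index_top])
  obtain ⟨a, haS, haP, haU, haW⟩ := hP.exists_cent hS
  obtain ⟨b, hbS, hbQ, hbV, hbW⟩ := hQ.exists_cent hS
  have h21 : W₂ ≤ 𝐂(W₁) := hP.cent ▸ inf_le_right
  have h12 : W₁ ≤ 𝐂(W₂) := le_centralizer_iff.1 h21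
  have hW1 : W₁ ⊔ W₂ ≤ 𝐂(W₁) := sup_le (le_cent_of_card_prime hP.card_W₁) h21
  have hW2 : W₁ ⊔ W₂ ≤ 𝐂(W₂) := sup_le h12 (le_cent_of_card_prime hP.card_W₂)
  have haN : a ∈ 𝐍(W₁ ⊔ W₂) := by
    rw [← map_conj_eq_iff_mem_normalizer, cj_sup, cj_eq_of_mem_cent haW]
    congr 1
    rw [← hP.cent, map_conj_inf, ← centralizer_map_conj, cj_eq_of_mem_cent haW,
      CfsgLib.map_conj_eq_of_mem_normalizer haP]
  have hbN : b ∈ 𝐍(W₁ ⊔ W₂) := by
    rw [← map_conj_eq_iff_mem_normalizer, cj_sup, cj_eq_of_mem_cent hbW]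
    congr 1
    rw [← hQ.cent, map_conj_inf, ← centralizer_map_conj, cj_eq_of_mem_cent hbW,
      CfsgLib.map_conj_eq_of_mem_normalizer hbQ]
  have dec : ∀ {x y : G}, x ∉ S → x ∈ 𝐍(W₁ ⊔ W₂) → y ∈ 𝐍(W₁ ⊔ W₂) →
      ∃ s ∈ W₁ ⊔ W₂, ∃ c ∈ zpowers x, s * c = y := fun {x y} hx hxN hyN => by
    obtain ⟨s, hs, c, hc, e⟩ := exists_mul_of_index_prime hr hi hx y
    refine ⟨s, hW ▸ mem_inf.2 ⟨hs, ?_⟩, c, hc, e⟩
    rw [← e] at hyN
    exact (mul_mem_cancel_right ((zpowers_le_of_mem hxN) hc)).1 hyN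
  obtain ⟨s, hs, c, hc, e⟩ := dec hbS hbN haN
  obtain ⟨s', hs', c', hc', e'⟩ := dec haS haN hbN
  have haC : a ∈ 𝐂(P) :=
    hP.cent_P haU haW (e ▸ mul_mem (hW2 hs) (zpowers_le_of_mem hbW hc))
  have hbC : b ∈ 𝐂(Q) :=
    hQ.cent_P hbV hbW (e' ▸ mul_mem (hW1 hs') (zpowers_le_of_mem haW hc'))
  rw [sup_comm] at hs
  obtain ⟨w₂, hw₂, w₁, hw₁, rfl⟩ := mem_sup_norm (h12.trans (cent_le_norm _)) hs
  have hw₂P : w₂ ∈ P := (hP.cent ▸ inf_le_left : W₂ ≤ P) hw₂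
  have hw₁Q : w₁ ∈ Q := (hQ.cent ▸ inf_le_left : W₁ ≤ Q) hw₁
  have ez : w₁ * c = w₂⁻¹ * a := by rw [← e]; group
  have hzP : w₁ * c ∈ 𝐂(P) :=
    ez ▸ mul_mem (inv_mem (le_cent_of_comm hP.elem.1 le_rfl le_rfl hw₂P)) haC
  have hzQ : w₁ * c ∈ 𝐂(Q) :=
    mul_mem (le_cent_of_comm hQ.elem.1 le_rfl le_rfl hw₁Q) (zpowers_le_of_mem hbC hc)
  have hzS : w₁ * c ∉ S := fun h => haS ((mul_mem_cancel_left (inv_mem (hP.P_le hw₂P))).1 (ez ▸ h))
  refine hP.not_solv hQ (M := S ⊓ 𝐂[w₁ * c]) inf_le_left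
    (isSolvable_of_le (hsol _ hzS) inf_le_right) (le_inf hP.P_le fun x hx => ?_)
    (le_inf hQ.P_le fun x hx => ?_)
  · exact U4.mem_cent1.2 (U4.mem_cent.1 hzP x hx)
  · exact U4.mem_cent1.2 (U4.mem_cent.1 hzQ x hx)

end OutB

open OutB

theorem out_half_false {G : Type*} [Group G] [Finite G] (S : Subgroup G) [S.Normal] {r : ℕ}
    (hr : r.Prime) (hi : S.index = r) {π : Set ℕ} (hπ : Isolated π G) (h2 : 2 ∉ π) (hrπ : r ∈ π)
    {p q : ℕ} {P U W₁ Q V W₂ : Subgroup S} (hP : Half p q P U W₁ W₂) (hQ : Half q p Q V W₂ W₁)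
    (hW : 𝐍(W₁ ⊔ W₂) = W₁ ⊔ W₂) : False :=
  halfIn_false hr hi (fun _ hz => solv_cent hr hi hπ h2 hrπ hz) (halfIn_of_half hP)
    (halfIn_of_half hQ) (by rw [← Subgroup.map_sup, inf_norm_map, hW])

end CfsgLib.FT.PGI
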