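import Mathlib
import Cfsg.Agent.Lib.PG.Iface
import Cfsg.Agent.Lib.H5Thompson

/-! Part OUT of the prime graph project: general tools and cells of a normal simple subgroup. -/

set_option autoImplicit false
set_option linter.unusedSectionVars false
set_option linter.unusedVariables false

namespace CfsgLib.FT.PGI

open Subgroup Cfsg BGN
open scoped commutatorElement

variable {G : Type*} [Group G]

theorem mem_norm_inf [Finite G] {g : G} {A B : Subgroup G} (h1 : g ∈ 𝐍(A)) (h2 : g ∈ 𝐍(B)) :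
    g ∈ 𝐍(A ⊓ B) := mem_normalizer_of_conj_mem fun _ hx =>
  ⟨conj_mem_of_mem_normalizer h1 hx.1, conj_mem_of_mem_normalizer h2 hx.2⟩

theorem mem_norm_normal (S : Subgroup G) [S.Normal] (g : G) : g ∈ 𝐍(S) := by
  rw [normalizer_eq_top]; exact mem_top g

theorem mem_norm_norm {g : G} {A : Subgroup G} (h : g ∈ 𝐍(A)) : g ∈ 𝐍(𝐍(A)) := le_normalizer h

theorem mem_norm_cent1 (x : G) : x ∈ 𝐍(𝐂[x]) := le_normalizer (U4.self_mem_cent1 x)

theorem card_zp {x : G} {r : ℕ} (hx : orderOf x = r) : Nat.card (zpowers x) = r := by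
  rw [Nat.card_zpowers, hx]

theorem ne_one_of_order {x : G} {r : ℕ} (hr : r.Prime) (hx : orderOf x = r) : x ≠ 1 := by
  rintro rfl
  rw [orderOf_one] at hx
  exact hr.one_lt.ne hx

theorem semiReg_zp {x : G} {r : ℕ} (hr : r.Prime) (hx : orderOf x = r) {K : Subgroup G}
    (h : K ⊓ 𝐂[x] = ⊥) : SemiReg K (zpowers x) := fun y hy h1 => by
  have hp : (Nat.card (zpowers x)).Prime := by rw [card_zp hx]; exact hr
  rw [U4.cent1_eq_of_card_prime hp hy h1, U4.cent_zpowers, h]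

theorem exists_order_prime [Finite G] {H : Subgroup G} {p : ℕ} (hp : p.Prime)
    (hd : p ∣ Nat.card H) : ∃ x ∈ H, orderOf x = p := by
  have := Fact.mk hp
  obtain ⟨x, hx⟩ := exists_prime_orderOf_dvd_card' (G := H) p hd
  exact ⟨x, x.2, by rw [orderOf_coe, hx]⟩

variable [Finite G]

theorem nil_of_fpf {x : G} {r : ℕ} (hr : r.Prime) (hx : orderOf x = r) {K : Subgroup G}
    (hn : x ∈ 𝐍(K)) (h : K ⊓ 𝐂[x] = ⊥) : Group.IsNilpotent K :=
  prime_Frobenius_sol_kernel_nil (R := zpowers x) (zpowers_le.2 hn) (by rw [card_zp hx]; exact hr)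
    (by rw [U4.cent_zpowers]; exact h)

theorem not_dvd_of_fpf {x : G} {r : ℕ} (hr : r.Prime) (hx : orderOf x = r) {K : Subgroup G}
    (hn : x ∈ 𝐍(K)) (h : K ⊓ 𝐂[x] = ⊥) : ¬ r ∣ Nat.card K := by
  have := semiregular_coprime (zpowers_le.2 hn) (semiReg_zp hr hx h)
  rw [card_zp hx] at this
  exact hr.coprime_iff_not_dvd.1 this

theorem dvd_card_inf_cent1 {x : G} {r : ℕ} (hr : r.Prime) (hx : orderOf x = r) {L : Subgroup G}
    (hn : x ∈ 𝐍(L)) (hd : r ∣ Nat.card L) : r ∣ Nat.card ↥(L ⊓ 𝐂[x]) := by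
  have := Fact.mk hr
  obtain ⟨R, hR, hS⟩ := IsSylowIn.exists_ge (isPGroup_of_card_prime (card_zp hx))
    (le_sup_right : zpowers x ≤ L ⊔ zpowers x)
  have hL : L ⊔ zpowers x ≤ 𝐍(L) := sup_le le_normalizer (zpowers_le.2 hn)
  have h1 := hS.inf_of_le_normalizer le_sup_left (hS.le.trans hL)
  have h2 : x ∈ 𝐍(R ⊓ L) := mem_norm_inf (le_normalizer (hR (mem_zpowers x))) hn
  have h3 : R ⊓ L ⊓ 𝐂[x] ≠ ⊥ := fun h =>
    not_dvd_of_fpf hr hx h2 h (dvd_card_of_isPGroup h1.isPGroup (h1.ne_bot hd))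
  exact (dvd_card_of_isPGroup (h1.isPGroup.to_le inf_le_left) h3).trans
    (card_dvd_of_le (inf_le_inf_right _ inf_le_right))

theorem frob_fix {x : G} {r : ℕ} (hr : r.Prime) (hx : orderOf x = r) {K V : Subgroup G}
    (hK : x ∈ 𝐍(K)) (hV : x ∈ 𝐍(V)) (hKV : K ≤ 𝐍(V)) (hs : Group.IsSolvable V)
    (hc : (Nat.card K).Coprime (Nat.card V)) (h1 : K ⊓ 𝐂[x] = ⊥) (h2 : V ⊓ 𝐂[x] = ⊥) :
    K ≤ 𝐂(V) :=
  Frobenius_Wielandt_cent (R := zpowers x) (zpowers_le.2 hK) (semiReg_zp hr hx h1) hKV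
    (zpowers_le.2 hV) hs hc
    (by rw [card_zp hx]; exact hr.coprime_iff_not_dvd.2 (not_dvd_of_fpf hr hx hV h2))
    (U4.ne_bot_of_mem (mem_zpowers x) (ne_one_of_order hr hx))
    (by rw [U4.cent_zpowers]; exact h2)

theorem solv_of_nil {H : Subgroup G} (h : Group.IsNilpotent H) : Group.IsSolvable H :=
  inferInstance

theorem exists_central {H : Subgroup G} (hn : Group.IsNilpotent H) {p : ℕ} (hp : p.Prime)
    (hd : p ∣ Nat.card H) : ∃ z ∈ H, orderOf z = p ∧ H ≤ 𝐂[z] := by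
  have := Fact.mk hp
  have hS := U4.sylow_pcore_of_nil hn p
  have h1 := inf_centralizer_ne_bot_of_isNilpotent hn hS.le (U4.pcore_normal _ _) (hS.ne_bot hd)
  obtain ⟨z, hz, ho⟩ := exists_order_prime hp
    (dvd_card_of_isPGroup (hS.isPGroup.to_le inf_le_left) h1)
  exact ⟨z, hS.le hz.1, ho, fun h hh => U4.mem_cent1.2 (U4.mem_cent.1 hz.2 h hh)⟩

theorem exists_central' {H : Subgroup G} (hn : Group.IsNilpotent H) (h1 : H ≠ ⊥) :
    ∃ z ∈ H, z ≠ 1 ∧ (orderOf z).Prime ∧ H ≤ 𝐂[z] := by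
  obtain ⟨p, hp, hd⟩ := exists_prime_dvd_card h1
  obtain ⟨z, hz, ho, hc⟩ := exists_central hn hp hd
  exact ⟨z, hz, ne_one_of_order hp ho, ho ▸ hp, hc⟩

theorem not_nil_of_simple {S : Subgroup G} [IsSimpleGroup S] (hna : ¬ IsMulCommutative S) :
    ¬ Group.IsNilpotent S := fun _ =>
  hna ⟨⟨IsSimpleGroup.comm_iff_isSolvable.2 inferInstance⟩⟩

theorem not_hnpc_of_simple' {S : Subgroup G} [IsSimpleGroup S] (hna : ¬ IsMulCommutative S)
    {p : ℕ} [hp : Fact p.Prime] (hd : p ∣ Nat.card S) : ¬ HasNormalPComplement p S := fun h => by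
  obtain ⟨N, hN, h1, k, h2⟩ := PCompl.hnpc_exists_normal h
  rcases hN.eq_bot_or_eq_top with rfl | rfl
  · rw [index_bot] at h2
    exact not_nil_of_simple hna (IsPGroup.of_card h2).isNilpotent
  · rw [card_top] at h1
    exact hp.out.coprime_iff_not_dvd.1 h1.symm hd

theorem false_of_local_nil {S : Subgroup G} [IsSimpleGroup S] (hna : ¬ IsMulCommutative S)
    {p : ℕ} [hp : Fact p.Prime] (hp2 : p ≠ 2) (hd : p ∣ Nat.card S) {P : Subgroup G}
    (hP : IsSylowIn p P S)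
    (h : ∀ X ≤ P, X ≠ ⊥ → 𝐍(P) ≤ 𝐍(X) → Group.IsNilpotent ↥(S ⊓ 𝐍(X))) : False := by
  obtain ⟨Q, hQ⟩ := hP.exists_sylow_map
  have hP1 := hP.ne_bot hd
  have hdis : Disjoint (Q : Subgroup S) S.subtype.ker := by rw [ker_subtype]; exact disjoint_bot_right
  have key : ∀ X : Subgroup S, X.map S.subtype ≤ P → X.map S.subtype ≠ ⊥ →
      𝐍(P) ≤ 𝐍(X.map S.subtype) → HasNormalPComplement p 𝐍(X) := fun X h1 h2 h3 => by
    have := h _ h1 h2 h3
    refine H5.hnpc_of_map_le S.subtype S.subtype_injective (L := S ⊓ 𝐍(X.map S.subtype))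
      (le_inf (map_subtype_le _) (map_le_normalizer_map le_rfl _)) PCompl.hnpc_of_isNilpotent
  refine not_hnpc_of_simple' hna hd (H5.thompson_normal_p_complement hp2 Q ?_ ?_)
  · refine PCompl.hnpc_of_le (key _ ?_ ?_ ?_) (cent_le_norm _) <;>
      rw [← H5.centerOf_map _ _ hdis, hQ]
    · exact H5.centerOf_le P
    · exact H5.centerOf_ne_bot hP.isPGroup hP1
    · exact H5.normalizer_le_normalizer_centerOf P
  · refine key _ ?_ ?_ ?_ <;> rw [← H5.thompsonAOf_map _ _ hdis, hQ]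
    · exact H5.thompsonAOf_le P
    · exact H5.thompsonAOf_ne_bot hP1
    · exact H5.normalizer_le_normalizer_thompsonAOf P

theorem burnside_mem {p : ℕ} [Fact p.Prime] {U X : Subgroup G} (hS : IsSylowIn p U X)
    (h : X ⊓ 𝐍(U) ≤ 𝐂(U)) : HasNormalPComplement p X := by
  obtain ⟨P, hP⟩ := hS.exists_sylow
  refine PCompl.hnpc_of_normalizer_le_centralizer P fun g hg => ?_
  rw [hP] at hg ⊢
  rw [mem_normalizer_sgOf hS.le] at hg
  exact (mem_centralizer_sgOf hS.le).2 (h ⟨g.2, hg⟩)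

/-- an involution without fixed points on a subgroup inverts it -/
theorem inverts_of_fpf {t : G} (ht : t * t = 1) {H : Subgroup G} (hn : t ∈ 𝐍(H))
    (h : H ⊓ 𝐂[t] = ⊥) {y : G} (hy : y ∈ H) : t * y * t⁻¹ = y⁻¹ := by
  have hi : t⁻¹ = t := inv_eq_of_mul_eq_one_right ht
  let f : H → H := fun a => ⟨(a : G)⁻¹ * (t * a * t⁻¹),
    mul_mem (inv_mem a.2) (conj_mem_of_mem_normalizer hn a.2)⟩
  have hf : Function.Injective f := fun a b e => by
    have e' : (a : G)⁻¹ * (t * a * t⁻¹) = (b : G)⁻¹ * (t * b * t⁻¹) := congrArg Subtype.val e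
    have h1 : (b : G) * (a : G)⁻¹ ∈ H ⊓ 𝐂[t] := ⟨H.mul_mem b.2 (H.inv_mem a.2), U4.mem_cent1.2 (by
      calc (b : G) * (a : G)⁻¹ * t = b * ((a : G)⁻¹ * (t * a * t⁻¹)) * (t * (a : G)⁻¹) := by group
        _ = _ := by rw [e']; group)⟩
    rw [h, mem_bot, mul_inv_eq_one] at h1
    exact Subtype.ext h1.symm
  obtain ⟨a, ha⟩ := Finite.surjective_of_injective hf ⟨y, hy⟩
  have e : (a : G)⁻¹ * (t * a * t⁻¹) = y := congrArg Subtype.val ha
  rw [← e, hi]
  calc t * ((a : G)⁻¹ * (t * a * t)) * t = t * (a : G)⁻¹ * t * a * (t * t) := by group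
    _ = _ := by rw [ht]; simp [hi, mul_assoc]

/-! ### Cells of `S` -/

/-- A cell of `S` which is a `π`-group, as a subgroup of the ambient group. -/
structure SCell (S : Subgroup G) (π : Set ℕ) (H : Subgroup G) : Prop where
  le : H ≤ S
  ne_bot : H ≠ ⊥
  nil : Group.IsNilpotent H
  cent : ∀ h ∈ H, h ≠ 1 → S ⊓ 𝐂[h] ≤ H
  pi : IsPiSubgroup π H

namespace SCell

variable {S H H' : Subgroup G} {π : Set ℕ}

omit [Finite G] in
theorem mem (c : SCell S π H) {h s : G} (hh : h ∈ H) (h1 : h ≠ 1) (hs : s ∈ S)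
    (e : s ∈ 𝐂[h]) : s ∈ H := c.cent h hh h1 ⟨hs, e⟩

theorem le_of_mem (c : SCell S π H) (c' : SCell S π H') {h : G} (hh : h ∈ H) (hh' : h ∈ H')
    (h1 : h ≠ 1) : H ≤ H' := by
  obtain ⟨z, hz, hz1, -, hc⟩ := exists_central' c.nil c.ne_bot
  have := c'.mem hh' h1 (c.le hz) (U4.mem_cent1_comm.1 (hc hh))
  exact fun y hy => c'.mem this hz1 (c.le hy) (hc hy)

theorem eq_of_mem (c : SCell S π H) (c' : SCell S π H') {h : G} (hh : h ∈ H) (hh' : h ∈ H')
    (h1 : h ≠ 1) : H = H' := le_antisymm (c.le_of_mem c' hh hh' h1) (c'.le_of_mem c hh' hh h1)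

theorem inf_eq_bot (c : SCell S π H) (c' : SCell S π H') (hne : H ≠ H') : H ⊓ H' = ⊥ :=
  U4.eq_bot_of_forall fun _ hx => by_contra fun h1 => hne (c.eq_of_mem c' hx.1 hx.2 h1)

omit [Finite G] in
theorem conj [S.Normal] (c : SCell S π H) (g : G) : SCell S π (g •ᶜ H) where
  le := by
    rw [← map_conj_eq_of_normal g S]; exact map_mono c.le
  ne_bot := mt cj_eq_bot_iff.1 c.ne_bot
  nil := U4.B14.isNilpotent_conj c.nil g
  cent := by
    rintro _ ⟨h, hh, rfl⟩ h1 y hy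
    have h1' : h ≠ 1 := U4.conj_ne_one_iff.1 h1
    have h2 : y ∈ g •ᶜ (S ⊓ 𝐂[h]) := by
      rw [map_conj_inf, map_conj_eq_of_normal, cj_cent1]; exact hy
    exact map_mono (c.cent h hh h1') h2
  pi := isPi_cj c.pi g

theorem norm_le [S.Normal] (c : SCell S π H) {X : Subgroup G} (hX : X ≤ H) (h1 : X ≠ ⊥) :
    𝐍(X) ≤ 𝐍(H) := fun g hg => by
  obtain ⟨x, hx, hx1⟩ := U4.exists_ne_one h1
  exact mem_normalizer_of_map_conj_eq ((c.conj g).eq_of_mem c (conj_mem_map_conj (hX hx))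
    (hX (conj_mem_of_mem_normalizer hg hx)) (U4.conj_ne_one_iff.2 hx1))

theorem sylow (c : SCell S π H) {p : ℕ} [hp : Fact p.Prime] (hd : p ∣ Nat.card H) {P : Subgroup G}
    (hP : IsSylowIn p P H) : IsSylowIn p P S := by
  obtain ⟨Q, hPQ, hQ⟩ := IsSylowIn.exists_ge hP.isPGroup (hP.le.trans c.le)
  obtain ⟨y, hy, hy1⟩ := U4.exists_ne_one (hP.ne_bot hd)
  obtain ⟨z, hz, hz1, -, hc⟩ := exists_central' hQ.isPGroup.isNilpotent
    (U4.ne_bot_of_mem (hPQ hy) hy1)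
  have h1 := c.mem (hP.le hy) hy1 (hQ.le hz) (U4.mem_cent1_comm.1 (hc (hPQ hy)))
  have h2 : Q ≤ H := fun a ha => c.mem h1 hz1 (hQ.le ha) (hc ha)
  rwa [← hP.eq_of_le hQ.isPGroup hPQ h2]

theorem coprime (c : SCell S π H) : (Nat.card H).Coprime (H.relIndex S) := by
  refine Nat.coprime_of_dvd fun p hp hd hd' => ?_
  have := Fact.mk hp
  obtain ⟨P, hP⟩ := IsSylowIn.exists_in (p := p) H
  exact (c.sylow hd hP).not_dvd (hd'.trans (Dvd.intro_left _ (relIndex_mul_relIndex _ _ _ hP.le c.le)))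

theorem hall (c : SCell S π H) : IsPiHallOf {p | p ∣ Nat.card H} H S :=
  U4.hallOf_of_coprime c.le c.coprime

theorem hallN (c : SCell S π H) : IsPiHallOf {p | p ∣ Nat.card H} H (S ⊓ 𝐍(H)) :=
  Hall.isPiHallOf_of_le c.hall (le_inf c.le le_normalizer) inf_le_left

/-- a subgroup of `N_S(H)` whose prime divisors divide `|H|` lies in `H` -/
theorem le_of_dvd (c : SCell S π H) {X : Subgroup G} (hX : X ≤ S ⊓ 𝐍(H))
    (h : ∀ p : ℕ, p.Prime → p ∣ Nat.card X → p ∣ Nat.card H) : X ≤ H :=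
  U4.le_of_normal_hallOf c.hallN inf_le_right h hX

theorem mem_of_dvd (c : SCell S π H) {x : G} (hS : x ∈ S) (hx : x ∈ 𝐍(H)) {p : ℕ} (hp : p.Prime)
    (ho : orderOf x = p) (h : p ∣ Nat.card H) : x ∈ H :=
  c.le_of_dvd (X := zpowers x) (zpowers_le.2 ⟨hS, hx⟩) (fun q hq hd => by
    rw [card_zp ho] at hd
    rwa [(Nat.prime_dvd_prime_iff_eq hq hp).1 hd]) (mem_zpowers x)

theorem exists_conj [S.Normal] (c : SCell S π H) (c' : SCell S π H') {p : ℕ} (hp : p.Prime)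
    (hd : p ∣ Nat.card H) (hd' : p ∣ Nat.card H') : ∃ s ∈ S, s •ᶜ H' = H := by
  have := Fact.mk hp
  obtain ⟨P, hP⟩ := IsSylowIn.exists_in (p := p) H
  obtain ⟨P', hP'⟩ := IsSylowIn.exists_in (p := p) H'
  obtain ⟨s, hs, e⟩ := (c.sylow hd hP).exists_conj_eq (c'.sylow hd' hP')
  obtain ⟨y, hy, hy1⟩ := U4.exists_ne_one (hP.ne_bot hd)
  exact ⟨s, hs, (c'.conj s).eq_of_mem c (map_mono hP'.le (e ▸ hy)) (hP.le hy) hy1⟩

theorem card_eq [S.Normal] (c : SCell S π H) (c' : SCell S π H') {p : ℕ} (hp : p.Prime)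
    (hd : p ∣ Nat.card H) (hd' : p ∣ Nat.card H') : Nat.card H = Nat.card H' := by
  obtain ⟨s, -, e⟩ := c.exists_conj c' hp hd hd'
  rw [← e, card_map_conj]

theorem exists_compl (c : SCell S π H) : ∃ E, IsComplIn H E (S ⊓ 𝐍(H)) := by
  classical
  have := Fintype.ofFinite G
  exact exists_isComplIn_of_coprime (le_inf c.le le_normalizer) inf_le_right
    (U4.hallOf_coprime c.hallN)

variable {E : Subgroup G}

omit [Finite G] in
theorem semiReg (c : SCell S π H) (hE : IsComplIn H E (S ⊓ 𝐍(H))) : SemiReg H E :=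
  fun e he h1 => U4.eq_bot_of_forall fun h hh => by_contra fun h2 =>
    h1 (U4.eq_one_of_mem_inf hE.2.2.1
      (c.mem hh.1 h2 (hE.2.1 he).1 (U4.mem_cent1_comm.1 hh.2)) he)

theorem compl_coprime (c : SCell S π H) (hE : IsComplIn H E (S ⊓ 𝐍(H))) :
    (Nat.card E).Coprime (Nat.card H) :=
  semiregular_coprime (hE.2.1.trans inf_le_right) (c.semiReg hE)

theorem compl_conj (c : SCell S π H) {E' : Subgroup G} (hE : IsComplIn H E (S ⊓ 𝐍(H)))
    (hE' : IsComplIn H E' (S ⊓ 𝐍(H))) : ∃ l ∈ S ⊓ 𝐍(H), E' = l •ᶜ E :=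
  Hall.conj_hallOf_of_piSep (U4.B14.piSep_of_normal_hall c.hallN inf_le_right).compl
    (U4.IsComplIn.hall_compl hE c.hallN) (U4.IsComplIn.hall_compl hE' c.hallN)
    (Or.inr fun L hL h => isSolvable_of_le (solv_of_nil c.nil)
      (U4.le_of_normal_hallOf c.hallN inf_le_right (by rwa [compl_compl] at h) hL))

/-- `l ∈ N_S(H)` with `[l, x] ∈ H` lies in `H` when `x` is fixed point free on the complement -/
theorem mem_of_comm (hE : IsComplIn H E (S ⊓ 𝐍(H))) {x : G} (hxH : x ∈ 𝐍(H)) (hxE : x ∈ 𝐍(E))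
    (h0 : E ⊓ 𝐂[x] = ⊥) {l : G} (hl : l ∈ S ⊓ 𝐍(H)) (h : ⁅l, x⁆ ∈ H) : l ∈ H := by
  obtain ⟨a, ha, e, he, rfl⟩ := hE.2.2.2 l hl
  have h1 : ⁅e, x⁆ ∈ E := by
    rw [commutatorElement_def, mul_assoc, mul_assoc, ← mul_assoc x]
    exact mul_mem he (conj_mem_of_mem_normalizer hxE (inv_mem he))
  have h2 : ⁅e, x⁆ ∈ H := by
    have : ⁅e, x⁆ = a⁻¹ * ⁅a * e, x⁆ * (x * a * x⁻¹) := by simp only [commutatorElement_def]; group
    rw [this]
    exact mul_mem (mul_mem (inv_mem ha) h) (conj_mem_of_mem_normalizer hxH ha)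
  have h3 := commutatorElement_eq_one_iff_mul_comm.1 (U4.eq_one_of_mem_inf hE.2.2.1 h2 h1)
  rw [U4.eq_one_of_mem_inf h0 he (U4.mem_cent1.2 h3), mul_one]
  exact ha

end SCell

end CfsgLib.FT.PGI
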