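import Mathlib
import Cfsg.Agent.Lib.PG.OutA

/-! Part OUT of the prime graph project: normalizers of cells and good pairs. -/

set_option autoImplicit false
set_option linter.unusedSectionVars false
set_option linter.unusedVariables false

namespace CfsgLib.FT.PGI

open Subgroup Cfsg BGN
open scoped commutatorElement

variable {G : Type*} [Group G] [Finite G]

theorem odd_of_pi {π : Set ℕ} (h2 : 2 ∉ π) {X : Subgroup G} (h : IsPiSubgroup π X) :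
    Odd (Nat.card X) :=
  Nat.not_even_iff_odd.1 fun e => h2 (h 2 Nat.prime_two (even_iff_two_dvd.1 e))

theorem exists_r_part {S : Subgroup G} [S.Normal] {r : ℕ} (hr : r.Prime) (hi : S.index = r) {g : G}
    (hg : g ∉ S) : ∃ u ∈ zpowers g, u ∉ S ∧ ∃ k, orderOf u = r ^ k := by
  obtain ⟨u, hu, v, hv, e, -, hk, hc⟩ := exists_p_part hr g
  exact ⟨u, hu, fun h => hg (e ▸ mul_mem h (mem_of_coprime_index (hi ▸ hc))), hk⟩

theorem order_eq_of_pow_mem {S X : Subgroup G} {r k : ℕ} (hr : r.Prime) {u : G} (hu : u ∉ S)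
    (hk : orderOf u = r ^ k) (hX : u ^ r ∈ X) (hd : ¬ r ∣ Nat.card X) : orderOf u = r := by
  have := Fact.mk hr
  refine orderOf_eq_prime ?_ fun e => hu (e ▸ S.one_mem)
  have h1 : (orderOf (u ^ r)).Coprime (Nat.card X) :=
    ((hr.coprime_iff_not_dvd.2 hd).pow_left k).coprime_dvd_left (hk ▸ orderOf_pow_dvd r)
  exact orderOf_eq_one_iff.1 (h1.eq_one_of_dvd (X.orderOf_dvd_natCard hX))

theorem cent_pi_of_notMem {S : Subgroup G} [S.Normal] {r : ℕ} (hr : r.Prime) (hi : S.index = r)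
    {π : Set ℕ} (hπ : Isolated π G) (hrπ : r ∈ π) {g : G} (hg : g ∉ S) : IsPiSubgroup π 𝐂[g] := by
  obtain ⟨u, hu, hu1, k, hk⟩ := exists_r_part hr hi hg
  have h1 := hπ u (fun e => hu1 (e ▸ S.one_mem)) (hk ▸ (isPiNum_prime hr hrπ).pow k)
  exact hπ g (fun e => hg (e ▸ S.one_mem))
    (U4.isPiNum_orderOf_of_mem h1 (U4.cent1_le_cent1 hu (U4.self_mem_cent1 g)))

/-- The standing hypotheses of part OUT. -/
structure OutCtx (S : Subgroup G) (π : Set ℕ) (r : ℕ) : Prop where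
  simple : IsSimpleGroup S
  nonab : ¬ IsMulCommutative S
  prime : r.Prime
  index : S.index = r
  iso : Isolated π G
  two : 2 ∉ π
  mem : r ∈ π
  cells : ∀ p : ℕ, p.Prime → p ∈ π → p ∣ Nat.card S → ∃ H, SCell S π H ∧ p ∣ Nat.card H

namespace OutCtx

variable {S : Subgroup G} [S.Normal] {π : Set ℕ} {r : ℕ} (c : OutCtx S π r) {H E : Subgroup G}
include c

theorem cent_pi {g : G} (hg : g ∉ S) : IsPiSubgroup π 𝐂[g] :=
  cent_pi_of_notMem c.prime c.index c.iso c.mem hg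

theorem exists_notMem : ∃ g, g ∉ S := by
  by_contra! h
  have := c.index
  rw [(eq_top_iff' S).2 h, index_top] at this
  exact c.prime.one_lt.ne this

theorem pow_mem (g : G) : g ^ r ∈ S := c.index ▸ S.pow_index_mem g

theorem exists_cell_ge {X : Subgroup G} (hX : X ≤ S) (hn : Group.IsNilpotent X)
    (hπ : IsPiSubgroup π X) (h1 : X ≠ ⊥) : ∃ H, SCell S π H ∧ X ≤ H := by
  obtain ⟨z, hz, hz1, hp, hc⟩ := exists_central' hn h1
  have := Fact.mk hp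
  have hd := X.orderOf_dvd_natCard hz
  obtain ⟨H, hH, hd'⟩ := c.cells _ hp (hπ _ hp hd) (hd.trans (card_dvd_of_le hX))
  obtain ⟨P, hP⟩ := IsSylowIn.exists_in (p := orderOf z) H
  obtain ⟨s, hs, e⟩ := (hH.sylow hd' hP).exists_conj_le
    (isPGroup_of_card_prime (card_zp (x := z) rfl)) (zpowers_le.2 (hX hz))
  have h2 : z ∈ s⁻¹ •ᶜ H := cj_le_iff.1 (e.trans hP.le) (mem_zpowers z)
  exact ⟨_, hH.conj s⁻¹, fun y hy => (hH.conj s⁻¹).mem h2 hz1 (hX hy) (hc hy)⟩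

theorem exists_outer (hH : SCell S π H) : ∃ g ∈ 𝐍(H), g ∉ S := by
  obtain ⟨g, hg⟩ := c.exists_notMem
  obtain ⟨p, hp, hd⟩ := exists_prime_dvd_card hH.ne_bot
  obtain ⟨s, hs, e⟩ := hH.exists_conj (hH.conj g) hp hd (by rwa [card_map_conj])
  rw [cj_cj] at e
  exact ⟨s * g, mem_normalizer_of_map_conj_eq e, fun h => hg ((mul_mem_cancel_left hs).1 h)⟩

theorem compl_ne_bot (hH : SCell S π H) (hE : IsComplIn H E (S ⊓ 𝐍(H))) : E ≠ ⊥ := by
  rintro rfl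
  have h1 : S ⊓ 𝐍(H) ≤ H := by rw [← U4.IsComplIn.sup_eq hE, sup_bot_eq]
  obtain ⟨p, hp, hd⟩ := exists_prime_dvd_card hH.ne_bot
  have := Fact.mk hp
  have := c.simple
  obtain ⟨P, hP⟩ := IsSylowIn.exists_in (p := p) H
  exact false_of_local_nil c.nonab (fun e => c.two (e ▸ hH.pi p hp hd))
    (hd.trans (card_dvd_of_le hH.le)) (hH.sylow hd hP) fun X hX hX1 _ =>
      isNilpotent_of_le hH.nil ((inf_le_inf_left _ (hH.norm_le (hX.trans hP.le) hX1)).trans h1)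

theorem frobIn (hH : SCell S π H) (hE : IsComplIn H E (S ⊓ 𝐍(H))) : FrobIn (S ⊓ 𝐍(H)) H E :=
  U4.B14.frobIn_of_semiReg hE inf_le_right hH.ne_bot (c.compl_ne_bot hH hE) (hH.semiReg hE)

theorem exists_outer_compl (hH : SCell S π H) (hE : IsComplIn H E (S ⊓ 𝐍(H))) :
    ∃ g ∈ 𝐍(H), g ∈ 𝐍(E) ∧ g ∉ S := by
  obtain ⟨g, hg, hgS⟩ := c.exists_outer hH
  have h1 := U4.isComplIn_conj hE g
  rw [CfsgLib.map_conj_eq_of_mem_normalizer hg, CfsgLib.map_conj_eq_of_mem_normalizer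
    (mem_norm_inf (mem_norm_normal S g) (mem_norm_norm hg))] at h1
  obtain ⟨l, hl, e⟩ := hH.compl_conj hE h1
  rw [eq_comm, cj_eq_iff, cj_cj] at e
  exact ⟨l⁻¹ * g, 𝐍(H).mul_mem (𝐍(H).inv_mem hl.2) hg, mem_normalizer_of_map_conj_eq e.symm,
    fun h => hgS ((S.mul_mem_cancel_left (S.inv_mem hl.1)).1 h)⟩

theorem mem_compl (hH : SCell S π H) (hE : IsComplIn H E (S ⊓ 𝐍(H))) {s : G} (hs : s ∈ S)
    (h1 : s ∈ 𝐍(H)) (h2 : s ∈ 𝐍(E)) : s ∈ E := by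
  obtain ⟨a, ha, e, he, rfl⟩ := hE.2.2.2 s ⟨hs, h1⟩
  obtain ⟨y, hy, hy1⟩ := U4.exists_ne_one (c.compl_ne_bot hH hE)
  have h3 : a ∈ 𝐍(E) := (mul_mem_cancel_right (le_normalizer he)).1 h2
  have h4 := U4.conj_eq_of_conj_mem hE.2.2.1 (hE.2.1.trans inf_le_right) ha hy
    (conj_mem_of_mem_normalizer h3 hy)
  rw [U4.eq_one_of_mem_inf (hH.semiReg hE y hy hy1) ha (U4.mem_cent1_of_conj_eq h4), one_mul]
  exact he

theorem odd_compl (hH : SCell S π H) (hE : IsComplIn H E (S ⊓ 𝐍(H))) : Odd (Nat.card E) := by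
  refine Nat.not_even_iff_odd.1 fun e => ?_
  obtain ⟨t, ht, ho⟩ := exists_order_prime Nat.prime_two (even_iff_two_dvd.1 e)
  obtain ⟨g, -, hg, hgS⟩ := c.exists_outer_compl hH hE
  have key : ∀ u ∈ E, orderOf u = 2 → ∀ y ∈ H, u * y * u⁻¹ = y⁻¹ := fun u hu h y hy =>
    inverts_of_fpf (by rw [← sq, ← h, pow_orderOf_eq_one]) (hE.2.1 hu).2
      (hH.semiReg hE u hu (ne_one_of_order Nat.prime_two h)) hy
  have ht' := conj_mem_of_mem_normalizer hg ht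
  obtain ⟨y, hy, hy1⟩ := U4.exists_ne_one hH.ne_bot
  have h1 : t⁻¹ * (g * t * g⁻¹) = 1 := by
    by_contra h
    refine hy1 (U4.eq_one_of_mem_inf (hH.semiReg hE _ (mul_mem (inv_mem ht) ht') h) hy
      (U4.mem_cent1_comm.1 (U4.mem_cent1_of_conj_eq ?_)))
    have e1 := key t ht ho y hy
    have e2 := key _ ht' (by rw [U4.orderOf_conj, ho]) y hy
    calc _ = t⁻¹ * (g * t * g⁻¹ * y * (g * t * g⁻¹)⁻¹) * t := by group
      _ = y := by rw [e2, ← e1]; group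
  have h2 : t ∈ 𝐂[g] := U4.mem_cent1_comm.1 (U4.mem_cent1_of_conj_eq (inv_mul_eq_one.1 h1).symm)
  exact c.two (U4.isPiNum_orderOf_of_mem (c.cent_pi hgS) h2 2 Nat.prime_two (ho ▸ dvd_rfl))

theorem odd_norm (hH : SCell S π H) : Odd (Nat.card ↥(S ⊓ 𝐍(H))) := by
  obtain ⟨E, hE⟩ := hH.exists_compl
  rw [← U4.IsComplIn.card_mul hE]
  exact (odd_of_pi c.two hH.pi).mul (c.odd_compl hH hE)

theorem exists_order_r (hH : SCell S π H) (hE : IsComplIn H E (S ⊓ 𝐍(H)))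
    (hd : ¬ r ∣ Nat.card E) : ∃ x, x ∉ S ∧ orderOf x = r ∧ x ∈ 𝐍(H) ∧ x ∈ 𝐍(E) := by
  obtain ⟨g, hg, hg', hgS⟩ := c.exists_outer_compl hH hE
  obtain ⟨u, hu, hu1, k, hk⟩ := exists_r_part c.prime c.index hgS
  have h1 := zpowers_le.2 hg hu
  have h2 := zpowers_le.2 hg' hu
  exact ⟨u, hu1, order_eq_of_pow_mem c.prime hu1 hk
    (c.mem_compl hH hE (c.pow_mem u) (Subgroup.pow_mem _ h1 r) (Subgroup.pow_mem _ h2 r)) hd, h1, h2⟩

theorem exists_inv_compl (hH : SCell S π H) {x : G} (hx : orderOf x = r) (hn : x ∈ 𝐍(H))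
    (hd : ¬ r ∣ Nat.card ↥(S ⊓ 𝐍(H))) : ∃ E, IsComplIn H E (S ⊓ 𝐍(H)) ∧ x ∈ 𝐍(E) := by
  obtain ⟨E, hE, h⟩ := Cop.exists_invariant_hallOf {p | p ∣ Nat.card H}ᶜ (A := zpowers x)
    (zpowers_le.2 (mem_norm_inf (mem_norm_normal S x) (mem_norm_norm hn)))
    (by rw [card_zp hx]; exact c.prime.coprime_iff_not_dvd.2 hd) (feit_thompson (c.odd_norm hH))
  exact ⟨E, U4.isComplIn_of_hall hH.hallN hE, h (mem_zpowers x)⟩

/-- a complement containing a nontrivial `π`-element lies in a cell -/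
theorem compl_le_cell (hH : SCell S π H) (hE : IsComplIn H E (S ⊓ 𝐍(H))) {b : G} (hb : b ∈ E)
    (h1 : b ≠ 1) (hπ : IsPiNum π (orderOf b)) : ∃ H', SCell S π H' ∧ E ≤ H' := by
  have hES : E ≤ S := hE.2.1.trans inf_le_left
  have key : ∀ X ≤ E, (Nat.card X).Prime → E ≤ 𝐍(X) := fun X hX hp =>
    odd_regular_prime_normal (c.odd_compl hH hE) hH.ne_bot (hE.2.1.trans inf_le_right)
      (hH.semiReg hE) hX hp
  obtain ⟨q, hq, hqd, X, hX, hc⟩ := exists_prime_le_zpowers h1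
  have := Fact.mk hq
  have hXE := hX.trans (zpowers_le.2 hb)
  obtain ⟨H', hH', hle⟩ := c.exists_cell_ge (hXE.trans hES) (isPGroup_of_card_prime hc).isNilpotent
    (isPi_of_card_prime hc (hπ q hq hqd)) (ne_bot_of_card_prime hc)
  refine ⟨H', hH', hH'.le_of_dvd (le_inf hES ((key X hXE (hc ▸ hq)).trans
    (hH'.norm_le hle (ne_bot_of_card_prime hc)))) fun p hp hd => ?_⟩
  obtain ⟨Y, hY, hc'⟩ := U4.exists_card_prime hp hd
  refine hc' ▸ card_dvd_of_le ?_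
  rcases U4.inf_eq_bot_or_le_of_card_prime (hc' ▸ hp) X with h | h
  · obtain ⟨z, hz, hz1⟩ := U4.exists_ne_one (ne_bot_of_card_prime hc)
    have h2 := U4.le_cent_of_inf_eq_bot (hY.trans (key X hXE (hc ▸ hq)))
      (hXE.trans (key Y hY (hc' ▸ hp))) h
    exact fun y hy => hH'.mem (hle hz) hz1 (hES (hY hy)) (U4.cent_le_cent1 hz (h2 hy))
  · exact h.trans hle

theorem compl_cyclic (hH : SCell S π H) (hE : IsComplIn H E (S ⊓ 𝐍(H))) {H' : Subgroup G}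
    (hH' : SCell S π H') (h : E ≤ H') : IsCyclic E :=
  odd_regular_nil_cyclic (c.odd_compl hH hE) (isNilpotent_of_le hH'.nil h) hH.ne_bot
    (hE.2.1.trans inf_le_right) (hH.semiReg hE)

/-- the cell containing `F(C_S(x))` -/
theorem exists_main_cell {x : G} (hx : x ∉ S) (h1 : S ⊓ 𝐂[x] ≠ ⊥) :
    ∃ K, SCell S π K ∧ K ⊓ 𝐂[x] ≠ ⊥ ∧ S ⊓ 𝐂[x] ≤ 𝐍(K) ∧ x ∈ 𝐍(K) := by
  have hπ : IsPiSubgroup π (S ⊓ 𝐂[x]) := isPi_inf_right (c.cent_pi hx)
  obtain ⟨q, hq, h2⟩ := exists_pCore_ne_bot' (feit_thompson (odd_of_pi c.two hπ)) h1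
  have h3 := U4.pcore_le {q} (S ⊓ 𝐂[x])
  obtain ⟨K, hK, hle⟩ := c.exists_cell_ge (h3.trans inf_le_left) (U4.pcore_pgroup q _).isNilpotent
    (fun p hp hd => hπ p hp (hd.trans (card_dvd_of_le h3))) h2
  have h4 := (U4.norm_le_norm_pcore {q} (S ⊓ 𝐂[x])).trans (hK.norm_le hle h2)
  exact ⟨K, hK, fun e => h2 (eq_bot_iff.2 (e ▸ le_inf hle (h3.trans inf_le_right))),
    le_normalizer.trans h4, h4 (mem_norm_inf (mem_norm_normal S x) (mem_norm_cent1 x))⟩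

omit c in
/-- Lemma F -/
theorem lemmaF {C K H : Subgroup G} (hC : C ≤ S) (hK : SCell S π K) (hH : SCell S π H)
    (hCK : C ≤ 𝐍(K)) (h1 : H ⊓ C ≠ ⊥) (hne : H ≠ K) : C ⊓ 𝐍(H) ≤ H := by
  refine le_of_forall_primePow_mem fun y hy p k hp hk => ?_
  have := Fact.mk hp
  by_cases hd : p ∣ Nat.card H
  · refine hH.le_of_dvd (X := zpowers y) (zpowers_le.2 ⟨hC hy.1, hy.2⟩) (fun q hq h => ?_)
      (mem_zpowers y)
    rw [card_zp hk] at h
    rwa [(Nat.prime_dvd_prime_iff_eq hq hp).1 (hq.dvd_of_dvd_pow h)]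
  by_contra hyH
  obtain ⟨q, hq, hqd, X, hX, hc⟩ := exists_prime_le_zpowers (x := y) fun e => hyH (e ▸ H.one_mem)
  obtain rfl : q = p := (Nat.prime_dvd_prime_iff_eq hq hp).1 (hq.dvd_of_dvd_pow (hk ▸ hqd))
  obtain ⟨z, hz, ho⟩ := exists_order_prime (H := X) hq (hc ▸ dvd_rfl)
  have hz' := zpowers_le.2 hy (hX hz)
  have hz1 := ne_one_of_order hq ho
  have hzH : z ∉ H := fun h => hd (ho ▸ H.orderOf_dvd_natCard h)
  have hi := hH.inf_eq_bot hK hne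
  have hzA : z ∈ 𝐍(H ⊓ C) := mem_norm_inf hz'.2 (le_normalizer hz'.1)
  have hA : H ⊓ C ⊓ 𝐂[z] = ⊥ := U4.eq_bot_of_forall fun a ha => by_contra fun ha1 =>
    hzH (hH.mem ha.1.1 ha1 (hC hz'.1) (U4.mem_cent1_comm.1 ha.2))
  obtain ⟨a, ha, ha1⟩ := U4.exists_ne_one h1
  have hzK : z ∉ K := fun h => by
    have h2 : ⁅a, z⁆ ∈ K := by
      rw [commutatorElement_def]
      exact mul_mem (conj_mem_of_mem_normalizer (hCK ha.2) h) (inv_mem h)
    have h3 : ⁅a, z⁆ ∈ H := by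
      rw [commutatorElement_def, mul_assoc, mul_assoc, ← mul_assoc z]
      exact mul_mem ha.1 (conj_mem_of_mem_normalizer hz'.2 (inv_mem ha.1))
    exact ha1 (U4.eq_one_of_mem_inf hA ha (U4.mem_cent1.2
      (commutatorElement_eq_one_iff_mul_comm.1 (U4.eq_one_of_mem_inf hi h3 h2))))
  have hKz : K ⊓ 𝐂[z] = ⊥ := U4.eq_bot_of_forall fun b hb => by_contra fun hb1 =>
    hzK (hK.mem hb.1 hb1 (hC hz'.1) (U4.mem_cent1_comm.1 hb.2))
  have hcop : (Nat.card ↥(H ⊓ C)).Coprime (Nat.card K) := Nat.coprime_of_dvd fun u hu h2 h3 => by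
    obtain ⟨b, hb, hbo⟩ := exists_order_prime hu h2
    exact ne_one_of_order hu hbo (U4.eq_one_of_mem_inf hi hb.1
      (hK.mem_of_dvd (hC hb.2) (hCK hb.2) hu hbo h3))
  have h4 := frob_fix hq ho hzA (hCK hz'.1) (inf_le_right.trans hCK) (solv_of_nil hK.nil) hcop hA hKz
  obtain ⟨b, hb, hb1⟩ := U4.exists_ne_one hK.ne_bot
  exact ha1 (U4.eq_one_of_mem_inf hi ha.1 (hK.mem hb hb1 (hC ha.2) (U4.cent_le_cent1 hb (h4 ha))))

end OutCtx

/-- A good pair: `x ∉ S` of order `r` normalizes the cell `H` and acts without fixed points on a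
complement `E` of `H` in `N_S(H)`. -/
structure GoodPair (S : Subgroup G) (π : Set ℕ) (r : ℕ) (H E : Subgroup G) (x : G) : Prop where
  cell : SCell S π H
  compl : IsComplIn H E (S ⊓ 𝐍(H))
  notMem : x ∉ S
  order : orderOf x = r
  normH : x ∈ 𝐍(H)
  normE : x ∈ 𝐍(E)
  fpf : E ⊓ 𝐂[x] = ⊥

namespace OutCtx

variable {S : Subgroup G} [S.Normal] {π : Set ℕ} {r : ℕ} (c : OutCtx S π r)
include c

theorem exists_start : ∃ (H E : Subgroup G) (x : G), SCell S π H ∧ IsComplIn H E (S ⊓ 𝐍(H)) ∧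
    x ∉ S ∧ orderOf x = r ∧ x ∈ 𝐍(H) ∧ x ∈ 𝐍(E) ∧ H ⊓ 𝐂[x] ≠ ⊥ ∧
      (r ∣ Nat.card H ∨ ¬ r ∣ Nat.card S) := by
  have := Fact.mk c.prime
  by_cases hd : r ∣ Nat.card S
  · obtain ⟨H, hH, hd'⟩ := c.cells r c.prime c.mem hd
    obtain ⟨E, hE⟩ := hH.exists_compl
    obtain ⟨x, h1, h2, h3, h4⟩ := c.exists_order_r hH hE fun h =>
      c.prime.one_lt.ne' (Nat.eq_one_of_dvd_coprimes (hH.compl_coprime hE) h hd')
    exact ⟨H, E, x, hH, hE, h1, h2, h3, h4, fun h => not_dvd_of_fpf c.prime h2 h3 h hd', Or.inl hd'⟩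
  · obtain ⟨g, hg⟩ := c.exists_notMem
    obtain ⟨x, -, h1, k, hk⟩ := exists_r_part c.prime c.index hg
    have h2 := order_eq_of_pow_mem c.prime h1 hk (c.pow_mem x) hd
    have := c.simple
    obtain ⟨H, hH, h3, -, h4⟩ := c.exists_main_cell h1 fun h =>
      not_nil_of_simple c.nonab (nil_of_fpf c.prime h2 (mem_norm_normal S x) h)
    obtain ⟨E, hE, h5⟩ := c.exists_inv_compl hH h2 h4 fun h =>
      hd (h.trans (card_dvd_of_le inf_le_left))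
    exact ⟨H, E, x, hH, hE, h1, h2, h4, h5, h3, Or.inr hd⟩

theorem exists_goodPair : ∃ (H E : Subgroup G) (x : G), GoodPair S π r H E x := by
  obtain ⟨H, E, x, hH, hE, h1, h2, h3, h4, h5, h6⟩ := c.exists_start
  by_cases h0 : E ⊓ 𝐂[x] = ⊥
  · exact ⟨H, E, x, hH, hE, h1, h2, h3, h4, h0⟩
  obtain ⟨b, hb, hb1⟩ := U4.exists_ne_one h0
  obtain ⟨J, hJ, hle⟩ := c.compl_le_cell hH hE hb.1 hb1
    (U4.isPiNum_orderOf_of_mem (c.cent_pi h1) hb.2)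
  have hbS : b ∈ S ⊓ 𝐂[x] := ⟨(hE.2.1 hb.1).1, hb.2⟩
  have hbH : b ∉ H := fun h => hb1 (U4.eq_one_of_mem_inf hE.2.2.1 h hb.1)
  have hrJ : ¬ r ∣ Nat.card J := fun h => by
    rcases h6 with h6 | h6
    · obtain ⟨p, hp, hd⟩ := exists_prime_dvd_card (c.compl_ne_bot hH hE)
      refine hp.one_lt.ne' (Nat.eq_one_of_dvd_coprimes (hH.compl_coprime hE) hd ?_)
      rw [hH.card_eq hJ c.prime h6 h]
      exact hd.trans (card_dvd_of_le hle)
    · exact h6 (h.trans (card_dvd_of_le hJ.le))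
  obtain ⟨K, hK, -, hCK, -⟩ := c.exists_main_cell h1 (U4.ne_bot_of_mem hbS hb1)
  have hHK : H = K := by
    by_contra hne
    refine hbH (lemmaF inf_le_left hK hH hCK (fun e => h5 (eq_bot_iff.2 (e ▸ ?_))) hne
      ⟨hbS, (hE.2.1 hb.1).2⟩)
    exact le_inf inf_le_left (inf_le_inf_right _ hH.le)
  have hJK : J ≠ K := fun e => hbH (hHK ▸ e ▸ hle hb.1)
  have h7 := lemmaF inf_le_left hK hJ hCK (U4.ne_bot_of_mem ⟨hle hb.1, hbS⟩ hb1) hJK
  have h8 : x ∈ 𝐍(J) := hJ.norm_le hle (c.compl_ne_bot hH hE) h4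
  have h9 : S ⊓ 𝐍(J) ⊓ 𝐂[x] ≤ J := fun y hy => h7 ⟨⟨hy.1.1, hy.2⟩, hy.1.2⟩
  obtain ⟨E', hE', h10⟩ := c.exists_inv_compl hJ h2 h8 fun h => hrJ
    ((dvd_card_inf_cent1 c.prime h2 (mem_norm_inf (mem_norm_normal S x) (mem_norm_norm h8)) h).trans
      (card_dvd_of_le h9))
  exact ⟨J, E', x, hJ, hE', h1, h2, h8, h10, U4.eq_bot_of_forall fun y hy =>
    U4.eq_one_of_mem_inf hE'.2.2.1 (h9 ⟨hE'.2.1 hy.1, hy.2⟩) hy.1⟩

theorem fix_ne_bot {H E : Subgroup G} {x : G} (h : GoodPair S π r H E x) : H ⊓ 𝐂[x] ≠ ⊥ := fun e => by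
  have h1 := frob_fix c.prime h.order h.normE h.normH (h.compl.2.1.trans inf_le_right)
    (solv_of_nil h.cell.nil) (h.cell.compl_coprime h.compl) h.fpf e
  obtain ⟨y, hy, hy1⟩ := U4.exists_ne_one (c.compl_ne_bot h.cell h.compl)
  refine h.cell.ne_bot (eq_bot_iff.2 (h.cell.semiReg h.compl y hy hy1 ▸ le_inf le_rfl ?_))
  exact fun a ha => U4.mem_cent1_comm.1 (U4.cent_le_cent1 ha (h1 hy))

end OutCtx

end CfsgLib.FT.PGI
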