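import Mathlib
import Cfsg.Agent.Lib.PG.OutC

/-! Part OUT of the prime graph project: the two cases for a good pair. -/

set_option autoImplicit false
set_option linter.unusedSectionVars false
set_option linter.unusedVariables false

namespace CfsgLib.FT.PGI

open Subgroup Cfsg BGN
open scoped commutatorElement

variable {G : Type*} [Group G] [Finite G]

theorem cent1_of_comm_mem {A B : Subgroup G} (hi : A ⊓ B = ⊥) {a b : G} (ha : a ∈ A) (hb : b ∈ B)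
    (h1 : a ∈ 𝐍(B)) (h2 : b ∈ 𝐍(A)) : a ∈ 𝐂[b] := by
  have h3 : ⁅a, b⁆ ∈ B := by
    rw [commutatorElement_def]
    exact mul_mem (conj_mem_of_mem_normalizer h1 hb) (inv_mem hb)
  have h4 : ⁅a, b⁆ ∈ A := by
    rw [commutatorElement_def, mul_assoc, mul_assoc, ← mul_assoc b]
    exact mul_mem ha (conj_mem_of_mem_normalizer h2 (inv_mem ha))
  exact U4.mem_cent1.2 (commutatorElement_eq_one_iff_mul_comm.1 (U4.eq_one_of_mem_inf hi h4 h3))

theorem le_cent_of_nil_of_comm {p : ℕ} [Fact p.Prime] {U M : Subgroup G} (hM : Group.IsNilpotent M)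
    (hU : IsSylowIn p U M) (hc : U ≤ 𝐂(U)) : M ≤ 𝐂(U) := by
  rw [← piCoreOf_sup_of_nil {p} hM, ← hall_eq_piCoreOf_of_nil hM (sylow_iff_hall.1 hU)]
  exact sup_le hc (le_cent_of_nil hM (U4.pcore_le _ _) hU.le
    (coprime_of_isPGroup_of_isPi hU.isPGroup (U4.pcore_pi {p}ᶜ M) (by simp)).symm)

namespace OutCtx

variable {S : Subgroup G} [S.Normal] {π : Set ℕ} {r : ℕ} (c : OutCtx S π r) {H E : Subgroup G}
  {x : G} (h : GoodPair S π r H E x)
include c h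

theorem not_pi_of_cent_le (hC : S ⊓ 𝐂[x] ≤ H) {b : G} (hb : b ∈ E) (h1 : b ≠ 1) :
    ¬ IsPiNum π (orderOf b) := fun hπ => by
  obtain ⟨J, hJ, hle⟩ := c.compl_le_cell h.cell h.compl hb h1 hπ
  have hx : x ∈ 𝐍(J) := hJ.norm_le hle (c.compl_ne_bot h.cell h.compl) h.normE
  have hne : H ≠ J := fun e => h1 (U4.eq_one_of_mem_inf h.compl.2.2.1 (e ▸ hle hb) hb)
  have h2 : S ⊓ 𝐍(J) ⊓ 𝐂[x] = ⊥ := U4.eq_bot_of_forall fun a ha =>
    U4.eq_one_of_mem_inf (h.cell.semiReg h.compl b hb h1) (hC ⟨ha.1.1, ha.2⟩)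
      (cent1_of_comm_mem (h.cell.inf_eq_bot hJ hne) (hC ⟨ha.1.1, ha.2⟩) (hle hb) ha.1.2
        (h.compl.2.1 hb).2)
  have h3 := nil_of_fpf c.prime h.order (mem_norm_inf (mem_norm_normal S x) (mem_norm_norm hx)) h2
  obtain ⟨E', hE'⟩ := hJ.exists_compl
  have h4 := le_cent_of_nil h3 hE'.1 hE'.2.1 (hJ.compl_coprime hE').symm
  obtain ⟨y, hy, hy1⟩ := U4.exists_ne_one (c.compl_ne_bot hJ hE')
  exact hJ.ne_bot (eq_bot_iff.2 (hJ.semiReg hE' y hy hy1 ▸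
    le_inf le_rfl (h4.trans (U4.cent_le_cent1 hy))))

theorem hnpc_local (hC : S ⊓ 𝐂[x] ≤ H) {s : ℕ} [Fact s.Prime] (hs : s ∉ π) {X : Subgroup G}
    (hX : IsPGroup s X) (h1 : X ≠ ⊥) (hx : x ∈ 𝐍(X)) {u : ℕ} [hu : Fact u.Prime] (huπ : u ∈ π) :
    HasNormalPComplement u ↥(S ⊓ 𝐍(X)) := by
  have hr := Fact.mk c.prime
  have free : ∀ {Y : Subgroup G}, IsPiSubgroup π Y → SemiReg X Y := fun hY y hy hy1 =>
    inf_eq_bot_of_cop (coprime_of_isPGroup_of_isPi hX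
      (c.iso y hy1 (U4.isPiNum_orderOf_of_mem hY hy)) hs)
  have hxN : x ∈ 𝐍(S ⊓ 𝐍(X)) := mem_norm_inf (mem_norm_normal S x) (mem_norm_norm hx)
  have hxp := isPGroup_of_card_prime (card_zp h.order)
  have hrN : ¬ r ∣ Nat.card ↥(S ⊓ 𝐍(X)) := fun hd => by
    obtain ⟨y, hy, ho⟩ := exists_order_prime c.prime (dvd_card_inf_cent1 c.prime h.order hxN hd)
    have h2 : IsPGroup r ↥(zpowers x ⊔ zpowers y) := isPGroup_sup'
      (zpowers_le.2 (cent_le_norm _ (by rw [U4.cent_zpowers]; exact hy.2))) hxp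
      (isPGroup_of_card_prime (card_zp ho))
    have h3 := odd_regular_pgroup_cyclic (fun e => c.two (e ▸ c.mem)) h2 h1
      (sup_le (zpowers_le.2 hx) (zpowers_le.2 hy.1.2)) (free (isPi_of_isPGroup h2 c.mem))
    have h4 := eq_of_cyclic_of_card_eq h3 le_sup_left le_sup_right
      (by rw [card_zp h.order, card_zp ho])
    exact h.notMem (zpowers_le.2 hy.1.1 (h4 ▸ mem_zpowers x))
  by_cases hd : u ∣ Nat.card ↥(S ⊓ 𝐍(X))
  swap
  · exact PCompl.hnpc_of_not_dvd hd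
  obtain ⟨U, hU, hxU⟩ := exists_inv_sylow u (A := zpowers x) (zpowers_le.2 hxN)
    (by rw [card_zp h.order]; exact c.prime.coprime_iff_not_dvd.2 hrN)
    (Or.inl (solv_of_nil hxp.isNilpotent))
  have hUc := odd_regular_pgroup_cyclic (fun e => c.two (e ▸ huπ)) hU.isPGroup h1
    (hU.le.trans inf_le_right) (free (isPi_of_isPGroup hU.isPGroup huπ))
  obtain ⟨V, hV, hc⟩ := exists_card_prime_le (dvd_card_of_isPGroup hU.isPGroup (hU.ne_bot hd))
  have hNV := norm_le_norm_of_cyclic hUc hV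
  have hxV := hNV (hxU (mem_zpowers x))
  obtain ⟨v, hv, hv1⟩ := U4.exists_ne_one (ne_bot_of_card_prime hc)
  have hVx : V ≤ 𝐂[x] := (le_or_inf_eq_bot hc _).resolve_right fun e => by
    have h2 := frob_fix c.prime h.order hxV hx (hV.trans (hU.le.trans inf_le_right))
      (solv_of_nil hX.isNilpotent)
      (coprime_of_isPGroup_of_isPi hX (isPi_of_card_prime hc huπ) hs).symm e
      (free (isPi_of_isPGroup hxp c.mem) x (mem_zpowers x) (ne_one_of_order c.prime h.order))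
    refine h1 (eq_bot_iff.2 (free (isPi_of_card_prime hc huπ) v hv hv1 ▸ le_inf le_rfl ?_))
    exact fun a ha => U4.mem_cent1_comm.1 (U4.cent_le_cent1 ha (h2 hv))
  have hVH : V ≤ H := (le_inf (hV.trans (hU.le.trans inf_le_left)) hVx).trans hC
  have hM : S ⊓ 𝐍(X) ⊓ 𝐍(U) ≤ H := fun m hm => by
    refine SCell.mem_of_comm h.compl h.normH h.normE h.fpf
      ⟨hm.1.1, h.cell.norm_le hVH (ne_bot_of_card_prime hc) (hNV hm.2)⟩
      (h.cell.mem (hVH hv) hv1 ?_ (U4.cent_le_cent1 hv ?_))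
    · rw [commutatorElement_def, mul_assoc, mul_assoc, ← mul_assoc x]
      exact S.mul_mem hm.1.1 (conj_mem_of_mem_normalizer (mem_norm_normal S x) (S.inv_mem hm.1.1))
    · exact U4.B14.der_le_cent_of_cyclic (U4.isCyclic_of_le' hUc hV) le_rfl
        (commutator_mem_commutator (hNV hm.2) hxV)
  exact burnside_mem hU (le_cent_of_nil_of_comm (isNilpotent_of_le h.cell.nil hM)
    (hU.mono (le_inf hU.le le_normalizer) inf_le_left) (U4.le_cent_of_isCyclic hUc))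

theorem closed_local (hC : S ⊓ 𝐂[x] ≤ H) {s : ℕ} [Fact s.Prime] (hs : s ∉ π) {X : Subgroup G}
    (hX : IsPGroup s X) (h1 : X ≠ ⊥) (hx : x ∈ 𝐍(X)) :
    ∃ P, IsSylowIn s P (S ⊓ 𝐍(X)) ∧ 𝐍(S ⊓ 𝐍(X)) ≤ 𝐍(P) := by
  set N := S ⊓ 𝐍(X) with hN
  obtain ⟨P, hP⟩ := IsSylowIn.exists_in (p := s) N
  let K : Subgroup G := N ⊓ ⨅ u : {u : ℕ // u.Prime ∧ u ∈ π}, piCoreOf {u.1}ᶜ N
  have hK1 : 𝐍(N) ≤ 𝐍(K) := fun g hg => mem_normalizer_of_conj_mem fun y hy =>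
    ⟨conj_mem_of_mem_normalizer hg hy.1, mem_iInf.2 fun u =>
      conj_mem_of_mem_normalizer (U4.norm_le_norm_pcore _ N hg) (mem_iInf.1 hy.2 u)⟩
  have hK2 : IsPiSubgroup πᶜ K := fun p hp hd hπ =>
    U4.pcore_pi {p}ᶜ N p hp (hd.trans (card_dvd_of_le
      (inf_le_right.trans (iInf_le _ (⟨p, hp, hπ⟩ : {u : ℕ // u.Prime ∧ u ∈ π}))))) rfl
  have hK3 : P ≤ K := le_inf hP.le (le_iInf fun u => by
    have := Fact.mk u.2.1
    exact U4.le_of_normal_hallOf (hall_of_hnpc (c.hnpc_local h hC hs hX h1 hx u.2.2))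
      (U4.pcore_normal _ _) (isPi_of_isPGroup hP.isPGroup fun e => hs (e ▸ u.2.2)) hP.le)
  have hK4 := nil_of_fpf c.prime h.order
    (hK1 (mem_norm_inf (mem_norm_normal S x) (mem_norm_norm hx)))
    (inf_comm K _ ▸ inf_eq_bot_of_isPi (c.cent_pi h.notMem) hK2)
  exact ⟨P, hP, hK1.trans (norm_le_norm_sylow_of_nil hK4 (hP.mono hK3 inf_le_left))⟩

/-- (O3) -/
theorem not_cent_le : ¬ S ⊓ 𝐂[x] ≤ H := fun hC => by
  obtain ⟨s, hs, hd⟩ := exists_prime_dvd_card (c.compl_ne_bot h.cell h.compl)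
  have := Fact.mk hs
  have hES : E ≤ S := h.compl.2.1.trans inf_le_left
  have hsπ : s ∉ π := fun hπ => by
    obtain ⟨b, hb, ho⟩ := exists_order_prime hs hd
    exact c.not_pi_of_cent_le h hC hb (ne_one_of_order hs ho) (ho ▸ isPiNum_prime hs hπ)
  have hs2 : s ≠ 2 := fun e => Nat.not_even_iff_odd.2 (c.odd_compl h.cell h.compl)
    (even_iff_two_dvd.2 (e ▸ hd))
  have hE0 := U4.sylow_pcore_of_nil (nil_of_fpf c.prime h.order h.normE h.fpf) s
  obtain ⟨P, hle, hP⟩ := Finite.exists_le_maximal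
    (p := fun P : Subgroup G => P ≤ S ∧ IsPGroup s P ∧ x ∈ 𝐍(P))
    (a := piCoreOf {s} E) ⟨hE0.le.trans hES, hE0.isPGroup, U4.norm_le_norm_pcore _ E h.normE⟩
  obtain ⟨e, he, he1⟩ := U4.exists_ne_one (hE0.ne_bot hd)
  have key : ∀ X ≤ P, X ≠ ⊥ → 𝐍(P) ≤ 𝐍(X) →
      IsSylowIn s P (S ⊓ 𝐍(X)) ∧ S ⊓ 𝐍(X) ≤ 𝐍(P) := fun X hX hX1 hn => by
    obtain ⟨Q, hQ, hQn⟩ := c.closed_local h hC hsπ (hP.1.2.1.to_le hX) hX1 (hn hP.1.2.2)
    have h1 : P ≤ S ⊓ 𝐍(X) := le_inf hP.1.1 (le_normalizer.trans hn)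
    have h2 := le_sylow_of_norm hQ hP.1.2.1 h1 (h1.trans (le_normalizer.trans hQn))
    have h3 : Q = P := le_antisymm (hP.2 ⟨hQ.le.trans inf_le_left, hQ.isPGroup,
      hQn (mem_norm_inf (mem_norm_normal S x) (mem_norm_norm (hn hP.1.2.2)))⟩ h2) h2
    exact h3 ▸ ⟨hQ, le_normalizer.trans hQn⟩
  have hPS := sylow_of_norm (key P le_rfl (U4.ne_bot_of_mem (hle he) he1) le_rfl).1
  have h1 : S ⊓ 𝐍(P) ⊓ 𝐂[x] = ⊥ := U4.eq_bot_of_forall fun a ha =>
    U4.eq_one_of_mem_inf (h.cell.semiReg h.compl e (hE0.le he) he1) (hC ⟨ha.1.1, ha.2⟩)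
      (cent1_of_comm_mem (inf_eq_bot_of_cop
        (coprime_of_isPGroup_of_isPi hP.1.2.1 h.cell.pi hsπ).symm) (hC ⟨ha.1.1, ha.2⟩) (hle he)
        ha.1.2 (h.compl.2.1 (hE0.le he)).2)
  have h2 := nil_of_fpf c.prime h.order
    (mem_norm_inf (mem_norm_normal S x) (mem_norm_norm hP.1.2.2)) h1
  have := c.simple
  exact false_of_local_nil c.nonab hs2 (hd.trans (card_dvd_of_le hES)) hPS fun X hX hX1 hn =>
    isNilpotent_of_le h2 (le_inf inf_le_left (key X hX hX1 hn).2)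

omit c in
theorem card_ineq {D : Subgroup G} (hD : D ≤ H) (hc : IsCyclic D) (hx : x ∈ 𝐍(D)) :
    Nat.card E * (Nat.card D - 1) ≤ Nat.card H - 1 := by
  have key : ∀ e ∈ E, ∀ b ∈ D, b ≠ 1 → e * b * e⁻¹ ∈ D → e = 1 := fun e he b hb hb1 hb' => by
    have h1 : zpowers (e * b * e⁻¹) = zpowers b := eq_of_cyclic_of_card_eq hc (zpowers_le.2 hb')
      (zpowers_le.2 hb) (by rw [Nat.card_zpowers, Nat.card_zpowers, U4.orderOf_conj])
    rw [U4.zpowers_conj] at h1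
    have h2 := U4.B14.der_le_cent_of_cyclic (U4.isCyclic_of_le' hc (zpowers_le.2 hb)) le_rfl
      (commutator_mem_commutator (mem_normalizer_of_map_conj_eq h1)
        (norm_le_norm_of_cyclic hc (zpowers_le.2 hb) hx))
    have h3 : ⁅e, x⁆ ∈ E := by
      rw [commutatorElement_def, mul_assoc, mul_assoc, ← mul_assoc x]
      exact mul_mem he (conj_mem_of_mem_normalizer h.normE (inv_mem he))
    have h4 : ⁅e, x⁆ = 1 := by_contra fun h5 => hb1 (U4.eq_one_of_mem_inf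
      (h.cell.semiReg h.compl _ h3 h5) (hD hb)
      (U4.mem_cent1_comm.1 (U4.cent_le_cent1 (mem_zpowers b) h2)))
    exact U4.eq_one_of_mem_inf h.fpf he
      (U4.mem_cent1.2 (commutatorElement_eq_one_iff_mul_comm.1 h4))
  have hcard : ∀ Y : Subgroup G, Nat.card {y : Y // y ≠ 1} = Nat.card Y - 1 := fun Y => by
    classical
    have := Fintype.ofFinite Y
    simp [Nat.card_eq_fintype_card, Fintype.card_subtype_compl]
  let f : E × {y : D // y ≠ 1} → {y : H // y ≠ 1} := fun a =>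
    ⟨⟨a.1 * a.2.1 * (a.1 : G)⁻¹, conj_mem_of_mem_normalizer (h.compl.2.1 a.1.2).2 (hD a.2.1.2)⟩,
      fun e => U4.conj_ne_one_iff.2 (fun e' => a.2.2 (Subtype.ext e')) (congrArg Subtype.val e)⟩
  have hf : Function.Injective f := by
    rintro ⟨a, b⟩ ⟨a', b'⟩ e
    have e' : (a : G) * b.1 * (a : G)⁻¹ = a' * b'.1 * (a' : G)⁻¹ :=
      congrArg (fun y => (y.1 : G)) e
    have h1 := key ((a' : G)⁻¹ * a) (mul_mem (inv_mem a'.2) a.2) b.1 b.1.2
      (fun e'' => b.2 (Subtype.ext e'')) (by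
        have : (a' : G)⁻¹ * a * b.1 * ((a' : G)⁻¹ * a)⁻¹ = b'.1 := by
          calc _ = (a' : G)⁻¹ * ((a : G) * b.1 * (a : G)⁻¹) * a' := by group
            _ = _ := by rw [e']; group
        rw [this]; exact b'.1.2)
    have h2 : a' = a := Subtype.ext (inv_mul_eq_one.1 h1)
    subst h2
    rw [mul_left_inj, mul_right_inj] at e'
    exact Prod.ext rfl (Subtype.ext (Subtype.ext e'))
  have := Nat.card_le_card_of_injective f hf
  rwa [Nat.card_prod, hcard, hcard] at this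

/-- (O4): the data for the character theoretic step -/
theorem exists_second : ∃ K D : Subgroup G, SCell S π K ∧ IsComplIn K D (S ⊓ 𝐍(K)) ∧
    (Nat.card H).Coprime (Nat.card K) ∧ x ∈ 𝐍(K) ∧ K ⊓ 𝐂[x] ≠ ⊥ ∧
      Nat.card E * (Nat.card D - 1) ≤ Nat.card H - 1 := by
  obtain ⟨u, hu, hd⟩ := exists_prime_dvd_card (c.fix_ne_bot h)
  obtain ⟨b, hb, ho⟩ := exists_order_prime hu hd
  have hb1 := ne_one_of_order hu ho
  have hbS : b ∈ S ⊓ 𝐂[x] := ⟨h.cell.le hb.1, hb.2⟩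
  obtain ⟨K, hK, h1, h2, h3⟩ := c.exists_main_cell h.notMem (U4.ne_bot_of_mem hbS hb1)
  have hne : H ≠ K := fun e => c.not_cent_le h fun y hy =>
    SCell.mem_of_comm h.compl h.normH h.normE h.fpf ⟨hy.1, e ▸ h2 hy⟩ (by
      rw [commutatorElement_eq_one_iff_mul_comm.2 (U4.mem_cent1.1 hy.2)]; exact H.one_mem)
  have huK : ¬ u ∣ Nat.card K := fun hd' => hb1 (U4.eq_one_of_mem_inf (h.cell.inf_eq_bot hK hne)
    hb.1 (hK.mem_of_dvd hbS.1 (h2 hbS) hu ho hd'))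
  have hcop : (Nat.card H).Coprime (Nat.card K) := Nat.coprime_of_dvd fun p hp h4 h5 =>
    huK (h.cell.card_eq hK hp h4 h5 ▸ hd.trans (card_dvd_of_le inf_le_left))
  have hpi : ∀ Y ≤ H, IsPiSubgroup {p | p ∣ Nat.card K}ᶜ Y := fun Y hY p hp h4 h5 =>
    hp.one_lt.ne' (Nat.eq_one_of_dvd_coprimes hcop (h4.trans (card_dvd_of_le hY)) h5)
  obtain ⟨D, hD, hbD⟩ := Hall.exists_hallOf_ge (feit_thompson (c.odd_norm hK))
    (hpi _ (zpowers_le.2 hb.1)) (zpowers_le.2 (show b ∈ S ⊓ 𝐍(K) from ⟨hbS.1, h2 hbS⟩))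
  have hDc := U4.isComplIn_of_hall hK.hallN hD
  obtain ⟨J, hJ, hle⟩ := c.compl_le_cell hK hDc (hbD (mem_zpowers b)) hb1
    (U4.isPiNum_orderOf_of_mem h.cell.pi hb.1)
  have hJH : J = H := hJ.eq_of_mem h.cell (hle (hbD (mem_zpowers b))) hb.1 hb1
  subst hJH
  have h4 : D = S ⊓ 𝐍(K) ⊓ J := Hall.eq_of_hallOf_le hD (hpi _ inf_le_right) inf_le_left
    (le_inf hDc.2.1 hle)
  exact ⟨K, D, hK, hDc, hcop, h3, h1, card_ineq h hle (c.compl_cyclic hK hDc hJ hle)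
    (h4 ▸ mem_norm_inf (mem_norm_inf (mem_norm_normal S x) (mem_norm_norm h3)) h.normH)⟩

end OutCtx

end CfsgLib.FT.PGI
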