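import Mathlib
import Cfsg.Agent.Lib.PG.Final

/-! Suzuki's theorem on the prime graph components of a finite simple group. -/

set_option autoImplicit false

namespace CfsgLib.FT.PGI

open Subgroup Cfsg BGN

variable {G : Type*} [Group G] [Finite G]

/-- A cell contains a Sylow subgroup of `G` for each prime dividing its order. -/
theorem Cell.exists_conj_mem {H : Subgroup G} (hH : Cell H) {s : ℕ} [hs : Fact s.Prime]
    (hd : s ∣ Nat.card H) {Y : Subgroup G} (hY : IsPGroup s Y) : ∃ g : G, g •ᶜ Y ≤ H := by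
  obtain ⟨X, hX, hXs⟩ := exists_card_prime_le hd
  obtain ⟨T, hXT, hT⟩ := IsSylowIn.exists_ge (isPGroup_of_card_prime hXs) le_top
  obtain ⟨x, hx, hx1⟩ := exists_mem_ne_one (ne_bot_of_card_prime hXs)
  obtain ⟨z, hz, hz1⟩ := exists_mem_ne_one (inf_centralizer_ne_bot_of_isNilpotent
    (isNilpotent_of_isPGroup hT.isPGroup) le_rfl le_normalizer
    fun h => hx1 (mem_bot.1 (h ▸ hXT hx)))
  have h1 : z ∈ H := hH.cent x (hX hx) hx1 (cent_le_cent1 (hXT hx) hz.2)
  obtain ⟨g, -, hg⟩ := hT.exists_conj_le hY le_top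
  exact ⟨g, hg.trans ((le_cent1_iff.2 hz.2).trans (hH.cent z h1 hz1))⟩

/-- The primes of `π` not dividing the order of a cell. -/
def noCell (π : Set ℕ) (G : Type*) [Group G] : Set ℕ :=
  {s | s ∈ π ∧ ¬ ∃ H : Subgroup G, Cell H ∧ s ∣ Nat.card H}

theorem Isolated.noCell {π : Set ℕ} (hπ : Isolated π G) : Isolated (noCell π G) G := by
  intro x hx1 hx s hs hd
  refine ⟨hπ x hx1 (fun r hr h => (hx r hr h).1) s hs hd, fun ⟨H, hH, hsH⟩ => ?_⟩
  have := Fact.mk hs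
  obtain ⟨Y, hY, hYs⟩ := exists_card_prime_le hd
  obtain ⟨y, hy, hy1⟩ := exists_mem_ne_one (ne_bot_of_card_prime hYs)
  obtain ⟨g, hg⟩ := hH.exists_conj_mem hsH (isPGroup_of_card_prime hYs)
  have h1 : g * x * g⁻¹ ∈ H := hH.cent _ (hg (conj_mem_map_conj hy)) (U4.conj_ne_one_iff.2 hy1) (by
    rw [U4.cent1_conj, U4.conj_mem_conj_iff]
    exact mem_centralizer_singleton_iff.2 (mem_centralizer_singleton_iff.1 (hY hy)).symm)
  obtain ⟨r, hr, h2⟩ := Nat.exists_prime_and_dvd (n := orderOf x) (by simpa using hx1)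
  refine (hx r hr h2).2 ⟨H, hH, h2.trans ?_⟩
  rw [← U4.orderOf_conj g x]
  exact H.orderOf_dvd_natCard h1

theorem Isolated.odd_norm {π : Set ℕ} (hπ : Isolated π G) (h2 : 2 ∉ π)
    (hc : ∀ s ∈ π, ¬ ∃ H : Subgroup G, Cell H ∧ s ∣ Nat.card H) {X : Subgroup G} (h1 : X ≠ ⊥)
    (hX : IsPiSubgroup π X) : Odd (Nat.card 𝐍(X)) := by
  by_contra he
  obtain ⟨T, hT, hT2⟩ := exists_card_prime_le (p := 2)
    (even_iff_two_dvd.1 (Nat.not_odd_iff_even.1 he))
  obtain ⟨t, ht, ht1⟩ := exists_mem_ne_one (ne_bot_of_card_prime hT2)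
  have ho : orderOf t = 2 := ((Nat.dvd_prime Nat.prime_two).1
    (hT2 ▸ T.orderOf_dvd_natCard ht)).resolve_left (by simpa using ht1)
  have htt : t * t = 1 := by rw [← sq, ← ho, pow_orderOf_eq_one]
  obtain ⟨A, hXA, ⟨hA, hn⟩, hmax⟩ := Finite.exists_le_maximal (p := fun A : Subgroup G =>
    IsPiSubgroup π A ∧ t ∈ 𝐍(A)) ⟨hX, hT ht⟩
  have hpi : ∀ a ∈ A, IsPiNum π (orderOf a) := fun a ha r hr h =>
    hA r hr (h.trans (A.orderOf_dvd_natCard ha))
  have hf : ∀ a ∈ A, t * a = a * t → a = 1 := fun a ha e => by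
    by_contra ha1
    exact h2 (hπ a ha1 (hpi a ha) 2 Nat.prime_two (ho ▸ (𝐂[a]).orderOf_dvd_natCard
      (mem_centralizer_singleton_iff.2 e)))
  have hti : t⁻¹ = t := inv_eq_of_mul_eq_one_left htt
  have hinv : ∀ a ∈ A, t * a * t⁻¹ = a⁻¹ := fun a ha => by
    obtain ⟨y, -, hy⟩ := Frob.exists_conj_eq_mul_of_fpf (fun k hk => (mem_normalizer_iff.1 hn k).1 hk) hf ha
    have h3 : a * t * (a * t) = 1 := by
      rw [← hy]
      calc _ = y * (t * t) * y⁻¹ := by group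
        _ = 1 := by rw [htt]; group
    rw [hti, eq_inv_iff_mul_eq_one, ← mul_right_inj a]
    calc _ = a * t * (a * t) * a := by group
      _ = _ := by rw [h3]; group
  have hcomm : ∀ a ∈ A, A ≤ 𝐂[a] := fun a ha b hb => mem_centralizer_singleton_iff.2 (by
    apply inv_injective
    rw [← hinv _ (mul_mem hb ha), mul_inv_rev a b, ← hinv a ha, ← hinv b hb]
    group)
  have hA1 : A ≠ ⊥ := fun h => h1 (eq_bot_iff.2 (h ▸ hXA))
  obtain ⟨r, hr, hd⟩ := exists_prime_dvd_card hA1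
  refine hc r (hA r hr hd) ⟨A, ⟨hA1, nil_of_comm (le_centralizer_iff_isMulCommutative.1
    fun a ha => mem_centralizer_iff.2 fun b hb => mem_centralizer_singleton_iff.1
      (hcomm a ha hb)), fun a ha ha1 => hmax ⟨hπ a ha1 (hpi a ha), ?_⟩ (hcomm a ha)⟩, hd⟩
  refine mem_normalizer_of_map_conj_eq ?_
  have := U4.cent1_conj t a
  rw [hinv a ha, ← cent_zpowers, zpowers_inv, cent_zpowers] at this
  exact this.symm

/-- If `π` is an isolated set of odd primes for the nonabelian simple group `G` and `p ∈ π` divides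
`|G|`, then `p` divides the order of a cell, or we are in the two-prime configuration. -/
theorem suzuki_simple [IsSimpleGroup G]
    (hna : ¬ IsMulCommutative G) {π : Set ℕ} (hπ : Isolated π G) (h2 : 2 ∉ π) {p : ℕ}
    (hp : p.Prime) (hpπ : p ∈ π) (hpG : p ∣ Nat.card G) :
    (∃ H : Subgroup G, Cell H ∧ p ∣ Nat.card H) ∨
      ∃ (q : ℕ) (P U W₁ Q V W₂ : Subgroup G), Half p q P U W₁ W₂ ∧ Half q p Q V W₂ W₁ ∧
        𝐍(W₁ ⊔ W₂) = W₁ ⊔ W₂ := by
  by_cases hc : ∃ H : Subgroup G, Cell H ∧ p ∣ Nat.card H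
  · exact Or.inl hc
  let _ : PG.PiCtx G := ⟨noCell π G⟩
  have := Fintype.ofFinite G
  have hp' : p ∈ noCell π G := ⟨hpπ, hc⟩
  have h2' : 2 ∉ noCell π G := fun h => h2 h.1
  have hG : PG.PGHyp G := ⟨inferInstance, hna, ⟨p, hp', hp, hpG⟩, h2', hπ.noCell,
    fun X h1 hX => hπ.noCell.odd_norm h2' (fun s hs => hs.2) h1 hX, fun H h => feit_thompson h⟩
  exact PG.cell_or_half hG hp hp' hpG

end CfsgLib.FT.PGI
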