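import Mathlib
import Cfsg.Agent.Lib.PG.OutD
import Cfsg.Agent.Lib.PG.OutB
import Cfsg.Agent.Lib.PG.Suzuki

/-! Part OUT of the prime graph project: the configuration handed to character theory. -/

set_option autoImplicit false

namespace CfsgLib.FT.PGI

open Subgroup Cfsg BGN

variable {G : Type*} [Group G] [Finite G]

theorem Isolated.subgroup {π : Set ℕ} (hπ : Isolated π G) (S : Subgroup G) : Isolated π S :=
  fun x h1 hx p hp hd => hπ x (fun e => h1 (Subtype.ext e)) (by rwa [orderOf_coe]) p hp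
    (hd.trans (by
      rw [← card_map_of_injective S.subtype_injective]
      refine card_dvd_of_le ?_
      rintro _ ⟨y, hy, rfl⟩
      exact U4.mem_cent1.2 (congrArg Subtype.val (U4.mem_cent1.1 hy))))

theorem sCell_of_cell {π : Set ℕ} (hπ : Isolated π G) {S : Subgroup G} {H : Subgroup S}
    (hH : Cell H) {p : ℕ} (hp : p.Prime) (hpπ : p ∈ π) (hd : p ∣ Nat.card H) :
    SCell S π (H.map S.subtype) := by
  have hc := card_map_of_injective (K := H) S.subtype_injective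
  have hn : Group.IsNilpotent (H.map S.subtype) :=
    have := hH.nil
    nilpotent_of_mulEquiv (H.equivMapOfInjective _ S.subtype_injective)
  obtain ⟨z, hz, ho, hz'⟩ := exists_central hn hp (hc ▸ hd)
  refine ⟨map_subtype_le _, fun e => hH.ne_bot
    ((map_eq_bot_iff_of_injective _ S.subtype_injective).1 e), hn, ?_, fun q hq h =>
      hπ z (ne_one_of_order hp ho) (ho ▸ isPiNum_prime hp hpπ) q hq (h.trans (card_dvd_of_le hz'))⟩
  rintro _ ⟨h, hh, rfl⟩ h1 y hy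
  exact ⟨⟨y, hy.1⟩, hH.cent h hh (fun e => h1 (congrArg Subtype.val e))
    (U4.mem_cent1.2 (Subtype.ext (U4.mem_cent1.1 hy.2))), rfl⟩

theorem outCtx (S : Subgroup G) [S.Normal] [IsSimpleGroup S]
    (hna : ¬ IsMulCommutative S) {r : ℕ} (hr : r.Prime) (hi : S.index = r) {π : Set ℕ}
    (hπ : Isolated π G) (h2 : 2 ∉ π) (hrπ : r ∈ π) : OutCtx S π r :=
  ⟨inferInstance, hna, hr, hi, hπ, h2, hrπ, fun p hp hpπ hd => by
    rcases suzuki_simple hna (hπ.subgroup S) h2 hp hpπ hd with ⟨H, hH, hd'⟩ |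
      ⟨q, P, U, W₁, Q, V, W₂, hP, hQ, hW⟩
    · exact ⟨_, sCell_of_cell hπ hH hp hpπ hd', by
        rwa [card_map_of_injective S.subtype_injective]⟩
    · exact (out_half_false S hr hi hπ h2 hrπ hP hQ hW).elim⟩

/-- The configuration that part OUTCHAR shows to be impossible. -/
theorem OutCtx.exists_data {S : Subgroup G} [S.Normal] {π : Set ℕ} {r : ℕ} (c : OutCtx S π r) :
    ∃ (H E K D : Subgroup G) (x : G), r ≠ 2 ∧ SCell S π H ∧ SCell S π K ∧
      FrobIn (S ⊓ 𝐍(H)) H E ∧ FrobIn (S ⊓ 𝐍(K)) K D ∧ Odd (Nat.card ↥(S ⊓ 𝐍(H))) ∧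
      Odd (Nat.card ↥(S ⊓ 𝐍(K))) ∧ (Nat.card H).Coprime (Nat.card K) ∧ x ∉ S ∧ orderOf x = r ∧
      x ∈ 𝐍(H) ∧ x ∈ 𝐍(E) ∧ x ∈ 𝐍(K) ∧ E ⊓ 𝐂[x] = ⊥ ∧ K ⊓ 𝐂[x] ≠ ⊥ ∧
      Nat.card E * (Nat.card D - 1) ≤ Nat.card H - 1 := by
  obtain ⟨H, E, x, h⟩ := c.exists_goodPair
  obtain ⟨K, D, hK, hD, h1, h2, h3, h4⟩ := c.exists_second h
  exact ⟨H, E, K, D, x, fun e => c.two (e ▸ c.mem), h.cell, hK, c.frobIn h.cell h.compl,
    c.frobIn hK hD, c.odd_norm h.cell, c.odd_norm hK, h1, h.notMem, h.order, h.normH, h.normE, h2,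
    h.fpf, h3, h4⟩

end CfsgLib.FT.PGI
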