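import Mathlib
import Cfsg.Agent.Lib.PG.OutE
import Cfsg.Agent.Lib.PG.OutChar

/-! Part OUT of the prime graph project: an isolated set of odd primes does not meet the index of
a simple normal subgroup of prime index. -/

set_option autoImplicit false

namespace CfsgLib.FT.PGI

open Subgroup Cfsg BGN

theorem out_false {G : Type*} [Group G] [Finite G] (S : Subgroup G) [S.Normal] [IsSimpleGroup S]
    (hna : ¬ IsMulCommutative S) {r : ℕ} (hr : r.Prime) (hi : S.index = r) {π : Set ℕ}
    (hπ : Isolated π G) (h2 : 2 ∉ π) (hrπ : r ∈ π) : False := by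
  obtain ⟨H, E, K, D, x, h1, hH, hK, h3, h4, h5, h6, h7, h8, h9, h10, h11, h12, h13, h14, h15⟩ :=
    (outCtx S hna hr hi hπ h2 hrπ).exists_data
  exact out_char S hna hr h1 hi hH.le hK.le hH.nil hK.nil hH.cent hK.cent h3 h4 h5 h6 h7 h8 h9 h10
    h11 h12 h13 h14 h15

end CfsgLib.FT.PGI
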