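import Mathlib
import Cfsg.Agent.Lib.PG.OutA

/-! Part OUTCHAR of the prime graph project, step (i): invariant linear characters for a Frobenius
group `E ⟨x⟩` acting on `H`. -/

set_option autoImplicit false

namespace CfsgLib.FT.PGI

open Subgroup Cfsg BGN
open scoped commutatorElement Classical

theorem prod_eq_one_of_orbits {S M : Type*} [CommMonoid M] {σ : S → S} {r : ℕ} (hr : r.Prime)
    (hσ : ∀ s, σ^[r] s = s) {f : S → M} (h1 : ∀ s, σ s = s → f s = 1)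
    (h2 : ∀ s, ∏ j ∈ Finset.range r, f (σ^[j] s) = 1) (T : Finset S) :
    (∀ s ∈ T, σ s ∈ T) → ∏ s ∈ T, f s = 1 := by
  have := Fact.mk hr
  have hinj : Function.Injective σ := fun a b e => by
    obtain ⟨n, rfl⟩ : ∃ n, r = n + 1 := ⟨r - 1, by have := hr.pos; omega⟩
    rw [← hσ a, ← hσ b, Function.iterate_succ_apply, Function.iterate_succ_apply, e]
  induction T using Finset.strongInduction with
  | H T ih =>
  intro hT
  rcases T.eq_empty_or_nonempty with rfl | ⟨s, hs⟩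
  · exact Finset.prod_empty
  by_cases h : σ s = s
  · rw [← Finset.mul_prod_erase T f hs, h1 s h, one_mul]
    exact ih _ (Finset.erase_ssubset hs) fun a ha => Finset.mem_erase.2
      ⟨fun e => (Finset.mem_erase.1 ha).1 (hinj (e.trans h.symm)), hT a (Finset.mem_erase.1 ha).2⟩
  have hp : Function.minimalPeriod σ s = r := Function.minimalPeriod_eq_prime (hσ s) h
  have hO : (Finset.range r).image (fun j => σ^[j] s) ⊆ T := fun a ha => by
    obtain ⟨j, -, rfl⟩ := Finset.mem_image.1 ha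
    clear ha
    induction j with
    | zero => exact hs
    | succ j ih' => rw [Function.iterate_succ_apply']; exact hT _ ih'
  rw [← Finset.prod_sdiff hO, Finset.prod_image fun a ha b hb e =>
    Function.iterate_injOn_Iio_minimalPeriod (f := σ) (x := s) (hp ▸ Finset.mem_range.1 ha)
      (hp ▸ Finset.mem_range.1 hb) e, h2, mul_one]
  refine ih _ (Finset.sdiff_ssubset hO ⟨s, Finset.mem_image.2 ⟨0, Finset.mem_range.2 hr.pos, rfl⟩⟩)
    fun a ha => Finset.mem_sdiff.2 ⟨hT a (Finset.mem_sdiff.1 ha).1, fun h' => ?_⟩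
  obtain ⟨j, hj, e⟩ := Finset.mem_image.1 h'
  refine (Finset.mem_sdiff.1 ha).2 (Finset.mem_image.2 ?_)
  rcases j with _ | j
  · refine ⟨r - 1, Finset.mem_range.2 (by have := hr.pos; omega), hinj ?_⟩
    rw [← Function.iterate_succ_apply' σ, show (r - 1).succ = r by have := hr.pos; omega, hσ]
    exact e
  · rw [Function.iterate_succ_apply'] at e
    exact ⟨j, Finset.mem_range.2 (by have := Finset.mem_range.1 hj; omega), hinj e⟩

variable {G : Type*} [Group G] [Fintype G]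

theorem bijective_comm {t : G} {H : Subgroup G} (hn : t ∈ 𝐍(H)) (h : H ⊓ 𝐂[t] = ⊥) :
    Function.Bijective fun a : H => (⟨(a : G)⁻¹ * (t * a * t⁻¹),
      mul_mem (inv_mem a.2) (conj_mem_of_mem_normalizer hn a.2)⟩ : H) := by
  refine Finite.injective_iff_bijective.1 fun a b e => ?_
  have e' : (a : G)⁻¹ * (t * a * t⁻¹) = (b : G)⁻¹ * (t * b * t⁻¹) := congrArg Subtype.val e
  have h1 : (b : G) * (a : G)⁻¹ ∈ H ⊓ 𝐂[t] := ⟨H.mul_mem b.2 (H.inv_mem a.2), U4.mem_cent1.2 (by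
    calc (b : G) * (a : G)⁻¹ * t = b * ((a : G)⁻¹ * (t * a * t⁻¹)) * (t * (a : G)⁻¹) := by group
      _ = _ := by rw [e']; group)⟩
  rw [h, mem_bot, mul_inv_eq_one] at h1
  exact Subtype.ext h1.symm

variable {H E : Subgroup G} {l : G → ℂ} {x : G} {r : ℕ}

theorem lin_conj_mul (hl : IsLin H l) {g : G} (hg : g ∈ 𝐍(H)) {a b : G} (ha : a ∈ H) (hb : b ∈ H) :
    l (g * (a * b) * g⁻¹) = l (g * a * g⁻¹) * l (g * b * g⁻¹) := by
  rw [← hl.map_mul (conj_mem_of_mem_normalizer hg ha) (conj_mem_of_mem_normalizer hg hb), conj_mul]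

theorem prod_conj_eq_one (hl : IsLin H l) (hEH : E ≤ 𝐍(H)) (hreg : SemiReg H E) (hE : E ≠ ⊥)
    {u : G} (hu : u ∈ H) : ∏ e : E, l (e * u * (e : G)⁻¹) = 1 := by
  obtain ⟨t, ht, ht1⟩ := U4.exists_ne_one hE
  obtain ⟨a, ha⟩ := (bijective_comm (hEH ht) (hreg t ht ht1)).2 ⟨u, hu⟩
  rw [← show (a : G)⁻¹ * (t * a * t⁻¹) = u from congrArg Subtype.val ha]
  simp only [fun e : E => lin_conj_mul hl (hEH e.2) (inv_mem a.2)
    (conj_mem_of_mem_normalizer (hEH ht) a.2), Finset.prod_mul_distrib]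
  have h1 : ∏ e : E, l (e * (t * a * t⁻¹) * (e : G)⁻¹) = ∏ e : E, l (e * a * (e : G)⁻¹) :=
    Fintype.prod_equiv (Equiv.mulRight (⟨t, ht⟩ : E)) _ _ fun e => by
      simp only [Equiv.coe_mulRight, coe_mul, mul_inv_rev, mul_assoc]
  rw [h1, ← Finset.prod_mul_distrib]
  exact Finset.prod_eq_one fun e _ => by
    rw [← lin_conj_mul hl (hEH e.2) (inv_mem a.2) a.2, inv_mul_cancel, mul_one, mul_inv_cancel, hl.one]

theorem prod_prod_conj (hl : IsLin H l) (hEH : E ≤ 𝐍(H)) (hreg : SemiReg H E) (hE : E ≠ ⊥)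
    (hr : r.Prime) (hx : orderOf x = r) (hxH : x ∈ 𝐍(H)) (hxE : x ∈ 𝐍(E)) (h0 : E ⊓ 𝐂[x] = ⊥)
    {v : G} (hv : v ∈ H) : ∏ e : E, ∏ i ∈ Finset.range r,
      l (((e : G)⁻¹ * x ^ i * e) * v * ((e : G)⁻¹ * x ^ i * e)⁻¹) = l v ^ Nat.card E := by
  obtain ⟨n, rfl⟩ : ∃ n, r = n + 1 := ⟨r - 1, by have := hr.pos; omega⟩
  rw [Finset.prod_comm, Finset.prod_range_succ', Finset.prod_eq_one, one_mul]
  · simp
  intro i hi
  have h1 : x ^ (i + 1) ≠ 1 := pow_ne_one_of_lt_orderOf (Nat.succ_ne_zero i)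
    (by rw [hx]; exact Nat.succ_lt_succ (Finset.mem_range.1 hi))
  rw [← prod_conj_eq_one hl hEH hreg hE
    (conj_mem_of_mem_normalizer (Subgroup.pow_mem _ hxH (i + 1)) hv)]
  refine Fintype.prod_bijective _ (bijective_comm (Subgroup.pow_mem _ hxE (i + 1))
    (semiReg_zp hr hx h0 _ (npow_mem_zpowers x _) h1)) _ _ fun e => ?_
  congr 1
  group

theorem prod_conj_pow (hl : IsLin H l) {g : G} (hg : g ∈ 𝐍(H)) (hxH : x ∈ 𝐍(H)) {v : G}
    (hv : v ∈ H) (n : ℕ) : (v * x) ^ n * (x ^ n)⁻¹ ∈ H ∧ l (g * ((v * x) ^ n * (x ^ n)⁻¹) * g⁻¹) =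
      ∏ j ∈ Finset.range n, l (g * (x ^ j * v * (x ^ j)⁻¹) * g⁻¹) := by
  induction n with
  | zero => simp [hl.one]
  | succ n ih =>
    have h1 := conj_mem_of_mem_normalizer (Subgroup.pow_mem _ hxH n) hv
    have e : (v * x) ^ (n + 1) * (x ^ (n + 1))⁻¹ =
        (v * x) ^ n * (x ^ n)⁻¹ * (x ^ n * v * (x ^ n)⁻¹) := by
      rw [pow_succ, pow_succ]; group
    rw [e, lin_conj_mul hl hg ih.1 h1, ih.2, Finset.prod_range_succ]
    exact ⟨mul_mem ih.1 h1, rfl⟩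

theorem lin_eq_one_of_pow (hl : IsLin H l) {n : ℕ} (hc : n.Coprime (Nat.card H)) {v : G}
    (hv : v ∈ H) (h : l v ^ n = 1) : l v = 1 := by
  have := pow_gcd_eq_one.2 ⟨h, hl.pow_card hv⟩
  rwa [hc, pow_one] at this

theorem inv_lin_eq_one (hl : IsLin H l) (hEH : E ≤ 𝐍(H)) (hreg : SemiReg H E) (hE : E ≠ ⊥)
    (hr : r.Prime) (hx : orderOf x = r) (hxH : x ∈ 𝐍(H)) (hxE : x ∈ 𝐍(E)) (h0 : E ⊓ 𝐂[x] = ⊥)
    (hinv : ∀ u ∈ H, l (x * u * x⁻¹) = l u) {v : G} (hv : v ∈ H) (hvx : (v * x) ^ r = 1) :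
    l v = 1 := by
  refine lin_eq_one_of_pow hl (semiregular_coprime hEH hreg) hv ?_
  have hxr : x ^ r = 1 := hx ▸ pow_orderOf_eq_one x
  have key : ∀ g ∈ 𝐍(H), ∏ j ∈ Finset.range r, l (g * (x ^ j * v * (x ^ j)⁻¹) * g⁻¹) = 1 :=
    fun g hg => by rw [← (prod_conj_pow hl hg hxH hv r).2, hvx, hxr]; simp [hl.one]
  have hinv' : ∀ j : ℕ, ∀ u ∈ H, l (x ^ j * u * (x ^ j)⁻¹) = l u := fun j u hu => by
    induction j with
    | zero => simp
    | succ j ih =>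
      rw [← ih, ← hinv _ (conj_mem_of_mem_normalizer (Subgroup.pow_mem _ hxH j) hu)]
      congr 1
      rw [pow_succ']; group
  let σ : E → E := fun e => ⟨x⁻¹ * e * x, conj_mem_of_mem_normalizer' hxE e.2⟩
  have hσ : ∀ (j : ℕ) (e : E), (σ^[j] e : G) = (x ^ j)⁻¹ * e * x ^ j := fun j e => by
    induction j with
    | zero => simp
    | succ j ih => rw [Function.iterate_succ_apply', pow_succ]; simp only [σ, ih]; group
  rw [← prod_prod_conj hl hEH hreg hE hr hx hxH hxE h0 hv]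
  refine prod_eq_one_of_orbits (σ := σ) hr (fun e => Subtype.ext (by rw [hσ, hxr]; simp))
    (fun e he => ?_) (fun e => ?_) _ fun _ _ => Finset.mem_univ _
  · have h1 : x⁻¹ * e * x = e := congrArg Subtype.val he
    have h2 : (e : G) = 1 := U4.eq_one_of_mem_inf h0 e.2 (U4.mem_cent1.2 (by
      calc (e : G) * x = x * (x⁻¹ * e * x) := by group
        _ = _ := by rw [h1]))
    simpa [h2] using key 1 (one_mem _)
  · rw [Finset.prod_comm]
    refine Finset.prod_eq_one fun i _ => ?_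
    have hg : (e : G)⁻¹ * x ^ i * e ∈ 𝐍(H) :=
      mul_mem (mul_mem (inv_mem (hEH e.2)) (Subgroup.pow_mem _ hxH i)) (hEH e.2)
    rw [← key _ hg]
    refine Finset.prod_congr rfl fun j _ => ?_
    have hg' : (σ^[j] e : G)⁻¹ * x ^ i * (σ^[j] e : G) ∈ 𝐍(H) :=
      mul_mem (mul_mem (inv_mem (hEH (σ^[j] e).2)) (Subgroup.pow_mem _ hxH i)) (hEH (σ^[j] e).2)
    rw [← hinv' j _ (conj_mem_of_mem_normalizer hg' hv), hσ]
    congr 1
    group

theorem exists_inv_lin (hs : Group.IsSolvable H) (hH : H ≠ ⊥) (hEH : E ≤ 𝐍(H)) (hreg : SemiReg H E)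
    (hE : E ≠ ⊥) (hr : r.Prime) (hx : orderOf x = r) (hxH : x ∈ 𝐍(H)) (hxE : x ∈ 𝐍(E))
    (h0 : E ⊓ 𝐂[x] = ⊥) :
    ∃ l, IsLin H l ∧ (∀ u, l (x * u * x⁻¹) = l u) ∧ ∃ v ∈ H, l v ≠ 1 := by
  obtain ⟨l, hl, hl1, -⟩ := exists_lin_ne_one (der_lt_of_solvable hs hH) le_rfl
  obtain ⟨v, hv, hv1⟩ : ∃ v ∈ H, l v ≠ 1 := by
    by_contra! h
    exact hl1 (hl.isIrr.eq_cf1_iff.2 fun v hv => hl.isChar.mem_cfker.2 ⟨hv, by rw [h v hv, hl.one]⟩)
  have h1 := mt (lin_eq_one_of_pow hl (semiregular_coprime hEH hreg) hv) hv1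
  rw [← prod_prod_conj hl hEH hreg hE hr hx hxH hxE h0 hv] at h1
  obtain ⟨e, -, he⟩ := Finset.exists_ne_one_of_prod_ne_one h1
  have hg : ∀ i : ℕ, (e : G)⁻¹ * x ^ i ∈ 𝐍(H) := fun i =>
    mul_mem (inv_mem (hEH e.2)) (Subgroup.pow_mem _ hxH i)
  have hxr : x ^ r = 1 := hx ▸ pow_orderOf_eq_one x
  refine ⟨fun u => ∏ i ∈ Finset.range r, l ((e : G)⁻¹ * x ^ i * u * ((e : G)⁻¹ * x ^ i)⁻¹),
    isLin_of_mul (fun u hu => Finset.prod_eq_zero (Finset.mem_range.2 hr.pos)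
      (hl.mem_CF.1 _ fun h => hu ((mem_normalizer_iff.1 (hg 0) u).2 h))) (by simp [hl.one])
      fun a ha b hb => by simp only [fun i => lin_conj_mul hl (hg i) ha hb, Finset.prod_mul_distrib],
    fun u => ?_, e * v * (e : G)⁻¹, conj_mem_of_mem_normalizer (hEH e.2) hv, fun h => he ?_⟩
  · obtain ⟨n, rfl⟩ : ∃ n, r = n + 1 := ⟨r - 1, by have := hr.pos; omega⟩
    beta_reduce
    rw [Finset.prod_range_succ, Finset.prod_range_succ']
    congr 1
    · refine Finset.prod_congr rfl fun i _ => ?_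
      congr 1
      rw [pow_succ]; group
    · congr 1
      rw [pow_zero, ← hxr, pow_succ]; group
  · rw [← h]
    refine Finset.prod_congr rfl fun i _ => ?_
    congr 1
    group

/-- Step (i): a linear character of `H ⟨x⟩`, nontrivial on `H`, trivial on all elements of order
`r` outside `H`. -/
theorem exists_lin_hat (hs : Group.IsSolvable H) (hH : H ≠ ⊥) (hEH : E ≤ 𝐍(H)) (hreg : SemiReg H E)
    (hE : E ≠ ⊥) (hr : r.Prime) (hx : orderOf x = r) (hxH : x ∈ 𝐍(H)) (hxE : x ∈ 𝐍(E))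
    (h0 : E ⊓ 𝐂[x] = ⊥) (hx1 : x ∉ H) :
    ∃ l, IsLin (H ⊔ zpowers x) l ∧ l x = 1 ∧ (∃ v ∈ H, l v ≠ 1) ∧
      ∀ y ∈ H ⊔ zpowers x, y ∉ H → y ^ r = 1 → l y = 1 := by
  obtain ⟨m, hm, hinv, v, hv, hv1⟩ := exists_inv_lin hs hH hEH hreg hE hr hx hxH hxE h0
  have hp : (Nat.card (zpowers x)).Prime := by rw [card_zp hx]; exact hr
  have hX := zpowers_le.2 hxH
  have mK : ∀ {u}, u ∈ cfker H m ↔ u ∈ H ∧ m u = 1 := by
    intro u; rw [hm.isChar.mem_cfker, hm.one]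
  have hxK : x ∈ 𝐍(cfker H m) := mem_normalizer_of_conj_mem fun u hu =>
    mK.2 ⟨conj_mem_of_mem_normalizer hxH (mK.1 hu).1, by rw [hinv, (mK.1 hu).2]⟩
  have hle : cfker H m ≤ H := fun u hu => (mK.1 hu).1
  have hlt : cfker H m ⊔ zpowers x < H ⊔ zpowers x := by
    refine lt_of_le_of_ne (sup_le_sup_right hle _) fun e => hv1 (mK.1 ?_).2
    have h1 := sup_inf_of_le (zpowers_le.2 hxK) hle
    rw [e, (U4.inf_eq_bot_or_le_of_card_prime hp H).resolve_right fun h => hx1 (h (mem_zpowers x)),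
      sup_bot_eq] at h1
    exact h1 ▸ ⟨mem_sup_left hv, hv⟩
  have hinvz : zpowers x ≤ inertia m := zpowers_le.2 hinv
  obtain ⟨l, hl, hl1, hk⟩ := exists_lin_ne_one hlt ((commutator_sup_sup_le hX).trans
    (sup_le (sup_le (hm.commutator_le_cfker.trans le_sup_left) (commutator_le.2 fun a ha b hb =>
      mem_sup_left (by
        have h1 := conj_mem_of_mem_normalizer (hX hb) (inv_mem ha)
        rw [commutatorElement_def, mul_assoc, mul_assoc, ← mul_assoc b]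
        refine mK.2 ⟨mul_mem ha h1, ?_⟩
        rw [hm.map_mul ha h1, hinvz hb, ← hm.map_mul ha (inv_mem ha), mul_inv_cancel, hm.one])))
      ((der_le _).trans le_sup_right)))
  have lz : ∀ z ∈ zpowers x, l z = 1 := fun z hz => by
    rw [(hl.isChar.mem_cfker.1 (hk (mem_sup_right hz))).2, hl.one]
  refine ⟨l, hl, lz x (mem_zpowers x), ?_, fun y hy hyH hyr => ?_⟩
  · by_contra! h
    exact hl1 (hl.isIrr.eq_cf1_iff.2 (sup_le (fun u hu => hl.isChar.mem_cfker.2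
      ⟨mem_sup_left hu, by rw [h u hu, hl.one]⟩) (le_sup_right.trans hk)))
  · obtain ⟨u, hu, z, hz, rfl⟩ := mem_sup_norm hX hy
    have hz1 : z ≠ 1 := fun e => hyH (by rwa [e, mul_one])
    have h1 := inv_lin_eq_one (hl.cfRes le_sup_left) hEH hreg hE hr
      (by rw [← Nat.card_zpowers, U4.zpowers_eq_of_card_prime hp hz hz1, card_zp hx]) (hX hz)
      (zpowers_le.2 hxE hz) (semiReg_zp hr hx h0 z hz hz1) (fun a ha => by
        rw [cfRes_apply ha, cfRes_apply (conj_mem_of_mem_normalizer (hX hz) ha),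
          hl.mem_CF.2 z (mem_sup_right hz)]) hu hyr
    rw [cfRes_apply hu] at h1
    rw [hl.map_mul (mem_sup_left hu) (mem_sup_right hz), h1, lz z hz, mul_one]

end CfsgLib.FT.PGI
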