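import Mathlib
import Cfsg.Agent.Lib.FT.Main
import Cfsg.Agent.Lib.Blk.BSa

/-! Part OUTCHAR of the prime graph project, steps (iv) and (v): two Frobenius TI-subgroups of odd
order in a simple group. -/

set_option autoImplicit false

namespace CfsgLib.FT.PGI

open Subgroup Cfsg BGN
open scoped ComplexConjugate Classical

variable {G : Type*} [Group G] [Fintype G]

theorem coprime_classSupport_disjoint {H K : Subgroup G}
    (hcop : (Nat.card H).Coprime (Nat.card K)) :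
    Disjoint (dadeSupp (sharp H) fun _ => ⊥) (dadeSupp (sharp K) fun _ => ⊥) := by
  rw [dadeSupp_of_bot fun _ _ => rfl, dadeSupp_of_bot fun _ _ => rfl, Set.disjoint_left]
  rintro _ ⟨a, ha, y, -, rfl⟩ ⟨b, hb, z, -, e⟩
  have h1 : orderOf a = orderOf b := by rw [← U4.orderOf_conj y a, e, U4.orderOf_conj]
  exact ha.2 (orderOf_eq_one_iff.1 (Nat.eq_one_of_dvd_coprimes hcop
    (orderOf_dvd_card_of_mem ha.1) (h1 ▸ orderOf_dvd_card_of_mem hb.1)))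

theorem Dade_invol_eq_zero {L H : Subgroup G} (hHL : H ≤ L) (ho : Odd (Nat.card L)) {t : G}
    (ht : orderOf t = 2) (φ : G → ℂ) : Dade (sharp H) (fun _ => ⊥) φ t = 0 := by
  refine Dade_apply_of_notMem ?_
  rw [dadeSupp_of_bot fun _ _ => rfl]
  rintro ⟨a, ha, y, -, rfl⟩
  rw [U4.orderOf_conj] at ht
  exact Nat.not_even_iff_odd.2 ho (even_iff_two_dvd.2 (ht ▸ orderOf_dvd_card_of_mem (hHL ha.1)))

theorem Dade_one_eq_zero {H : Subgroup G} (φ : G → ℂ) : Dade (sharp H) (fun _ => ⊥) φ 1 = 0 := by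
  refine Dade_apply_of_notMem ?_
  rw [dadeSupp_of_bot fun _ _ => rfl]
  rintro ⟨a, ha, y, -, e⟩
  exact U4.conj_ne_one_iff.2 ha.2 e.symm

theorem Dade_invol_mul_eq_zero {L H : Subgroup G} (hTI : NormedTI (sharp H) ⊤ L)
    (ho : Odd (Nat.card L)) {t : G} (ht : orderOf t = 2) (φ : G → ℂ) (z : G) :
    Dade (sharp H) (fun _ => ⊥) φ (t * (z * t * z⁻¹)) = 0 := by
  refine Dade_apply_of_notMem ?_
  rw [dadeSupp_of_bot fun _ _ => rfl]
  rintro ⟨a, ha, y, -, e⟩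
  have h2 : t * t = 1 := by rw [← sq, ← ht, pow_orderOf_eq_one]
  have hi : t⁻¹ = t := inv_eq_of_mul_eq_one_right h2
  have h3 : y⁻¹ * t * y * a * (y⁻¹ * t * y)⁻¹ = a⁻¹ := by
    calc _ = y⁻¹ * (t * (y * a * y⁻¹) * t⁻¹) * y := by group
      _ = y⁻¹ * (t * (z * t * z⁻¹))⁻¹ * y := by
        rw [← e, ← mul_assoc t, h2, one_mul]; simp [hi, mul_assoc]
      _ = _ := by rw [e]; group
  have h4 := hTI.ti _ (mem_top _) a ha
    (by rw [h3]; exact ⟨H.inv_mem ha.1, fun e' => ha.2 (inv_eq_one.1 e')⟩)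
  have h5 : orderOf (y⁻¹ * t * y) = 2 := by rw [← ht, ← U4.orderOf_conj y⁻¹ t, inv_inv]
  exact Nat.not_even_iff_odd.2 ho (even_iff_two_dvd.2 (h5 ▸ orderOf_dvd_card_of_mem h4))

theorem out_char_end [IsSimpleGroup G] (hna : ¬ IsMulCommutative G) {L H E M K D : Subgroup G}
    (hTH : NormedTI (sharp H) ⊤ L) (hFH : FrobIn L H E) (hoL : Odd (Nat.card L))
    (hTK : NormedTI (sharp K) ⊤ M) (hFK : FrobIn M K D) (hoM : Odd (Nat.card M))
    (hK : Group.IsNilpotent K) (hcop : (Nat.card H).Coprime (Nat.card K)) {ν : CFMap G}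
    (hν : CoherentWith L (seqIndD H L H ⊥) (cfInd L ⊤) ν) {ζ : G → ℂ} (hζ : ζ ∈ seqIndD H L H ⊥)
    (hζ1 : ζ 1 = H.relIndex L) {k : G} (hk : k ∈ sharp K) (h0 : ν ζ k ≠ 0)
    (hle : Nat.card E * (Nat.card D - 1) ≤ Nat.card H - 1) : False := by
  have fH := hFH.frobKer
  have fK := hFK.frobKer
  have dH := normedTI_Dade hTH one_notMem_sharp
  have dK := normedTI_Dade hTK one_notMem_sharp
  have hd := coprime_classSupport_disjoint hcop
  replace hν : CoherentWith L (seqIndD H L H ⊥) (Dade (sharp H) fun _ => ⊥) ν :=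
    hν.congr_tau fun φ hφ h1 => (Dade_Ind dH hTH (zcharD1_seqInd_on fH.normal hφ h1)).symm
  obtain ⟨μ, hμ⟩ : Coherent M (seqIndD K M K ⊥) (Dade (sharp K) fun _ => ⊥) :=
    (Sibley_coherence hoM hK hTK (Or.inl hFK)).congr_tau fun φ hφ h1 =>
      (Dade_Ind dK hTK (zcharD1_seqInd_on fK.normal hφ h1)).symm
  have irH : ∀ ξ ∈ seqIndD H L H ⊥, IsIrr L ξ := fun ξ hξ => by
    obtain ⟨θ, h1, h2, rfl⟩ := seqIndC1P.1 hξ
    exact fH.cfInd_irr h1 h2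
  have irK : ∀ ξ ∈ seqIndD K M K ⊥, IsIrr M ξ := fun ξ hξ => by
    obtain ⟨θ, h1, h2, rfl⟩ := seqIndC1P.1 hξ
    exact fK.cfInd_irr h1 h2
  obtain ⟨η, hη, hη1⟩ : ∃ η ∈ seqIndD K M K ⊥, η 1 = K.relIndex M := by
    obtain ⟨θ, h2, h3, -⟩ := exists_lin_ne_one (der_lt_of_solvable inferInstance fK.ker_ne) le_rfl
    exact ⟨_, seqIndC1P.2 ⟨θ, h2.isIrr, h3, rfl⟩, by rw [cfInd_one fK.le, h2.one, mul_one]⟩
  have hortho : ∀ φ ∈ seqIndD H L H ⊥, ∀ ψ ∈ seqIndD K M K ⊥, cfdot ⊤ (ν φ) (μ ψ) = 0 :=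
    fun φ hφ ψ hψ => disjoint_coherent_ortho' dH dK hd hν hμ (irH φ hφ) hφ (cfAut_seqInd _ hφ)
      (seqInd_conjC_neq fH.le fH.normal le_rfl hoL hφ) (irK ψ hψ) hψ (cfAut_seqInd _ hψ)
      (seqInd_conjC_neq fK.le fK.normal le_rfl hoM hψ)
  have hSH := seqInd_nontrivial fH.le fH.normal le_rfl hoL hζ
  have hSK := seqInd_nontrivial fK.le fK.normal le_rfl hoM hη
  have hν1 := (Dade_Ind1_sub_lin_a1 dH hν hSH (irH ζ hζ) hζ hζ1).1
  obtain ⟨-, b1, bZ, bn⟩ := Dade_Ind1_sub_lin_a1 dK hμ hSK (irK η hη) hη hη1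
  obtain ⟨a, Γ, -, -, g3, -, -, g4⟩ := Dade_Ind1_sub_lin dK hμ hSK (irK η hη) hη hη1
  have g5 := (g4 (odd_Frobenius_index_ler fK hoM)).2
  set β := Dade (sharp K) (fun _ => ⊥) (cfInd K M (cf1 K) - η) with hβ
  have νZ : ∀ ξ ∈ seqIndD H L H ⊥, ν ξ ∈ ZIrr (⊤ : Subgroup G) :=
    fun ξ hξ => hν.virt _ (subset_zspan hξ)
  have νd : ∀ ξ ∈ seqIndD H L H ⊥, IsDirr ⊤ (ν ξ) :=
    fun ξ hξ => hν.dirr (subset_zspan hξ) (irH ξ hξ)
  obtain ⟨c, hc⟩ := ZIrr_cfdot_int bZ (νZ ζ hζ)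
  have hc0 : c ≠ 0 := fun e => h0 (by
    have h1 := (Dade_Ind1_sub_lin_c dK hμ hη hη1 (νZ ζ hζ) (hortho ζ hζ)).1 k hk
    rw [invDade_of_const hk fun r hr => by rw [mem_bot.1 hr, mul_one]] at h1
    rw [h1, hc, e, Int.cast_zero])
  set s := ∑ ξ ∈ seqIndD H L H ⊥, (ξ 1 / H.relIndex L / cfnorm L ξ) • ν ξ with hs
  obtain ⟨s1, s2⟩ := sum_nu_facts fH.le fH.normal hν.toZIsom
  rw [← hs] at s1 s2
  have hβν : ∀ ξ ∈ seqIndD H L H ⊥, cfdot ⊤ β (ν ξ) = cfdot ⊤ ((c : ℂ) • s) (ν ξ) := fun ξ hξ => by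
    have h3 : cfdot ⊤ β (ν ξ - (ξ 1 / ζ 1) • ν ζ) = 0 := by
      rw [← nu_sub_lin dH hν hζ hζ1 hξ]
      exact disjoint_Dade_ortho hd.symm
    rw [cfdot_sub_right, cfdot_smul_right, hc, sub_eq_zero, map_div₀,
      (seqInd_char fH.le hξ).conj_one, hζ1, Complex.conj_natCast] at h3
    rw [h3, cfdot_smul_left, s1 ξ hξ, mul_comm]
  have hΓν : ∀ ξ ∈ seqIndD H L H ⊥, cfdot ⊤ Γ (ν ξ) = cfdot ⊤ β (ν ξ) := fun ξ hξ => by
    rw [g3, cfdot_add_left, cfdot_add_left, cfdot_sub_left, cfdot_smul_left, cfdot_sum_left,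
      Finset.sum_eq_zero fun ψ hψ => by
        rw [cfdot_smul_left, cfdot_symm_zero (hortho ξ hξ ψ hψ), mul_zero],
      cfdot_symm_zero (hortho ξ hξ η hη), cfdot_symm_zero (hν1 ξ hξ)]
    ring
  have key : ∀ φ ψ : G → ℂ, (∀ ξ ∈ seqIndD H L H ⊥, cfdot ⊤ φ (ν ξ) = cfdot ⊤ ψ (ν ξ)) →
      cfdot ⊤ φ ((c : ℂ) • s) = cfdot ⊤ ψ ((c : ℂ) • s) := fun φ ψ h => by
    rw [cfdot_smul_right, cfdot_smul_right (φ := ψ), hs, cfdot_sum_right, cfdot_sum_right]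
    congr 1
    exact Finset.sum_congr rfl fun ξ hξ => by rw [cfdot_smul_right, cfdot_smul_right, h ξ hξ]
  have hb := bessel_of_ortho (L := ⊤) {()} (fun _ => (c : ℂ) • s) Γ (by simp) fun _ _ =>
    key _ _ fun ξ hξ => by rw [hΓν ξ hξ, hβν ξ hξ]
  rw [Finset.sum_singleton, cfnorm_intCast_smul, s2] at hb
  have he := relIndex_pos_real H L
  have hH1 : (1 : ℝ) < Nat.card H := by exact_mod_cast (one_lt_card_iff_ne_bot H).2 fH.ker_ne
  have hm : (0 : ℝ) < ((Nat.card H : ℝ) - 1) / H.relIndex L := div_pos (sub_pos.2 hH1) he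
  have hle' : (K.relIndex M : ℝ) - 1 ≤ ((Nat.card H : ℝ) - 1) / H.relIndex L := by
    rw [le_div_iff₀ he, U4.IsComplIn.relIndex_left hFH.compl, U4.IsComplIn.relIndex_left hFK.compl,
      mul_comm]
    have := (Nat.cast_le (α := ℝ)).2 hle
    rwa [Nat.cast_mul, Nat.cast_sub Nat.card_pos, Nat.cast_sub Nat.card_pos, Nat.cast_one] at this
  have hc1 : (1 : ℝ) ≤ (c : ℝ) ^ 2 := by
    exact_mod_cast (one_le_sq_iff_one_le_abs _).2 (Int.one_le_abs hc0)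
  have hc2 : (c : ℝ) ^ 2 = 1 := le_antisymm (by nlinarith) hc1
  have hn : cfnorm ⊤ ((c : ℂ) • s) = K.relIndex M - 1 := by
    rw [cfnorm_intCast_smul, s2, hc2, one_mul]
    rw [hc2, one_mul] at hb
    linarith
  have sZ : (c : ℂ) • s ∈ ZIrr (⊤ : Subgroup G) := by
    rw [Int.cast_smul_eq_zsmul]
    refine Submodule.smul_mem _ _ (Submodule.sum_mem _ fun ξ hξ => ?_)
    obtain ⟨θ, h1, -, e⟩ := seqIndC1P.1 hξ
    obtain ⟨n, -, hn⟩ := h1.exists_nat_one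
    have h2 : ξ 1 / H.relIndex L / cfnorm L ξ = n := by
      have : (H.relIndex L : ℂ) ≠ 0 := by exact_mod_cast he.ne'
      rw [(irH ξ hξ).cfnorm, e, cfInd_one fH.le, hn]
      field_simp
      simp
    rw [h2, Nat.cast_smul_eq_nsmul]
    exact nsmul_mem (νZ ξ hξ) n
  have s0 : cfdot ⊤ (cf1 ⊤) ((c : ℂ) • s) = 0 := by
    rw [key _ 0 fun ξ hξ => by rw [cfdot_symm_zero (hν1 ξ hξ), cfdot_zero_left], cfdot_zero_left]
  have hΔ : IsDirr ⊤ (β - (cf1 ⊤ + (c : ℂ) • s)) := by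
    refine isDirr_of_cfnorm (sub_mem bZ (add_mem cf1_mem_ZIrr sZ)) ?_
    rw [cfnorm_sub, cfnorm_add_of_ortho s0, cfdot_add_right, b1, key _ _ hβν, cfdot_self, bn, hn,
      (isIrr_cf1 ⊤).cfnorm]
    simp only [Complex.add_re, Complex.one_re, Complex.ofReal_re]
    ring
  -- an involution
  have hev : 2 ∣ Nat.card G := by
    by_contra h
    have := feit_thompson (G := G) (Nat.not_even_iff_odd.1 fun e => h (even_iff_two_dvd.1 e))
    exact hna ⟨⟨IsSimpleGroup.comm_iff_isSolvable.2 this⟩⟩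
  obtain ⟨t, ht⟩ := exists_prime_orderOf_dvd_card' 2 hev
  have val : ∀ g : G, (∀ φ, Dade (sharp H) (fun _ => ⊥) φ g = 0) →
      ∀ ξ ∈ seqIndD H L H ⊥, ν ξ g = ξ 1 / H.relIndex L * ν ζ g := fun g hg ξ hξ => by
    have h1 := congrFun (nu_sub_lin dH hν hζ hζ1 hξ) g
    rw [hg, hζ1] at h1
    exact sub_eq_zero.1 h1.symm
  have v1 := val 1 Dade_one_eq_zero
  have vt := val t (Dade_invol_eq_zero fH.le hoL ht)
  set m := ∑ ξ ∈ seqIndD H L H ⊥, ξ 1 / H.relIndex L / cfnorm L ξ * (ξ 1 / H.relIndex L) with hm'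
  have hm0 : m ≠ 0 := fun e => by
    have h1 : cfdot ⊤ s s = m := by
      conv_lhs => rw [hs, cfdot_sum_left]
      refine Finset.sum_congr rfl fun ξ hξ => ?_
      rw [cfdot_smul_left, ← hs, ← cfdot_conj, s1 ξ hξ, map_div₀, (seqInd_char fH.le hξ).conj_one,
        Complex.conj_natCast]
    rw [cfdot_self, s2, e] at h1
    exact hm.ne' (by exact_mod_cast h1)
  have sv : ∀ g : G, (∀ ξ ∈ seqIndD H L H ⊥, ν ξ g = ξ 1 / H.relIndex L * ν ζ g) →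
      s g = m * ν ζ g := fun g hg => by
    rw [hs, hm', Finset.sum_apply, Finset.sum_mul]
    exact Finset.sum_congr rfl fun ξ hξ => by rw [Pi.smul_apply, smul_eq_mul, hg ξ hξ]; ring
  have hY := (νd ζ hζ).one_ne_zero
  have hG : (Nat.card G : ℂ) ≠ 0 := by exact_mod_cast Nat.card_pos.ne'
  have Ts : ∑ z, s (t * (z * t * z⁻¹)) = m * (Nat.card G * ν ζ t ^ 2 / ν ζ 1) := by
    simp only [hs, Finset.sum_apply, Pi.smul_apply, smul_eq_mul]
    rw [Finset.sum_comm, hm', Finset.sum_mul]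
    refine Finset.sum_congr rfl fun ξ hξ => ?_
    have h1 := (νd ξ hξ).one_ne_zero
    rw [← Finset.mul_sum, Blk.sum_dirr_conj (νd ξ hξ), vt ξ hξ]
    rw [v1 ξ hξ] at h1 ⊢
    have h2 := left_ne_zero_of_mul h1
    generalize ξ 1 / (H.relIndex L : ℂ) = u at h2 ⊢
    field_simp
  have TΔ := Blk.sum_dirr_conj hΔ t
  have hX := hΔ.one_ne_zero
  simp only [Pi.sub_apply, Pi.add_apply, Pi.smul_apply, smul_eq_mul, hβ, Dade_one_eq_zero,
    Dade_invol_eq_zero fK.le hoM ht, Dade_invol_mul_eq_zero hTK hoM ht, cf1_apply (mem_top _),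
    zero_sub, Finset.sum_neg_distrib, Finset.sum_add_distrib, ← Finset.mul_sum, Ts, sv 1 v1,
    sv t vt, Finset.sum_const, Finset.card_univ, nsmul_eq_mul, mul_one,
    ← Nat.card_eq_fintype_card] at TΔ hX
  have h1 : ν ζ t = ν ζ 1 := by
    generalize ν ζ t = b at TΔ ⊢
    generalize ν ζ 1 = Y at TΔ hY hX ⊢
    rw [eq_div_iff hX] at TΔ
    field_simp at TΔ
    have : c * m * (b - Y) ^ 2 = 0 := by linear_combination TΔ
    exact sub_eq_zero.1 (pow_eq_zero_iff two_ne_zero |>.1 ((mul_eq_zero.1 this).resolve_left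
      (mul_ne_zero (by exact_mod_cast hc0) hm0)))
  obtain ⟨ε, ψ, hε, hψ, e⟩ := (νd ζ hζ).exists_sign
  have hε0 : (ε : ℂ) ≠ 0 := by rcases hε with rfl | rfl <;> simp
  have h2 : ψ ≠ cf1 ⊤ := fun e' => by
    have := hν1 ζ hζ
    rw [e, e', cfdot_smul_left, cfdot_cf1, mul_one] at this
    exact hε0 this
  rw [e, Pi.smul_apply, Pi.smul_apply, smul_eq_mul, smul_eq_mul, mul_right_inj' hε0] at h1
  have hN : (cfker ⊤ ψ).Normal := normalizer_eq_top_iff.1 (top_le_iff.1 (cfker_normal hψ.mem_CF))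
  rcases hN.eq_bot_or_eq_top with e' | e'
  · have := mem_bot.1 (e' ▸ hψ.isChar.mem_cfker.2 ⟨mem_top t, h1⟩)
    rw [this, orderOf_one] at ht
    exact absurd ht (by decide)
  · exact h2 (hψ.eq_cf1_iff.2 e'.ge)

end CfsgLib.FT.PGI
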