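import Mathlib
import Cfsg.Agent.Lib.PG.Out
import Cfsg.Agent.Lib.FrobTwo
import Cfsg.Agent.Lib.H5Eppo
import Cfsg.Agent.Lib.H5SylowIn

/-! Part RED of the prime graph project: reduction to simple groups. -/

set_option autoImplicit false

namespace CfsgLib.FT.PGI

open Subgroup Cfsg BGN CfsgLib.Frob

variable {G : Type*} [Group G] [Finite G] {π : Set ℕ}

theorem red_isolated (h : PiSplit π G) : Isolated π G := fun x h1 hx p hp hd => by
  obtain ⟨y, hy, ho⟩ := exists_order_prime hp hd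
  by_contra hn
  rcases h.eq_one_of_commute (U4.mem_cent1'.1 hy) hx (ho ▸ isPiNum_prime hp hn) with e | e
  · exact h1 e
  · exact ne_one_of_order hp ho e

omit [Finite G] in
theorem red_subgroup (h : PiSplit π G) (K : Subgroup G) : PiSplit π K := fun g => by
  rw [← orderOf_coe]; exact h g

theorem red_involution (he : Even (Nat.card G)) : ∃ t : G, orderOf t = 2 :=
  haveI := Fact.mk Nat.prime_two
  exists_prime_orderOf_dvd_card' 2 he.two_dvd

/-- Case A: `O_π(G) ≠ 1` and `|G|` is even. -/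
theorem red_caseA (h : PiSplit π G) (h2 : 2 ∉ π) (he : Even (Nat.card G))
    (h1 : piCore π G ≠ ⊥) : IsFrobeniusKernel (piCore π G) ∧
      (∀ g : G, IsPiNum π (orderOf g) → g ∈ piCore π G) ∧
      ∀ a ∈ piCore π G, ∀ b ∈ piCore π G, Commute a b := by
  set H := piCore π G with hH
  have hHπ : ∀ x ∈ H, IsPiNum π (orderOf x) := fun x hx =>
    isPiNum_orderOf_of_mem (piCore_isPiSubgroup π) hx
  have inv : ∀ t : G, orderOf t = 2 → ∀ y ∈ H, t * y * t⁻¹ = y⁻¹ := fun t ht y hy => by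
    refine inverts_of_fpf (by rw [← sq, ← ht, pow_orderOf_eq_one]) (mem_norm_normal H t) ?_ hy
    refine eq_bot_iff.2 fun z hz => ?_
    rcases h.eq_one_of_commute (U4.mem_cent1.1 hz.2) (hHπ z hz.1)
      (ht ▸ isPiNum_prime Nat.prime_two h2) with e | e
    · exact e
    · exact (ne_one_of_order Nat.prime_two ht e).elim
  obtain ⟨t, ht⟩ := red_involution he
  obtain ⟨⟨k, hk⟩, hk1⟩ := ne_bot_iff_exists_ne_one.mp h1
  have hk1 : k ≠ 1 := by simpa using hk1
  have hC : 𝐂(H) ≤ H := le_piCore (isPiSubgroup_of_le (red_isolated h k hk1 (hHπ k hk))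
    (centralizer_le (by simpa using hk)))
  have htH : t ∉ H := fun e => h2 (hHπ t e 2 Nat.prime_two (ht ▸ dvd_rfl))
  have hall : ∀ g : G, IsPiNum π (orderOf g) → g ∈ H := fun g hg => by
    have hs : t⁻¹ * (g * t * g⁻¹) ∈ H := hC (mem_centralizer_iff.2 fun y hy => by
      have e1 := inv t ht y hy
      have e2 := inv (g * t * g⁻¹) (by rw [orderOf_conj_eq, ht]) y hy
      have e3 : g * t * g⁻¹ * y = t * y * t⁻¹ * (g * t * g⁻¹) := by
        rw [e1, ← e2]; group
      rw [mul_assoc t⁻¹, e3]; group)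
    have hc : Commute (g : G ⧸ H) (t : G ⧸ H) := by
      have := QuotientGroup.eq.2 hs
      rw [QuotientGroup.mk_mul, QuotientGroup.mk_mul, QuotientGroup.mk_inv] at this
      exact (eq_mul_inv_iff_mul_eq.1 this).symm
    rcases (h.of_surjective _ (QuotientGroup.mk'_surjective H)).eq_one_of_commute hc
      (hg.of_dvd (orderOf_map_dvd (QuotientGroup.mk' H) g))
      ((ht ▸ isPiNum_prime Nat.prime_two h2 : IsPiNum πᶜ (orderOf t)).of_dvd
        (orderOf_map_dvd (QuotientGroup.mk' H) t)) with e | e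
    · exact (QuotientGroup.eq_one_iff g).1 e
    · exact (htH ((QuotientGroup.eq_one_iff t).1 e)).elim
  refine ⟨⟨inferInstance, h1, fun e => htH (e ▸ mem_top t), fun k hk hk1 g hc => ?_⟩, hall,
    fun a ha b hb => ?_⟩
  · rcases h g with hg | hg
    · exact hall g hg
    · rw [(h.eq_one_of_commute (Commute.symm hc) (hHπ k hk) hg).resolve_left hk1]
      exact H.one_mem
  · have e := inv t ht (a * b) (H.mul_mem ha hb)
    have e' : t * (a * b) * t⁻¹ = (t * a * t⁻¹) * (t * b * t⁻¹) := by group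
    rw [e', inv t ht a ha, inv t ht b hb, ← mul_inv_rev] at e
    exact (inv_injective e).symm

/-- Case C: no normal `π`- or `π'`-subgroups. -/
theorem red_caseC [Nontrivial G] (h : PiSplit π G) (h2 : 2 ∉ π) (h1 : piCore π G = ⊥)
    (h1' : piCore πᶜ G = ⊥) : ∃ M : Subgroup G, M.Normal ∧ IsSimpleGroup M ∧
      ¬ IsMulCommutative M ∧ IsPiNum πᶜ M.index := by
  obtain ⟨M, hM⟩ := exists_isMinNormal (G := G)
  have hMn := hM.1
  have : Nontrivial M := (nontrivial_iff_ne_bot M).2 hM.2.1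
  have key : ∀ A : Subgroup G, A.IsSubnormal → A ≠ ⊥ →
      ¬ IsPiSubgroup π A ∧ ¬ IsPiSubgroup πᶜ A := fun A hA h0 =>
    ⟨fun e => h0 (eq_bot_iff.2 (h1 ▸ le_piCore_of_isSubnormal hA e)),
      fun e => h0 (eq_bot_iff.2 (h1' ▸ le_piCore_of_isSubnormal hA e))⟩
  obtain ⟨S, hS⟩ := exists_isMinNormal (G := M)
  have hSn := hS.1
  have hS0 : S.map M.subtype ≠ ⊥ := fun e =>
    hS.2.1 ((map_eq_bot_iff_of_injective _ M.subtype_injective).1 e)
  obtain ⟨k1, k2⟩ := key _ (IsSubnormal.trans' hSn.isSubnormal hMn.isSubnormal) hS0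
  have hN : (S.map M.subtype).Normal := normal_of_le_normalizer_top fun g _ => by
    let e : M ≃* M := MulAut.conjNormal g
    have : (S.map (e : M →* M)).Normal := hSn.map _ e.surjective
    have hc : Nat.card (S.map (e : M →* M)) = Nat.card S := card_map_of_injective e.injective
    rcases hS.inf_eq_bot_or_le (S.map (e : M →* M)) with h3 | h3
    · exfalso
      simp only [IsPiSubgroup, not_forall] at k2
      obtain ⟨p, hp, hd, hpπ⟩ := k2
      obtain ⟨_, ⟨x, hx, rfl⟩, ho⟩ := exists_order_prime hp hd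
      refine k1 fun q hq hqd => red_isolated h _ (ne_one_of_order hp ho)
        (ho ▸ isPiNum_prime hp (not_not.1 hpπ)) q hq (hqd.trans ?_)
      rw [card_map_subtype, ← hc, ← card_map_subtype]
      refine card_dvd_of_le ?_
      rintro _ ⟨y, hy, rfl⟩
      exact U4.mem_cent1'.2 (congrArg Subtype.val
        (commute_of_normal_of_disjoint _ _ hSn this (disjoint_iff.2 h3) x y hx hy).eq)
    · have h4 := eq_of_le_of_card_le h3 hc.le
      refine mem_normalizer_of_conj_mem ?_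
      rintro _ ⟨y, hy, rfl⟩
      exact ⟨e y, h4 ▸ mem_map_of_mem _ hy, rfl⟩
  have hT : S = ⊤ := by
    have := (hM.2.2 _ hN (map_subtype_le S)).resolve_left hS0
    exact eq_top_iff.2 fun x _ => by
      obtain ⟨y, hy, e⟩ : (x : G) ∈ S.map M.subtype := this.symm ▸ x.2
      exact (Subtype.ext e : y = x) ▸ hy
  have hsim : IsSimpleGroup M := ⟨fun K hK => hT ▸ hS.2.2 K hK (hT ▸ le_top)⟩
  have hna : ¬ IsMulCommutative M := fun hc => by
    obtain ⟨p, hp, hP⟩ := hM.exists_isPGroup isSolvable_of_isMulCommutative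
    have := Fact.mk hp
    obtain ⟨k3, k4⟩ := key M hMn.isSubnormal hM.2.1
    by_cases hpπ : p ∈ π
    · exact k3 (isPiSubgroup_mono (isPGroup_iff_isPiSubgroup.1 hP) (Set.singleton_subset_iff.2 hpπ))
    · exact k4 (isPiSubgroup_mono (isPGroup_iff_isPiSubgroup.1 hP) (Set.singleton_subset_iff.2 hpπ))
  refine ⟨M, hMn, hsim, hna, fun r hr hd hrπ => ?_⟩
  have := Fact.mk hr
  obtain ⟨x, hx⟩ := exists_prime_orderOf_dvd_card' (G := G ⧸ M) r hd
  set T := (zpowers x).comap (QuotientGroup.mk' M) with hTdef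
  have hMT : M ≤ T := QuotientGroup.le_comap_mk' M _
  let e := subgroupOfEquivOfLe hMT
  have : IsSimpleGroup (M.subgroupOf T) := e.isSimpleGroup
  refine out_false (M.subgroupOf T) (fun hc => hna ⟨⟨fun a b => e.symm.injective ?_⟩⟩) hr ?_
    (red_isolated (red_subgroup h T)) h2 hrπ
  · rw [map_mul, map_mul, hc.1.1]
  · have h5 := card_mul_relIndex hMT
    rw [hTdef, card_comap_mk', card_zp hx, mul_comm r] at h5
    exact Nat.eq_of_mul_eq_mul_left Nat.card_pos h5

/-- The structure of a nonsolvable group with an isolated set of odd primes. -/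
theorem red_main (h : PiSplit π G) (h2 : 2 ∉ π) (hns : ¬ Group.IsSolvable G) {r : ℕ}
    (hr : r.Prime) (hrπ : r ∈ π) (hrG : r ∣ Nat.card G) :
    (Even (Nat.card (G ⧸ piCore πᶜ G)) ∧ piCore π (G ⧸ piCore πᶜ G) ≠ ⊥) ∨
      ∃ M : Subgroup (G ⧸ piCore πᶜ G), M.Normal ∧ IsSimpleGroup M ∧
        ¬ IsMulCommutative M ∧ IsPiNum πᶜ M.index := by
  set N := piCore πᶜ G with hN
  obtain ⟨x, -, hx⟩ := exists_order_prime (H := (⊤ : Subgroup G)) hr (by rwa [card_top])
  have hxπ : IsPiNum π (orderOf x) := hx ▸ isPiNum_prime hr hrπ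
  have hx1 := ne_one_of_order hr hx
  by_cases h1 : piCore π (G ⧸ N) = ⊥
  · have : Nontrivial (G ⧸ N) := QuotientGroup.nontrivial_iff.2 fun e => hx1
      (orderOf_eq_one_iff.1 (hxπ.eq_one
        (isPiNum_orderOf_of_mem (piCore_isPiSubgroup πᶜ) (e.ge (mem_top x)))))
    exact Or.inr (red_caseC (h.of_surjective _ (QuotientGroup.mk'_surjective N)) h2 h1
      (piCore_quotient_piCore πᶜ))
  · refine Or.inl ⟨Nat.not_odd_iff_even.1 fun ho => hns ?_, h1⟩
    refine isSolvable_of_normal_of_quotient N (solv_of_nil (nil_of_fpf hr hx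
      (mem_norm_normal N x) (eq_bot_iff.2 fun z hz => ?_))) (feit_thompson ho)
    exact (h.eq_one_of_commute (U4.mem_cent1'.1 hz.2) hxπ
      (isPiNum_orderOf_of_mem (piCore_isPiSubgroup πᶜ) hz.1)).resolve_left hx1

/-- Adjacency in the prime graph. -/
def Adj (G : Type*) [Group G] (p q : ℕ) : Prop :=
  ∃ x y : G, orderOf x = p ∧ orderOf y = q ∧ Commute x y

omit [Finite G] in
theorem Adj.symm {p q : ℕ} (h : Adj G p q) : Adj G q p :=
  let ⟨x, y, h1, h2, h3⟩ := h
  ⟨y, x, h2, h1, h3.symm⟩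

theorem adj_of_dvd {p q : ℕ} {g : G} (hp : p ∣ orderOf g) (hq : q ∣ orderOf g) : Adj G p q := by
  obtain ⟨x, hx, e⟩ := exists_orderOf_eq_mem_zpowers hp
  obtain ⟨y, hy, e'⟩ := exists_orderOf_eq_mem_zpowers hq
  exact ⟨x, y, e, e', commute_of_mem_zpowers hx hy⟩

theorem Adj.of_map {G' : Type*} [Group G'] (f : G →* G') (hf : Function.Surjective f) {p q : ℕ}
    (hc : p.Coprime q) (h : Adj G' p q) : Adj G p q := by
  obtain ⟨x, y, h1, h2, h3⟩ := h
  obtain ⟨g, hg⟩ := hf (x * y)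
  have e := h3.orderOf_mul_eq_mul_orderOf_of_coprime (by rwa [h1, h2])
  rw [h1, h2, ← hg] at e
  have hd := e ▸ orderOf_map_dvd f g
  exact adj_of_dvd ((Dvd.intro _ rfl).trans hd) ((Dvd.intro_left _ rfl).trans hd)

omit [Finite G] in
theorem Adj.of_subgroup {K : Subgroup G} {p q : ℕ} (h : Adj K p q) : Adj G p q :=
  let ⟨x, y, h1, h2, h3⟩ := h
  ⟨x, y, by rwa [orderOf_coe], by rwa [orderOf_coe], h3.map K.subtype⟩

/-- Lucido's three primes lemma. -/
theorem three_primes (hs : Group.IsSolvable G) {p q s : ℕ} (hp : p.Prime) (hq : q.Prime)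
    (hs' : s.Prime) (hpq : p ≠ q) (hps : p ≠ s) (hqs : q ≠ s) (h1 : p ∣ Nat.card G)
    (h2 : q ∣ Nat.card G) (h3 : s ∣ Nat.card G) : Adj G p q ∨ Adj G p s ∨ Adj G q s := by
  classical
  by_contra hcon
  simp only [not_or] at hcon
  obtain ⟨n1, n2, n3⟩ := hcon
  obtain ⟨T, hT⟩ := Hall.exists_isPiHall hs {p, q, s}
  have hE : H5.Eppo T := fun g hg => by
    have h0 : orderOf g ≠ 1 := by simpa using hg
    rw [isPrimePow_iff_unique_prime_dvd]
    refine ⟨_, ⟨Nat.minFac_prime h0, Nat.minFac_dvd _⟩, fun a ha => ?_⟩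
    by_contra hne
    have hb := Nat.minFac_prime h0
    have hbd := Nat.minFac_dvd (orderOf g)
    generalize (orderOf g).minFac = b at hne hb hbd
    have hab : Adj G a b := (adj_of_dvd ha.2 hbd).of_subgroup
    have ma := hT.1 a ha.1 (ha.2.trans (_root_.orderOf_dvd_natCard g))
    have mb := hT.1 b hb (hbd.trans (_root_.orderOf_dvd_natCard g))
    simp only [Set.mem_insert_iff, Set.mem_singleton_iff] at ma mb
    rcases ma with rfl | rfl | rfl <;> rcases mb with rfl | rfl | rfl <;>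
      first | exact hne rfl | exact n1 hab | exact n2 hab | exact n3 hab | exact n1 hab.symm
            | exact n2 hab.symm | exact n3 hab.symm
  have hd : ∀ a : ℕ, a.Prime → a ∈ ({p, q, s} : Set ℕ) → a ∣ Nat.card G →
      a ∈ (Nat.card T).primeFactors := fun a ha hm hG => by
    rw [← T.card_mul_index] at hG
    exact Nat.mem_primeFactors.2 ⟨ha, ((Nat.Prime.dvd_mul ha).1 hG).resolve_right (hT.2 a ha hm),
      Nat.card_pos.ne'⟩
  have hle : ({p, q, s} : Finset ℕ) ⊆ (Nat.card T).primeFactors := fun a ha => by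
    simp only [Finset.mem_insert, Finset.mem_singleton] at ha
    rcases ha with rfl | rfl | rfl
    · exact hd _ hp (by simp) h1
    · exact hd _ hq (by simp) h2
    · exact hd _ hs' (by simp) h3
  have := (Finset.card_le_card hle).trans (hE.card_primeFactors_le_two inferInstance)
  rw [Finset.card_eq_three.2 ⟨p, q, s, hpq, hps, hqs, rfl⟩] at this
  omega

theorem Cell.dvd_of_adj {H : Subgroup G} (hH : Cell H) {a b : ℕ} (ha : a.Prime)
    (hd : a ∣ Nat.card H) (hab : Adj G a b) : b ∣ Nat.card H := by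
  have := Fact.mk ha
  have c : SCell ⊤ {p | p ∣ Nat.card H} H :=
    ⟨le_top, hH.ne_bot, hH.nil, fun h hh h1 y hy => hH.cent h hh h1 hy.2, fun _ _ h => h⟩
  obtain ⟨P, hP⟩ := IsSylowIn.exists_in (p := a) H
  obtain ⟨x, y, h1, h2, h3⟩ := hab
  obtain ⟨g, -, hg⟩ := (c.sylow hd hP).exists_conj_le
    (isPGroup_zpowers_iff.2 ⟨1, by rw [h1, pow_one]⟩ : IsPGroup a (zpowers x)) le_top
  have hx : g * x * g⁻¹ ∈ H := hP.le (hg (conj_mem_map_conj (mem_zpowers x)))
  have hy : g * y * g⁻¹ ∈ H := hH.cent _ hx (ne_one_of_order ha (by rw [orderOf_conj_eq, h1]))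
    (U4.mem_cent1'.2 (h3.conj g).eq)
  rw [← h2, ← orderOf_conj_eq g y]
  exact H.orderOf_dvd_natCard hy

theorem Half.eq_of_adj {p q : ℕ} {P U W₁ W₂ : Subgroup G} (h : Half p q P U W₁ W₂) {b : ℕ}
    (hb : b.Prime) (hne : p ≠ b) (hab : Adj G p b) : b = q := by
  have := Fact.mk h.p_prime
  have := Fact.mk hb
  by_contra hbq
  obtain ⟨x, y, h1, h2, h3⟩ := hab
  obtain ⟨g, -, hg⟩ := H5.exists_conj_le_of_not_dvd_relIndex (X := P) (Y := ⊤) le_top
    (isPGroup_of_isElementaryAbelian h.elem) (by rw [relIndex_top_right]; exact h.not_dvd_index)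
    le_top (isPGroup_zpowers_iff.2 ⟨1, by rw [h1, pow_one]⟩ : IsPGroup p (zpowers x))
  have hx : g * x * g⁻¹ ∈ P := hg x (mem_zpowers x)
  have hx' : orderOf (g * x * g⁻¹) = p := by rw [orderOf_conj_eq, h1]
  have hy' : orderOf (g * y * g⁻¹) = b := by rw [orderOf_conj_eq, h2]
  have hc := h3.conj g
  generalize g * x * g⁻¹ = u at hx hx' hc
  generalize g * y * g⁻¹ = v at hy' hc
  have hu1 := ne_one_of_order h.p_prime hx'
  have hv : v ∈ 𝐍(P) := h.ti (zpowers u) (zpowers_le.2 hx) (by simpa using hu1)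
    (mem_normalizer_of_conj_mem fun z hz => by
      obtain ⟨k, rfl⟩ := mem_zpowers_iff.1 hz
      rw [(hc.symm.zpow_right k).eq, mul_inv_cancel_right]; exact hz)
  have hUN : U ≤ 𝐍(P) := h.norm_eq ▸ le_sup_right.trans le_sup_left
  have hWN : W₁ ≤ 𝐍(P) := h.norm_eq ▸ le_sup_right
  obtain ⟨B, hB⟩ := IsSylowIn.exists_in (p := b) U
  have hi : ¬ b ∣ B.relIndex 𝐍(P) := fun hd => by
    have e1 : Nat.card 𝐍(P) ∣ Nat.card W₁ * Nat.card U * Nat.card P := by
      rw [h.norm_eq, sup_assoc, sup_comm P, sup_comm U]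
      exact (card_sup_dvd_mul (sup_le hWN hUN)).trans
        (Nat.mul_dvd_mul_right (card_sup_dvd_mul h.W₁_norm) _)
    rw [← card_mul_relIndex (hB.le.trans hUN), ← card_mul_relIndex hB.le, h.card_W₁, h.card_P,
      mul_left_comm, mul_assoc] at e1
    have e2 := hd.trans (Nat.dvd_of_mul_dvd_mul_left Nat.card_pos e1)
    rcases (Nat.Prime.dvd_mul hb).1 e2 with e3 | e3
    · rcases (Nat.Prime.dvd_mul hb).1 e3 with e4 | e4
      · exact hbq ((Nat.prime_dvd_prime_iff_eq hb h.q_prime).1 e4)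
      · exact hB.not_dvd e4
    · exact hne ((Nat.prime_dvd_prime_iff_eq hb h.p_prime).1 (hb.dvd_of_dvd_pow e3)).symm
  obtain ⟨n, hn, hnv⟩ := H5.exists_conj_le_of_not_dvd_relIndex (hB.le.trans hUN) hB.isPGroup hi
    (zpowers_le.2 hv) (isPGroup_zpowers_iff.2 ⟨1, by rw [hy', pow_one]⟩)
  have := h.reg _ (hB.le (hnv v (mem_zpowers v)))
    (ne_one_of_order hb (by rw [orderOf_conj_eq, hy']))
  have h4 : n * u * n⁻¹ ∈ P ⊓ 𝐂[n * v * n⁻¹] :=
    ⟨conj_mem_of_mem_normalizer hn hx, U4.mem_cent1.2 (hc.conj n).eq⟩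
  rw [this] at h4
  exact ne_one_of_order h.p_prime (by rw [orderOf_conj_eq, hx']) h4

theorem Half.adj {p q : ℕ} {P U W₁ W₂ : Subgroup G} (h : Half p q P U W₁ W₂) : Adj G p q := by
  obtain ⟨x, hx, e⟩ := exists_order_prime h.p_prime (h.card_W₂ ▸ dvd_rfl : p ∣ Nat.card W₂)
  obtain ⟨y, hy, e'⟩ := exists_order_prime h.q_prime (h.card_W₁ ▸ dvd_rfl : q ∣ Nat.card W₁)
  rw [← h.cent] at hx
  exact ⟨x, y, e, e', (mem_centralizer_iff.1 hx.2 y hy).symm⟩

/-- The clique property for simple groups. -/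
theorem clique_simple [IsSimpleGroup G] (hna : ¬ IsMulCommutative G) (h : PiSplit π G)
    (h2 : 2 ∉ π) {r : ℕ} (hr : r.Prime) (hrπ : r ∈ π) (hrG : r ∣ Nat.card G) {p q : ℕ}
    (hp : Relation.ReflTransGen (fun a b => a.Prime ∧ b.Prime ∧ a ≠ b ∧ Adj G a b) r p)
    (hq : Relation.ReflTransGen (fun a b => a.Prime ∧ b.Prime ∧ a ≠ b ∧ Adj G a b) r q)
    (hp' : p.Prime) (hq' : q.Prime) (hpq : p ≠ q) : Adj G p q := by
  rcases suzuki_simple hna (red_isolated h) h2 hr hrπ hrG with ⟨H, hH, hd⟩ |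
    ⟨s, P, U, W₁, Q, V, W₂, hP, hQ, -⟩
  · have key : ∀ a, Relation.ReflTransGen (fun a b => a.Prime ∧ b.Prime ∧ a ≠ b ∧ Adj G a b) r a →
        a ∣ Nat.card H := fun a ha => by
      induction ha with
      | refl => exact hd
      | tail _ h' ih => exact hH.dvd_of_adj h'.1 ih h'.2.2.2
    obtain ⟨x, hx, e⟩ := exists_order_prime hp' (key p hp)
    obtain ⟨y, hy, e'⟩ := exists_order_prime hq' (key q hq)
    exact ⟨x, y, e, e', commute_of_coprime_of_mem_isNilpotent hH.nil hx hy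
      (by rw [e, e']; exact (Nat.coprime_primes hp' hq').2 hpq)⟩
  · have key : ∀ a, Relation.ReflTransGen (fun a b => a.Prime ∧ b.Prime ∧ a ≠ b ∧ Adj G a b) r a →
        a = r ∨ a = s := fun a ha => by
      induction ha with
      | refl => exact Or.inl rfl
      | tail _ h' ih =>
        rcases ih with rfl | rfl
        · exact Or.inr (hP.eq_of_adj h'.2.1 h'.2.2.1 h'.2.2.2)
        · exact Or.inl (hQ.eq_of_adj h'.2.1 h'.2.2.1 h'.2.2.2)
    rcases key p hp with rfl | rfl <;> rcases key q hq with rfl | rfl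
    · exact (hpq rfl).elim
    · exact hP.adj
    · exact hQ.adj
    · exact (hpq rfl).elim

theorem orderOf_mk_of_coprime {N : Subgroup G} [N.Normal] (hN : IsPiSubgroup πᶜ N) {x : G} {a : ℕ}
    (ha : a.Prime) (haπ : a ∈ π) (hx : orderOf x = a) : orderOf (x : G ⧸ N) = a := by
  have := Fact.mk ha
  refine orderOf_eq_prime (by rw [← QuotientGroup.mk_pow, ← hx, pow_orderOf_eq_one]; rfl)
    fun e => ?_
  exact isPiNum_orderOf_of_mem hN ((QuotientGroup.eq_one_iff x).1 e) a ha (hx ▸ dvd_rfl) haπ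

/-- An odd component of the prime graph is a clique. -/
theorem clique_main {r : ℕ} (hr : r.Prime) (hrG : r ∣ Nat.card G)
    (h2 : ¬ Relation.ReflTransGen (fun a b => a.Prime ∧ b.Prime ∧ a ≠ b ∧ Adj G a b) r 2)
    {s : ℕ} (hs : s.Prime) (hsG : s ∣ Nat.card G)
    (hrs : ¬ Relation.ReflTransGen (fun a b => a.Prime ∧ b.Prime ∧ a ≠ b ∧ Adj G a b) r s)
    {p q : ℕ}
    (hp : Relation.ReflTransGen (fun a b => a.Prime ∧ b.Prime ∧ a ≠ b ∧ Adj G a b) r p)
    (hq : Relation.ReflTransGen (fun a b => a.Prime ∧ b.Prime ∧ a ≠ b ∧ Adj G a b) r q)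
    (hpq : p ≠ q) : Adj G p q := by
  set π : Set ℕ :=
    {a | Relation.ReflTransGen (fun a b => a.Prime ∧ b.Prime ∧ a ≠ b ∧ Adj G a b) r a} with hπ
  have hrπ : r ∈ π := Relation.ReflTransGen.refl
  have h : PiSplit π G := piSplit_of_forall_orderOf_ne fun a ha b hb ha' hb' _ _ ⟨g, hg⟩ =>
    hb (Relation.ReflTransGen.tail ha ⟨ha', hb', fun e => hb (e ▸ ha),
      adj_of_dvd (hg ▸ Dvd.intro _ rfl) (hg ▸ Dvd.intro_left _ rfl)⟩)
  have hmem : ∀ a ∈ π, a.Prime ∧ a ∣ Nat.card G := fun a ha => by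
    rcases Relation.ReflTransGen.cases_tail ha with rfl | ⟨c, -, -, h1, -, x, y, -, h3, -⟩
    · exact ⟨hr, hrG⟩
    · exact ⟨h1, h3 ▸ _root_.orderOf_dvd_natCard y⟩
  obtain ⟨hp1, hp2⟩ := hmem p hp
  obtain ⟨hq1, hq2⟩ := hmem q hq
  by_cases hsol : Group.IsSolvable G
  · have k : ∀ a ∈ π, a ≠ s ∧ ¬ Adj G a s := fun a ha =>
      ⟨fun e => hrs (e ▸ ha), fun e => hrs (Relation.ReflTransGen.tail ha
        ⟨(hmem a ha).1, hs, fun e => hrs (e ▸ ha), e⟩)⟩
    exact ((three_primes hsol hp1 hq1 hs hpq (k p hp).1 (k q hq).1 hp2 hq2 hsG).resolve_right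
      (not_or.2 ⟨(k p hp).2, (k q hq).2⟩))
  have hN := piCore_isPiSubgroup (G := G) πᶜ
  have hQ := h.of_surjective _ (QuotientGroup.mk'_surjective (piCore πᶜ G))
  have hel : ∀ a ∈ π, ∃ x : G ⧸ piCore πᶜ G, orderOf x = a := fun a ha => by
    obtain ⟨x, -, hx⟩ := exists_order_prime (H := (⊤ : Subgroup G)) (hmem a ha).1
      (by rw [card_top]; exact (hmem a ha).2)
    exact ⟨x, orderOf_mk_of_coprime hN (hmem a ha).1 ha hx⟩
  refine Adj.of_map _ (QuotientGroup.mk'_surjective (piCore πᶜ G))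
    ((Nat.coprime_primes hp1 hq1).2 hpq) ?_
  rcases red_main h h2 hsol hr hrπ hrG with ⟨he, h1⟩ | ⟨M, hM, hsim, hna, hi⟩
  · obtain ⟨-, h3, h4⟩ := red_caseA hQ h2 he h1
    obtain ⟨x, hx⟩ := hel p hp
    obtain ⟨y, hy⟩ := hel q hq
    exact ⟨x, y, hx, hy, h4 x (h3 x (hx ▸ isPiNum_prime hp1 hp)) y
      (h3 y (hy ▸ isPiNum_prime hq1 hq))⟩
  · have hin : ∀ a ∈ π, ∀ x : G ⧸ piCore πᶜ G, orderOf x = a → x ∈ M := fun a ha x hx =>
      mem_of_coprime_index ((hx ▸ isPiNum_prime (hmem a ha).1 ha).coprime_compl hi)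
    have key : ∀ a ∈ π,
        Relation.ReflTransGen (fun a b => a.Prime ∧ b.Prime ∧ a ≠ b ∧ Adj M a b) r a := by
      intro a ha
      induction ha with
      | refl => exact Relation.ReflTransGen.refl
      | tail h' h'' ih =>
        have hb := Relation.ReflTransGen.tail h' h''
        obtain ⟨a1, a2, a3, x, y, hx, hy, hc⟩ := h''
        have hx' := orderOf_mk_of_coprime hN a1 h' hx
        have hy' := orderOf_mk_of_coprime hN a2 hb hy
        exact Relation.ReflTransGen.tail ih ⟨a1, a2, a3, ⟨x, hin _ h' _ hx'⟩, ⟨y, hin _ hb _ hy'⟩,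
          by rwa [orderOf_mk], by rwa [orderOf_mk],
          Subtype.ext (hc.map (QuotientGroup.mk' (piCore πᶜ G))).eq⟩
    obtain ⟨x, hx⟩ := hel r hrπ
    exact (clique_simple hna (red_subgroup hQ M) h2 hr hrπ
      (hx ▸ M.orderOf_dvd_natCard (hin r hrπ x hx)) (key p hp) (key q hq) hp1 hq1 hpq).of_subgroup

/-- Gruenberg–Kegel for nonsolvable groups. -/
theorem gk_main (h : PiSplit π G) (h2 : 2 ∉ π) (hns : ¬ Group.IsSolvable G) {r : ℕ}
    (hr : r.Prime) (hrπ : r ∈ π) (hrG : r ∣ Nat.card G) :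
    IsFrobeniusKernel (piCore π G) ∨
      (∃ K : Subgroup G, K.Normal ∧ piCore πᶜ G < K ∧
        IsFrobeniusKernel ((piCore πᶜ G).subgroupOf K) ∧
        IsFrobeniusKernel (K.map (QuotientGroup.mk' (piCore πᶜ G)))) ∨
      ∃ M : Subgroup G, M.Normal ∧ piCore πᶜ G ≤ M ∧ IsPiNum πᶜ M.index ∧
        IsSimpleGroup (M ⧸ (piCore πᶜ G).subgroupOf M) ∧
        ¬ IsMulCommutative (M ⧸ (piCore πᶜ G).subgroupOf M) := by
  by_cases h0 : piCore π G = ⊥
  swap
  · exact Or.inl (red_caseA h h2 (Nat.not_odd_iff_even.1 fun ho => hns (feit_thompson ho)) h0).1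
  right
  have hN := piCore_isPiSubgroup (G := G) πᶜ
  have hsurj := QuotientGroup.mk'_surjective (piCore πᶜ G)
  have hQ := h.of_surjective _ hsurj
  rcases red_main h h2 hns hr hrπ hrG with ⟨he, h1⟩ | ⟨M, hM, hsim, hna, hi⟩
  · left
    set N := piCore πᶜ G with hNdef
    have hKF := map_comap_eq_self_of_surjective hsurj (piCore π (G ⧸ N))
    have hHK := QuotientGroup.le_comap_mk' N (piCore π (G ⧸ N))
    have hKH : ¬ (piCore π (G ⧸ N)).comap (QuotientGroup.mk' N) ≤ N := fun hle => h1 (by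
      rw [← hKF, Subgroup.map_eq_bot_iff, QuotientGroup.ker_mk']; exact hle)
    have hN0 : N ≠ ⊥ := fun e => hKH (by
      rw [comap_piCore_quotient (e ▸ isPiSubgroup_bot π), h0]; exact bot_le)
    refine ⟨_, inferInstance, lt_of_le_not_ge hHK hKH,
      isFrobeniusKernel_subgroupOf le_normalizer_of_normal (by rwa [inf_eq_left.mpr hHK]) hKH
        fun k hk _ hk1 g hg hc => ?_, hKF.symm ▸ (red_caseA hQ h2 he h1).1⟩
    rcases h g with hgπ | hgπ
    · rw [(h.eq_one_of_commute hc hgπ (isPiNum_orderOf_of_mem hN hk)).resolve_right hk1]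
      exact N.one_mem
    · exact (QuotientGroup.eq_one_iff g).mp (orderOf_eq_one_iff.1
        ((isPiNum_orderOf_of_mem (piCore_isPiSubgroup π) hg).eq_one
          (hgπ.of_dvd (orderOf_map_dvd (QuotientGroup.mk' N) g))))
  · right
    obtain ⟨e⟩ := nonempty_quotient_subgroupOf_equiv_map (piCore πᶜ G)
      (M.comap (QuotientGroup.mk' (piCore πᶜ G)))
    rw [map_comap_eq_self_of_surjective hsurj] at e
    refine ⟨M.comap (QuotientGroup.mk' _), inferInstance, QuotientGroup.le_comap_mk' _ _,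
      by rwa [index_comap_of_surjective _ hsurj], e.isSimpleGroup,
      fun hc => hna ⟨⟨fun a b => e.symm.injective ?_⟩⟩⟩
    rw [map_mul, map_mul, hc.1.1]

end CfsgLib.FT.PGI
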